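import Cfsg.Statements.S0261
import Mathlib
import Cfsg.Agent.Lib.Classical.SLTwoSub

set_option autoImplicit false
open Cfsg
open scoped Matrix

namespace Cfsg.Agent.S0261

/-- For q odd, the Sylow 2-subgroups of SL_2(q) are generalised quaternion. -/
theorem result {F : Type*} [Field F] [Fintype F] (hF : Odd (Fintype.card F)) (P : Sylow 2 (Matrix.SpecialLinearGroup (Fin 2) F)) : ∃ k : ℕ, 1 ≤ k ∧ Nonempty ((P : Subgroup (Matrix.SpecialLinearGroup (Fin 2) F)) ≃* QuaternionGroup (2 ^ k)) := by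
  obtain ⟨p, hc⟩ := CharP.exists F
  haveI := hc
  haveI : Fact p.Prime := ⟨CharP.char_is_prime F p⟩
  have hp : p ≠ 2 := by
    rintro rfl
    obtain ⟨⟨N, hN0⟩, -, hN⟩ := FiniteField.card F 2
    simp [hN, Nat.odd_iff, Nat.pow_mod, show N ≠ 0 by omega] at hF
  let ψ : Matrix.SpecialLinearGroup (Fin 2) (ZMod p) →* Matrix.SpecialLinearGroup (Fin 2) F :=
    Matrix.SpecialLinearGroup.map (ZMod.castHom (dvd_refl p) F)
  have hψ : Function.Injective ψ := fun A B h =>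
    Subtype.ext (Matrix.ext fun i l => (ZMod.castHom (dvd_refl p) F).injective (congrFun (congrFun (congrArg Subtype.val h) i) l))
  obtain ⟨P', hP'⟩ := P.isPGroup'.comap_of_injective
    (Subgroup.topEquiv : (⊤ : Subgroup (Matrix.SpecialLinearGroup (Fin 2) F)) ≃* _).toMonoidHom
    (Subgroup.topEquiv : (⊤ : Subgroup (Matrix.SpecialLinearGroup (Fin 2) F)) ≃* _).injective |>.exists_le_sylow
  obtain ⟨k, hk, ⟨e⟩⟩ := Cfsg.Lib.SLTwoSub.sylow_two_quaternion hp ⊤ ψ hψ le_top P'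
  haveI : Fact (Nat.Prime 2) := ⟨Nat.prime_two⟩
  have hmap : ((P' : Subgroup _).map (Subgroup.topEquiv : (⊤ : Subgroup (Matrix.SpecialLinearGroup (Fin 2) F)) ≃* _).toMonoidHom) = (P : Subgroup _) := by
    refine P.3 (P'.isPGroup'.map _) fun x hx => ?_
    exact ⟨⟨x, trivial⟩, hP' hx, rfl⟩
  exact ⟨k, hk, ⟨(MulEquiv.subgroupCongr hmap.symm).trans ((Subgroup.equivMapOfInjective _ _ (MulEquiv.injective _)).symm.trans e)⟩⟩

end Cfsg.Agent.S0261
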