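import Cfsg.Statements.S4624
import Cfsg.Agent.S0261
import Cfsg.Agent.S4623
import Cfsg.Agent.Lib.Classical.ClassicalOrders
import Cfsg.Agent.Lib.Classical.TwoDimTorusSylow

set_option autoImplicit false
open Cfsg

namespace Cfsg.Agent.S4624

open Matrix Equiv
open scoped commutatorElement

variable {F : Type*} [Field F] [Fintype F] {n : ℕ}

/-- The matrix with the given `2 × 2` blocks on the hyperbolic pairs. -/
def blockMat (a : Fin n → SpecialLinearGroup (Fin 2) F) : Matrix (Fin n ⊕ Fin n) (Fin n ⊕ Fin n) F :=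
  fromBlocks (diagonal fun i => (a i : Matrix (Fin 2) (Fin 2) F) 0 0) (diagonal fun i => (a i : Matrix (Fin 2) (Fin 2) F) 0 1)
    (diagonal fun i => (a i : Matrix (Fin 2) (Fin 2) F) 1 0) (diagonal fun i => (a i : Matrix (Fin 2) (Fin 2) F) 1 1)

theorem blockMat_mem (a : Fin n → SpecialLinearGroup (Fin 2) F) : blockMat a ∈ symplecticGroup (Fin n) F := by
  have hd : ∀ i, (a i : Matrix (Fin 2) (Fin 2) F) 0 0 * (a i : Matrix (Fin 2) (Fin 2) F) 1 1 -
      (a i : Matrix (Fin 2) (Fin 2) F) 0 1 * (a i : Matrix (Fin 2) (Fin 2) F) 1 0 = 1 := fun i => by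
    rw [← det_fin_two]; exact (a i).2
  rw [SymplecticGroup.mem_iff, blockMat, J, fromBlocks_transpose, fromBlocks_multiply, fromBlocks_multiply]
  simp only [diagonal_transpose, Matrix.mul_zero, Matrix.mul_one, Matrix.mul_neg, Matrix.neg_mul, zero_add, add_zero,
    diagonal_mul_diagonal, diagonal_add, diagonal_neg]
  rw [← diagonal_one, diagonal_neg, ← diagonal_zero]
  congr 1 <;> refine congrArg diagonal (funext fun i => ?_)
  · ring
  · linear_combination -(hd i)
  · linear_combination hd i
  · ring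

/-- The block embedding. -/
def blockHom : (Fin n → SpecialLinearGroup (Fin 2) F) →* symplecticGroup (Fin n) F where
  toFun a := ⟨blockMat a, blockMat_mem a⟩
  map_one' := Subtype.ext (by simp [blockMat, fromBlocks_one])
  map_mul' a b := Subtype.ext (by
    show blockMat (a * b) = blockMat a * blockMat b
    simp only [blockMat, fromBlocks_multiply, diagonal_mul_diagonal, diagonal_add]
    simp [Matrix.mul_apply, Fin.sum_univ_two])

/-- The permutations of the hyperbolic pairs. -/
def permMat (σ : Perm (Fin n)) : Matrix (Fin n ⊕ Fin n) (Fin n ⊕ Fin n) F :=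
  fromBlocks (σ⁻¹.permMatrix F) 0 0 (σ⁻¹.permMatrix F)

theorem permMat_mem (σ : Perm (Fin n)) : (permMat σ : Matrix _ _ F) ∈ symplecticGroup (Fin n) F := by
  rw [SymplecticGroup.mem_iff, permMat, J, fromBlocks_transpose, fromBlocks_multiply, fromBlocks_multiply,
    transpose_permMatrix]
  simp [← permMatrix_mul]

/-- The permutation embedding. -/
def permHom : Perm (Fin n) →* symplecticGroup (Fin n) F where
  toFun σ := ⟨permMat σ, permMat_mem σ⟩
  map_one' := Subtype.ext (by simp [permMat, fromBlocks_one])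
  map_mul' a b := Subtype.ext (by
    show permMat (a * b) = permMat a * permMat b
    simp [permMat, fromBlocks_multiply, permMatrix_mul])

theorem perm_conj (σ : Perm (Fin n)) (a : Fin n → SpecialLinearGroup (Fin 2) F) :
    permHom σ * blockHom a = blockHom (a ∘ ⇑σ⁻¹) * permHom σ := by
  refine Subtype.ext ?_
  show permMat σ * blockMat a = blockMat (a ∘ ⇑σ⁻¹) * permMat σ
  ext (i | i) (j | j) <;>
    simp [permMat, blockMat, fromBlocks_multiply, Equiv.Perm.permMatrix, PEquiv.toMatrix_apply, Matrix.mul_apply,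
      Matrix.diagonal_apply, Finset.sum_ite_eq, Finset.sum_ite_eq', Equiv.eq_symm_apply, eq_comm] <;>
    split_ifs <;> simp_all

theorem eq_one_of_block_eq_perm (a : Fin n → SpecialLinearGroup (Fin 2) F) (σ : Perm (Fin n))
    (h : blockHom a = permHom σ) : a = 1 ∧ σ = 1 := by
  have h' : blockMat a = permMat σ := congrArg Subtype.val h
  have hσ : σ = 1 := by
    refine inv_injective (Equiv.ext fun i => ?_)
    by_contra hne
    rw [inv_one, Equiv.Perm.one_apply] at hne
    have h1 := congrFun (congrFun h' (Sum.inl i)) (Sum.inl (σ⁻¹ i))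
    simp [blockMat, permMat, Equiv.Perm.permMatrix, PEquiv.toMatrix_apply] at h1
    rw [Matrix.diagonal_apply_ne _ (fun e => hne (by simpa using e.symm))] at h1
    exact zero_ne_one h1
  subst hσ
  refine ⟨funext fun i => Subtype.ext ?_, rfl⟩
  have e00 := congrFun (congrFun h' (Sum.inl i)) (Sum.inl i)
  have e01 := congrFun (congrFun h' (Sum.inl i)) (Sum.inr i)
  have e10 := congrFun (congrFun h' (Sum.inr i)) (Sum.inl i)
  have e11 := congrFun (congrFun h' (Sum.inr i)) (Sum.inr i)
  simp [blockMat, permMat] at e00 e01 e10 e11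
  ext r s
  fin_cases r <;> fin_cases s <;> simp [e00, e01, e10, e11]

theorem quat_sq (m : ℕ) (hm : Even m) [NeZero m] (x : QuaternionGroup m) : x ^ 2 ∈ commutator (QuaternionGroup m) := by
  have ha : ∀ i : ZMod (2 * m), QuaternionGroup.a (2 * i) ∈ commutator (QuaternionGroup m) := by
    intro i
    have h := Subgroup.commutator_mem_commutator (Subgroup.mem_top (QuaternionGroup.a i)) (Subgroup.mem_top (QuaternionGroup.xa (0 : ZMod (2 * m))))
    rw [_root_.commutator_def]
    convert h using 1
    rw [commutatorElement_def, eq_mul_inv_iff_mul_eq, eq_mul_inv_iff_mul_eq]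
    simp
    first
      | ring
      | (have h0 : (2 * (m : ZMod (2 * m))) = 0 := by exact_mod_cast ZMod.natCast_self (2 * m)
         linear_combination h0)
      | (have h0 : (2 * (m : ZMod (2 * m))) = 0 := by exact_mod_cast ZMod.natCast_self (2 * m)
         linear_combination -h0)
  obtain ⟨k, hk⟩ := hm
  rcases x with i | i
  · rw [pow_two, QuaternionGroup.a_mul_a, ← two_mul]
    exact ha i
  · rw [QuaternionGroup.xa_sq]
    have h : ((m : ℕ) : ZMod (2 * m)) = 2 * (k : ZMod (2 * m)) := by
      have : ((m : ℕ) : ZMod (2 * m)) = ((k + k : ℕ) : ZMod (2 * m)) := congrArg _ hk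
      rw [this]; push_cast; ring
    rw [h]
    exact ha k

/-- The block embedding of a power of a subgroup. -/
def subHom (Q : Subgroup (SpecialLinearGroup (Fin 2) F)) : (Fin n → Q) →* symplecticGroup (Fin n) F :=
  MonoidHom.mk' (fun a => blockHom fun i => (a i : SpecialLinearGroup (Fin 2) F)) fun a b => by
    rw [← map_mul]; rfl

theorem subHom_apply (Q : Subgroup (SpecialLinearGroup (Fin 2) F)) (a : Fin n → Q) :
    subHom Q a = blockHom fun i => (a i : SpecialLinearGroup (Fin 2) F) := rfl

theorem subHom_conj (Q : Subgroup (SpecialLinearGroup (Fin 2) F)) (σ : Perm (Fin n)) (a : Fin n → Q) :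
    permHom σ * subHom Q a * (permHom σ)⁻¹ = subHom Q (fun i => a (σ⁻¹ i)) := by
  rw [subHom_apply, subHom_apply, mul_inv_eq_iff_eq_mul, perm_conj]
  rfl

theorem sq_transfer {A B : Type*} [Group A] [Group B] (f : A →* B) {a : A} (h : a ^ 2 ∈ commutator A) :
    f a ^ 2 ∈ commutator B := by
  rw [← map_pow]
  have h1 := Subgroup.mem_map_of_mem f h
  rw [_root_.commutator_def, Subgroup.map_commutator] at h1
  exact Subgroup.commutator_mono le_top le_top h1

theorem val_two (q : ℕ) (hq : Odd q) (h1 : 1 < q) :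
    ∀ n : ℕ, padicValNat 2 (q ^ (n ^ 2) * ∏ i ∈ Finset.range n, (q ^ (2 * (i + 1)) - 1)) =
      n * padicValNat 2 (q * ((q + 1) * (q - 1))) + padicValNat 2 n.factorial := by
  haveI := Fact.mk Nat.prime_two
  have h0 : ∀ j, padicValNat 2 (q ^ j) = 0 := fun j => padicValNat.eq_zero_of_not_dvd fun h =>
    Nat.not_even_iff_odd.mpr hq (even_iff_two_dvd.mpr (Nat.prime_two.dvd_of_dvd_pow h))
  have hne : ∀ j : ℕ, q ^ (2 * (j + 1)) - 1 ≠ 0 := fun j => by
    have := Nat.one_lt_pow (show 2 * (j + 1) ≠ 0 by omega) h1; omega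
  have hq0 : q ≠ 0 := by omega
  have hSL : padicValNat 2 (q * ((q + 1) * (q - 1))) = padicValNat 2 (q + 1) + padicValNat 2 (q - 1) := by
    have hqm : q - 1 ≠ 0 := by omega
    have := h0 1
    rw [pow_one] at this
    rw [padicValNat.mul hq0 (mul_ne_zero (by omega) hqm), padicValNat.mul (by omega) hqm, this, zero_add]
  intro n
  rw [padicValNat.mul (pow_ne_zero _ hq0) (Finset.prod_ne_zero_iff.mpr fun i _ => hne i), h0, zero_add, hSL]
  induction n with
  | zero => simp
  | succ k ih =>
    rw [Finset.prod_range_succ, padicValNat.mul (Finset.prod_ne_zero_iff.mpr fun i _ => hne i) (hne k), ih,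
      Nat.factorial_succ, padicValNat.mul (by omega) k.factorial_ne_zero]
    obtain ⟨r, hr⟩ := hq
    have h := padicValNat.pow_two_sub_pow (x := q) (y := 1) h1 (by omega) (by omega) (n := 2 * (k + 1)) (by omega) (even_two_mul _)
    rw [one_pow, padicValNat.mul (by norm_num) (by omega), padicValNat_self] at h
    rw [add_mul, one_mul]
    omega


set_option maxHeartbeats 800000 in
/-- Let F be a finite field of odd order and n ≥ 1. A Sylow 2-subgroup P of the symplectic group Sp_{2n}(F) has P/P' elementary abelian: the square of every element of P lies in the derived subgroup of P. -/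
theorem result {F : Type*} [Field F] [Fintype F] (hF : Odd (Fintype.card F)) (n : ℕ) (hn : 1 ≤ n) (P : Sylow 2 (Matrix.symplecticGroup (Fin n) F)) :
    ∀ x : (P : Subgroup (Matrix.symplecticGroup (Fin n) F)), x ^ 2 ∈ commutator (P : Subgroup (Matrix.symplecticGroup (Fin n) F)) := by
  classical
  haveI := Fact.mk Nat.prime_two
  obtain ⟨Q⟩ := (Sylow.nonempty : Nonempty (Sylow 2 (SpecialLinearGroup (Fin 2) F)))
  obtain ⟨k, hk, ⟨e⟩⟩ := Cfsg.Agent.S0261.result hF Q
  obtain ⟨T⟩ := (Sylow.nonempty : Nonempty (Sylow 2 (Perm (Fin n))))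
  obtain ⟨R⟩ := (Sylow.nonempty : Nonempty (Sylow 2 (alternatingGroup (Fin n))))
  have hT := (Cfsg.Agent.S4623.result 2 n T R).1
  have hQ : ∀ x : (Q : Subgroup (SpecialLinearGroup (Fin 2) F)), x ^ 2 ∈ commutator (Q : Subgroup (SpecialLinearGroup (Fin 2) F)) := by
    intro x
    haveI : NeZero (2 ^ k) := ⟨by positivity⟩
    have h := sq_transfer e.symm.toMonoidHom (quat_sq (2 ^ k) (even_two.pow_of_ne_zero (by omega)) (e x))
    simpa using h
  let fQ : (Fin n → (Q : Subgroup (SpecialLinearGroup (Fin 2) F))) →* symplecticGroup (Fin n) F :=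
    subHom (Q : Subgroup (SpecialLinearGroup (Fin 2) F))
  let fT : (T : Subgroup (Perm (Fin n))) →* symplecticGroup (Fin n) F := permHom.comp (T : Subgroup (Perm (Fin n))).subtype
  set A := fQ.range
  set B := fT.range
  have hAp : IsPGroup 2 A := by
    obtain ⟨m, hm⟩ := IsPGroup.iff_card.mp Q.isPGroup'
    have hp : IsPGroup 2 (Fin n → (Q : Subgroup (SpecialLinearGroup (Fin 2) F))) :=
      IsPGroup.of_card (n := m * n) (by rw [Nat.card_pi, Finset.prod_const, Finset.card_univ, Fintype.card_fin, hm, pow_mul])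
    exact hp.of_surjective fQ.rangeRestrict fQ.rangeRestrict_surjective
  have hBp : IsPGroup 2 B := T.isPGroup'.of_surjective fT.rangeRestrict fT.rangeRestrict_surjective
  have hnorm : B ≤ Subgroup.normalizer (A : Set (symplecticGroup (Fin n) F)) := by
    rintro _ ⟨σ, rfl⟩
    rw [Subgroup.mem_normalizer_iff]
    have key : ∀ (σ : (T : Subgroup (Perm (Fin n)))) (h : symplecticGroup (Fin n) F), h ∈ A → fT σ * h * (fT σ)⁻¹ ∈ A := by
      rintro σ _ ⟨a, rfl⟩
      exact ⟨fun i => a ((σ : Perm (Fin n))⁻¹ i), (subHom_conj _ (σ : Perm (Fin n)) a).symm⟩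
    refine fun h => ⟨key σ h, fun hh => ?_⟩
    have := key σ⁻¹ _ hh
    rw [map_inv] at this
    simpa [mul_assoc] using this
  set S := A ⊔ B
  have hS : IsPGroup 2 S := hAp.to_sup_of_normal_left' hBp hnorm
  have hcard : Nat.card Q ^ n * Nat.card T ≤ Nat.card S := by
    rw [show Nat.card Q ^ n * Nat.card T = Nat.card ((Fin n → (Q : Subgroup (SpecialLinearGroup (Fin 2) F))) × (T : Subgroup (Perm (Fin n)))) by
      rw [Nat.card_prod, Nat.card_pi, Finset.prod_const, Finset.card_univ, Fintype.card_fin]]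
    refine Nat.card_le_card_of_injective (fun z => (⟨fQ z.1 * fT z.2, Subgroup.mul_mem_sup ⟨_, rfl⟩ ⟨_, rfl⟩⟩ : S)) ?_
    rintro ⟨a, s⟩ ⟨a', s'⟩ h
    have h1 : fQ (a'⁻¹ * a) = fT (s' * s⁻¹) := by
      have h2 : fQ a * fT s = fQ a' * fT s' := congrArg Subtype.val h
      rw [map_mul, map_mul, map_inv, map_inv, inv_mul_eq_iff_eq_mul, ← mul_assoc, eq_mul_inv_iff_mul_eq]
      exact h2
    rw [subHom_apply] at h1
    obtain ⟨ha, hs⟩ := eq_one_of_block_eq_perm _ _ h1
    have ha' : a'⁻¹ * a = 1 := funext fun i => Subtype.ext (congrFun ha i)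
    have hs' : s' * s⁻¹ = 1 := Subtype.ext hs
    rw [inv_mul_eq_one] at ha'
    rw [mul_inv_eq_one] at hs'
    rw [ha', hs']
  obtain ⟨m, hm⟩ := IsPGroup.iff_card.mp hS
  have hq1 : 1 < Fintype.card F := Fintype.one_lt_card
  have hSyl : Nat.card S = 2 ^ (Nat.card (symplecticGroup (Fin n) F)).factorization 2 := by
    refine le_antisymm ?_ (le_trans (le_of_eq ?_) hcard)
    · rw [hm]
      exact Nat.pow_le_pow_right two_pos ((Nat.prime_two.pow_dvd_iff_le_factorization Nat.card_pos.ne').mp (hm ▸ S.card_subgroup_dvd_card))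
    · rw [Q.card_eq_multiplicity, T.card_eq_multiplicity, ← pow_mul, ← pow_add]
      congr 1
      rw [Nat.factorization_def _ Nat.prime_two, Nat.factorization_def _ Nat.prime_two, Nat.factorization_def _ Nat.prime_two,
        Cfsg.Lib.Classical.ClassicalOrders.card_sp rfl n, Cfsg.Lib.Classical.TwoDim.card_SL,
        Nat.card_eq_fintype_card (α := Perm (Fin n)), Fintype.card_perm, Fintype.card_fin, val_two _ hF hq1 n, mul_comm n]
  let S' : Sylow 2 (symplecticGroup (Fin n) F) := Sylow.ofCard S hSyl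
  let K : Subgroup S := ((powMonoidHom 2).comp Abelianization.of : S →* Abelianization S).ker
  have hKmem : ∀ x : S, x ^ 2 ∈ commutator S → x ∈ K := fun x hx => by
    show (Abelianization.of x) ^ 2 = 1
    rw [← map_pow, ← MonoidHom.mem_ker, Abelianization.ker_of]
    exact hx
  have htop : ∀ x : S, x ^ 2 ∈ commutator S := by
    have hle : S ≤ K.map S.subtype := by
      refine sup_le ?_ ?_
      · rintro _ ⟨a, rfl⟩
        let g : (Fin n → (Q : Subgroup (SpecialLinearGroup (Fin 2) F))) →* S :=
          fQ.codRestrict S fun a => Subgroup.mem_sup_left ⟨a, rfl⟩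
        have hall : (Subgroup.pi Set.univ fun _ : Fin n => (⊤ : Subgroup (Q : Subgroup (SpecialLinearGroup (Fin 2) F)))) ≤ K.comap g := by
          rw [Subgroup.pi_le_iff]
          intro i
          rintro _ ⟨y, -, rfl⟩
          exact hKmem _ (sq_transfer (g.comp (MonoidHom.mulSingle (fun _ : Fin n => (Q : Subgroup (SpecialLinearGroup (Fin 2) F))) i)) (hQ y))
        exact ⟨g a, hall (fun i _ => Subgroup.mem_top _), rfl⟩
      · rintro _ ⟨σ, rfl⟩
        let g : (T : Subgroup (Perm (Fin n))) →* S := fT.codRestrict S fun σ => Subgroup.mem_sup_right ⟨σ, rfl⟩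
        exact ⟨g σ, hKmem _ (sq_transfer g (hT σ)), rfl⟩
    intro x
    obtain ⟨y, hy, hyx⟩ := hle x.2
    obtain rfl := Subtype.ext hyx
    rw [← Abelianization.ker_of, MonoidHom.mem_ker, map_pow]
    exact hy
  intro x
  let f := S'.equiv P
  have h := sq_transfer f.toMonoidHom (htop (f.symm x))
  rwa [show f.toMonoidHom (f.symm x) = x from f.apply_symm_apply x] at h

end Cfsg.Agent.S4624
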