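import Cfsg.Statements.S1492
import Mathlib
import Cfsg.Agent.Lib.Characters.Brauer
-- import your own Cfsg.Agent.* helpers here

set_option autoImplicit false
open Cfsg

namespace Cfsg.Agent.S1492

/-- Let ψ be an irreducible character of the finite group G and B ≤ D ≤ C subgroups with B normal in C, every commutator of an element of D with an element of C lying in B (so D/B is central in C/B), and ψ constant equal to ψ 1 on B. Then ψ(1) ^ 2 * |C| * |D| ≤ |G| ^ 2. -/
theorem result {G : Type*} [Group G] [Finite G] (ψ : G → ℂ) (hψ : Cfsg.IsIrrCharacter G ψ) (B C D : Subgroup G) (hBD : B ≤ D) (hDC : D ≤ C) (hBn : ∀ c ∈ C, ∀ b ∈ B, c * b * c⁻¹ ∈ B) (hcent : ∀ d ∈ D, ∀ c ∈ C, d * c * d⁻¹ * c⁻¹ ∈ B) (hker : ∀ b ∈ B, ψ b = ψ 1) : ‖ψ 1‖ ^ 2 * (Nat.card C : ℝ) * (Nat.card D : ℝ) ≤ (Nat.card G : ℝ) ^ 2 := by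
  classical
  haveI := Fintype.ofFinite G
  haveI := Fintype.ofFinite C
  obtain ⟨n, hn⟩ := Cfsg.Lib.Characters.exists_degree hψ.isCharacter
  have hres := Cfsg.Lib.Characters.isCharacter_restrict hψ.isCharacter C
  obtain ⟨θ, hθ, hne⟩ := Cfsg.Lib.Characters.exists_constituent (G := C) hres
    (by simp only [OneMemClass.coe_one]; exact hψ.one_ne_zero)
  obtain ⟨m, hm⟩ := Cfsg.Lib.Characters.exists_degree hθ.isCharacter
  have hne' : Cfsg.classInner (Cfsg.indFun C θ) ψ ≠ 0 := by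
    rw [Cfsg.Lib.Characters.classInner_indFun C θ hψ.isClassFunction,
      ← Cfsg.Lib.Characters.conj_classInner]
    simpa using hne
  have hind : Cfsg.indFun C θ 1 = ((C.index * m : ℕ) : ℂ) := by
    rw [Cfsg.Lib.Characters.indFun_one_apply, hm, Nat.cast_mul]
  have hle := (Cfsg.Lib.Characters.constituent_degree
    (Cfsg.Lib.Characters.isCharacter_indFun C hθ.isCharacter) hψ hne' hind hn).1
  have hkerθ : ∀ b : C, (b : G) ∈ B → θ b = θ 1 := fun b hb =>
    Cfsg.Lib.Characters.char_ker_constituent hres hθ hne (by simpa using hker _ hb)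
  obtain ⟨k, ρ, hρ, hρθ⟩ := hθ
  haveI := hρ
  have hscal : ∀ z : C, (z : G) ∈ D → ‖θ z‖ = m := by
    intro z hz
    have hcomm : ∀ c : C, ρ c ∘ₗ ρ z = ρ z ∘ₗ ρ c := by
      intro c
      set b : C := z * c * z⁻¹ * c⁻¹
      have hb : θ b = θ 1 := hkerθ b (hcent _ hz _ c.2)
      subst hρθ
      have hb1 : ρ b = LinearMap.id := (Cfsg.Lib.Characters.char_eq_one_iff ρ b).mp hb
      have h := congrArg ρ (show z * c = b * (c * z) by simp only [b]; group)
      simp only [map_mul, hb1] at h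
      exact h.symm
    obtain ⟨ω, hω⟩ := Cfsg.Lib.Characters.schur_scalar ρ (ρ z) fun c => (hcomm c).symm
    have h2 := (Cfsg.Lib.Characters.norm_eq_iff_scalar ρ z).mpr ⟨ω, hω⟩
    subst hρθ
    simp only [Representation.char_one, Nat.cast_inj] at hm
    rw [← hm]
    simpa using h2
  have hinner := Cfsg.Lib.Characters.classInner_irr_self (χ := θ) ⟨k, ρ, hρ, hρθ⟩
  unfold Cfsg.classInner at hinner
  rw [inv_mul_eq_one₀ (Nat.cast_ne_zero.mpr Nat.card_pos.ne')] at hinner
  have hsum : (Nat.card C : ℝ) = ∑ c : C, ‖θ c‖ ^ 2 := by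
    have h := congrArg Complex.re hinner
    rw [Complex.natCast_re, Complex.re_sum] at h
    refine h.trans (Finset.sum_congr rfl fun c _ => ?_)
    rw [Complex.mul_conj, Complex.ofReal_re, Complex.normSq_eq_norm_sq]
  have hbound : (Nat.card D : ℝ) * (m : ℝ) ^ 2 ≤ (Nat.card C : ℝ) := by
    rw [hsum, ← Nat.card_congr (Subgroup.subgroupOfEquivOfLe hDC).toEquiv, Nat.card_eq_fintype_card,
      Fintype.card_subtype]
    refine le_trans (le_of_eq ?_) (Finset.sum_le_sum_of_subset_of_nonneg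
      (Finset.subset_univ (Finset.univ.filter (fun c : C => c ∈ D.subgroupOf C))) fun _ _ _ => by positivity)
    rw [Finset.sum_congr rfl fun c hc => by rw [hscal c (Finset.mem_filter.mp hc).2],
      Finset.sum_const, nsmul_eq_mul]
  have hG : (Nat.card G : ℝ) = (Nat.card C : ℝ) * (C.index : ℝ) := by
    rw [← Nat.cast_mul, Subgroup.card_mul_index]
  rw [hn, Complex.norm_natCast]
  have hle' : (n : ℝ) ≤ (C.index : ℝ) * m := by exact_mod_cast hle
  calc (n : ℝ) ^ 2 * (Nat.card C : ℝ) * (Nat.card D : ℝ)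
      ≤ ((C.index : ℝ) * m) ^ 2 * (Nat.card C : ℝ) * (Nat.card D : ℝ) := by gcongr
    _ = (C.index : ℝ) ^ 2 * (Nat.card C : ℝ) * ((Nat.card D : ℝ) * (m : ℝ) ^ 2) := by ring
    _ ≤ (C.index : ℝ) ^ 2 * (Nat.card C : ℝ) * (Nat.card C : ℝ) := by gcongr
    _ = (Nat.card G : ℝ) ^ 2 := by rw [hG]; ring

end Cfsg.Agent.S1492
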