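import Cfsg.Statements.S5913
import Mathlib

set_option autoImplicit false
open Cfsg

namespace Cfsg.Agent.S5913

/-- Let S be a non-abelian simple group and n a natural number. Every normal subgroup N of the direct power S^n (functions Fin n → S) is a subproduct: there is a set T of coordinates such that N consists exactly of the elements whose coordinates outside T are trivial. In particular the minimal normal subgroups of S^n are its n factors. -/
theorem result {S : Type*} [Group S] [IsSimpleGroup S] (hS : ¬ IsMulCommutative S) (n : ℕ)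
    (N : Subgroup (Fin n → S)) [N.Normal] :
    ∃ T : Finset (Fin n), ∀ x : Fin n → S, x ∈ N ↔ ∀ i, i ∉ T → x i = 1 := by
  classical
  have hZ : Subgroup.center S = ⊥ := by
    rcases (Subgroup.center S).normal_of_characteristic.eq_bot_or_eq_top with h | h
    · exact h
    · exact absurd ⟨⟨fun a b => Subgroup.mem_center_iff.1 (h ▸ Subgroup.mem_top b) a⟩⟩ hS
  let T := Finset.univ.filter fun i : Fin n => ∃ x ∈ N, x i ≠ 1
  have hT : ∀ i ∈ T, ∀ s : S, Pi.mulSingle i s ∈ N := by
    intro i hi
    obtain ⟨x, hx, hxi⟩ := (Finset.mem_filter.1 hi).2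
    let A : Subgroup S := N.comap (MonoidHom.mulSingle (fun _ : Fin n => S) i)
    have hA : A.Normal := inferInstance
    obtain ⟨y, hy⟩ : ∃ y, x i * y ≠ y * x i := by
      by_contra! hc
      exact hxi (Subgroup.mem_bot.1 (hZ ▸ Subgroup.mem_center_iff.2 fun y => (hc y).symm))
    have h1 : x i * y * (x i)⁻¹ * y⁻¹ ∈ A := by
      change Pi.mulSingle i _ ∈ N
      have h2 : x * ((Pi.mulSingle i y : Fin n → S) * x⁻¹ * (Pi.mulSingle i y : Fin n → S)⁻¹) ∈ N :=
        N.mul_mem hx ((inferInstance : N.Normal).conj_mem _ (N.inv_mem hx) _)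
      convert h2 using 1
      funext j
      rcases eq_or_ne j i with rfl | hj
      · simp [mul_assoc]
      · simp [hj]
    have hAtop : A = ⊤ := by
      refine hA.eq_bot_or_eq_top.resolve_left fun hb => hy ?_
      rw [hb, Subgroup.mem_bot, mul_inv_eq_one, mul_inv_eq_iff_eq_mul] at h1
      exact h1
    exact fun s => (show s ∈ A from hAtop ▸ Subgroup.mem_top s)
  refine ⟨T, fun x => ⟨fun hx i hi => by_contra fun h => hi (Finset.mem_filter.2 ⟨Finset.mem_univ _, x, hx, h⟩),
    fun hx => Submonoid.pi_mem_of_mulSingle_mem_aux T x hx fun i hi => hT i hi _⟩⟩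

end Cfsg.Agent.S5913
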