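import Cfsg.Statements.S5914
import Mathlib
import Cfsg.Agent.Lib.Solv.MinNormal
import Cfsg.Agent.S5913

set_option autoImplicit false
open Cfsg
open scoped Matrix

namespace Cfsg.Agent.S5914

/-- A non-trivial finite group G is characteristically simple (its only characteristic subgroups are 1 and G) if and only if G is isomorphic to a direct power S^n (n ≥ 1) of some simple group S (possibly cyclic of prime order). -/
theorem result {G : Type*} [Group G] [Finite G] [Nontrivial G] :
    (∀ H : Subgroup G, H.Characteristic → H = ⊥ ∨ H = ⊤) ↔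
    ∃ (S : Type) (_ : Group S) (_ : IsSimpleGroup S) (n : ℕ), 1 ≤ n ∧ Nonempty (G ≃* (Fin n → S)) := by
  classical
  constructor
  · intro h
    obtain ⟨N, hN, -, hN1, hmin⟩ := Cfsg.Lib.Solv.exists_minimal_normal_le (G := G) (N := ⊤) top_ne_bot
    have himg : ∀ φ : MulAut G, (N.map φ.toMonoidHom).Normal := fun φ => hN.map _ φ.surjective
    have himgmin : ∀ (φ : MulAut G) (K : Subgroup G), K.Normal → K ≤ N.map φ.toMonoidHom → K ≠ N.map φ.toMonoidHom → K = ⊥ := by
      intro φ K hK hle hne
      rcases hmin (K.comap φ.toMonoidHom) (hK.comap _) (by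
        intro x hx
        obtain ⟨y, hy, hyx⟩ := hle hx
        rwa [← φ.injective hyx]) with e | e
      · rw [← Subgroup.map_comap_eq_self_of_surjective (f := φ.toMonoidHom) φ.surjective K, e, Subgroup.map_bot]
      · exact absurd (by rw [← e, Subgroup.map_comap_eq_self_of_surjective (f := φ.toMonoidHom) φ.surjective K]) hne
    have hsup : (⨆ φ : MulAut G, N.map φ.toMonoidHom) = ⊤ := by
      refine (h _ ?_).resolve_left fun e => hN1 ?_
      · refine Subgroup.characteristic_iff_map_le.2 fun ψ => ?_
        rw [Subgroup.map_iSup, iSup_le_iff]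
        intro φ
        refine le_iSup_of_le (ψ * φ : MulAut G) (le_of_eq ?_)
        rw [Subgroup.map_map]
        rfl
      · rw [eq_bot_iff, ← e]
        exact le_iSup_of_le (1 : MulAut G) (le_of_eq (Subgroup.map_id N).symm)
    let P : ℕ → Prop := fun k => ∃ f : (Fin k → N) →* G, Function.Injective f ∧ f.range.Normal
    have hP0 : P 0 := by
      refine ⟨1, fun x y _ => Subsingleton.elim x y, ?_⟩
      rw [MonoidHom.range_one]; infer_instance
    have hntN : Nontrivial N := (Subgroup.nontrivial_iff_ne_bot N).2 hN1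
    have hbd : ∀ k, P k → k ≤ Nat.card G := by
      rintro k ⟨f, hf, -⟩
      have h1 := Nat.card_le_card_of_injective f hf
      rw [Nat.card_fun, Nat.card_fin] at h1
      exact (Nat.le_of_lt (Nat.lt_pow_self Finite.one_lt_card)).trans h1
    set k := Nat.findGreatest P (Nat.card G) with hk
    obtain ⟨f, hf, hfn⟩ : P k := Nat.findGreatest_spec (Nat.zero_le _) hP0
    have hfull : f.range = ⊤ := by
      by_contra hne
      obtain ⟨φ, hφ⟩ : ∃ φ : MulAut G, ¬ N.map φ.toMonoidHom ≤ f.range := by
        by_contra! hall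
        exact hne (top_le_iff.1 (hsup ▸ iSup_le hall))
      have := himg φ
      have hdisj : N.map φ.toMonoidHom ⊓ f.range = ⊥ :=
        himgmin φ _ inferInstance inf_le_left fun e => hφ (e ▸ inf_le_right)
      have hcomm : ∀ (x : Fin k → N) (y : N), Commute (f x) (φ y.1) := fun x y =>
        Subgroup.commute_of_normal_of_disjoint f.range (N.map φ.toMonoidHom) inferInstance inferInstance
          (disjoint_iff.2 (by rw [inf_comm]; exact hdisj)) (f x) (φ y.1) ⟨x, rfl⟩ ⟨y.1, y.2, rfl⟩
      let g : (Fin (k + 1) → N) →* G :=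
        { toFun := fun x => f (fun i => x i.succ) * φ (x 0).1
          map_one' := by rw [show (fun i : Fin k => (1 : Fin (k + 1) → N) i.succ) = 1 from rfl]; simp
          map_mul' := fun x y => by
            rw [show (fun i : Fin k => (x * y) i.succ) = (fun i => x i.succ) * (fun i => y i.succ) from rfl,
              map_mul, Pi.mul_apply, Subgroup.coe_mul, map_mul]
            exact (hcomm (fun i => y i.succ) (x 0)).mul_mul_mul_comm _ _ }
      have hg : Function.Injective g := by
        rw [injective_iff_map_eq_one]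
        intro x hx
        have h1 : φ (x 0).1 ∈ N.map φ.toMonoidHom ⊓ f.range :=
          ⟨⟨_, (x 0).2, rfl⟩, ⟨(fun i => x i.succ)⁻¹, by rw [map_inv]; exact inv_eq_of_mul_eq_one_right hx⟩⟩
        rw [hdisj, Subgroup.mem_bot] at h1
        have h0 : x 0 = 1 := Subtype.ext (by simpa using h1)
        have h3 : f (fun i => x i.succ) = 1 := by
          change f (fun i => x i.succ) * φ (x 0).1 = 1 at hx
          rwa [h1, mul_one] at hx
        funext i
        refine Fin.cases h0 (fun j => congrFun ((injective_iff_map_eq_one f).1 hf _ h3) j) i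
      have hgr : g.range = f.range ⊔ N.map φ.toMonoidHom := by
        refine le_antisymm ?_ (sup_le ?_ ?_)
        · rintro _ ⟨x, rfl⟩
          exact mul_mem (Subgroup.mem_sup_left ⟨_, rfl⟩) (Subgroup.mem_sup_right ⟨_, (x 0).2, rfl⟩)
        · rintro _ ⟨x, rfl⟩
          exact ⟨Fin.cons 1 x, by simp [g]⟩
        · rintro _ ⟨y, hy, rfl⟩
          exact ⟨Fin.cons ⟨y, hy⟩ 1, by simp [g, show (fun _ : Fin k => (1 : N)) = 1 from rfl]⟩
      have hPk : P (k + 1) := ⟨g, hg, by rw [hgr]; infer_instance⟩
      have := Nat.le_findGreatest (hbd _ hPk) hPk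
      omega
    have hk1 : 1 ≤ k := by
      by_contra hk0
      have : IsEmpty (Fin k) := by rw [show k = 0 by omega]; infer_instance
      have htop : (⊤ : Subgroup G) = ⊥ := by
        rw [← hfull]
        exact MonoidHom.range_eq_bot_iff.2 (MonoidHom.ext fun x => by rw [Subsingleton.elim x 1, map_one]; rfl)
      exact top_ne_bot htop
    have hsimple : IsSimpleGroup N := by
      refine ⟨fun K hK => ?_⟩
      have hKn : (K.map N.subtype).Normal := by
        rw [← Subgroup.normalizer_eq_top_iff, eq_top_iff, ← hsup, iSup_le_iff]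
        rintro φ _ ⟨y, hy, rfl⟩
        have := himg φ
        rw [Subgroup.mem_normalizer_iff]
        by_cases he : N.map φ.toMonoidHom ⊓ N = ⊥
        · intro z
          have hc : ∀ w ∈ N, φ y * w * (φ y)⁻¹ = w := fun w hw => by
            have := (Subgroup.commute_of_normal_of_disjoint _ _ (himg φ) hN (disjoint_iff.2 he) (φ y) w ⟨y, hy, rfl⟩ hw).eq
            rw [this, mul_inv_cancel_right]
          constructor
          · rintro ⟨w, hw, rfl⟩
            exact ⟨w, hw, (hc w.1 w.2).symm⟩
          · rintro ⟨w, hw, hwz⟩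
            refine ⟨w, hw, ?_⟩
            have h2 := hc w.1 w.2
            rw [show N.subtype w = w.1 from rfl] at hwz ⊢
            calc w.1 = (φ y)⁻¹ * (φ y * w.1 * (φ y)⁻¹) * φ y := by group
              _ = (φ y)⁻¹ * w.1 * φ y := by rw [h2]
              _ = z := by rw [hwz]; simp [mul_assoc]
        · have h5 : N.map φ.toMonoidHom ⊓ N = N.map φ.toMonoidHom := by
            by_contra hne
            exact he (himgmin φ _ inferInstance inf_le_left hne)
          have hy' : φ y ∈ N := (h5.ge ⟨y, hy, rfl⟩).2
          intro z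
          constructor
          · rintro ⟨w, hw, rfl⟩
            exact ⟨⟨φ y, hy'⟩ * w * ⟨φ y, hy'⟩⁻¹, hK.conj_mem _ hw _, rfl⟩
          · rintro ⟨w, hw, hwz⟩
            refine ⟨⟨φ y, hy'⟩⁻¹ * w * ⟨φ y, hy'⟩⁻¹⁻¹, hK.conj_mem _ hw _, ?_⟩
            rw [show N.subtype w = w.1 from rfl] at hwz
            change (φ y)⁻¹ * w.1 * (φ y)⁻¹⁻¹ = z
            rw [hwz]; simp [mul_assoc]
      rcases hmin _ hKn (Subgroup.map_subtype_le K) with e | e
      · exact Or.inl ((Subgroup.map_eq_bot_iff_of_injective _ N.subtype_injective).1 e)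
      · refine Or.inr (Subgroup.map_injective N.subtype_injective ?_)
        rw [e, ← MonoidHom.range_eq_map, Subgroup.range_subtype]
    have : Small.{0} N := small_map (Finite.equivFin N)
    let ε : N ≃* Shrink.{0} N := (Shrink.mulEquiv).symm
    let e : (Fin k → N) ≃* G := (MonoidHom.ofInjective hf).trans ((MulEquiv.subgroupCongr hfull).trans Subgroup.topEquiv)
    exact ⟨Shrink.{0} N, inferInstance, ε.isSimpleGroup_congr.1 hsimple, k, hk1, ⟨e.symm.trans (MulEquiv.piCongrRight fun _ => ε)⟩⟩
  · rintro ⟨S, _, hS, n, hn, ⟨e⟩⟩ H hH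
    let K : Subgroup (Fin n → S) := H.map e.toMonoidHom
    suffices hK : K = ⊥ ∨ K = ⊤ by
      rcases hK with h | h
      · exact Or.inl ((Subgroup.map_eq_bot_iff_of_injective _ e.injective).1 h)
      · exact Or.inr (Subgroup.map_injective (f := e.toMonoidHom) e.injective (by rw [Subgroup.map_top_of_surjective _ e.surjective]; exact h))
    have hinv : ∀ ψ : MulAut (Fin n → S), ∀ x ∈ K, ψ x ∈ K := by
      rintro ψ _ ⟨y, hy, rfl⟩
      refine ⟨e.symm (ψ (e y)), ?_, by simp⟩
      exact Subgroup.characteristic_iff_map_le.1 hH (e.trans (ψ.trans e.symm)) ⟨y, hy, rfl⟩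
    let perm : Equiv.Perm (Fin n) → MulAut (Fin n → S) := fun σ =>
      { toFun := fun x i => x (σ i)
        invFun := fun x i => x (σ.symm i)
        left_inv := fun x => by funext i; simp
        right_inv := fun x => by funext i; simp
        map_mul' := fun x y => rfl }
    have hKn : K.Normal := ⟨fun x hx g => by simpa using hinv (MulAut.conj g) x hx⟩
    rw [or_iff_not_imp_left]
    intro hK1
    by_cases hc : IsMulCommutative S
    · have hcomm : ∀ a b : S, a * b = b * a := fun a b => hc.is_comm.comm a b
      obtain ⟨x, hx, hx1⟩ := (Subgroup.ne_bot_iff_exists_ne_one.1 hK1) |> fun ⟨x, hx⟩ => (⟨x.1, x.2, fun h => hx (Subtype.ext h)⟩ : ∃ x ∈ K, x ≠ 1)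
      obtain ⟨i, hi⟩ := Function.ne_iff.1 hx1
      have hsing : ∀ (a : S) (j : Fin n), Pi.mulSingle j a ∈ K := by
        have hgen : ∀ b : S, b ≠ 1 → ∀ a : S, a ∈ Subgroup.zpowers b := fun b hb a => by
          rcases hS.eq_bot_or_eq_top_of_normal (Subgroup.zpowers b) ⟨fun y hy g => by rwa [hcomm g, mul_inv_cancel_right]⟩ with h | h
          · exact absurd (Subgroup.zpowers_eq_bot.1 h) hb
          · exact h ▸ Subgroup.mem_top a
        have hfrom : ∀ (j : Fin n) (b : S), b ≠ 1 → Pi.mulSingle j b ∈ K → ∀ (a : S) (l : Fin n), Pi.mulSingle l a ∈ K := by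
          intro j b hb hmem a l
          have h1 : Pi.mulSingle l b ∈ K := by
            have h2 := hinv (perm (Equiv.swap j l)) _ hmem
            convert h2 using 1
            funext p
            simp [perm, Pi.mulSingle_apply, Equiv.swap_apply_eq_iff]
          obtain ⟨z, rfl⟩ := Subgroup.mem_zpowers_iff.1 (hgen b hb a)
          rw [Pi.mulSingle_zpow]
          exact K.zpow_mem h1 z
        intro a l
        by_cases hn1 : ∀ j, j = i
        · refine hfrom i (x i) hi ?_ a l
          convert hx using 1
          funext p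
          simp [hn1 p]
        push Not at hn1
        obtain ⟨j, hj⟩ := hn1
        let shear : MulAut (Fin n → S) :=
          { toFun := fun y => y * Pi.mulSingle j (y i)
            invFun := fun y => y * Pi.mulSingle j (y i)⁻¹
            left_inv := fun y => by simp [Pi.mul_apply, Pi.mulSingle_eq_of_ne hj.symm, mul_assoc, ← Pi.mulSingle_mul]
            right_inv := fun y => by simp [Pi.mul_apply, Pi.mulSingle_eq_of_ne hj.symm, mul_assoc, ← Pi.mulSingle_mul]
            map_mul' := fun y z => by
              funext p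
              simp only [Pi.mul_apply, Pi.mulSingle_apply]
              split_ifs
              · exact Commute.mul_mul_mul_comm (hcomm _ _) _ _
              · simp }
        refine hfrom j (x i) hi ?_ a l
        have := K.mul_mem (K.inv_mem hx) (hinv shear x hx)
        simpa [shear] using this
      rw [eq_top_iff]
      intro y _
      exact Subgroup.pi_mem_of_mulSingle_mem y fun j => hsing _ j
    · obtain ⟨T, hT⟩ := Cfsg.Agent.S5913.result hc n K
      have hTe : T.Nonempty := by
        by_contra h
        rw [Finset.not_nonempty_iff_eq_empty] at h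
        exact hK1 (eq_bot_iff.2 fun x hx => funext fun i => (hT x).1 hx i (by simp [h]))
      obtain ⟨i, hi⟩ := hTe
      rw [eq_top_iff]
      intro y _
      refine (hT y).2 fun j hj => ?_
      exfalso
      have : Nontrivial S := inferInstance
      obtain ⟨a, ha⟩ := exists_ne (1 : S)
      have hm : Pi.mulSingle i a ∈ K := (hT _).2 fun l hl => Pi.mulSingle_eq_of_ne (show l ≠ i from fun e' => hl (by rw [e']; exact hi)) _
      have h2 := (hT _).1 (hinv (perm (Equiv.swap i j)) _ hm) j hj
      simp [perm] at h2
      exact ha h2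

end Cfsg.Agent.S5914
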