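import Cfsg.Statements.S2507
import Mathlib

set_option autoImplicit false
open Cfsg

namespace Cfsg.Agent.S2507

open Matrix

variable {F : Type*} [Field F] [Fintype F]

local notation "SS" => Matrix.SpecialLinearGroup (Fin 2) F

theorem char_two (h2 : 2 ∣ Fintype.card F) : CharP F 2 := by
  obtain ⟨p, hp⟩ := CharP.exists F
  haveI := hp
  obtain ⟨n, hpp, hn⟩ := FiniteField.card F p
  have : 2 ∣ p := Nat.prime_two.dvd_of_dvd_pow (hn ▸ h2)
  rwa [(Nat.prime_dvd_prime_iff_eq Nat.prime_two hpp).mp this]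

theorem card_sl : Nat.card SS = Fintype.card F * (Fintype.card F ^ 2 - 1) := by
  classical
  have hsurj : Function.Surjective (Matrix.GeneralLinearGroup.det : GL (Fin 2) F →* Fˣ) := by
    intro u
    refine ⟨Matrix.GeneralLinearGroup.mkOfDetNeZero !![(u : F), 0; 0, 1] (by simp [det_fin_two_of]), ?_⟩
    ext
    simp [Matrix.GeneralLinearGroup.val_det_apply, det_fin_two_of, Matrix.GeneralLinearGroup.mkOfDetNeZero]
  let e : SS ≃ (Matrix.GeneralLinearGroup.det : GL (Fin 2) F →* Fˣ).ker :=
    { toFun := fun A => ⟨Matrix.SpecialLinearGroup.toGL A, Units.ext (by simp [Matrix.GeneralLinearGroup.val_det_apply])⟩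
      invFun := fun g => ⟨((g : GL (Fin 2) F) : Matrix (Fin 2) (Fin 2) F), by
        have := congrArg Units.val (MonoidHom.mem_ker.mp g.2)
        simpa [Matrix.GeneralLinearGroup.val_det_apply] using this⟩
      left_inv := fun A => Subtype.ext rfl
      right_inv := fun g => Subtype.ext (Units.ext rfl) }
  have h := Subgroup.card_eq_card_quotient_mul_card_subgroup (Matrix.GeneralLinearGroup.det : GL (Fin 2) F →* Fˣ).ker
  rw [Nat.card_congr (QuotientGroup.quotientKerEquivOfSurjective _ hsurj).toEquiv, Nat.card_units, ← Nat.card_congr e,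
    Matrix.card_GL_field, Nat.card_eq_fintype_card (α := F)] at h
  simp only [Fin.prod_univ_two, Fin.val_zero, Fin.val_one, pow_zero, pow_one] at h
  have hq : 1 < Fintype.card F := Fintype.one_lt_card
  set q := Fintype.card F
  refine Nat.eq_of_mul_eq_mul_left (show 0 < q - 1 by omega) (h.symm.trans ?_)
  rw [show q ^ 2 - q = q * (q - 1) by rw [sq, Nat.mul_sub_one]]
  ring

theorem span_of_commute {M N : Matrix (Fin 2) (Fin 2) F} (hM : ∀ x : F, M ≠ x • 1) (h : N * M = M * N) :
    ∃ x y : F, N = x • (1 : Matrix (Fin 2) (Fin 2) F) + y • M := by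
  have e00 := congrFun (congrFun h 0) 0
  have e01 := congrFun (congrFun h 0) 1
  have e10 := congrFun (congrFun h 1) 0
  simp only [Matrix.mul_apply, Fin.sum_univ_two] at e00 e01 e10
  by_cases hb : M 0 1 = 0
  · by_cases hc : M 1 0 = 0
    · have had : M 0 0 - M 1 1 ≠ 0 := by
        intro h0
        apply hM (M 0 0)
        ext i j
        fin_cases i <;> fin_cases j <;> simp [hb, hc]
        linear_combination -h0
      have hN01 : N 0 1 = 0 := by
        have : N 0 1 * (M 0 0 - M 1 1) = 0 := by linear_combination (norm := (simp [hb]; ring)) -e01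
        exact (mul_eq_zero.mp this).resolve_right had
      have hN10 : N 1 0 = 0 := by
        have : N 1 0 * (M 0 0 - M 1 1) = 0 := by linear_combination (norm := (simp [hc]; ring)) e10
        exact (mul_eq_zero.mp this).resolve_right had
      refine ⟨N 0 0 - (N 0 0 - N 1 1) / (M 0 0 - M 1 1) * M 0 0, (N 0 0 - N 1 1) / (M 0 0 - M 1 1), ?_⟩
      ext i j
      fin_cases i <;> fin_cases j <;> simp [hb, hc, hN01, hN10]
      field_simp
      ring
    · refine ⟨N 0 0 - N 1 0 / M 1 0 * M 0 0, N 1 0 / M 1 0, ?_⟩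
      ext i j
      fin_cases i <;> fin_cases j <;> simp [hb]
      · have : N 0 1 * M 1 0 = 0 := by linear_combination (norm := (simp [hb]; ring)) e00
        exact (mul_eq_zero.mp this).resolve_right hc
      · field_simp
      · field_simp
        linear_combination e10
  · refine ⟨N 0 0 - N 0 1 / M 0 1 * M 0 0, N 0 1 / M 0 1, ?_⟩
    ext i j
    fin_cases i <;> fin_cases j <;> simp
    · field_simp
    · field_simp
      linear_combination -e00
    · field_simp
      linear_combination -e01

theorem det_span (M : SS) (x y : F) :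
    (x • (1 : Matrix (Fin 2) (Fin 2) F) + y • (M : Matrix (Fin 2) (Fin 2) F)).det
      = x ^ 2 + ((M : Matrix (Fin 2) (Fin 2) F) 0 0 + (M : Matrix (Fin 2) (Fin 2) F) 1 1) * x * y + y ^ 2 := by
  have h := M.2
  rw [det_fin_two] at h
  simp [det_fin_two]
  linear_combination y ^ 2 * h

/-- The centralizer of a non-scalar element is parametrised by the non-roots of the quadratic. -/
theorem card_centralizer (h2 : 2 ∣ Fintype.card F) (M : SS) (hM : ∀ x : F, (M : Matrix (Fin 2) (Fin 2) F) ≠ x • 1) :
    Nat.card (Subgroup.centralizer ({M} : Set SS))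
      = 1 + Nat.card {r : F // r ^ 2 + ((M : Matrix (Fin 2) (Fin 2) F) 0 0 + (M : Matrix (Fin 2) (Fin 2) F) 1 1) * r + 1 ≠ 0} := by
  classical
  haveI := char_two h2
  set t := (M : Matrix (Fin 2) (Fin 2) F) 0 0 + (M : Matrix (Fin 2) (Fin 2) F) 1 1 with ht
  have hsq : Function.Bijective (fun x : F => x ^ 2) := by
    refine (Finite.injective_iff_bijective).mp fun a b hab => ?_
    have : (a + b) ^ 2 = 0 := by rw [CharTwo.add_sq, hab, CharTwo.add_self_eq_zero]
    exact CharTwo.add_eq_zero.mp (pow_eq_zero_iff two_ne_zero |>.mp this)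
  let P := {xy : F × F // xy.1 ^ 2 + t * xy.1 * xy.2 + xy.2 ^ 2 = 1}
  have hP : Nat.card (Subgroup.centralizer ({M} : Set SS)) = Nat.card P := by
    refine (Nat.card_eq_of_bijective (fun xy : P =>
      (⟨⟨xy.1.1 • 1 + xy.1.2 • (M : Matrix (Fin 2) (Fin 2) F), by rw [det_span]; exact xy.2⟩,
        Subgroup.mem_centralizer_singleton_iff.mpr (Subtype.ext (by
          show (_ : Matrix (Fin 2) (Fin 2) F) * _ = _ * _
          simp only [add_mul, mul_add, smul_mul_assoc, Matrix.mul_smul, one_mul, mul_one]))⟩ :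
        Subgroup.centralizer ({M} : Set SS))) ⟨?_, ?_⟩).symm
    · intro a b hab
      have h : a.1.1 • 1 + a.1.2 • (M : Matrix (Fin 2) (Fin 2) F) = b.1.1 • 1 + b.1.2 • (M : Matrix (Fin 2) (Fin 2) F) :=
        congrArg (fun u : Subgroup.centralizer ({M} : Set SS) => ((u : SS) : Matrix (Fin 2) (Fin 2) F)) hab
      have hy : a.1.2 = b.1.2 := by
        by_contra hne
        apply hM ((b.1.1 - a.1.1) / (a.1.2 - b.1.2))
        have hd : a.1.2 - b.1.2 ≠ 0 := sub_ne_zero.mpr hne
        ext i j
        have := congrFun (congrFun h i) j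
        simp only [Matrix.add_apply, Matrix.smul_apply, smul_eq_mul] at this ⊢
        field_simp
        linear_combination this
      have hx : a.1.1 = b.1.1 := by
        have := congrFun (congrFun h 0) 0
        simp [hy] at this
        exact this
      exact Subtype.ext (Prod.ext hx hy)
    · intro g
      obtain ⟨x, y, hxy⟩ := span_of_commute hM (congrArg (fun u : SS => (u : Matrix (Fin 2) (Fin 2) F))
        (Subgroup.mem_centralizer_singleton_iff.mp g.2))
      refine ⟨⟨(x, y), ?_⟩, Subtype.ext (Subtype.ext hxy.symm)⟩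
      show x ^ 2 + t * x * y + y ^ 2 = 1
      rw [ht, ← det_span, ← hxy]
      exact (g : SS).2
  rw [hP, ← Nat.card_unique (α := Unit), ← Nat.card_sum]
  choose sr hsr using hsq.2
  let f : Unit ⊕ {r : F // r ^ 2 + t * r + 1 ≠ 0} → P := fun s => match s with
    | Sum.inl _ => ⟨(1, 0), by simp⟩
    | Sum.inr r => ⟨(r.1 * sr (r.1 ^ 2 + t * r.1 + 1)⁻¹, sr (r.1 ^ 2 + t * r.1 + 1)⁻¹), by
        have h := hsr (r.1 ^ 2 + t * r.1 + 1)⁻¹
        simp only at h
        have h' : (r.1 ^ 2 + t * r.1 + 1) * sr (r.1 ^ 2 + t * r.1 + 1)⁻¹ ^ 2 = 1 := by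
          rw [h, mul_inv_cancel₀ r.2]
        linear_combination h'⟩
  refine (Nat.card_eq_of_bijective f ⟨?_, ?_⟩).symm
  · have hne : ∀ r : {r : F // r ^ 2 + t * r + 1 ≠ 0}, sr (r.1 ^ 2 + t * r.1 + 1)⁻¹ ≠ 0 := by
      intro r h0
      have h := hsr (r.1 ^ 2 + t * r.1 + 1)⁻¹
      rw [h0] at h
      exact inv_ne_zero r.2 (by simpa using h.symm)
    rintro (a | a) (b | b) hab
    · rfl
    · exact absurd (congrArg (fun z : P => z.1.2) hab).symm (hne b)
    · exact absurd (congrArg (fun z : P => z.1.2) hab) (hne a)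
    · congr 1
      apply Subtype.ext
      have h1 : a.1 * sr (a.1 ^ 2 + t * a.1 + 1)⁻¹ = b.1 * sr (b.1 ^ 2 + t * b.1 + 1)⁻¹ := congrArg (fun z : P => z.1.1) hab
      have h2 : sr (a.1 ^ 2 + t * a.1 + 1)⁻¹ = sr (b.1 ^ 2 + t * b.1 + 1)⁻¹ := congrArg (fun z : P => z.1.2) hab
      rw [← h2] at h1
      exact mul_right_cancel₀ (hne a) h1
  · rintro ⟨⟨x, y⟩, hxy⟩
    by_cases hy : y = 0
    · subst hy
      refine ⟨Sum.inl (), Subtype.ext (Prod.ext ?_ rfl)⟩
      simp only [f]
      refine hsq.1 ?_
      simpa using hxy.symm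
    · have hr : ((x / y) ^ 2 + t * (x / y) + 1) * y ^ 2 = 1 := by
        field_simp
        linear_combination hxy
      refine ⟨Sum.inr ⟨x / y, left_ne_zero_of_mul_eq_one hr⟩, ?_⟩
      have hsy : sr ((x / y) ^ 2 + t * (x / y) + 1)⁻¹ = y := by
        apply hsq.1
        show _ ^ 2 = y ^ 2
        exact (hsr _).trans (inv_eq_of_mul_eq_one_right hr)
      refine Subtype.ext (Prod.ext ?_ ?_)
      · simp only [f, hsy]; exact div_mul_cancel₀ x hy
      · simp only [f, hsy]

theorem roots (h2 : 2 ∣ Fintype.card F) (t : F) :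
    (t = 0 ∧ Nat.card {r : F // r ^ 2 + t * r + 1 ≠ 0} = Fintype.card F - 1) ∨
    (t ≠ 0 ∧ (∀ r : F, r ^ 2 + t * r + 1 ≠ 0) ∧ Nat.card {r : F // r ^ 2 + t * r + 1 ≠ 0} = Fintype.card F) ∨
    (t ≠ 0 ∧ (∃ r : F, r ^ 2 + t * r + 1 = 0) ∧ Nat.card {r : F // r ^ 2 + t * r + 1 ≠ 0} = Fintype.card F - 2) := by
  classical
  haveI := char_two h2
  rw [Nat.card_eq_fintype_card, Fintype.card_subtype_compl, Fintype.card_subtype]
  by_cases hex : ∃ r : F, r ^ 2 + t * r + 1 = 0
  · obtain ⟨r, hr⟩ := hex
    have hset : Finset.univ.filter (fun s : F => s ^ 2 + t * s + 1 = 0) = {r, r + t} := by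
      ext s
      simp only [Finset.mem_filter, Finset.mem_univ, true_and, Finset.mem_insert, Finset.mem_singleton]
      constructor
      · intro hs
        have h : (s + r) * (s + r + t) = 0 := by
          linear_combination (norm := (ring_nf; simp [CharTwo.two_eq_zero])) hs + hr
        rcases mul_eq_zero.mp h with h | h
        · exact Or.inl (CharTwo.add_eq_zero.mp h)
        · exact Or.inr (by rw [← CharTwo.add_eq_zero, ← add_assoc]; exact h)
      · rintro (rfl | rfl)
        · exact hr
        · linear_combination (norm := (ring_nf; simp [CharTwo.two_eq_zero])) hr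
    rw [hset]
    by_cases ht : t = 0
    · exact Or.inl ⟨ht, by simp [ht]⟩
    · refine Or.inr (Or.inr ⟨ht, ⟨r, hr⟩, ?_⟩)
      rw [Finset.card_pair fun h => ht (by simpa using h.symm)]
  · push Not at hex
    refine Or.inr (Or.inl ⟨fun ht => hex 1 (by simp [ht, CharTwo.add_self_eq_zero]), hex, ?_⟩)
    rw [Finset.filter_eq_empty_iff.mpr fun s _ => hex s]
    simp

theorem index_of_card {n m : ℕ} (M : SS) (hn : Nat.card (Subgroup.centralizer ({M} : Set SS)) = n)
    (hm : n * m = Fintype.card F * (Fintype.card F ^ 2 - 1)) (hn0 : 0 < n) :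
    (Subgroup.centralizer ({M} : Set SS)).index = m := by
  have h := Subgroup.card_mul_index (Subgroup.centralizer ({M} : Set SS))
  rw [hn, card_sl, ← hm] at h
  exact Nat.eq_of_mul_eq_mul_left hn0 h

theorem index_cases (h2 : 2 ∣ Fintype.card F) (h4 : 4 ≤ Fintype.card F) (M : SS)
    (hM : ∀ x : F, (M : Matrix (Fin 2) (Fin 2) F) ≠ x • 1) :
    let t := (M : Matrix (Fin 2) (Fin 2) F) 0 0 + (M : Matrix (Fin 2) (Fin 2) F) 1 1
    (t = 0 → (Subgroup.centralizer ({M} : Set SS)).index = Fintype.card F ^ 2 - 1) ∧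
    (t ≠ 0 → (∀ r : F, r ^ 2 + t * r + 1 ≠ 0) → (Subgroup.centralizer ({M} : Set SS)).index = Fintype.card F * (Fintype.card F - 1)) ∧
    (t ≠ 0 → (∃ r : F, r ^ 2 + t * r + 1 = 0) → (Subgroup.centralizer ({M} : Set SS)).index = Fintype.card F * (Fintype.card F + 1)) := by
  intro t
  have hc := card_centralizer h2 M hM
  obtain ⟨k, hk⟩ : ∃ k, Fintype.card F = k + 2 := ⟨Fintype.card F - 2, by omega⟩
  have hq : (k + 2) ^ 2 - 1 = (k + 1) * (k + 3) := by
    have : (k + 2) ^ 2 = (k + 1) * (k + 3) + 1 := by ring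
    omega
  rcases roots h2 t with ⟨ht, hr⟩ | ⟨ht, he, hr⟩ | ⟨ht, he, hr⟩ <;> rw [hr] at hc
  · refine ⟨fun _ => index_of_card M hc ?_ (by omega), fun h => absurd ht h, fun h => absurd ht h⟩
    rw [hk, show 1 + (k + 2 - 1) = k + 2 by omega]
  · refine ⟨fun h => absurd h ht, fun _ _ => index_of_card M hc ?_ (by omega), fun _ h' => absurd h' (not_exists.mpr he)⟩
    rw [hk, hq, show k + 2 - 1 = k + 1 by omega]
    ring
  · refine ⟨fun h => absurd h ht, fun _ h' => absurd he (not_exists.mpr h'), fun _ _ => index_of_card M hc ?_ (by omega)⟩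
    rw [hk, hq, show 1 + (k + 2 - 2) = k + 1 by omega]
    ring

theorem center_bot (h2 : 2 ∣ Fintype.card F) : Subgroup.center SS = ⊥ := by
  haveI := char_two h2
  rw [Subgroup.eq_bot_iff_forall]
  intro A hA
  obtain ⟨r, hr, hA'⟩ := Matrix.SpecialLinearGroup.mem_center_iff.mp hA
  have hr1 : r = 1 := by
    have : (r + 1) ^ 2 = 0 := by rw [CharTwo.add_sq, show r ^ 2 = 1 by simpa using hr, one_pow, CharTwo.add_self_eq_zero]
    exact CharTwo.add_eq_zero.mp (pow_eq_zero_iff two_ne_zero |>.mp this)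
  apply Subtype.ext
  rw [← hA', hr1]
  simp

/-- Let F be a finite field with q = 2^f ≥ 4 elements. The conjugacy class sizes of PSL(2,F) are exactly 1, q(q − 1), q² − 1 and q(q + 1). -/
theorem result {F : Type*} [Field F] [Fintype F]
    (h2 : 2 ∣ Fintype.card F) (h4 : 4 ≤ Fintype.card F) :
    Set.range (fun g : (Matrix.ProjectiveSpecialLinearGroup (Fin 2) F) => (Subgroup.centralizer ({g} : Set (Matrix.ProjectiveSpecialLinearGroup (Fin 2) F))).index) =
      {1, Fintype.card F * (Fintype.card F - 1), Fintype.card F ^ 2 - 1, Fintype.card F * (Fintype.card F + 1)} := by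
  classical
  haveI := char_two h2
  let π := QuotientGroup.mk' (Subgroup.center (Matrix.SpecialLinearGroup (Fin 2) F))
  have hinj : Function.Injective π := by
    rw [← MonoidHom.ker_eq_bot_iff, QuotientGroup.ker_mk', center_bot h2]
  have hsurj : Function.Surjective π := QuotientGroup.mk'_surjective _
  have hidx : ∀ M, (Subgroup.centralizer ({π M} : Set (Matrix.ProjectiveSpecialLinearGroup (Fin 2) F))).index
      = (Subgroup.centralizer ({M} : Set (Matrix.SpecialLinearGroup (Fin 2) F))).index := by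
    intro M
    have e : (Subgroup.centralizer ({π M} : Set (Matrix.ProjectiveSpecialLinearGroup (Fin 2) F))).comap π
        = Subgroup.centralizer ({M} : Set (Matrix.SpecialLinearGroup (Fin 2) F)) := by
      ext g
      rw [Subgroup.mem_comap, Subgroup.mem_centralizer_singleton_iff, Subgroup.mem_centralizer_singleton_iff]
      exact ⟨fun h => hinj (by rw [map_mul, map_mul]; exact h), fun h => by rw [← map_mul, ← map_mul, h]⟩
    rw [← e, Subgroup.index_comap_of_surjective _ hsurj]
  have hscal : ∀ (M : Matrix.SpecialLinearGroup (Fin 2) F), (∃ x : F, (M : Matrix (Fin 2) (Fin 2) F) = x • 1) →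
      (Subgroup.centralizer ({M} : Set (Matrix.SpecialLinearGroup (Fin 2) F))).index = 1 := by
    rintro M ⟨x, hx⟩
    rw [Subgroup.index_eq_one, Subgroup.eq_top_iff']
    intro g
    rw [Subgroup.mem_centralizer_singleton_iff]
    apply Subtype.ext
    simp [hx]
  ext k
  simp only [Set.mem_range, Set.mem_insert_iff, Set.mem_singleton_iff]
  constructor
  · rintro ⟨g, rfl⟩
    obtain ⟨M, rfl⟩ := hsurj g
    rw [hidx]
    by_cases hM : ∃ x : F, (M : Matrix (Fin 2) (Fin 2) F) = x • 1
    · exact Or.inl (hscal M hM)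
    push Not at hM
    obtain ⟨a, b, c⟩ := index_cases h2 h4 M hM
    by_cases ht : (M : Matrix (Fin 2) (Fin 2) F) 0 0 + (M : Matrix (Fin 2) (Fin 2) F) 1 1 = 0
    · exact Or.inr (Or.inr (Or.inl (a ht)))
    by_cases hr : ∃ r : F, r ^ 2 + ((M : Matrix (Fin 2) (Fin 2) F) 0 0 + (M : Matrix (Fin 2) (Fin 2) F) 1 1) * r + 1 = 0
    · exact Or.inr (Or.inr (Or.inr (c ht hr)))
    · exact Or.inr (Or.inl (b ht (not_exists.mp hr)))
  · let N : F → Matrix.SpecialLinearGroup (Fin 2) F := fun t =>
      ⟨!![0, 1; 1, t], by rw [det_fin_two_of]; simp [CharTwo.neg_eq]⟩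
    have hN : ∀ t x : F, (N t : Matrix (Fin 2) (Fin 2) F) ≠ x • 1 := by
      intro t x h
      have := congrFun (congrFun h 0) 1
      simp [N] at this
    have htr : ∀ t : F, (N t : Matrix (Fin 2) (Fin 2) F) 0 0 + (N t : Matrix (Fin 2) (Fin 2) F) 1 1 = t := by
      intro t; simp [N]
    rintro (rfl | rfl | rfl | rfl)
    · exact ⟨π 1, by rw [hidx]; exact hscal 1 ⟨1, by simp⟩⟩
    · obtain ⟨t, ht, hr⟩ : ∃ t : F, t ≠ 0 ∧ ∀ r : F, r ^ 2 + t * r + 1 ≠ 0 := by
        by_contra hcon
        push Not at hcon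
        let S : Finset F := (Finset.univ.erase 0).erase 1
        let T : Finset F := Finset.univ.erase 0
        have hc : ∀ t ∈ T, 2 ≤ (S.filter fun r => r + r⁻¹ = t).card := by
          intro t ht
          have ht0 := (Finset.mem_erase.mp ht).1
          obtain ⟨r, hr⟩ := hcon t ht0
          have hr0 : r ≠ 0 := by rintro rfl; simp at hr
          have hrt : r + r⁻¹ = t := by
            field_simp
            linear_combination (norm := (ring_nf; simp [CharTwo.two_eq_zero])) hr
          have hr1 : r ≠ 1 := by rintro rfl; exact ht0 (by rw [← hrt, inv_one, CharTwo.add_self_eq_zero])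
          have hne : r ≠ r⁻¹ := fun h => ht0 (by rw [← hrt, ← h, CharTwo.add_self_eq_zero])
          calc 2 = ({r, r⁻¹} : Finset F).card := (Finset.card_pair hne).symm
            _ ≤ _ := Finset.card_le_card (by
              intro s hs
              simp only [Finset.mem_insert, Finset.mem_singleton] at hs
              simp only [Finset.mem_filter, S, Finset.mem_erase, Finset.mem_univ, and_true]
              rcases hs with rfl | rfl
              · exact ⟨⟨hr1, hr0⟩, hrt⟩
              · refine ⟨⟨fun h => hr1 (inv_eq_one.mp h), inv_ne_zero hr0⟩, ?_⟩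
                rw [inv_inv, add_comm]; exact hrt)
        have h1 : T.card * 2 ≤ S.card := by
          calc T.card * 2 = ∑ t ∈ T, 2 := by rw [Finset.sum_const, smul_eq_mul]
            _ ≤ ∑ t ∈ T, (S.filter fun r => r + r⁻¹ = t).card := Finset.sum_le_sum hc
            _ = (T.biUnion fun t => S.filter fun r => r + r⁻¹ = t).card := (Finset.card_biUnion (fun a _ b _ hab =>
                Finset.disjoint_filter.mpr fun r _ h1 h2 => hab (h1.symm.trans h2))).symm
            _ ≤ S.card := Finset.card_le_card (Finset.biUnion_subset.mpr fun t _ => Finset.filter_subset _ _)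
        have hT : T.card = Fintype.card F - 1 := by simp [T]
        have hS : S.card = Fintype.card F - 2 := by simp [S]; omega
        omega
      refine ⟨π (N t), ?_⟩
      rw [hidx]
      exact (index_cases h2 h4 (N t) (hN t)).2.1 (by rw [htr]; exact ht) (by rw [htr]; exact hr)
    · refine ⟨π (N 0), ?_⟩
      rw [hidx]
      exact (index_cases h2 h4 (N 0) (hN 0)).1 (htr 0)
    · obtain ⟨a, ha0, ha1⟩ : ∃ a : F, a ≠ 0 ∧ a ≠ 1 := by
        by_contra hcon
        push Not at hcon
        have : Fintype.card F ≤ 2 := by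
          rw [← Finset.card_univ]
          refine le_trans (Finset.card_le_card (t := {0, 1}) fun x _ => ?_) (Finset.card_insert_le _ _ |>.trans (by simp))
          by_cases hx : x = 0
          · simp [hx]
          · simp [hcon x hx]
        omega
      refine ⟨π (N (a + a⁻¹)), ?_⟩
      rw [hidx]
      refine (index_cases h2 h4 (N (a + a⁻¹)) (hN _)).2.2 (by
        rw [htr]
        intro h
        have h1 : a = a⁻¹ := CharTwo.add_eq_zero.mp h
        have h2' : (a + 1) ^ 2 = 0 := by
          rw [CharTwo.add_sq, sq]; nth_rw 2 [h1]; rw [mul_inv_cancel₀ ha0, one_pow, CharTwo.add_self_eq_zero]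
        exact ha1 (CharTwo.add_eq_zero.mp (pow_eq_zero_iff two_ne_zero |>.mp h2'))) ⟨a, ?_⟩
      rw [htr]
      field_simp
      ring_nf
      simp [CharTwo.two_eq_zero]

end Cfsg.Agent.S2507
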