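import Cfsg.Statements.S2503
import Mathlib
import Cfsg.Agent.S2507
-- import your own Cfsg.Agent.* helpers here

set_option autoImplicit false
open Cfsg

namespace Cfsg.Agent.S2503

open Matrix
open Cfsg.Agent.S2507 (char_two card_centralizer span_of_commute center_bot)

section
variable {F : Type*} [Field F] [Fintype F]

local notation "SS" => Matrix.SpecialLinearGroup (Fin 2) F

theorem exists_irreducible (h2 : 2 ∣ Fintype.card F) (h4 : 4 ≤ Fintype.card F) :
    ∃ t : F, t ≠ 0 ∧ ∀ r : F, r ^ 2 + t * r + 1 ≠ 0 := by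
  classical
  haveI := char_two h2
  by_contra hcon
  push Not at hcon
  let S : Finset F := (Finset.univ.erase 0).erase 1
  let T : Finset F := Finset.univ.erase 0
  have hc : ∀ t ∈ T, 2 ≤ (S.filter fun r => r + r⁻¹ = t).card := by
    intro t ht
    have ht0 := (Finset.mem_erase.mp ht).1
    obtain ⟨r, hr⟩ := hcon t ht0
    have hr0 : r ≠ 0 := by rintro rfl; simp at hr
    have hrt : r + r⁻¹ = t := by
      field_simp
      linear_combination (norm := (ring_nf; simp [CharTwo.two_eq_zero])) hr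
    have hr1 : r ≠ 1 := by rintro rfl; exact ht0 (by rw [← hrt, inv_one, CharTwo.add_self_eq_zero])
    have hne : r ≠ r⁻¹ := fun h => ht0 (by rw [← hrt, ← h, CharTwo.add_self_eq_zero])
    calc 2 = ({r, r⁻¹} : Finset F).card := (Finset.card_pair hne).symm
      _ ≤ _ := Finset.card_le_card (by
        intro s hs
        simp only [Finset.mem_insert, Finset.mem_singleton] at hs
        simp only [Finset.mem_filter, S, Finset.mem_erase, Finset.mem_univ, and_true]
        rcases hs with rfl | rfl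
        · exact ⟨⟨hr1, hr0⟩, hrt⟩
        · refine ⟨⟨fun h => hr1 (inv_eq_one.mp h), inv_ne_zero hr0⟩, ?_⟩
          rw [inv_inv, add_comm]; exact hrt)
  have h1 : T.card * 2 ≤ S.card := by
    calc T.card * 2 = ∑ t ∈ T, 2 := by rw [Finset.sum_const, smul_eq_mul]
      _ ≤ ∑ t ∈ T, (S.filter fun r => r + r⁻¹ = t).card := Finset.sum_le_sum hc
      _ = (T.biUnion fun t => S.filter fun r => r + r⁻¹ = t).card := (Finset.card_biUnion (fun a _ b _ hab =>
          Finset.disjoint_filter.mpr fun r _ h1 h2 => hab (h1.symm.trans h2))).symm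
      _ ≤ S.card := Finset.card_le_card (Finset.biUnion_subset.mpr fun t _ => Finset.filter_subset _ _)
  have hT : T.card = Fintype.card F - 1 := by simp [T]
  have hS : S.card = Fintype.card F - 2 := by simp [S]; omega
  omega


/-- `x + y M` for `M = !![0, 1; 1, τ]`. -/
def el (τ x y : F) : Matrix (Fin 2) (Fin 2) F := !![x, y; y, x + τ * y]

theorem det_el [CharP F 2] (τ x y : F) : (el τ x y).det = x ^ 2 + τ * x * y + y ^ 2 := by
  rw [el, det_fin_two_of, CharTwo.sub_eq_add]
  ring

theorem anisotropic {τ : F} (hτ : ∀ r : F, r ^ 2 + τ * r + 1 ≠ 0) {x y : F} (h : x ^ 2 + τ * x * y + y ^ 2 = 0) :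
    x = 0 ∧ y = 0 := by
  by_cases hy : y = 0
  · exact ⟨pow_eq_zero_iff two_ne_zero |>.mp (by simpa [hy] using h), hy⟩
  · refine absurd ?_ (hτ (x / y))
    field_simp
    linear_combination h

end

set_option maxHeartbeats 1000000 in
/-- Let F be a finite field with q = 2^t ≥ 4 elements and L = PSL(2,F). Then L has a cyclic subgroup A of order q + 1 and an elementary abelian 2-subgroup B of order q such that L = ABA: every element of L is a product a·b·a' with a, a' ∈ A and b ∈ B. -/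
theorem result {F : Type*} [Field F] [Fintype F]
    (h2 : 2 ∣ Fintype.card F) (h4 : 4 ≤ Fintype.card F) :
    ∃ A B : Subgroup (Matrix.ProjectiveSpecialLinearGroup (Fin 2) F),
      IsCyclic A ∧ Nat.card A = Fintype.card F + 1 ∧ IsMulCommutative B ∧ (∀ b ∈ B, b * b = 1) ∧
        Nat.card B = Fintype.card F ∧
        ∀ g : Matrix.ProjectiveSpecialLinearGroup (Fin 2) F, ∃ a ∈ A, ∃ b ∈ B, ∃ c ∈ A, g = a * b * c := by
  classical
  haveI := char_two h2
  obtain ⟨τ, hτ0, hτ⟩ := exists_irreducible h2 h4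
  let M : Matrix.SpecialLinearGroup (Fin 2) F := ⟨el τ 0 1, by rw [det_el]; ring⟩
  have hM : ∀ x : F, (M : Matrix (Fin 2) (Fin 2) F) ≠ x • 1 := by
    intro x h
    have := congrFun (congrFun h 0) 1
    simp [M, el] at this
  let A := Subgroup.centralizer ({M} : Set (Matrix.SpecialLinearGroup (Fin 2) F))
  have memA : ∀ g, g ∈ A ↔ ∃ x y : F, (g : Matrix (Fin 2) (Fin 2) F) = el τ x y := by
    intro g
    rw [Subgroup.mem_centralizer_singleton_iff]
    constructor
    · intro h
      obtain ⟨x, y, hxy⟩ := span_of_commute hM (congrArg (fun u : Matrix.SpecialLinearGroup (Fin 2) F => (u : Matrix (Fin 2) (Fin 2) F)) h)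
      refine ⟨x, y, hxy.trans ?_⟩
      ext i j
      fin_cases i <;> fin_cases j <;> simp [M, el] <;> ring
    · rintro ⟨x, y, hxy⟩
      apply Subtype.ext
      show (g : Matrix (Fin 2) (Fin 2) F) * (M : Matrix (Fin 2) (Fin 2) F) = (M : Matrix (Fin 2) (Fin 2) F) * (g : Matrix (Fin 2) (Fin 2) F)
      rw [hxy]
      ext i j
      fin_cases i <;> fin_cases j <;> simp [M, el, Matrix.mul_apply, Fin.sum_univ_two] <;> ring
  have htr : (M : Matrix (Fin 2) (Fin 2) F) 0 0 + (M : Matrix (Fin 2) (Fin 2) F) 1 1 = τ := by simp [M, el]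
  have hcard : Nat.card A = Fintype.card F + 1 := by
    rw [card_centralizer h2 M hM, htr]
    rw [Nat.card_congr (Equiv.subtypeUnivEquiv hτ), Nat.card_eq_fintype_card, add_comm]
  -- the torus is cyclic: it embeds in the units of a field
  haveI hcyc : IsCyclic A := by
    obtain ⟨ω, hω⟩ := IsAlgClosed.exists_eval₂_eq_zero (algebraMap F (AlgebraicClosure F))
      (Polynomial.X ^ 2 + Polynomial.C τ * Polynomial.X + 1 : Polynomial F)
      (by rw [show (Polynomial.X ^ 2 + Polynomial.C τ * Polynomial.X + 1 : Polynomial F).degree = 2 by compute_degree!]; decide)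
    simp only [Polynomial.eval₂_add, Polynomial.eval₂_pow, Polynomial.eval₂_X, Polynomial.eval₂_mul, Polynomial.eval₂_C, Polynomial.eval₂_one] at hω
    let φ : A →* AlgebraicClosure F :=
      { toFun := fun g => algebraMap F _ (((g : Matrix.SpecialLinearGroup (Fin 2) F) : Matrix (Fin 2) (Fin 2) F) 0 0)
          + algebraMap F _ (((g : Matrix.SpecialLinearGroup (Fin 2) F) : Matrix (Fin 2) (Fin 2) F) 1 0) * ω
        map_one' := by simp
        map_mul' := fun g h => by
          obtain ⟨x, y, hg⟩ := (memA g).mp g.2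
          obtain ⟨u, v, hh⟩ := (memA h).mp h.2
          simp [hg, hh, el, Matrix.mul_apply, Fin.sum_univ_two]
          linear_combination (-(algebraMap F (AlgebraicClosure F) y) * algebraMap F (AlgebraicClosure F) v) * hω
            + (algebraMap F (AlgebraicClosure F) y * algebraMap F (AlgebraicClosure F) v * (1 + algebraMap F (AlgebraicClosure F) τ * ω)) * CharTwo.two_eq_zero (R := AlgebraicClosure F) }
    refine isCyclic_of_subgroup_isDomain φ fun g h hgh => ?_
    obtain ⟨x, y, hg⟩ := (memA g).mp g.2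
    obtain ⟨u, v, hh⟩ := (memA h).mp h.2
    simp [φ, hg, hh, el] at hgh
    have hyv : y = v := by
      by_contra hne
      have hd : algebraMap F (AlgebraicClosure F) y - algebraMap F (AlgebraicClosure F) v ≠ 0 :=
        sub_ne_zero.mpr fun h => hne ((algebraMap F (AlgebraicClosure F)).injective h)
      have : ω = algebraMap F (AlgebraicClosure F) ((u - x) / (y - v)) := by
        rw [map_div₀, map_sub, map_sub, eq_div_iff hd]
        linear_combination hgh
      rw [this, ← map_pow, ← map_mul, ← map_add, ← map_one (algebraMap F (AlgebraicClosure F)), ← map_add] at hω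
      exact hτ _ ((map_eq_zero _).mp hω)
    have hxu : x = u := (algebraMap F (AlgebraicClosure F)).injective (by rw [hyv] at hgh; linear_combination hgh)
    exact Subtype.ext (Subtype.ext (by rw [hg, hh, hxu, hyv]))
  -- the unipotent subgroup
  let ψ : Multiplicative F →* Matrix.SpecialLinearGroup (Fin 2) F :=
    { toFun := fun b => ⟨!![1, b.toAdd; 0, 1], by simp [det_fin_two_of]⟩
      map_one' := by apply Subtype.ext; ext i j; fin_cases i <;> fin_cases j <;> simp
      map_mul' := fun a b => by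
        apply Subtype.ext
        show !![1, (a * b).toAdd; 0, 1] = !![1, a.toAdd; 0, 1] * !![1, b.toAdd; 0, 1]
        ext i j
        fin_cases i <;> fin_cases j <;> simp [Matrix.mul_apply, Fin.sum_univ_two, add_comm] }
  have hψc : ∀ b, (ψ b : Matrix (Fin 2) (Fin 2) F) = !![1, b.toAdd; 0, 1] := fun b => rfl
  have hψ : Function.Injective ψ := fun a b h => by
    have := congrArg (fun u : Matrix.SpecialLinearGroup (Fin 2) F => (u : Matrix (Fin 2) (Fin 2) F) 0 1) h
    simp only [hψc] at this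
    exact Multiplicative.toAdd.injective (by simpa using this)
  let π := QuotientGroup.mk' (Subgroup.center (Matrix.SpecialLinearGroup (Fin 2) F))
  have hinj : Function.Injective π := by
    rw [← MonoidHom.ker_eq_bot_iff, QuotientGroup.ker_mk', center_bot h2]
  refine ⟨A.map π, (MonoidHom.range (π.comp ψ)), ?_, ?_, ?_, ?_, ?_, ?_⟩
  · exact isCyclic_of_surjective (π.subgroupMap A) (π.subgroupMap_surjective A)
  · rw [← hcard]; exact (Nat.card_congr (Subgroup.equivMapOfInjective A π hinj).toEquiv).symm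
  · exact ⟨⟨by rintro ⟨_, a, rfl⟩ ⟨_, b, rfl⟩; exact Subtype.ext (by show π (ψ a) * π (ψ b) = π (ψ b) * π (ψ a); rw [← map_mul, ← map_mul, ← map_mul, ← map_mul, mul_comm])⟩⟩
  · rintro _ ⟨b, rfl⟩
    rw [← map_mul, show b * b = 1 from Multiplicative.toAdd.injective (by simp [CharTwo.add_self_eq_zero]), map_one]
  · rw [← Nat.card_congr (MonoidHom.ofInjective (f := π.comp ψ) (hinj.comp hψ)).toEquiv,
      Nat.card_congr Multiplicative.toAdd, Nat.card_eq_fintype_card]
  intro g'
  obtain ⟨g, rfl⟩ := QuotientGroup.mk'_surjective _ g'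
  suffices ∃ a ∈ A, ∃ b, ∃ c ∈ A, g = a * ψ b * c by
    obtain ⟨a, ha, b, c, hc, h⟩ := this
    exact ⟨π a, ⟨a, ha, rfl⟩, π (ψ b), ⟨b, rfl⟩, π c, ⟨c, hc, rfl⟩, by rw [h, map_mul, map_mul]⟩
  let j := ψ (Multiplicative.ofAdd τ)
  have hjc : (j : Matrix (Fin 2) (Fin 2) F) = !![1, τ; 0, 1] := hψc _
  have hj : ∀ c ∈ A, j * c = c⁻¹ * j := by
    intro c hc
    obtain ⟨x, y, hxy⟩ := (memA c).mp hc
    apply Subtype.ext
    rw [Matrix.SpecialLinearGroup.coe_mul, Matrix.SpecialLinearGroup.coe_mul, Matrix.SpecialLinearGroup.coe_inv, hxy, hjc]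
    ext i k
    fin_cases i <;> fin_cases k <;>
      simp [el, Matrix.adjugate_fin_two, Matrix.mul_apply, Fin.sum_univ_two, CharTwo.neg_eq] <;>
      grind
  obtain ⟨g00, g01, g10, g11, hg⟩ : ∃ a b c d : F, (g : Matrix (Fin 2) (Fin 2) F) = !![a, b; c, d] :=
    ⟨_, _, _, _, Matrix.eta_fin_two _⟩
  obtain ⟨u, hu⟩ : ∃ u, τ * u = g01 + g10 := ⟨_, mul_div_cancel₀ _ hτ0⟩
  obtain ⟨y, hy⟩ : ∃ y, τ * y = g00 + g11 := ⟨_, mul_div_cancel₀ _ hτ0⟩
  let v := g10 + y
  let x := g00 + u
  have hdec : (g : Matrix (Fin 2) (Fin 2) F) = el τ x y + el τ u v * (j : Matrix (Fin 2) (Fin 2) F) := by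
    rw [hg, hjc]
    ext i k
    fin_cases i <;> fin_cases k <;> simp [el, v, x, Matrix.mul_apply, Fin.sum_univ_two] <;>
      grind
  have hsq : Function.Surjective (fun x : F => x ^ 2) :=
    Finite.surjective_of_injective fun a b hab => by
      have : (a + b) ^ 2 = 0 := by rw [CharTwo.add_sq, show a ^ 2 = b ^ 2 from hab, CharTwo.add_self_eq_zero]
      exact CharTwo.add_eq_zero.mp (pow_eq_zero_iff two_ne_zero |>.mp this)
  have hdet : (x ^ 2 + τ * x * y + y ^ 2) + (u ^ 2 + τ * u * v + v ^ 2) = 1 := by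
    have h := g.2
    rw [hg, det_fin_two_of] at h
    simp only [x, v]
    grind
  obtain ⟨s, hs⟩ := hsq (x ^ 2 + τ * x * y + y ^ 2)
  simp only at hs
  let t := 1 + s
  have ht : t ^ 2 = u ^ 2 + τ * u * v + v ^ 2 := by
    simp only [t]; grind
  have hel0 : el τ (0 : F) 0 = 0 := by ext i k; fin_cases i <;> fin_cases k <;> simp [el]
  by_cases ht0 : t = 0
  · obtain ⟨hu0, hv0⟩ := anisotropic hτ (ht.symm.trans (by rw [ht0]; ring))
    refine ⟨g, (memA g).mpr ⟨x, y, ?_⟩, 1, 1, one_mem _, by simp⟩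
    rw [hdec, hu0, hv0, hel0, zero_mul, add_zero]
  by_cases hs0 : s = 0
  · obtain ⟨hx0, hy0⟩ := anisotropic hτ (hs.symm.trans (by rw [hs0]; ring))
    refine ⟨⟨el τ u v, ?_⟩, (memA _).mpr ⟨u, v, rfl⟩, Multiplicative.ofAdd τ, 1, one_mem _, Subtype.ext ?_⟩
    · rw [det_el, ← ht]; simp [t, hs0]
    · rw [mul_one]
      show (g : Matrix (Fin 2) (Fin 2) F) = el τ u v * (j : Matrix (Fin 2) (Fin 2) F)
      rw [hdec, hx0, hy0, hel0, zero_add]
  have h1 : (el τ (x / s) (y / s)).det = 1 := by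
    rw [det_el]; field_simp; linear_combination -hs
  have h2' : (el τ (u / t) (v / t)).det = 1 := by
    rw [det_el]; field_simp; linear_combination -ht
  let A₁ : A := ⟨⟨_, h1⟩, (memA _).mpr ⟨_, _, rfl⟩⟩
  let B₁ : A := ⟨⟨_, h2'⟩, (memA _).mpr ⟨_, _, rfl⟩⟩
  letI : CommGroup A := IsCyclic.commGroup
  obtain ⟨a, ha⟩ := (powCoprime (G := A) (n := 2) (by
    rw [Nat.coprime_two_right, hcard]; obtain ⟨k, hk⟩ := h2; exact ⟨k, by omega⟩)).surjective (A₁ * B₁)
  simp only [powCoprime, Equiv.coe_fn_mk] at ha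
  let c := a⁻¹ * A₁
  have hac : a * c = A₁ := by simp [c]
  have hac' : a * c⁻¹ = B₁ := by
    simp only [c, _root_.mul_inv_rev, inv_inv]
    rw [mul_comm A₁⁻¹ a, ← mul_assoc, ← sq, ha, mul_comm A₁, mul_assoc, mul_inv_cancel, mul_one]
  refine ⟨a, a.2, Multiplicative.ofAdd (t * τ), c, c.2, Subtype.ext ?_⟩
  have e : (ψ (Multiplicative.ofAdd (t * τ)) : Matrix (Fin 2) (Fin 2) F) = s • 1 + t • (j : Matrix (Fin 2) (Fin 2) F) := by
    rw [hψc, hjc]
    ext i k
    fin_cases i <;> fin_cases k <;> simp [t] <;> grind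
  have e1 : ((a : Matrix.SpecialLinearGroup (Fin 2) F) : Matrix (Fin 2) (Fin 2) F) * ((c : Matrix.SpecialLinearGroup (Fin 2) F) : Matrix (Fin 2) (Fin 2) F) = el τ (x / s) (y / s) := by
    rw [← Matrix.SpecialLinearGroup.coe_mul, ← Subgroup.coe_mul, hac]
  have e2 : ((a : Matrix.SpecialLinearGroup (Fin 2) F) : Matrix (Fin 2) (Fin 2) F) * ((j : Matrix.SpecialLinearGroup (Fin 2) F) : Matrix (Fin 2) (Fin 2) F) * ((c : Matrix.SpecialLinearGroup (Fin 2) F) : Matrix (Fin 2) (Fin 2) F) = el τ (u / t) (v / t) * (j : Matrix (Fin 2) (Fin 2) F) := by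
    rw [mul_assoc, ← Matrix.SpecialLinearGroup.coe_mul, hj _ c.2, Matrix.SpecialLinearGroup.coe_mul, ← mul_assoc,
      ← Matrix.SpecialLinearGroup.coe_mul, ← Subgroup.coe_inv, ← Subgroup.coe_mul, hac']
  rw [Matrix.SpecialLinearGroup.coe_mul, Matrix.SpecialLinearGroup.coe_mul, e, mul_add, add_mul, Matrix.mul_smul,
    Matrix.mul_smul, mul_one, smul_mul_assoc, smul_mul_assoc, e1, e2, hdec, ← smul_mul_assoc]
  congr 1
  · ext i k; fin_cases i <;> fin_cases k <;> simp [el] <;> field_simp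
  · congr 1; ext i k; fin_cases i <;> fin_cases k <;> simp [el] <;> field_simp

end Cfsg.Agent.S2503
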