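import Cfsg.Statements.S2475
import Mathlib
import Cfsg.Agent.Lib.Classical.TwoDimTorus
import Cfsg.Agent.S2503

set_option autoImplicit false
open Cfsg

namespace Cfsg.Agent.S2475

open Matrix

section
variable {F : Type*} [Field F] [Fintype F]

local notation "SS" => Matrix.SpecialLinearGroup (Fin 2) F
local notation "MM" => Matrix (Fin 2) (Fin 2) F

theorem cayley (g : SS) : (g : MM) * (g : MM) = ((g : MM) 0 0 + (g : MM) 1 1) • (g : MM) - 1 := by
  have h := g.2
  rw [det_fin_two] at h
  ext i j
  fin_cases i <;> fin_cases j <;> simp [Matrix.mul_apply, Fin.sum_univ_two]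
  · linear_combination -h
  · ring
  · ring
  · linear_combination -h

/-- Powers of `g` are controlled by the powers of an eigenvalue. -/
theorem pow_eq_scalar {K : Type*} [Field K] [Algebra F K] (g : SS) {r s : K}
    (hr : r * r = algebraMap F K ((g : MM) 0 0 + (g : MM) 1 1) * r - 1)
    (hs : s * s = algebraMap F K ((g : MM) 0 0 + (g : MM) 1 1) * s - 1) (hrs : r ≠ s) (n : ℕ) {c : F}
    (hrn : r ^ n = algebraMap F K c) (hsn : s ^ n = algebraMap F K c) : ((g ^ n : SS) : MM) = c • 1 := by
  have key : ∀ k : ℕ, ∃ a b : F, ((g ^ k : SS) : MM) = a • (g : MM) + b • 1 ∧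
      r ^ k = algebraMap F K a * r + algebraMap F K b ∧ s ^ k = algebraMap F K a * s + algebraMap F K b := by
    intro k
    induction k with
    | zero => exact ⟨0, 1, by simp, by simp, by simp⟩
    | succ k ih =>
      obtain ⟨a, b, h1, h2, h3⟩ := ih
      refine ⟨a * ((g : MM) 0 0 + (g : MM) 1 1) + b, -a, ?_, ?_, ?_⟩
      · rw [pow_succ, Matrix.SpecialLinearGroup.coe_mul, h1, add_mul, smul_mul_assoc, smul_mul_assoc, one_mul, cayley,
          smul_sub, smul_smul]
        module
      · rw [pow_succ, h2, map_add, map_mul, map_neg]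
        linear_combination algebraMap F K a * hr
      · rw [pow_succ, h3, map_add, map_mul, map_neg]
        linear_combination algebraMap F K a * hs
  obtain ⟨a, b, h1, h2, h3⟩ := key n
  have ha : a = 0 := by
    apply (algebraMap F K).injective
    rw [map_zero]
    have : algebraMap F K a * (r - s) = 0 := by linear_combination -(h2.symm.trans hrn) * (-1 : K) + (h3.symm.trans hsn) * (-1 : K)
    exact (mul_eq_zero.mp this).resolve_right (sub_ne_zero.mpr hrs)
  rw [ha, map_zero, zero_mul, zero_add, hrn] at h2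
  rw [h1, ha, zero_smul, zero_add, (algebraMap F K).injective h2]

theorem mem_center_of_scalar (g : SS) {c : F} (h : (g : MM) = c • 1) : g ∈ Subgroup.center SS := by
  rw [Subgroup.mem_center_iff]
  intro x
  apply Subtype.ext
  simp [h]

theorem sq_one_of_mem_center {z : SS} (hz : z ∈ Subgroup.center SS) : z * z = 1 := by
  obtain ⟨r, hr, hz'⟩ := Matrix.SpecialLinearGroup.mem_center_iff.mp hz
  apply Subtype.ext
  rw [Matrix.SpecialLinearGroup.coe_mul, ← hz', ← map_mul, ← sq, show r ^ 2 = 1 by simpa using hr, map_one]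
  rfl

/-- The order of the image in `PSL₂` of an element whose powers contain `-1`. -/
theorem orderOf_mk_of_neg_one (h2 : (2 : F) ≠ 0) (x : SS) (h : -1 ∈ Subgroup.zpowers x) :
    orderOf (QuotientGroup.mk' (Subgroup.center SS) x) = orderOf x / 2 := by
  set m := orderOf (QuotientGroup.mk' (Subgroup.center SS) x)
  have hne : (-1 : SS) ≠ 1 := by
    intro h1
    have := congrArg (fun u : SS => (u : MM) 0 0) h1
    simp at this
    exact h2 (by linear_combination -this)
  obtain ⟨k, hk⟩ : ∃ k : ℕ, x ^ k = -1 := (isOfFinOrder_of_finite x).mem_powers_iff_mem_zpowers.mpr h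
  have hm : x ^ m ∈ Subgroup.center SS := by
    rw [← QuotientGroup.eq_one_iff]
    exact (map_pow (QuotientGroup.mk' (Subgroup.center SS)) x m).trans (pow_orderOf_eq_one _)
  have h2m : orderOf x ∣ m * 2 := orderOf_dvd_of_pow_eq_one (by rw [pow_mul, sq, sq_one_of_mem_center hm])
  have hd : m ∣ orderOf x := orderOf_map_dvd _ _
  have hkm : m ∣ k := orderOf_dvd_of_pow_eq_one (by
    rw [← map_pow, hk]
    exact (QuotientGroup.eq_one_iff _).mpr (mem_center_of_scalar _ (c := -1) (by simp)))
  rcases hd with ⟨j, hj⟩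
  have hm0 : 0 < m := orderOf_pos _
  have hj2 : j ∣ 2 := Nat.dvd_of_mul_dvd_mul_left hm0 (hj ▸ h2m)
  rcases (Nat.dvd_prime Nat.prime_two).1 hj2 with rfl | rfl
  · exfalso
    rw [mul_one] at hj
    obtain ⟨i, rfl⟩ := hkm
    rw [pow_mul, ← hj, pow_orderOf_eq_one, one_pow] at hk
    exact hne hk.symm
  · rw [hj]; omega

theorem forward (p : ℕ) [Fact p.Prime] [CharP F p] (g : SS) :
    (g ^ p ∈ Subgroup.center SS) ∨ (g ^ ((Fintype.card F - 1) / Nat.gcd 2 (Fintype.card F - 1)) ∈ Subgroup.center SS) ∨
      (g ^ ((Fintype.card F + 1) / Nat.gcd 2 (Fintype.card F - 1)) ∈ Subgroup.center SS) := by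
  set t := (g : MM) 0 0 + (g : MM) 1 1 with ht
  let K := AlgebraicClosure F
  haveI : CharP K p := charP_of_injective_algebraMap (algebraMap F K).injective p
  obtain ⟨r, hr0⟩ := IsAlgClosed.exists_eval₂_eq_zero (algebraMap F K)
      (Polynomial.X ^ 2 - Polynomial.C t * Polynomial.X + 1 : Polynomial F)
      (by rw [show (Polynomial.X ^ 2 - Polynomial.C t * Polynomial.X + 1 : Polynomial F).degree = 2 by compute_degree!]; decide)
  simp only [Polynomial.eval₂_add, Polynomial.eval₂_sub, Polynomial.eval₂_pow, Polynomial.eval₂_X, Polynomial.eval₂_mul, Polynomial.eval₂_C, Polynomial.eval₂_one] at hr0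
  have hr : r * r = algebraMap F K t * r - 1 := by linear_combination hr0
  have hrne : r ≠ 0 := by rintro rfl; simp at hr
  let s := algebraMap F K t - r
  have hrs : r * s = 1 := by simp only [s]; linear_combination -hr
  have hs : s * s = algebraMap F K t * s - 1 := by simp only [s]; linear_combination hr
  by_cases hne : r = s
  · -- repeated eigenvalue
    refine Or.inl ?_
    have hr1 : r * r = 1 := by rw [← hrs, ← hne]
    obtain ⟨c, hc, hct⟩ : ∃ c : F, c * c = 1 ∧ t = c + c := by
      rcases mul_self_eq_one_iff.mp hr1 with h | h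
      · refine ⟨1, one_mul 1, (algebraMap F K).injective ?_⟩
        rw [h] at hr; exact (show algebraMap F K t = 1 + 1 by linear_combination -hr).trans (by simp)
      · refine ⟨-1, by ring, (algebraMap F K).injective ?_⟩
        rw [h] at hr; exact (show algebraMap F K t = -1 + -1 by linear_combination hr).trans (by simp)
    have hN : ((g : MM) - c • 1) ^ 2 = 0 := by
      rw [sq, sub_mul, mul_sub, mul_sub, cayley, ← ht, hct, smul_mul_assoc, one_mul, Matrix.mul_smul, mul_one,
        smul_mul_smul_comm, one_mul, hc, one_smul]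
      module
    apply mem_center_of_scalar (c := c ^ p)
    rw [Matrix.SpecialLinearGroup.coe_pow, show (g : MM) = c • 1 + ((g : MM) - c • 1) by abel]
    haveI : CharP MM p := Matrix.charP p
    rw [add_pow_char_of_commute (p := p) (h := ((Commute.one_left ((g : MM) - c • 1)).smul_left c)), pow_eq_zero_of_le (Fact.out : p.Prime).two_le hN,
      add_zero, smul_pow, one_pow]
  obtain ⟨n, hpp, hn⟩ := FiniteField.card F p
  have hrq : r ^ Fintype.card F = r ∨ r ^ Fintype.card F = s := by
    have h1 : (algebraMap F K t) ^ Fintype.card F = algebraMap F K t := by rw [← map_pow, FiniteField.pow_card]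
    have h2 : (r * r) ^ Fintype.card F = algebraMap F K t * r ^ Fintype.card F - 1 := by
      rw [hr, hn, sub_pow_char_pow, mul_pow, one_pow, ← hn, h1]
    have h3 : (r ^ Fintype.card F - r) * (r ^ Fintype.card F - s) = 0 := by
      simp only [s]
      rw [mul_pow] at h2
      linear_combination h2 - hr
    rcases mul_eq_zero.mp h3 with h | h
    · exact Or.inl (sub_eq_zero.mp h)
    · exact Or.inr (sub_eq_zero.mp h)
  have fin : ∀ N : ℕ, r ^ N = 1 → g ^ (N / Nat.gcd 2 (Fintype.card F - 1)) ∈ Subgroup.center SS ∨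
      ¬ Nat.gcd 2 (Fintype.card F - 1) ∣ N := by
    intro N hN
    by_cases hdN : Nat.gcd 2 (Fintype.card F - 1) ∣ N
    swap
    · exact Or.inr hdN
    left
    obtain ⟨M, rfl⟩ := hdN
    rw [Nat.mul_div_cancel_left _ (Nat.gcd_pos_of_pos_left _ two_pos)]
    have hM : r ^ M * r ^ M = 1 := by
      rcases (Nat.dvd_prime Nat.prime_two).1 (Nat.gcd_dvd_left 2 (Fintype.card F - 1)) with h | h <;> rw [h] at hN
      · rw [one_mul] at hN; rw [hN, one_mul]
      · rw [← pow_add, ← two_mul]; exact hN
    have hsM : s ^ M = r ^ M := by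
      calc s ^ M = s ^ M * (r ^ M * r ^ M) := by rw [hM, mul_one]
        _ = (r * s) ^ M * r ^ M := by ring
        _ = r ^ M := by rw [hrs, one_pow, one_mul]
    rcases mul_self_eq_one_iff.mp hM with h | h
    · exact mem_center_of_scalar _ (pow_eq_scalar g hr hs hne M (c := 1) (by rw [h, map_one]) (by rw [hsM, h, map_one]))
    · exact mem_center_of_scalar _ (pow_eq_scalar g hr hs hne M (c := -1) (by rw [h, map_neg, map_one]) (by rw [hsM, h, map_neg, map_one]))
  right
  have hq := Fintype.one_lt_card (α := F)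
  rcases hrq with h | h
  · left
    refine (fin _ ?_).resolve_right (not_not_intro (Nat.gcd_dvd_right _ _))
    apply mul_left_cancel₀ hrne
    rw [← pow_succ', Nat.sub_add_cancel hq.le, h, mul_one]
  · right
    refine (fin _ ?_).resolve_right (not_not_intro ?_)
    · rw [pow_succ, h, mul_comm, hrs]
    · have := Nat.dvd_add (Nat.gcd_dvd_right 2 (Fintype.card F - 1)) (Nat.gcd_dvd_left 2 (Fintype.card F - 1))
      rwa [show Fintype.card F - 1 + 2 = Fintype.card F + 1 by omega] at this

end

/-- The set of element orders of PSL(2,q): let F be a finite field of characteristic p with q ≥ 4 elements and d = gcd(2, q − 1). The orders of elements of PSL(2,F) are exactly the divisors of p, of (q − 1)/d and of (q + 1)/d. -/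
theorem result {F : Type*} [Field F] [Fintype F] (p : ℕ) [Fact p.Prime] [CharP F p] (h4 : 4 ≤ Fintype.card F) :
    Set.range (orderOf : Matrix.ProjectiveSpecialLinearGroup (Fin 2) F → ℕ) =
      {m : ℕ | m ∣ p ∨ m ∣ (Fintype.card F - 1) / Nat.gcd 2 (Fintype.card F - 1) ∨ m ∣ (Fintype.card F + 1) / Nat.gcd 2 (Fintype.card F - 1)} := by
  classical
  set q := Fintype.card F with hq
  let π := QuotientGroup.mk' (Subgroup.center (Matrix.SpecialLinearGroup (Fin 2) F))
  ext m
  simp only [Set.mem_range, Set.mem_setOf_eq]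
  constructor
  · rintro ⟨y, rfl⟩
    obtain ⟨g, rfl⟩ := QuotientGroup.mk'_surjective _ y
    rcases forward p g with h | h | h <;> [left; (right; left); (right; right)] <;>
      exact orderOf_dvd_of_pow_eq_one ((map_pow π g _).symm.trans ((QuotientGroup.eq_one_iff _).mpr h))
  · suffices ∀ M : ℕ, (M = p ∨ M = (q - 1) / Nat.gcd 2 (q - 1) ∨ M = (q + 1) / Nat.gcd 2 (q - 1)) →
        ∃ y : Matrix.ProjectiveSpecialLinearGroup (Fin 2) F, orderOf y = M by
      intro hm
      obtain ⟨M, hM, hmM⟩ : ∃ M, (M = p ∨ M = (q - 1) / Nat.gcd 2 (q - 1) ∨ M = (q + 1) / Nat.gcd 2 (q - 1)) ∧ m ∣ M := by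
        rcases hm with h | h | h
        exacts [⟨_, Or.inl rfl, h⟩, ⟨_, Or.inr (Or.inl rfl), h⟩, ⟨_, Or.inr (Or.inr rfl), h⟩]
      obtain ⟨y, hy⟩ := this M hM
      have hM0 : orderOf y ≠ 0 := (orderOf_pos y).ne'
      exact ⟨y ^ (orderOf y / m), by rw [orderOf_pow_orderOf_div hM0 (hy ▸ hmM)]⟩
    obtain ⟨u, hu⟩ := IsCyclic.exists_generator (α := Fˣ)
    have hu' : orderOf u = q - 1 := by
      rw [orderOf_eq_card_of_forall_mem_zpowers hu, Nat.card_units, Nat.card_eq_fintype_card]
    let φ : Fˣ →* Matrix.SpecialLinearGroup (Fin 2) F :=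
      { toFun := fun a => ⟨!![(a : F), 0; 0, ((a⁻¹ : Fˣ) : F)], by simp [det_fin_two_of]⟩
        map_one' := by apply Subtype.ext; ext i j; fin_cases i <;> fin_cases j <;> simp
        map_mul' := fun a b => by
          apply Subtype.ext
          show !![((a * b : Fˣ) : F), 0; 0, (((a * b)⁻¹ : Fˣ) : F)] = !![(a : F), 0; 0, ((a⁻¹ : Fˣ) : F)] * !![(b : F), 0; 0, ((b⁻¹ : Fˣ) : F)]
          ext i j; fin_cases i <;> fin_cases j <;> simp [Matrix.mul_apply, Fin.sum_univ_two, mul_comm] }
    have hφ : Function.Injective φ := fun a b h => by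
      have := congrArg (fun x : Matrix.SpecialLinearGroup (Fin 2) F => (x : Matrix (Fin 2) (Fin 2) F) 0 0) h
      exact Units.ext this
    have hφu : orderOf (φ u) = q - 1 := by rw [orderOf_injective φ hφ, hu']
    rintro M (rfl | rfl | rfl)
    · let U : Matrix.SpecialLinearGroup (Fin 2) F := ⟨!![1, 1; 0, 1], by simp [det_fin_two_of]⟩
      refine ⟨π U, orderOf_eq_prime ?_ fun h => ?_⟩
      · have hU : ∀ k : ℕ, ((U ^ k : Matrix.SpecialLinearGroup (Fin 2) F) : Matrix (Fin 2) (Fin 2) F) = !![1, (k : F); 0, 1] := by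
          intro k
          induction k with
          | zero => ext i j; fin_cases i <;> fin_cases j <;> simp
          | succ k ih =>
            rw [pow_succ, Matrix.SpecialLinearGroup.coe_mul, ih]
            show _ * !![(1 : F), 1; 0, 1] = _
            ext i j; fin_cases i <;> fin_cases j <;> simp [Matrix.mul_apply, Fin.sum_univ_two, add_comm]
        rw [← map_pow, show U ^ M = 1 from Subtype.ext (by rw [hU, CharP.cast_eq_zero]; ext i j; fin_cases i <;> fin_cases j <;> simp), map_one]
      · obtain ⟨r, -, hr⟩ := Matrix.SpecialLinearGroup.mem_center_iff.mp ((QuotientGroup.eq_one_iff _).mp h)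
        have := congrFun (congrFun hr 0) 1
        simp [U] at this
    · by_cases h2 : (2 : F) = 0
      · haveI : CharP F 2 := CharTwo.of_one_ne_zero_of_two_eq_zero one_ne_zero h2
        have hev : 2 ∣ q := by
          obtain ⟨n, -, hn⟩ := FiniteField.card F 2
          rw [hq, hn]; exact dvd_pow_self 2 n.ne_zero
        have hb := Cfsg.Agent.S2507.center_bot (F := F) hev
        rw [show Nat.gcd 2 (q - 1) = 1 by
          rcases (Nat.dvd_prime Nat.prime_two).1 (Nat.gcd_dvd_left 2 (q - 1)) with h | h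
          · exact h
          · have := h ▸ Nat.gcd_dvd_right 2 (q - 1); omega, Nat.div_one, ← hφu]
        exact ⟨π (φ u), orderOf_injective π (by rw [← MonoidHom.ker_eq_bot_iff, QuotientGroup.ker_mk', hb]) _⟩
      · have hodd : ¬ 2 ∣ q := fun h => by
          obtain ⟨n, -, hn⟩ := FiniteField.card F p
          have hp2 : 2 ∣ p := Nat.prime_two.dvd_of_dvd_pow (hn ▸ hq ▸ h)
          obtain rfl := (Nat.prime_dvd_prime_iff_eq Nat.prime_two (Fact.out : p.Prime)).mp hp2
          exact h2 CharTwo.two_eq_zero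
        rw [show Nat.gcd 2 (q - 1) = 2 from Nat.gcd_eq_left (by omega), ← hφu]
        refine ⟨π (φ u), orderOf_mk_of_neg_one h2 _ ?_⟩
        obtain ⟨k, hk⟩ := hu (-1)
        refine ⟨k, ?_⟩
        show φ u ^ k = -1
        rw [← map_zpow, show u ^ k = -1 from hk]
        apply Subtype.ext
        change !![((-1 : Fˣ) : F), 0; 0, (((-1 : Fˣ)⁻¹ : Fˣ) : F)] = (-1 : Matrix (Fin 2) (Fin 2) F)
        ext i j; fin_cases i <;> fin_cases j <;> simp
    · by_cases h2 : (2 : F) = 0
      · haveI : CharP F 2 := CharTwo.of_one_ne_zero_of_two_eq_zero one_ne_zero h2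
        have hev : 2 ∣ q := by
          obtain ⟨n, -, hn⟩ := FiniteField.card F 2
          rw [hq, hn]; exact dvd_pow_self 2 n.ne_zero
        obtain ⟨A, B, hA, hAc, -⟩ := Cfsg.Agent.S2503.result (F := F) hev h4
        obtain ⟨a, ha⟩ := IsCyclic.exists_generator (α := A)
        rw [show Nat.gcd 2 (q - 1) = 1 by
          rcases (Nat.dvd_prime Nat.prime_two).1 (Nat.gcd_dvd_left 2 (q - 1)) with h | h
          · exact h
          · have := h ▸ Nat.gcd_dvd_right 2 (q - 1); omega, Nat.div_one]
        exact ⟨a, by rw [Subgroup.orderOf_coe, orderOf_eq_card_of_forall_mem_zpowers ha, hAc]⟩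
      · have hodd : ¬ 2 ∣ q := fun h => by
          obtain ⟨n, -, hn⟩ := FiniteField.card F p
          have hp2 : 2 ∣ p := Nat.prime_two.dvd_of_dvd_pow (hn ▸ hq ▸ h)
          obtain rfl := (Nat.prime_dvd_prime_iff_eq Nat.prime_two (Fact.out : p.Prime)).mp hp2
          exact h2 CharTwo.two_eq_zero
        obtain ⟨ε, hε⟩ := FiniteField.exists_nonsquare (F := F) (fun h => h2 (by
          haveI := ringChar.of_eq h; exact CharTwo.two_eq_zero))
        haveI := Cfsg.Lib.Classical.TwoDim.isCyclic_nsTorus (F := F) hε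
        obtain ⟨a, ha⟩ := IsCyclic.exists_generator (α := Cfsg.Lib.Classical.TwoDim.nsTorus ε)
        have hao : orderOf (a : Matrix.SpecialLinearGroup (Fin 2) F) = q + 1 := by
          rw [Subgroup.orderOf_coe, orderOf_eq_card_of_forall_mem_zpowers ha, Cfsg.Lib.Classical.TwoDim.card_nsTorus h2 hε]
        have hm : -1 ∈ Cfsg.Lib.Classical.TwoDim.nsTorus ε := by simp [Cfsg.Lib.Classical.TwoDim.mem_nsTorus]
        obtain ⟨k, hk⟩ := ha ⟨-1, hm⟩
        rw [show Nat.gcd 2 (q - 1) = 2 from Nat.gcd_eq_left (by omega), ← hao]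
        refine ⟨π a, orderOf_mk_of_neg_one h2 _ ⟨k, ?_⟩⟩
        exact congrArg Subtype.val hk

end Cfsg.Agent.S2475
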