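import Cfsg.Statements.S2330
import Cfsg.Agent.Lib.Classical.GLTwoForm
-- import your own Cfsg.Agent.* helpers here

set_option autoImplicit false
open Cfsg

namespace Cfsg.Agent.S2330

/-- Over a finite field with q elements, the general linear group GL₂ has exactly q² − 1 conjugacy classes. -/
theorem result {F : Type*} [Field F] [Fintype F] :
    Nat.card (ConjClasses (Matrix.GeneralLinearGroup (Fin 2) F)) = Fintype.card F ^ 2 - 1 := by
  classical
  let M2 := Matrix (Fin 2) (Fin 2) F
  let f : Fˣ ⊕ (F × Fˣ) → ConjClasses (Matrix.GeneralLinearGroup (Fin 2) F) := fun x =>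
    match x with
    | Sum.inl a => ConjClasses.mk (Matrix.GeneralLinearGroup.mkOfDetNeZero
        (Matrix.diagonal fun _ => (a : F)) (by simp))
    | Sum.inr p => ConjClasses.mk (Matrix.GeneralLinearGroup.mkOfDetNeZero
        !![0, -(p.2 : F); 1, p.1] (by simp [Matrix.det_fin_two]))
  have hinv : ∀ A B : Matrix.GeneralLinearGroup (Fin 2) F, ConjClasses.mk A = ConjClasses.mk B →
      (A : M2).trace = (B : M2).trace ∧ (A : M2).det = (B : M2).det ∧
      ∀ a : F, (A : M2) = Matrix.diagonal (fun _ => a) → (B : M2) = Matrix.diagonal fun _ => a := by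
    intro A B h
    obtain ⟨c, rfl⟩ := isConj_iff.1 (ConjClasses.mk_eq_mk_iff_isConj.1 h)
    refine ⟨?_, ?_, fun a ha => ?_⟩
    · rw [Units.val_mul, Units.val_mul, Matrix.trace_mul_comm, ← Matrix.mul_assoc, Units.inv_mul,
        Matrix.one_mul]
    · rw [Units.val_mul, Units.val_mul, Matrix.det_mul, Matrix.det_mul, mul_comm (c : M2).det,
        mul_assoc, ← Matrix.det_mul, Units.mul_inv, Matrix.det_one, mul_one]
    · rw [Units.val_mul, Units.val_mul, ha, ← Matrix.smul_one_eq_diagonal, Matrix.mul_smul,
        Matrix.smul_mul, Matrix.mul_one, Units.mul_inv]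
  have hf : Function.Bijective f := by
    refine ⟨?_, ?_⟩
    · rintro (a | p) (b | r) h <;> obtain ⟨h1, h2, h3⟩ := hinv _ _ h <;>
        simp only [Matrix.GeneralLinearGroup.mkOfDetNeZero, Matrix.GeneralLinearGroup.val_mk''] at h1 h2 h3
      · congr 1; apply Units.ext
        have := congrFun (congrFun (h3 _ rfl) 0) 0
        simpa using this.symm
      · exfalso
        have := congrFun (congrFun (h3 _ rfl) 1) 0
        simp at this
      · exfalso
        obtain ⟨-, -, h3'⟩ := hinv _ _ h.symm
        have := congrFun (congrFun (h3' _ rfl) 1) 0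
        simp [Matrix.GeneralLinearGroup.mkOfDetNeZero] at this
      · simp [Matrix.trace_fin_two] at h1
        simp [Matrix.det_fin_two] at h2
        congr 1
        exact Prod.ext h1 (Units.ext h2)
    · intro c
      induction c using Quotient.inductionOn with
      | h A =>
      by_cases hs : ∃ a : F, (A : M2) = Matrix.diagonal fun _ => a
      · obtain ⟨a, ha⟩ := hs
        have ha0 : a ≠ 0 := by
          intro h0
          have : (A : M2).det ≠ 0 := Matrix.det_ne_zero_of_right_inverse (Units.mul_inv A)
          rw [ha, Matrix.det_diagonal, h0] at this; simp at this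
        refine ⟨Sum.inl (Units.mk0 a ha0), congrArg ConjClasses.mk ?_⟩
        apply Units.ext; rw [ha]; rfl
      · push Not at hs
        obtain ⟨P, hP, hPA⟩ := GLTwoForm.exists_companion (A : M2) hs
        have hd0 : (A : M2).det ≠ 0 := Matrix.det_ne_zero_of_right_inverse (Units.mul_inv A)
        refine ⟨Sum.inr ((A : M2).trace, Units.mk0 _ hd0), ?_⟩
        apply ConjClasses.mk_eq_mk_iff_isConj.2
        rw [isConj_iff]
        refine ⟨Matrix.GeneralLinearGroup.mkOfDetNeZero P hP, mul_inv_eq_iff_eq_mul.2 ?_⟩
        apply Units.ext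
        exact hPA.symm
  rw [← Nat.card_congr (Equiv.ofBijective f hf), Nat.card_sum, Nat.card_prod, Nat.card_units,
    Nat.card_eq_fintype_card]
  have : 1 ≤ Fintype.card F := Fintype.card_pos
  obtain ⟨q, hq⟩ := Nat.exists_eq_add_of_le this
  rw [hq]; simp only [Nat.add_sub_cancel_left]
  have : (1 + q) ^ 2 = q + (1 + q) * q + 1 := by ring
  omega

end Cfsg.Agent.S2330
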