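import Cfsg.Statements.S2308
import Cfsg.Agent.Lib.Classical.ProjLineCosets
-- import your own Cfsg.Agent.* helpers here

set_option autoImplicit false
open Cfsg

namespace Cfsg.Agent.S2308

/-- Values of the permutation character of GL₂ over a finite field F with q elements on the cosets of its upper triangular subgroup (equivalently, the number of lines of F² that an element maps to themselves): q + 1 at a scalar matrix, 2 at a diagonal matrix with two different diagonal entries, 0 at an element with no eigenvector in F², and 1 at an upper triangular matrix with equal diagonal entries and non-zero upper right entry. -/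
theorem result {F : Type*} [Field F] [Fintype F] (g : Matrix.GeneralLinearGroup (Fin 2) F) :
    ((∃ a : F, (g : Matrix (Fin 2) (Fin 2) F) = a • (1 : Matrix (Fin 2) (Fin 2) F)) → Cfsg.fixedPointCharacter (Cfsg.upperTriangularGL 2 F) g = Fintype.card F + 1) ∧
    ((g : Matrix (Fin 2) (Fin 2) F) 0 1 = 0 → (g : Matrix (Fin 2) (Fin 2) F) 1 0 = 0 → (g : Matrix (Fin 2) (Fin 2) F) 0 0 ≠ (g : Matrix (Fin 2) (Fin 2) F) 1 1 →
      Cfsg.fixedPointCharacter (Cfsg.upperTriangularGL 2 F) g = 2) ∧
    ((∀ (c : F) (v : Fin 2 → F), v ≠ 0 → (g : Matrix (Fin 2) (Fin 2) F).mulVec v ≠ c • v) → Cfsg.fixedPointCharacter (Cfsg.upperTriangularGL 2 F) g = 0) ∧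
    ((g : Matrix (Fin 2) (Fin 2) F) 1 0 = 0 → (g : Matrix (Fin 2) (Fin 2) F) 0 0 = (g : Matrix (Fin 2) (Fin 2) F) 1 1 → (g : Matrix (Fin 2) (Fin 2) F) 0 1 ≠ 0 →
      Cfsg.fixedPointCharacter (Cfsg.upperTriangularGL 2 F) g = 1) := by
  classical
  rw [Cfsg.Lib.Classical.ProjLine.fixedPointCharacter_eq]
  refine ⟨?_, ?_, ?_, ?_⟩
  · rintro ⟨a, ha⟩
    simp [ha, add_comm]
  · intro h01 h10 hne
    have h : (Finset.univ.filter fun t : F => (g : Matrix (Fin 2) (Fin 2) F) 1 0 * t ^ 2 +
        ((g : Matrix (Fin 2) (Fin 2) F) 1 1 - (g : Matrix (Fin 2) (Fin 2) F) 0 0) * t - (g : Matrix (Fin 2) (Fin 2) F) 0 1 = 0) = {0} := by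
      ext t
      simp [h01, h10, sub_eq_zero, Ne.symm hne]
    rw [h, if_pos h10]
    norm_num
  · intro hev
    have h10 : (g : Matrix (Fin 2) (Fin 2) F) 1 0 ≠ 0 := fun h10 =>
      hev ((g : Matrix (Fin 2) (Fin 2) F) 0 0) ![1, 0] (fun h => one_ne_zero (congrFun h 0))
        (by ext i; fin_cases i <;> simp [Matrix.mulVec, dotProduct, Fin.sum_univ_two, h10])
    have h : (Finset.univ.filter fun t : F => (g : Matrix (Fin 2) (Fin 2) F) 1 0 * t ^ 2 +
        ((g : Matrix (Fin 2) (Fin 2) F) 1 1 - (g : Matrix (Fin 2) (Fin 2) F) 0 0) * t - (g : Matrix (Fin 2) (Fin 2) F) 0 1 = 0) = ∅ := by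
      refine Finset.filter_eq_empty_iff.2 fun t _ ht => ?_
      refine hev ((g : Matrix (Fin 2) (Fin 2) F) 1 0 * t + (g : Matrix (Fin 2) (Fin 2) F) 1 1) ![t, 1] (fun h => one_ne_zero (congrFun h 1)) ?_
      ext i
      fin_cases i <;> simp [Matrix.mulVec, dotProduct, Fin.sum_univ_two]
      linear_combination -ht
    rw [h, if_neg h10]
    simp
  · intro h10 hd h01
    simp [h10, hd, h01]

end Cfsg.Agent.S2308
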