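import Cfsg.Statements.S0095
import Mathlib
import Cfsg.Agent.Lib.Transfer.Critical
-- import your own Cfsg.Agent.* helpers here

set_option autoImplicit false
open Cfsg
open scoped commutatorElement

namespace Cfsg.Agent.S0095

/-- The order of an extraspecial p-group is an odd power p^(2n+1) of p with n ≥ 1. -/
theorem result {P : Type*} [Group P] [Finite P] {p : ℕ} [Fact p.Prime] (h : Cfsg.IsExtraspecial p P) : ∃ n : ℕ, 1 ≤ n ∧ Nat.card P = p ^ (2 * n + 1) := by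
  classical
  obtain ⟨⟨hP, hΦ, hD⟩, hZ⟩ := h
  set Z := Subgroup.center P with hZdef
  letI : CommGroup Z := { (inferInstance : Group Z) with
    mul_comm := fun a b => Subtype.ext (Subgroup.mem_center_iff.1 b.2 a.1) }
  haveI : Fact (Nat.card Z).Prime := ⟨hZ.symm ▸ Fact.out⟩
  have hcz : ∀ a b : P, ⁅a, b⁆ ∈ Z := fun a b =>
    hD ▸ Subgroup.commutator_mem_commutator (Subgroup.mem_top a) (Subgroup.mem_top b)
  let φ : P → (P →* Z) := fun y => MonoidHom.mk' (fun x => ⟨⁅x, y⁆, hcz x y⟩) fun a b => Subtype.ext (by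
    calc ⁅a * b, y⁆ = a * ⁅b, y⁆ * a⁻¹ * ⁅a, y⁆ := by simp only [commutatorElement_def]; group
      _ = ⁅b, y⁆ * ⁅a, y⁆ := by rw [Subgroup.mem_center_iff.1 (hcz b y) a, mul_inv_cancel_right]
      _ = ⁅a, y⁆ * ⁅b, y⁆ := Subgroup.mem_center_iff.1 (hcz a y) _)
  have hφ : ∀ x y : P, φ y x = 1 ↔ x * y = y * x := fun x y => by
    rw [← commutatorElement_eq_one_iff_mul_comm]
    exact ⟨fun e => congrArg Subtype.val e, fun e => Subtype.ext e⟩
  suffices key : ∀ m : ℕ, ∀ H : Subgroup P, Nat.card H = m → Z ≤ H →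
      (∀ x ∈ H, (∀ y ∈ H, x * y = y * x) → x ∈ Z) → ∃ n, Nat.card H = p ^ (2 * n + 1) by
    obtain ⟨n, hn⟩ := key _ ⊤ rfl le_top (fun x _ hx => Subgroup.mem_center_iff.2 fun y => (hx y (Subgroup.mem_top y)).symm)
    rw [Subgroup.card_top] at hn
    refine ⟨n, ?_, hn⟩
    by_contra h0
    have hn0 : n = 0 := by omega
    subst hn0
    have htop : Z = ⊤ := Subgroup.eq_top_of_card_eq Z (by rw [hZ, hn]; simp)
    have hc : commutator P = ⊥ := by
      rw [commutator_def, Subgroup.commutator_eq_bot_iff_le_centralizer, Subgroup.coe_top, Subgroup.centralizer_univ]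
      exact htop.ge
    rw [hD] at hc
    rw [hc, Subgroup.card_bot] at hZ
    exact (Fact.out : p.Prime).ne_one hZ.symm
  intro m
  induction m using Nat.strong_induction_on with
  | _ m ih =>
  intro H hm hZH hnd
  by_cases hHZ : H = Z
  · exact ⟨0, by rw [hHZ, hZ]; simp⟩
  obtain ⟨x, hxH, hxZ⟩ := SetLike.exists_of_lt (lt_of_le_of_ne hZH (Ne.symm hHZ))
  obtain ⟨y, hyH, hxy⟩ : ∃ y ∈ H, x * y ≠ y * x := by
    by_contra hno
    exact hxZ (hnd x hxH fun y hy => by_contra fun h => hno ⟨y, hy, h⟩)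
  let ψ : H →* Z × Z := ((φ x).prod (φ y)).comp H.subtype
  have hsur' : ∀ q : Z × Z, ∃ i j : ℤ, ψ (⟨x, hxH⟩ ^ j * ⟨y, hyH⟩ ^ i) = q := by
    have hgen : ∀ c : Z, c ≠ 1 → Subgroup.zpowers c = ⊤ := fun c hc => zpowers_eq_top_of_prime_card rfl hc
    have hc : φ y x ≠ 1 := fun e => hxy ((hφ x y).1 e)
    have hc' : φ x y ≠ 1 := fun e => hxy ((hφ y x).1 e).symm
    have h1 : ψ ⟨x, hxH⟩ = (1, φ y x) := Prod.ext ((hφ x x).2 rfl) rfl
    have h2 : ψ ⟨y, hyH⟩ = (φ x y, 1) := Prod.ext rfl ((hφ y y).2 rfl)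
    rintro ⟨u, v⟩
    obtain ⟨i, hi⟩ := Subgroup.mem_zpowers_iff.1 (show u ∈ Subgroup.zpowers (φ x y) by rw [hgen _ hc']; trivial)
    obtain ⟨j, hj⟩ := Subgroup.mem_zpowers_iff.1 (show v ∈ Subgroup.zpowers (φ y x) by rw [hgen _ hc]; trivial)
    exact ⟨i, j, by rw [map_mul, map_zpow, map_zpow, h1, h2]; simp [hi, hj]⟩
  have hsur : Function.Surjective ψ := fun q => (hsur' q).elim fun i h => h.elim fun j h => ⟨_, h⟩
  have hidx : ψ.ker.index = p * p := by
    rw [Subgroup.index_ker, MonoidHom.range_eq_top.2 hsur, Subgroup.card_top, Nat.card_prod, hZ]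
  let H1 : Subgroup P := ψ.ker.map H.subtype
  have hmem : ∀ z, z ∈ H1 ↔ z ∈ H ∧ z * x = x * z ∧ z * y = y * z := by
    intro z
    constructor
    · rintro ⟨w, hw, rfl⟩
      have := Prod.ext_iff.1 (show ψ w = 1 from hw)
      exact ⟨w.2, (hφ _ _).1 this.1, (hφ _ _).1 this.2⟩
    · rintro ⟨hz, h1, h2⟩
      exact ⟨⟨z, hz⟩, Prod.ext ((hφ _ _).2 h1) ((hφ _ _).2 h2), rfl⟩
  have hcard : Nat.card H = p ^ 2 * Nat.card H1 := by
    rw [← ψ.ker.card_mul_index, hidx, Subgroup.card_map_of_injective H.subtype_injective]; ring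
  have hlt : Nat.card H1 < m := by
    rw [← hm, hcard]
    exact lt_mul_left Nat.card_pos (Nat.one_lt_pow two_ne_zero (Fact.out : p.Prime).one_lt)
  obtain ⟨n, hn⟩ := ih _ hlt H1 rfl
    (fun z hz => (hmem z).2 ⟨hZH hz, (Subgroup.mem_center_iff.1 hz x).symm, (Subgroup.mem_center_iff.1 hz y).symm⟩)
    (fun z hz hzc => by
      obtain ⟨hzH, hzx, hzy⟩ := (hmem z).1 hz
      refine hnd z hzH fun w hw => ?_
      obtain ⟨i, j, hij⟩ := hsur' (ψ ⟨w, hw⟩)
      set s : H := ⟨x, hxH⟩ ^ j * ⟨y, hyH⟩ ^ i with hsdef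
      have hker : ((⟨w, hw⟩ : H) * s⁻¹ : H) ∈ ψ.ker := by rw [MonoidHom.mem_ker, map_mul, map_inv, hij, mul_inv_cancel]
      have h1 : Commute z (w * ((s : H) : P)⁻¹) := hzc _ ⟨_, hker, rfl⟩
      have h2 : Commute z ((s : H) : P) := by
        rw [hsdef, Subgroup.coe_mul, SubgroupClass.coe_zpow, SubgroupClass.coe_zpow]
        exact ((show Commute z x from hzx).zpow_right j).mul_right ((show Commute z y from hzy).zpow_right i)
      have h3 := h1.mul_right h2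
      rwa [inv_mul_cancel_right] at h3)
  exact ⟨n + 1, by rw [hcard, hn, ← pow_add]; congr 1; ring⟩

end Cfsg.Agent.S0095
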