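import Cfsg.Statements.S4304
import Mathlib
import Cfsg.Agent.Lib.Transfer.Action
import Cfsg.Agent.Lib.Solv.MinNormal
import Cfsg.Agent.Lib.Characters.Burnside

set_option autoImplicit false
set_option maxHeartbeats 1000000
open Cfsg Cfsg.Lib MulAction
open scoped Pointwise

namespace Cfsg.Agent.S4304

universe u

/-- The smallest prime, with a small Sylow subgroup, has a normal complement. -/
theorem npc_of_small {K : Type u} [Group K] [Finite K] {p : ℕ} [hp : Fact p.Prime] (P : Sylow p K)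
    (hcard : Nat.card (P : Subgroup K) ∣ p ^ 2)
    (h : ∀ r : ℕ, r.Prime → r ∣ Nat.card K → r ≠ p → p < r ∧ ∀ j ≤ 1, p ^ j % r ≠ Nat.card (P : Subgroup K) % r ∨ Nat.card (P : Subgroup K) ≤ p ^ j) :
    HasNormalPComplement p K := by
  refine Transfer.hasNormalPComplement_of_normalizer_le_centralizer P fun g hg => ?_
  obtain ⟨j0, hj0, hc⟩ := (Nat.dvd_prime_pow hp.out).1 hcard
  refine Transfer.mem_centralizer_of_prime_parts fun r hr y hy ⟨k, hk⟩ => ?_
  have hyN : y ∈ Subgroup.normalizer ((P : Subgroup K) : Set K) := Subgroup.zpowers_le.2 hg hy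
  have hyp : IsPGroup r (Subgroup.zpowers y) := IsPGroup.of_card (n := k) (by rw [Nat.card_zpowers, hk])
  have hab : ∀ a ∈ (P : Subgroup K), ∀ b ∈ (P : Subgroup K), a * b = b * a := by
    rcases lt_or_eq_of_le hj0 with hlt | heq
    · haveI : IsCyclic (P : Subgroup K) := by
        interval_cases j0
        · haveI : Subsingleton (P : Subgroup K) := (Nat.card_eq_one_iff_unique.1 (by rw [hc, pow_zero])).1
          infer_instance
        · exact isCyclic_of_prime_card (by rw [hc, pow_one])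
      exact fun a ha b hb => congrArg Subtype.val (IsCyclic.commutative.is_comm.comm (⟨a, ha⟩ : (P : Subgroup K)) ⟨b, hb⟩)
    · subst heq
      exact fun a ha b hb => congrArg Subtype.val ((IsPGroup.isMulCommutative_of_card_eq_prime_sq hc).is_comm.comm (⟨a, ha⟩ : (P : Subgroup K)) ⟨b, hb⟩)
  by_cases hrp : r = p
  · subst hrp
    have h1 : IsPGroup r ↥(Subgroup.zpowers y ⊔ (P : Subgroup K)) :=
      IsPGroup.to_sup_of_normal_right' hyp P.isPGroup' (Subgroup.zpowers_le.2 hyN)
    have hyP : y ∈ (P : Subgroup K) :=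
      (P.is_maximal' h1 le_sup_right).le (Subgroup.mem_sup_left (Subgroup.mem_zpowers y))
    exact Subgroup.mem_centralizer_iff.2 fun a ha => hab a ha y hyP
  · by_cases hy1 : y = 1
    · rw [hy1]; exact one_mem _
    have hrd : r ∣ Nat.card K := by
      refine dvd_trans ?_ (orderOf_dvd_natCard y)
      rw [hk]
      exact dvd_pow_self r fun k0 => hy1 (orderOf_eq_one_iff.1 (by rw [hk, k0, pow_zero]))
    haveI := Fact.mk hr
    have hmod := Transfer.card_modEq_card_inf_centralizer (p := r) (P : Subgroup K) (Subgroup.zpowers y) hyp (Subgroup.zpowers_le.2 hyN)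
    obtain ⟨i, hi, hci⟩ := (Nat.dvd_prime_pow hp.out).1 (hc ▸ Subgroup.card_dvd_of_le
      (inf_le_left : (P : Subgroup K) ⊓ Subgroup.centralizer (Subgroup.zpowers y : Set K) ≤ P))
    rw [hci] at hmod
    have hle : Nat.card (P : Subgroup K) ≤ p ^ i := by
      by_cases hi1 : i ≤ 1
      · exact ((h r hr hrd hrp).2 i hi1).resolve_left fun hne => hne hmod.symm
      · rw [hc]; exact Nat.pow_le_pow_right hp.out.pos (by omega)
    have heq := Subgroup.eq_of_le_of_card_ge (inf_le_left : (P : Subgroup K) ⊓ Subgroup.centralizer (Subgroup.zpowers y : Set K) ≤ P) (hci ▸ hle)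
    exact Subgroup.mem_centralizer_iff.2 fun a ha =>
      (Subgroup.mem_centralizer_iff.1 (heq.ge ha).2 y (Subgroup.mem_zpowers y)).symm

theorem solvable_of_dvd {K : Type u} [Group K] [Finite K] (h : Nat.card K ∣ 630) : Group.IsSolvable K := by
  have hprimes : ∀ r : ℕ, r.Prime → r ∣ Nat.card K → r = 2 ∨ r = 3 ∨ r = 5 ∨ r = 7 := by
    intro r hr hrd
    have h1 : r ∣ 2 * (3 * 3 * 5 * 7) := hrd.trans h
    simp only [hr.dvd_mul, Nat.prime_dvd_prime_iff_eq hr Nat.prime_two, Nat.prime_dvd_prime_iff_eq hr Nat.prime_three,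
      Nat.prime_dvd_prime_iff_eq hr Nat.prime_five, Nat.prime_dvd_prime_iff_eq hr (by norm_num : Nat.Prime 7)] at h1
    tauto
  haveI : Fact (Nat.Prime 2) := ⟨Nat.prime_two⟩
  haveI : Fact (Nat.Prime 3) := ⟨Nat.prime_three⟩
  obtain ⟨P⟩ : Nonempty (Sylow 2 K) := inferInstance
  have hP : Nat.card (P : Subgroup K) ∣ 2 := by
    obtain ⟨j, hj⟩ := IsPGroup.iff_card.1 P.isPGroup'
    have h1 : 2 ^ j ∣ 630 := hj ▸ (Subgroup.card_subgroup_dvd_card _).trans h
    rw [hj]
    rcases j with _ | _ | j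
    · norm_num
    · norm_num
    · exact absurd ((Nat.pow_dvd_pow 2 (by omega : 2 ≤ j + 1 + 1)).trans h1) (by norm_num)
  have hn2 : HasNormalPComplement 2 K := by
    refine npc_of_small P (hP.trans (by norm_num)) fun r hr hrd hr2 => ⟨lt_of_le_of_ne hr.two_le (Ne.symm hr2), ?_⟩
    intro j hj
    rcases (Nat.dvd_prime Nat.prime_two).1 hP with e | e <;> rcases hprimes r hr hrd with rfl | rfl | rfl | rfl <;>
      interval_cases j <;> first | (exact absurd rfl hr2) | (rw [e]; norm_num)
  rw [Transfer.hasNormalPComplement_iff_pResidual] at hn2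
  haveI := Transfer.pResidual_normal (G := K) 2
  obtain ⟨k, hk⟩ := Transfer.exists_index_pResidual_eq_pow (G := K) (p := 2)
  set L := pResidual 2 K
  have hq : Group.IsSolvable (K ⧸ L) := by
    haveI := (IsPGroup.of_card (p := 2) (G := K ⧸ L) hk).isNilpotent
    infer_instance
  refine (Group.isSolvable_iff_subgroup_quotient L).2 ⟨?_, hq⟩
  have hL : Nat.card L ∣ 315 := by
    have h1 : Nat.card L ∣ 2 * 315 := (Subgroup.card_subgroup_dvd_card L).trans h
    exact hn2.dvd_of_dvd_mul_left h1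
  obtain ⟨Q⟩ : Nonempty (Sylow 3 L) := inferInstance
  have hQ : Nat.card (Q : Subgroup L) ∣ 3 ^ 2 := by
    obtain ⟨j, hj⟩ := IsPGroup.iff_card.1 Q.isPGroup'
    have h1 : 3 ^ j ∣ 3 ^ 2 * 35 := hj ▸ (Subgroup.card_subgroup_dvd_card _).trans hL
    rw [hj]
    exact (Nat.Coprime.pow_left j (by norm_num)).dvd_of_dvd_mul_right h1
  have hn3 : HasNormalPComplement 3 L := by
    refine npc_of_small Q hQ fun r hr hrd hr3 => ?_
    have hr2 : r ≠ 2 := by rintro rfl; exact absurd (hrd.trans hL) (by norm_num)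
    have hr' : r = 5 ∨ r = 7 := by
      rcases hprimes r hr (hrd.trans (Subgroup.card_subgroup_dvd_card L)) with e | e | e | e <;> simp_all
    refine ⟨by rcases hr' with rfl | rfl <;> norm_num, fun j hj => ?_⟩
    obtain ⟨i, hi, e⟩ := (Nat.dvd_prime_pow Nat.prime_three).1 hQ
    rcases hr' with rfl | rfl <;> interval_cases i <;> interval_cases j <;> (rw [e]; norm_num)
  rw [Transfer.hasNormalPComplement_iff_pResidual] at hn3
  haveI := Transfer.pResidual_normal (G := L) 3
  obtain ⟨k', hk'⟩ := Transfer.exists_index_pResidual_eq_pow (G := L) (p := 3)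
  have hq' : Group.IsSolvable (L ⧸ pResidual 3 L) := by
    haveI := (IsPGroup.of_card (p := 3) (G := L ⧸ pResidual 3 L) hk').isNilpotent
    infer_instance
  refine (Group.isSolvable_iff_subgroup_quotient (pResidual 3 L)).2 ⟨?_, hq'⟩
  have hR : Nat.card (pResidual 3 L) ∣ 35 := by
    have h1 : Nat.card (pResidual 3 L) ∣ 3 ^ 2 * 35 := (Subgroup.card_subgroup_dvd_card _).trans hL
    exact (Nat.Coprime.pow_right 2 hn3).dvd_of_dvd_mul_left h1
  obtain ⟨a, b, ha, hb, e⟩ : ∃ a b, a ≤ 1 ∧ b ≤ 1 ∧ Nat.card (pResidual 3 L) = 5 ^ a * 7 ^ b := by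
    have h2 : Nat.card (pResidual 3 L) ∈ Nat.divisors 35 := Nat.mem_divisors.2 ⟨hR, by norm_num⟩
    rw [show Nat.divisors 35 = {1, 5, 7, 35} by decide] at h2
    simp only [Finset.mem_insert, Finset.mem_singleton] at h2
    rcases h2 with e | e | e | e
    · exact ⟨0, 0, by norm_num, by norm_num, e⟩
    · exact ⟨1, 0, le_rfl, by norm_num, e⟩
    · exact ⟨0, 1, by norm_num, le_rfl, e⟩
    · exact ⟨1, 1, le_rfl, le_rfl, e⟩
  exact Characters.isSolvable_of_card_eq_pow_mul_pow Nat.prime_five (by norm_num : Nat.Prime 7) _ _ rfl ⟨a, b, e⟩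

variable {X : Type u} [Fintype X] [DecidableEq X]

theorem no_group {Γ : Subgroup (Equiv.Perm X)} (hX : Nat.card X = 15) [hp : Fact (Nat.Prime 7)]
    (htr : IsPretransitive Γ X) (P : Sylow 7 Γ) (x0 : X)
    (hfix : ∀ x : X, (∀ a ∈ (P : Subgroup Γ), a • x = x) ↔ x = x0)
    (hstab : stabilizer Γ x0 ≤ Subgroup.normalizer ((P : Subgroup Γ) : Set Γ)) : False := by
  classical
  set PS := (P : Subgroup Γ)
  have hPx0 : ∀ a ∈ PS, a • x0 = x0 := (hfix x0).2 rfl
  let O : X → Set X := fun x => MulAction.orbit PS x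
  have hO7 : ∀ x, x ≠ x0 → (O x).ncard = 7 := by
    intro x hx
    obtain ⟨j, hj⟩ := P.isPGroup'.card_orbit x
    rw [Nat.card_coe_set_eq] at hj
    change (O x).ncard = 7 ^ j at hj
    have hle : (O x).ncard ≤ 15 := hX ▸ Set.ncard_le_card (O x)
    rcases j with _ | _ | j
    · exfalso
      refine hx ((hfix x).1 fun a ha => ?_)
      obtain ⟨y, hy⟩ := Set.ncard_eq_one.1 hj
      have h1 : a • x ∈ O x := ⟨⟨a, ha⟩, rfl⟩
      have h2 : x ∈ O x := MulAction.mem_orbit_self x
      rw [hy] at h1 h2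
      exact h1.trans h2.symm
    · exact hj
    · rw [hj] at hle
      have h49 : (7 : ℕ) ^ 2 ≤ 7 ^ (j + 1 + 1) := Nat.pow_le_pow_right (by norm_num) (by omega)
      exact absurd (h49.trans hle) (by norm_num)
  have hx0O : ∀ x, x ≠ x0 → x0 ∉ O x := by
    rintro x hx ⟨a, ha⟩
    refine hx ?_
    have := congrArg (fun z => (a⁻¹ : PS) • z) ha
    simp only [inv_smul_smul] at this
    rw [this]
    exact hPx0 _ (a⁻¹).2
  have hcover : ∀ x y z, x ≠ x0 → y ≠ x0 → y ∉ O x → z ≠ x0 → z ∈ O x ∨ z ∈ O y := by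
    intro x y z hx hy hxy hz
    have hd : Disjoint (O x) (O y) := (MulAction.orbit.eq_or_disjoint x y).resolve_left fun e => hxy (show y ∈ O x by
      show y ∈ MulAction.orbit PS x; rw [e]; exact MulAction.mem_orbit_self y)
    have h1 : (insert x0 (O x ∪ O y)).ncard = Nat.card X := by
      rw [Set.ncard_insert_of_notMem (fun h => h.elim (hx0O x hx) (hx0O y hy)), Set.ncard_union_eq hd, hO7 x hx, hO7 y hy, hX]
    have h2 := Set.eq_of_subset_of_ncard_le (Set.subset_univ (insert x0 (O x ∪ O y))) (by rw [Set.ncard_univ, h1]) (Set.toFinite _)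
    have h3 := h2.ge (Set.mem_univ z)
    rcases h3 with h | h
    · exact absurd h hz
    · exact h
  have hmap : ∀ g : Γ, g • x0 = x0 → ∀ x : X, ∀ z ∈ O x, g • z ∈ O (g • x) := by
    rintro g hg x z ⟨a, rfl⟩
    have hn : g * (a : Γ) * g⁻¹ ∈ PS := (Subgroup.mem_normalizer_iff.1 (hstab hg) (a : Γ)).1 a.2
    refine ⟨⟨_, hn⟩, ?_⟩
    show (g * (a : Γ) * g⁻¹) • g • x = g • ((a : Γ) • x)
    rw [mul_smul, mul_smul, inv_smul_smul]
  have hne0 : ∀ g : Γ, g • x0 = x0 → ∀ x, x ≠ x0 → g • x ≠ x0 := fun g hg x hx e =>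
    hx ((smul_left_cancel_iff g).1 (e.trans hg.symm))
  have hOeq : ∀ {x y : X}, y ∈ O x → O y = O x := fun {x y} h => MulAction.orbit_eq_iff.2 h
  -- elements of odd order preserve the orbits
  have hodd : ∀ g : Γ, g • x0 = x0 → ∀ n : ℕ, Odd n → g ^ n = 1 → ∀ x, x ≠ x0 → g • x ∈ O x := by
    intro g hg n hn hgn x hx
    by_contra hgx
    set y := g • x
    have hy := hne0 g hg x hx
    have hz := hne0 g hg y hy
    have h2 : g • y ∈ O x := by
      rcases hcover x y (g • y) hx hy hgx hz with h | h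
      · exact h
      · exfalso
        refine hgx ?_
        have h1 := hmap g⁻¹ (by rw [inv_smul_eq_iff, hg]) y (g • y) h
        simp only [y, inv_smul_smul] at h1
        exact h1
    have hk : ∀ k, (g ^ (2 * k)) • x ∈ O x := by
      intro k
      induction k with
      | zero => rw [mul_zero, pow_zero, one_smul]; exact MulAction.mem_orbit_self x
      | succ k ih =>
        have h1 : (g ^ 2) • x ∈ O x := by rw [pow_two, mul_smul]; exact h2
        have h3 := hmap (g ^ 2) (by rw [pow_two, mul_smul, hg, hg]) x _ ih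
        rw [hOeq h1, ← mul_smul, ← pow_add] at h3
        rwa [mul_add, mul_one, add_comm]
    obtain ⟨m, rfl⟩ := hn
    have h4 := hk (m + 1)
    rw [show 2 * (m + 1) = 2 * m + 1 + 1 by ring, pow_succ, mul_smul] at h4
    rw [hgn, one_smul] at h4
    exact hgx h4
  -- primitivity
  have hPne : PS ≠ ⊥ := by
    intro e
    obtain ⟨x, hx⟩ : ∃ x, x ≠ x0 := Fintype.exists_ne_of_one_lt_card (by rw [← Nat.card_eq_fintype_card, hX]; norm_num) x0
    exact hx ((hfix x).1 fun a ha => by rw [e] at ha; rw [Subgroup.mem_bot.1 ha, one_smul])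
  haveI := htr
  haveI hprim : IsPreprimitive Γ X := by
    refine IsPreprimitive.of_isTrivialBlock_base x0 fun {B} hB hblock => ?_
    have hinv : ∀ a ∈ PS, a • B = B := fun a ha =>
      hblock.smul_eq_of_mem hB (by rw [hPx0 a ha]; exact hB)
    have hcl : ∀ x ∈ B, O x ⊆ B := by
      rintro x hx _ ⟨a, rfl⟩
      rw [← hinv a a.2]
      exact Set.smul_mem_smul_set hx
    have hdvd := hblock.ncard_dvd_card ⟨x0, hB⟩
    rw [hX] at hdvd
    by_cases h1 : B = {x0}
    · exact Or.inl (h1 ▸ Set.subsingleton_singleton)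
    right
    obtain ⟨x, hxB, hx⟩ : ∃ x ∈ B, x ≠ x0 := by
      by_contra hc
      push Not at hc
      exact h1 (Set.eq_singleton_iff_unique_mem.2 ⟨hB, hc⟩)
    have h8 : 8 ≤ B.ncard := by
      have h2 : insert x0 (O x) ⊆ B := Set.insert_subset hB (hcl x hxB)
      have h3 := Set.ncard_le_ncard h2
      rw [Set.ncard_insert_of_notMem (hx0O x hx), hO7 x hx] at h3
      exact h3
    have h15 : B.ncard = 15 := by
      have := Nat.le_of_dvd (by norm_num) hdvd
      interval_cases hn : B.ncard <;> simp_all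
    exact Set.eq_of_subset_of_ncard_le (Set.subset_univ _) (by rw [Set.ncard_univ, h15, hX])
  have htrans : ∀ M : Subgroup Γ, M.Normal → M ≠ ⊥ → 15 ∣ Nat.card M := by
    intro M hM hM1
    have hfp : fixedPoints M X ≠ .univ := by
      intro e
      refine hM1 (eq_bot_iff.2 fun m hm => Subgroup.mem_bot.2 (Subtype.ext (Equiv.ext fun x => ?_)))
      exact (e.ge (Set.mem_univ x) : ∀ m' : M, m' • x = x) ⟨m, hm⟩
    haveI := IsQuasiPreprimitive.isPretransitive_of_normal (G := Γ) (X := X) hfp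
    rw [← hX, ← MulAction.index_stabilizer_of_transitive M x0]
    exact Subgroup.index_dvd_card _
  by_cases h49 : Nat.card PS = 7
  swap
  · -- a 7-cycle
    obtain ⟨x, hx⟩ : ∃ x, x ≠ x0 := Fintype.exists_ne_of_one_lt_card (by rw [← Nat.card_eq_fintype_card, hX]; norm_num) x0
    set S := stabilizer PS x
    have hSidx : S.index = 7 := by rw [MulAction.index_stabilizer]; exact hO7 x hx
    have hS1 : S ≠ ⊥ := fun e => h49 (by rw [← hSidx, e, Subgroup.index_bot])
    haveI hSn : S.Normal := Subgroup.normal_of_index_eq_minFac_card (by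
      obtain ⟨k, hk⟩ := IsPGroup.iff_card.1 P.isPGroup'
      rw [hSidx, hk, Nat.Prime.pow_minFac hp.out fun k0 => hPne (Subgroup.eq_bot_of_card_eq _ (by rw [hk, k0, pow_zero]))])
    obtain ⟨k, hk⟩ := IsPGroup.iff_card.1 (P.isPGroup'.to_subgroup S)
    obtain ⟨d, hd⟩ := exists_prime_orderOf_dvd_card' (G := S) 7 (by
      rw [hk]; exact dvd_pow_self _ fun k0 => hS1 (Subgroup.eq_bot_of_card_eq _ (by rw [hk, k0, pow_zero])))
    set δ : Equiv.Perm X := (((d : PS) : Γ) : Equiv.Perm X)
    have hδ : orderOf δ = 7 := by simp only [δ, Subgroup.orderOf_coe, hd]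
    have hfixO : ∀ z ∈ O x, δ z = z := by
      rintro _ ⟨a, rfl⟩
      have h1 : (a⁻¹ * (d : PS) * a⁻¹⁻¹) ∈ S := hSn.conj_mem _ d.2 a⁻¹
      have h2 : (a⁻¹ * (d : PS) * a⁻¹⁻¹) • x = x := h1
      rw [inv_inv, mul_smul, mul_smul, inv_smul_eq_iff] at h2
      exact h2
    have hsupp : δ.support.card ≤ 7 := by
      have h1 : (δ.support : Set X) ⊆ (insert x0 (O x))ᶜ := by
        intro z hz hz'
        rw [Finset.mem_coe, Equiv.Perm.mem_support] at hz
        rcases hz' with rfl | hz'
        · exact hz (hPx0 _ (d : PS).2)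
        · exact hz (hfixO z hz')
      have h2 := Set.ncard_le_ncard h1
      rw [Set.ncard_coe_finset, Set.ncard_compl, Set.ncard_insert_of_notMem (hx0O x hx), hO7 x hx, hX] at h2
      omega
    have hcyc : δ.IsCycle := Equiv.Perm.isCycle_of_prime_order (by rw [hδ]; exact hp.out) (by rw [hδ]; omega)
    have hcard : δ.support.card = 7 := by rw [← hcyc.orderOf, hδ]
    have hmem : δ ∈ Γ := ((d : PS) : Γ).2
    have hs : ((δ.support : Set X)ᶜ).ncard = 7 + 1 := by
      rw [Set.ncard_compl, Set.ncard_coe_finset, hcard, hX]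
    haveI := Equiv.Perm.isPretransitive_of_isCycle_mem hcyc hmem
    have hpp : IsPreprimitive (fixingSubgroup Γ ((δ.support : Set X)ᶜ)) (SubMulAction.ofFixingSubgroup Γ ((δ.support : Set X)ᶜ)) := by
      refine IsPreprimitive.of_prime_card ?_
      convert! hp.out
      rw [Nat.card_eq_fintype_card, Fintype.card_subtype, ← hcard]
      apply congr_arg
      ext y
      simp [SubMulAction.mem_ofFixingSubgroup_iff]
    haveI := hprim.isMultiplyPreprimitive hs (by rw [hX]; norm_num) hpp
    haveI : IsMultiplyPretransitive Γ X (7 + 2) := IsMultiplyPreprimitive.isMultiplyPretransitive ..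
    haveI : IsMultiplyPretransitive Γ X 3 := isMultiplyPretransitive_of_le (n := 7 + 2) (by norm_num) (by rw [hX]; norm_num)
    obtain ⟨s, -, hs3⟩ := Set.exists_subset_card_eq (s := (Set.univ : Set X)) (n := 3) (by rw [Set.ncard_univ, hX]; norm_num)
    have h13 : 13 ∣ Nat.card Γ := by
      have h1 := IsMultiplyPretransitive.index_of_fixingSubgroup_mul (G := Γ) (α := X) (k := 3) inferInstance hs3
      rw [hX] at h1
      have h2 : (fixingSubgroup Γ s).index = 15 * 14 * 13 := by
        refine Nat.eq_of_mul_eq_mul_right (Nat.factorial_pos (15 - 3)) (h1.trans ?_)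
        norm_num [Nat.factorial]
      exact (h2 ▸ Dvd.intro_left _ rfl : 13 ∣ (fixingSubgroup Γ s).index).trans (Subgroup.index_dvd_card _)
    have h13' : 13 ∣ Nat.card (stabilizer Γ x0) := by
      rw [← (stabilizer Γ x0).card_mul_index, MulAction.index_stabilizer_of_transitive, hX] at h13
      exact (Nat.Coprime.dvd_of_dvd_mul_right (by norm_num) h13)
    haveI : Fact (Nat.Prime 13) := ⟨by norm_num⟩
    obtain ⟨g, hg⟩ := exists_prime_orderOf_dvd_card' (G := stabilizer Γ x0) 13 h13'
    have hgx0 : (g : Γ) • x0 = x0 := g.2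
    have hg13 : (g : Γ) ^ 13 = 1 := by rw [← hg, ← Subgroup.orderOf_coe, pow_orderOf_eq_one]
    refine absurd ?_ (show orderOf (g : Γ) ≠ 1 by rw [Subgroup.orderOf_coe, hg]; norm_num)
    rw [orderOf_eq_one_iff]
    refine Subtype.ext (Equiv.ext fun y => ?_)
    by_cases hy : y = x0
    · rw [hy]; exact hgx0
    have hin : MulAction.orbit (Subgroup.zpowers (g : Γ)) y ⊆ O y := by
      rintro _ ⟨⟨h, hh⟩, rfl⟩
      have hh' : h ∈ Subgroup.zpowers (g : Γ) := hh
      obtain ⟨i, rfl⟩ := hh'
      refine hodd _ ?_ 13 ⟨6, rfl⟩ ?_ y hy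
      · exact zpow_mem (show (g : Γ) ∈ stabilizer Γ x0 from g.2) i
      · show ((g : Γ) ^ i) ^ 13 = 1
        rw [← zpow_natCast, ← zpow_mul, mul_comm, zpow_mul, zpow_natCast, hg13, one_zpow]
    have hGp : IsPGroup 13 (Subgroup.zpowers (g : Γ)) := IsPGroup.of_card (n := 1) (by rw [Nat.card_zpowers, Subgroup.orderOf_coe, hg, pow_one])
    obtain ⟨j, hj⟩ := hGp.card_orbit y
    rw [Nat.card_coe_set_eq] at hj
    have hle := Set.ncard_le_ncard hin
    rw [hO7 y hy, hj] at hle
    rcases j with _ | j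
    · obtain ⟨w, hw⟩ := Set.ncard_eq_one.1 hj
      have h1 : (g : Γ) • y ∈ MulAction.orbit (Subgroup.zpowers (g : Γ)) y := ⟨⟨_, Subgroup.mem_zpowers _⟩, rfl⟩
      have h2 := MulAction.mem_orbit_self (M := Subgroup.zpowers (g : Γ)) y
      rw [hw] at h1 h2
      exact h1.trans h2.symm
    · exfalso
      have : 13 ≤ 13 ^ (j + 1) := Nat.le_self_pow (by omega) 13
      omega
  -- order 7
  set A := Subgroup.comap Γ.subtype (alternatingGroup X)
  haveI hAn : A.Normal := Subgroup.Normal.comap (MonoidHom.normal_ker _) _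
  have hPA : PS ≤ A := by
    intro a ha
    show Equiv.Perm.sign (a : Equiv.Perm X) = 1
    have h1 : a ^ 7 = 1 := by
      rw [← h49]
      exact congrArg Subtype.val (pow_card_eq_one' (x := (⟨a, ha⟩ : PS)))
    have h2 : Equiv.Perm.sign (a : Equiv.Perm X) ^ 7 = 1 := by
      rw [← map_pow, ← SubgroupClass.coe_pow, h1, OneMemClass.coe_one, map_one]
    rcases Int.units_eq_one_or (Equiv.Perm.sign (a : Equiv.Perm X)) with e | e
    · exact e
    · rw [e] at h2; norm_num at h2
  have hA15 : 15 ∣ Nat.card A := htrans A hAn fun e => hPne (le_bot_iff.1 (e ▸ hPA))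
  haveI : IsPretransitive A X := by
    refine IsQuasiPreprimitive.isPretransitive_of_normal (G := Γ) fun e => hPne (le_bot_iff.1 fun a ha => ?_)
    refine Subgroup.mem_bot.2 (Subtype.ext (Equiv.ext fun x => ?_))
    exact (e.ge (Set.mem_univ x) : ∀ m' : A, m' • x = x) ⟨a, hPA ha⟩
  set N := A ⊓ stabilizer Γ x0
  have hNA : Nat.card A = 15 * Nat.card N := by
    rw [← (stabilizer A x0).card_mul_index, MulAction.index_stabilizer_of_transitive, hX, mul_comm]
    congr 1
    exact Nat.card_congr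
      { toFun := fun a => ⟨a.1.1, a.1.2, a.2⟩
        invFun := fun a => ⟨⟨a.1, a.2.1⟩, a.2.2⟩
        left_inv := fun _ => rfl
        right_inv := fun _ => rfl }
  -- the centralizer in the stabilizer
  have hC : N ⊓ Subgroup.centralizer (PS : Set Γ) ≤ PS := by
    refine fun c hc => Transfer.mem_of_forall_pow_ordCompl_mem fun r hr => ?_
    set e := c ^ ordCompl[r] (orderOf c)
    have heo : orderOf e = r ^ (orderOf c).factorization r := by
      rw [orderOf_pow_of_dvd (Nat.ordCompl_pos r (orderOf_pos c).ne').ne' (Nat.ordCompl_dvd _ _),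
        Nat.div_div_self (Nat.ordProj_dvd _ _) (orderOf_pos c).ne']
    have hemem : e ∈ N ⊓ Subgroup.centralizer (PS : Set Γ) := pow_mem hc _
    have hec : ∀ a ∈ PS, a * e = e * a := fun a ha => Subgroup.mem_centralizer_iff.1 hemem.2 a ha
    have hex0 : e • x0 = x0 := hemem.1.2
    by_cases hr7 : r = 7
    · subst hr7
      have h1 : IsPGroup 7 (Subgroup.zpowers e) := IsPGroup.of_card (by rw [Nat.card_zpowers, heo])
      exact (P.is_maximal' (IsPGroup.to_sup_of_normal_right' h1 P.isPGroup' (Subgroup.zpowers_le.2 (hstab hex0))) le_sup_right).le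
        (Subgroup.mem_sup_left (Subgroup.mem_zpowers e))
    -- a power fixing a point fixes its orbit
    have hfo : ∀ f : Γ, (∀ a ∈ PS, a * f = f * a) → ∀ y, f • y = y → ∀ z ∈ O y, f • z = z := by
      rintro f hf y hfy _ ⟨a, rfl⟩
      show f • ((a : Γ) • y) = (a : Γ) • y
      rw [← mul_smul, ← hf a a.2, mul_smul, hfy]
    have hsame : ∀ (f : Γ) (n : ℕ), (∀ a ∈ PS, a * f = f * a) → f • x0 = x0 → Nat.Coprime n 7 → f ^ n = 1 →
        ∀ y, f • y ∈ O y → f • y = y := by
      intro f n hf hf0 hn hfn y hy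
      obtain ⟨a, ha⟩ := hy
      have hit : ∀ k : ℕ, f ^ k • y = (a : Γ) ^ k • y := by
        intro k
        induction k with
        | zero => rw [pow_zero, pow_zero]
        | succ k ih =>
          rw [pow_succ', mul_smul, ih, ← mul_smul, ← hf _ (pow_mem a.2 k), mul_smul, ← ha, pow_succ, mul_smul]
          rfl
      have h2 : (a : Γ) ^ n ∈ stabilizer Γ y := by rw [mem_stabilizer_iff, ← hit, hfn, one_smul]
      have h7 : (a : Γ) ^ 7 = 1 := by
        rw [← h49]
        exact congrArg Subtype.val (pow_card_eq_one' (x := a))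
      have h3 : (a : Γ) ∈ stabilizer Γ y := by
        obtain ⟨m, -, hm⟩ := Nat.exists_mul_mod_eq_one_of_coprime hn (by norm_num)
        have h4 := pow_mem h2 m
        rwa [← pow_mul, ← Nat.mod_add_div (n * m) 7, hm, pow_add, pow_one, pow_mul, h7, one_pow, mul_one] at h4
      exact ha.symm.trans h3
    have hfull : ∀ (f : Γ), f • x0 = x0 → (∀ y, y ≠ x0 → f • y = y) → f = 1 := by
      intro f hf0 hf
      refine Subtype.ext (Equiv.ext fun y => ?_)
      by_cases hy : y = x0
      · rw [hy]; exact hf0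
      · exact hf y hy
    by_cases hr2 : r = 2
    swap
    · have he1 : e = 1 := by
        refine hfull e hex0 fun y hy => hsame e (r ^ (orderOf c).factorization r) hec hex0
          (Nat.Coprime.pow_left _ ((Nat.coprime_primes hr hp.out).2 hr7)) (by rw [← heo, pow_orderOf_eq_one]) y ?_
        exact hodd e hex0 _ ((hr.odd_of_ne_two hr2).pow) (by rw [← heo, pow_orderOf_eq_one]) y hy
      rw [he1]; exact one_mem _
    subst hr2
    by_contra heP
    have he1 : e ≠ 1 := fun h => heP (h ▸ one_mem _)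
    set s := (orderOf c).factorization 2
    have hs : s ≠ 0 := fun h => he1 (orderOf_eq_one_iff.1 (by rw [heo, h, pow_zero]))
    set f := e ^ 2 ^ (s - 1)
    have hfo2 : orderOf f = 2 := by
      rw [orderOf_pow_of_dvd (by positivity) (heo ▸ pow_dvd_pow 2 (Nat.sub_le s 1)), heo, Nat.pow_div (Nat.sub_le s 1) (by norm_num),
        Nat.sub_sub_self (Nat.pos_of_ne_zero hs), pow_one]
    have hfmem : f ∈ N ⊓ Subgroup.centralizer (PS : Set Γ) := pow_mem hemem _
    have hfc : ∀ a ∈ PS, a * f = f * a := fun a ha => Subgroup.mem_centralizer_iff.1 hfmem.2 a ha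
    have hf0 : f • x0 = x0 := hfmem.1.2
    have hf2 : f ^ 2 = 1 := by rw [← hfo2, pow_orderOf_eq_one]
    have hmove : ∀ y, y ≠ x0 → f • y ≠ y := by
      intro y hy hfy
      have hall : ∀ z, z ≠ x0 → f • z = z := by
        intro z hz
        by_cases hzy : z ∈ O y
        · exact hfo f hfc y hfy z hzy
        refine hsame f 2 hfc hf0 (by norm_num) hf2 z ?_
        rcases hcover y z (f • z) hy hz hzy (hne0 f hf0 z hz) with h | h
        · exfalso
          refine hzy ?_
          have h1 := hfo f hfc y hfy _ h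
          rw [← mul_smul, ← pow_two, hf2, one_smul] at h1
          rw [h1]; exact h
        · exact h
      exact absurd (hfull f hf0 hall) fun h => by rw [h, orderOf_one] at hfo2; omega
    have hsup : (f : Equiv.Perm X).support = Finset.univ.erase x0 := by
      ext y
      rw [Equiv.Perm.mem_support, Finset.mem_erase]
      exact ⟨fun h => ⟨fun e => h (e ▸ hf0), Finset.mem_univ y⟩, fun h => hmove y h.1⟩
    obtain ⟨m, hm⟩ := Equiv.Perm.cycleType_prime_order (σ := (f : Equiv.Perm X)) (by rw [Subgroup.orderOf_coe, hfo2]; exact Nat.prime_two)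
    rw [Subgroup.orderOf_coe, hfo2] at hm
    have hsum := Equiv.Perm.sum_cycleType (f : Equiv.Perm X)
    rw [hm, Multiset.sum_replicate, hsup, Finset.card_erase_of_mem (Finset.mem_univ x0), Finset.card_univ, ← Nat.card_eq_fintype_card, hX, smul_eq_mul] at hsum
    have hsign : Equiv.Perm.sign (f : Equiv.Perm X) = 1 := hfmem.1.1
    rw [Equiv.Perm.sign_of_cycleType, hm, Multiset.sum_replicate, Multiset.card_replicate, smul_eq_mul, hsum,
      show m + 1 = 7 by omega] at hsign
    norm_num at hsign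
  -- orders
  have hcard630 : Nat.card A ∣ 630 := by
    have hNle : N ≤ Subgroup.normalizer (PS : Set Γ) := inf_le_right.trans hstab
    haveI : IsCyclic PS := isCyclic_of_prime_card (p := 7) h49
    let φ : N →* MulAut PS := PS.normalizerMonoidHom.comp (Subgroup.inclusion hNle)
    have h6 : Nat.card φ.range ∣ 6 := by
      refine (Subgroup.card_subgroup_dvd_card _).trans ?_
      rw [IsCyclic.card_mulAut, h49]
      exact dvd_of_eq (Nat.totient_prime hp.out)
    have h7 : Nat.card φ.ker ∣ 7 := by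
      have hle : φ.ker.map N.subtype ≤ PS := by
        rintro _ ⟨z, hz, rfl⟩
        refine hC ⟨z.2, ?_⟩
        have hz' : Subgroup.inclusion hNle z ∈ PS.normalizerMonoidHom.ker := hz
        rw [Subgroup.normalizerMonoidHom_ker] at hz'
        exact hz'
      rw [← h49, ← Subgroup.card_map_of_injective (K := φ.ker) N.subtype_injective]
      exact Subgroup.card_dvd_of_le hle
    rw [hNA, ← φ.ker.card_mul_index, Subgroup.index_ker, show 630 = 15 * (7 * 6) by norm_num]
    exact mul_dvd_mul_left 15 (mul_dvd_mul h7 h6)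
  haveI hAs : Group.IsSolvable A := solvable_of_dvd hcard630
  haveI : Group.IsSolvable Γ := by
    let f : Γ →* ℤˣ := Equiv.Perm.sign.comp Γ.subtype
    exact Group.isSolvable_of_ker_le_range A.subtype f fun a ha => ⟨⟨a, ha⟩, rfl⟩
  have hA1 : A ≠ ⊥ := fun e => hPne (le_bot_iff.1 (e ▸ hPA))
  obtain ⟨M, hMn, -, hM1, hMmin⟩ := Solv.exists_minimal_normal_le hA1
  haveI := hMn
  obtain ⟨-, q, hq, hMq, -⟩ := Solv.minimal_normal_elementary hM1 inferInstance hMmin
  haveI := Fact.mk hq
  obtain ⟨j, hj⟩ := IsPGroup.iff_card.1 hMq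
  have h15 := htrans M hMn hM1
  rw [hj] at h15
  have h3 := (Nat.prime_dvd_prime_iff_eq Nat.prime_three hq).1 (Nat.prime_three.dvd_of_dvd_pow ((by norm_num : 3 ∣ 15).trans h15))
  have h5 := (Nat.prime_dvd_prime_iff_eq Nat.prime_five hq).1 (Nat.prime_five.dvd_of_dvd_pow ((by norm_num : 5 ∣ 15).trans h15))
  omega

/-- No finite group has exactly 15 Sylow 7-subgroups. -/
theorem result {G : Type*} [Group G] [Finite G] : Nat.card (Sylow 7 G) ≠ 15 := by
  intro hn
  haveI : Fact (Nat.Prime 7) := ⟨by norm_num⟩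
  classical
  haveI := Fintype.ofFinite (Sylow 7 G)
  set φ := MulAction.toPermHom G (Sylow 7 G)
  set Γ := φ.range
  obtain ⟨P⟩ : Nonempty (Sylow 7 G) := inferInstance
  have hsurj := φ.rangeRestrict_surjective
  have hsm : ∀ (g : G) (x : Sylow 7 G), φ.rangeRestrict g • x = g • x := fun g x => rfl
  haveI htr : IsPretransitive Γ (Sylow 7 G) := ⟨fun x y => by
    obtain ⟨g, hg⟩ := MulAction.exists_smul_eq G x y
    exact ⟨φ.rangeRestrict g, hg⟩⟩
  set P' := P.mapSurjective hsurj
  refine no_group (Γ := Γ) hn htr P' P (fun x => ⟨fun h => ?_, ?_⟩) ?_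
  · have hle : (P : Subgroup G) ≤ Subgroup.normalizer ((x : Subgroup G) : Set G) := fun a ha =>
      Sylow.smul_eq_iff_mem_normalizer.1 (h (φ.rangeRestrict a) (Subgroup.mem_map_of_mem _ ha))
    have h1 : IsPGroup 7 ↥((P : Subgroup G) ⊔ (x : Subgroup G)) :=
      IsPGroup.to_sup_of_normal_right' P.isPGroup' x.isPGroup' hle
    exact Sylow.ext ((x.is_maximal' h1 le_sup_right).symm.trans (P.is_maximal' h1 le_sup_left))
  · rintro rfl _ ⟨a, ha, rfl⟩
    exact Sylow.smul_eq_iff_mem_normalizer.2 (Subgroup.le_normalizer ha)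
  · intro g hg
    obtain ⟨g, rfl⟩ := hsurj g
    have h1 : g ∈ Subgroup.normalizer ((P : Subgroup G) : Set G) := Sylow.smul_eq_iff_mem_normalizer.1 hg
    exact Subgroup.le_normalizer_map (φ.rangeRestrict) ⟨g, h1, rfl⟩

end Cfsg.Agent.S4304
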