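import Cfsg.Statements.S0129
import Mathlib
import Cfsg.Agent.Lib.Transfer.PGroupNormal
-- import your own Cfsg.Agent.* helpers here

set_option autoImplicit false
open Cfsg

namespace Cfsg.Agent.S0129

/-- The order of a p-group is bounded by p^(a(a+1)/2) when it has a maximal normal abelian subgroup of order p^a. -/
theorem result {G : Type*} [Group G] [Finite G] {p : ℕ} [Fact p.Prime] (hG : IsPGroup p G) (A : Subgroup G) [A.Normal] (hA : IsMulCommutative A) (hmax : ∀ B : Subgroup G, B.Normal → IsMulCommutative B → A ≤ B → B = A) (a : ℕ) (ha : Nat.card A = p ^ a) : Nat.card G ≤ p ^ (a * (a + 1) / 2) := by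
  have hself := Lib.Transfer.centralizer_eq_of_maximal_normal_abelian hG A hA hmax
  obtain ⟨B, -, hBA, hBc, hBi⟩ := Lib.Transfer.exists_normal_card_index_centralizer hG A ha a le_rfl
  have hBe : B = A := Subgroup.eq_of_le_of_card_ge hBA (by rw [hBc, ha])
  rw [hBe, hself] at hBi
  rw [← A.card_mul_index, ha]
  calc p ^ a * A.index ≤ p ^ a * p ^ a.choose 2 := Nat.mul_le_mul_left _ hBi
    _ = p ^ ((a + 1).choose 2) := by rw [← pow_add, Nat.choose_succ_succ', Nat.choose_one_right]
    _ = p ^ (a * (a + 1) / 2) := by rw [Nat.choose_two_right, Nat.add_sub_cancel, mul_comm (a + 1)]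

end Cfsg.Agent.S0129
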