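import Cfsg.Statements.S0636
import Mathlib
import Cfsg.Agent.Lib.Transfer.PGroupNormal
import Cfsg.Agent.Lib.Transfer.OmegaCentralizer
import Cfsg.Agent.S0126
-- import your own Cfsg.Agent.* helpers here

set_option autoImplicit false
open Cfsg
open scoped commutatorElement

namespace Cfsg.Agent.S0636

theorem conj_pow_eq_one {R : Type*} [Group R] {p : ℕ} (g x : R) (h : x ^ p = 1) : (g * x * g⁻¹) ^ p = 1 := by
  rw [conj_pow, h, mul_one, mul_inv_cancel]

/-- The elements of `S` of order dividing `p` in the second centre of `S`. -/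
def layer {R : Type*} [Group R] {p : ℕ} (hp : Odd p) (S : Subgroup R) : Subgroup R where
  carrier := {x | x ∈ S ∧ x ^ p = 1 ∧ ∀ s ∈ S, ∀ s' ∈ S, Commute ⁅s, x⁆ s'}
  one_mem' := ⟨one_mem _, one_pow _, fun s _ s' _ => by rw [commutatorElement_one_right]; exact Commute.one_left s'⟩
  mul_mem' := by
    rintro y z ⟨hy, hyp, hy2⟩ ⟨hz, hzp, hz2⟩
    refine ⟨mul_mem hy hz, ?_, fun s hs s' hs' => ?_⟩
    · set d := ⁅z, y⁆ with hd
      have hdc : ∀ w ∈ S, Commute d w := fun w hw => hy2 z hz w hw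
      have hdp : d ^ p = 1 := by
        have h1 := conj_pow_eq_one z y hyp
        rw [show z * y * z⁻¹ = d * y by rw [hd]; simp only [commutatorElement_def]; group,
          (hdc y hy).mul_pow, hyp, mul_one] at h1
        exact h1
      have hzy : z * y = y * z * d := by
        rw [mul_assoc, ← (hdc z hz).eq, ← mul_assoc, ← (hdc y hy).eq]
        rw [hd]; simp only [commutatorElement_def]; group
      rw [Cfsg.Lib.Transfer.mul_pow_class_two hzy (hdc y hy) (hdc z hz), hyp, hzp, one_mul, one_mul]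
      obtain ⟨k, hk⟩ := hp
      have : p.choose 2 = p * k := by
        rw [Nat.choose_two_right, show p - 1 = 2 * k by omega, mul_left_comm, Nat.mul_div_cancel_left _ two_pos]
      rw [this, pow_mul, hdp, one_pow]
    · rw [show ⁅s, y * z⁆ = ⁅s, y⁆ * (y * ⁅s, z⁆ * y⁻¹) by simp only [commutatorElement_def]; group,
        ← (hz2 s hs y hy).eq, mul_inv_cancel_right]
      exact (hy2 s hs s' hs').mul_left (hz2 s hs s' hs')
  inv_mem' := by
    rintro y ⟨hy, hyp, hy2⟩
    refine ⟨inv_mem hy, by rw [inv_pow, hyp, inv_one], fun s hs s' hs' => ?_⟩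
    rw [show ⁅s, y⁻¹⁆ = y⁻¹ * ⁅s, y⁆⁻¹ * y by simp only [commutatorElement_def]; group,
      ← ((hy2 s hs y⁻¹ (inv_mem hy)).inv_left).eq, inv_mul_cancel_right]
    exact (hy2 s hs s' hs').inv_left

/-- For odd p, every non-cyclic normal subgroup of a p-group contains a normal elementary abelian subgroup of the whole group of order p². -/
theorem result {R : Type*} [Group R] [Finite R] {p : ℕ} [Fact p.Prime] (hp : p ≠ 2) (hR : IsPGroup p R) (S : Subgroup R) [S.Normal] (hS : ¬ IsCyclic S) : ∃ A : Subgroup R, A ≤ S ∧ A.Normal ∧ Cfsg.IsElementaryAbelian p A ∧ Nat.card A = p ^ 2 := by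
  haveI hp' : Fact p.Prime := inferInstance
  have hodd : Odd p := hp'.out.odd_of_ne_two hp
  set K := layer hodd S
  haveI : K.Normal := ⟨fun x ⟨hxS, hxp, hx2⟩ g => by
    refine ⟨(inferInstance : S.Normal).conj_mem x hxS g, conj_pow_eq_one g x hxp, fun s hs s' hs' => ?_⟩
    have h1 : g⁻¹ * s * g ∈ S := (inferInstance : S.Normal).conj_mem' s hs g
    have h2 : g⁻¹ * s' * g ∈ S := (inferInstance : S.Normal).conj_mem' s' hs' g
    have h3 := (hx2 _ h1 _ h2).map (MulAut.conj g).toMonoidHom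
    simp only [MulEquiv.coe_toMonoidHom, MulAut.conj_apply] at h3
    rwa [show g * ⁅g⁻¹ * s * g, x⁆ * g⁻¹ = ⁅s, g * x * g⁻¹⁆ by simp only [commutatorElement_def]; group,
      show g * (g⁻¹ * s' * g) * g⁻¹ = s' by group] at h3⟩
  obtain ⟨A, hAn, hAe, hAc⟩ := Cfsg.Agent.S0126.result hp (hR.to_subgroup S) hS
  haveI := hAn
  set B := A ⊓ Subgroup.center S with hB
  have hBK : B.map S.subtype ≤ K := by
    rintro _ ⟨b, hb, rfl⟩
    refine ⟨b.2, congrArg Subtype.val (hAe.2 b hb.1), fun s hs s' hs' => ?_⟩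
    have h1 : ⁅s, (b : R)⁆ = 1 := commutatorElement_eq_one_iff_mul_comm.2
      (congrArg Subtype.val (Subgroup.mem_center_iff.1 hb.2 ⟨s, hs⟩))
    show Commute ⁅s, (b : R)⁆ s'
    rw [h1]; exact Commute.one_left s'
  have hAK : A.map S.subtype ≤ K := by
    rcases eq_or_lt_of_le (inf_le_left : B ≤ A) with h | h
    · rw [← h]; exact hBK
    obtain ⟨B', b, hB'n, hBB', hB'A, hB'c, hbB', hbB, hB'e, hbc⟩ :=
      Cfsg.Lib.Transfer.exists_normal_step (hR.to_subgroup S) B A h
    have hne : B ≠ ⊥ := Cfsg.Lib.Transfer.inf_center_ne_bot (hR.to_subgroup S) A (by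
      intro h0; rw [h0, Subgroup.card_bot] at hAc
      exact absurd hAc.symm (Nat.one_lt_pow two_ne_zero hp'.out.one_lt).ne')
    have hA : B' = A := by
      refine Subgroup.eq_of_le_of_card_ge hB'A ?_
      rw [hB'c, hAc, pow_two]
      refine Nat.mul_le_mul_left p ?_
      obtain ⟨j, hj⟩ := IsPGroup.iff_card.1 ((hR.to_subgroup S).to_subgroup B)
      rw [hj]
      refine Nat.le_self_pow ?_ p
      rintro rfl
      exact hne (Subgroup.eq_bot_of_card_eq B (by rw [hj, pow_zero]))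
    rw [← hA, hB'e, Subgroup.map_sup, MonoidHom.map_zpowers]
    refine sup_le hBK (Subgroup.zpowers_le.2 ⟨b.2, congrArg Subtype.val (hAe.2 b (hB'A hbB')), fun s hs s' hs' => ?_⟩)
    have h2 := Subgroup.mem_center_iff.1 (hbc ⟨s, hs⟩).2 ⟨s', hs'⟩
    exact (congrArg Subtype.val h2).symm
  obtain ⟨a, ha⟩ := IsPGroup.iff_card.1 (hR.to_subgroup K)
  have h2a : 2 ≤ a := by
    have h1 := Subgroup.card_le_of_le hAK
    rw [Subgroup.card_map_of_injective S.subtype_injective, hAc, ha] at h1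
    exact (Nat.pow_le_pow_iff_right hp'.out.one_lt).1 h1
  obtain ⟨A', hA'n, hA'K, hA'c, -⟩ := Cfsg.Lib.Transfer.exists_normal_card_index_centralizer hR K ha 2 h2a
  refine ⟨A', fun x hx => (hA'K hx).1, hA'n, ⟨?_, fun x hx => (hA'K hx).2.1⟩, hA'c⟩
  exact IsPGroup.isMulCommutative_of_card_eq_prime_sq hA'c

end Cfsg.Agent.S0636
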