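import Cfsg.Statements.S0588
import Mathlib
import Cfsg.Agent.Lib.Solv.Cores
-- import your own Cfsg.Agent.* helpers here

set_option autoImplicit false
open Cfsg

namespace Cfsg.Agent.S0588

/-- If a subgroup H of a finite group G contains the centralizer of every non-identity element of H, then the order of H is coprime to its index. -/
theorem result {G : Type*} [Group G] [Finite G] (H : Subgroup G) (h : ∀ x ∈ H, x ≠ 1 → Subgroup.centralizer ({x} : Set G) ≤ H) : (Nat.card H).Coprime H.index := by
  refine Nat.coprime_of_dvd fun p hp hpH hpi => ?_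
  haveI := Fact.mk hp
  obtain ⟨P⟩ := (inferInstance : Nonempty (Sylow p H))
  obtain ⟨S, hS⟩ := (P.isPGroup'.map H.subtype).exists_le_sylow
  obtain ⟨x, hx, hx1⟩ := (P : Subgroup H).bot_or_exists_ne_one.resolve_left (P.ne_bot_of_dvd_card hpH)
  haveI : Nontrivial (S : Subgroup G) :=
    (Subgroup.nontrivial_iff_ne_bot _).2 (S.ne_bot_of_dvd_card (hpH.trans (Subgroup.card_subgroup_dvd_card H)))
  haveI := S.isPGroup'.isNilpotent
  obtain ⟨z, hz, hz1⟩ := (Subgroup.center (S : Subgroup G)).bot_or_exists_ne_one.resolve_left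
    (Group.IsNilpotent.center_ne_bot _)
  have hzc : ∀ s ∈ (S : Subgroup G), s * (z : G) = z * s := fun s hs =>
    congrArg Subtype.val (Subgroup.mem_center_iff.1 hz ⟨s, hs⟩)
  have hzH : (z : G) ∈ H := by
    refine h (x : G) x.2 (fun e => hx1 (Subtype.ext e)) ?_
    rw [Subgroup.mem_centralizer_singleton_iff]
    exact (hzc _ (hS ⟨x, hx, rfl⟩)).symm
  have hSH : (S : Subgroup G) ≤ H := fun s hs =>
    h (z : G) hzH (fun e => hz1 (Subtype.ext e)) (Subgroup.mem_centralizer_singleton_iff.2 (hzc s hs))
  exact S.not_dvd_index (hpi.trans (Subgroup.index_dvd_of_le hSH))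

end Cfsg.Agent.S0588
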