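import Cfsg.Statements.S0990
import Mathlib
import Cfsg.Agent.Lib.PermGroup.TwinDegree

set_option autoImplicit false
open Cfsg

namespace Cfsg.Agent.S0990

/-- Let p be an odd prime and P a Sylow p-subgroup of the symmetric group on a finite set with at least two elements. Then P is contained in the alternating group, and twice the order of the normalizer of P inside the alternating group equals the order of the normalizer of P in the symmetric group. -/
theorem result {α : Type*} [Fintype α] [DecidableEq α] (hα : 2 ≤ Fintype.card α) (p : ℕ) [Fact p.Prime] (hp : p ≠ 2) (P : Sylow p (Equiv.Perm α)) : (P : Subgroup (Equiv.Perm α)) ≤ alternatingGroup α ∧ 2 * Nat.card ↥(Subgroup.normalizer ((((P : Subgroup (Equiv.Perm α)).subgroupOf (alternatingGroup α) : Subgroup ↥(alternatingGroup α)) : Set ↥(alternatingGroup α)))) = Nat.card ↥(Subgroup.normalizer ((P : Subgroup (Equiv.Perm α)) : Set (Equiv.Perm α))) := by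
  classical
  have hp' : p.Prime := Fact.out
  have hPA : (P : Subgroup (Equiv.Perm α)) ≤ alternatingGroup α := by
    intro x hx
    obtain ⟨k, hk⟩ := P.2 ⟨x, hx⟩
    have hk' : x ^ (p ^ k) = 1 := by simpa using congrArg Subtype.val hk
    rw [Equiv.Perm.mem_alternatingGroup]
    have h1 : (Equiv.Perm.sign x) ^ (p ^ k) = 1 := by rw [← map_pow, hk', map_one]
    rcases Int.units_eq_one_or (Equiv.Perm.sign x) with e | e
    · exact e
    · rw [e, Odd.neg_one_pow ((hp'.odd_of_ne_two hp).pow)] at h1
      exact absurd h1 (by decide)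
  refine ⟨hPA, ?_⟩
  set A := alternatingGroup α
  set N := Subgroup.normalizer ((P : Subgroup (Equiv.Perm α)) : Set (Equiv.Perm α))
  have hN : Subgroup.normalizer ((((P : Subgroup (Equiv.Perm α)).subgroupOf A : Subgroup A)) : Set A) = N.subgroupOf A :=
    (Subgroup.subgroupOf_normalizer_eq hPA).symm
  rw [hN]
  haveI : Nontrivial α := Fintype.one_lt_card_iff_nontrivial.mp (by omega)
  have hsup : N ⊔ A = ⊤ := by
    have h := Sylow.normalizer_sup_eq_top' (N := A) P hPA
    exact h
  have hidx : A.relIndex N = 2 := by
    have h1 := Subgroup.relIndex_sup_left N A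
    rw [sup_comm] at h1
    rw [hsup, Subgroup.relIndex_top_right] at h1
    rw [← h1]; exact alternatingGroup.index_eq_two
  have hmul := (A.subgroupOf N).card_mul_index
  rw [show (A.subgroupOf N).index = 2 from hidx, mul_comm] at hmul
  rw [← hmul]
  congr 1
  exact Nat.card_congr
    { toFun := fun x => ⟨⟨(x : A), x.2⟩, (x : A).2⟩
      invFun := fun x => ⟨⟨(x : N), x.2⟩, (x : N).2⟩
      left_inv := fun x => rfl
      right_inv := fun x => rfl }

end Cfsg.Agent.S0990
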