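import Cfsg.Statements.S0991
import Mathlib.GroupTheory.SpecificGroups.Alternating
import Mathlib.GroupTheory.Index

set_option autoImplicit false
open Cfsg

namespace Cfsg.Agent.S0991

/-- Embedding Theorem: if a non-abelian finite simple group has a proper subgroup of index n, then it is isomorphic to a subgroup of the alternating group of degree n. -/
theorem result {G : Type*} [Group G] [Finite G] [IsSimpleGroup G] (hG : ¬ IsMulCommutative G) (H : Subgroup G) (hH : H ≠ ⊤) : ∃ f : G →* ↥(alternatingGroup (Fin H.index)), Function.Injective f := by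
  classical
  haveI : Fintype (G ⧸ H) := Fintype.ofFinite _
  let e : (G ⧸ H) ≃ Fin H.index := Finite.equivFin _ |>.trans (finCongr rfl)
  let φ : G →* Equiv.Perm (Fin H.index) :=
    (e.permCongrHom.toMonoidHom).comp (MulAction.toPermHom G (G ⧸ H))
  have hker : φ.ker = ⊥ := by
    rcases IsSimpleGroup.eq_bot_or_eq_top_of_normal φ.ker inferInstance with h | h
    · exact h
    · refine absurd ?_ hH
      rw [eq_top_iff]
      intro g _
      have hg : φ g = 1 := (h ▸ Subgroup.mem_top g : g ∈ φ.ker)
      have hg1 : MulAction.toPermHom G (G ⧸ H) g = 1 :=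
        e.permCongrHom.injective (hg.trans (map_one _).symm)
      have := congrArg (fun σ : Equiv.Perm (G ⧸ H) => σ (QuotientGroup.mk 1)) hg1
      change QuotientGroup.mk (g * 1) = (QuotientGroup.mk 1 : G ⧸ H) at this
      rw [mul_one, eq_comm, QuotientGroup.eq] at this
      simpa using this
  have hinj : Function.Injective φ := (MonoidHom.ker_eq_bot_iff φ).mp hker
  have hsgn : ∀ g, φ g ∈ alternatingGroup (Fin H.index) := by
    let s : G →* ℤˣ := Equiv.Perm.sign.comp φ
    have hs : s.ker = ⊤ := by
      rcases IsSimpleGroup.eq_bot_or_eq_top_of_normal s.ker inferInstance with h | h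
      · exfalso
        refine hG ⟨⟨fun a b => (MonoidHom.ker_eq_bot_iff s).mp h ?_⟩⟩
        rw [map_mul, map_mul, mul_comm]
      · exact h
    intro g
    exact (hs ▸ Subgroup.mem_top g : g ∈ s.ker)
  exact ⟨φ.codRestrict (alternatingGroup (Fin H.index)) hsgn, fun a b h => hinj (congrArg Subtype.val h)⟩

end Cfsg.Agent.S0991
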