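import Cfsg.Statements.S0031
import Mathlib
import Cfsg.Agent.Lib.Solv.PGroupBasic
-- import your own Cfsg.Agent.* helpers here

set_option autoImplicit false
open Cfsg

open scoped Pointwise
namespace Cfsg.Agent.S0031

/-- A fixed-point-free automorphism of a finite group maps some Sylow p-subgroup to itself. -/
theorem result {G : Type*} [Group G] [Finite G] (φ : G ≃* G)
    (hφ : MonoidHom.FixedPointFree (φ : G →* G)) (p : ℕ) [Fact p.Prime] :
    ∃ P : Sylow p G, (P : Subgroup G).map (φ : G →* G) = P := by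
  classical
  obtain P : Sylow p G := default
  have hcard : Nat.card ↥((P : Subgroup G).map (φ : G →* G)) = p ^ (Nat.card G).factorization p := by
    rw [Subgroup.card_map_of_injective φ.injective, P.card_eq_multiplicity]
  obtain ⟨g, hg⟩ := MulAction.exists_smul_eq G P (Sylow.ofCard _ hcard)
  have hg' : MulAut.conj g • (P : Subgroup G) = (P : Subgroup G).map (φ : G →* G) :=
    congrArg (fun Q : Sylow p G => (Q : Subgroup G)) hg
  obtain ⟨y, hy⟩ := hφ.commutatorMap_surjective g⁻¹
  rw [MonoidHom.commutatorMap_apply] at hy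
  refine ⟨y⁻¹ • P, ?_⟩
  show (MulAut.conj y⁻¹ • (P : Subgroup G)).map (φ : G →* G) = MulAut.conj y⁻¹ • (P : Subgroup G)
  rw [Cfsg.Lib.Solv.map_conj_smul, ← hg', ← mul_smul, ← map_mul]
  congr 2
  have h3 : g = φ y * y⁻¹ := by
    have h4 : y * (φ y)⁻¹ = g⁻¹ := by
      rw [← div_eq_mul_inv]; exact hy
    rw [← inv_inv g, ← h4, mul_inv_rev, inv_inv]
  show φ y⁻¹ * g = y⁻¹
  rw [h3, map_inv, inv_mul_cancel_left]

end Cfsg.Agent.S0031
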