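import Cfsg.Statements.S1526
import Mathlib
import Cfsg.Agent.Lib.Characters.Coherence.Family
import Cfsg.Agent.Lib.Solv.ThompsonKernel
-- import your own Cfsg.Agent.* helpers here

set_option autoImplicit false
open Cfsg

namespace Cfsg.Agent.S1526

/-- Conjugation by a suitable element outside the kernel is fixed point free of prime order. -/
theorem exists_fpf {L : Type*} [Group L] [Finite L] (K : Subgroup L) [K.Normal] (hne : K ≠ ⊤)
    (hcent : ∀ k ∈ K, k ≠ 1 → Subgroup.centralizer ({k} : Set L) ≤ K) :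
    ∃ (φ : K ≃* K) (r : ℕ), Cfsg.Lib.Solv.ThompsonKernel.Fpf φ r := by
  obtain ⟨r, hr, hdvd⟩ := Nat.exists_prime_and_dvd (n := K.index)
    (fun h => hne (Subgroup.index_eq_one.mp h))
  have := Fact.mk hr
  have hndvd : ¬ r ∣ Nat.card K := by
    intro hK
    obtain ⟨a, ha⟩ := exists_prime_orderOf_dvd_card' r hK
    have ha1 : (a : L) ≠ 1 := fun h => hr.one_lt.ne' (by
      rw [← ha, show a = 1 from Subtype.ext h, orderOf_one])
    have hp : IsPGroup r (Subgroup.zpowers (a : L)) := IsPGroup.of_card (n := 1) (by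
      rw [Nat.card_zpowers, Subgroup.orderOf_coe, ha, pow_one])
    obtain ⟨R, hR⟩ := hp.exists_le_sylow
    have hnt : Nontrivial R :=
      (Subgroup.nontrivial_iff_ne_bot _).mpr (ne_bot_of_le_ne_bot (by simpa using ha1) hR)
    have := R.2.center_nontrivial
    obtain ⟨z, hz⟩ := exists_ne (1 : Subgroup.center R)
    have hzK : ((z : R) : L) ∈ K := hcent a a.2 ha1 (Subgroup.mem_centralizer_singleton_iff.mpr
      (congrArg Subtype.val
        (Subgroup.mem_center_iff.mp z.2 ⟨a, hR (Subgroup.mem_zpowers _)⟩)).symm)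
    have hRK : (R : Subgroup L) ≤ K := fun x hx =>
      hcent _ hzK (fun h => hz (Subtype.ext (Subtype.ext h))) (Subgroup.mem_centralizer_singleton_iff.mpr
        (congrArg Subtype.val (Subgroup.mem_center_iff.mp z.2 ⟨x, hx⟩)))
    exact R.not_dvd_index (hdvd.trans (Subgroup.index_dvd_of_le hRK))
  obtain ⟨l, hl⟩ := exists_prime_orderOf_dvd_card' r (hdvd.trans K.index_dvd_card)
  have hlK : l ∉ K := fun h => hndvd (hl ▸ K.orderOf_dvd_natCard h)
  refine ⟨MulAut.conjNormal l, r, hr, fun g hg => ?_, fun g => ?_⟩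
  · by_contra hg1
    refine hlK (hcent (g : L) g.2 (fun h => hg1 (Subtype.ext h))
      (Subgroup.mem_centralizer_singleton_iff.mpr ?_))
    have h := congrArg Subtype.val hg
    rw [MulAut.conjNormal_apply] at h
    exact mul_inv_eq_iff_eq_mul.mp h
  · have hpow : ∀ n : ℕ, ∀ x : K, (MulAut.conjNormal (l ^ n)) x = (MulAut.conjNormal l)^[n] x := by
      intro n
      induction n with
      | zero => intro x; rw [pow_zero, map_one]; rfl
      | succ n ih => intro x; rw [pow_succ, map_mul, MulAut.mul_apply, ih, Function.iterate_succ_apply]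
    rw [← hpow, ← hl, pow_orderOf_eq_one, map_one]
    rfl


/-- Let G be a finite group of odd order and (L i, H i), i in a finite index type with at least two elements, pairs of subgroups with H i a nontrivial proper normal subgroup of L i such that every non-identity element of H i has its centraliser within L i contained in H i (L i is a Frobenius group with kernel H i), the orders of the H i pairwise coprime, and the underlying set of each H i a TI-subset of G with normaliser L i. If every non-identity element of G is conjugate to an element of some H i, we reach a contradiction. -/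
theorem result {G : Type*} [Group G] [Finite G] (hodd : Odd (Nat.card G)) {ι : Type*} [Fintype ι] (hι : 2 ≤ Fintype.card ι) (L H : ι → Subgroup G) (hHL : ∀ i, H i < L i) (hH1 : ∀ i, H i ≠ ⊥) (hHn : ∀ i, ∀ x ∈ L i, ∀ h ∈ H i, x * h * x⁻¹ ∈ H i) (hfrob : ∀ i, ∀ h ∈ H i, h ≠ 1 → L i ⊓ Subgroup.centralizer ({h} : Set G) ≤ H i) (hcop : ∀ i j, i ≠ j → Nat.Coprime (Nat.card (H i)) (Nat.card (H j))) (hTI : ∀ i, Cfsg.IsTISubset (H i : Set G) ∧ Subgroup.normalizer (H i : Set G) = L i) (hcover : ∀ g : G, g ≠ 1 → ∃ i, ∃ x : G, x * g * x⁻¹ ∈ H i) : False := by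
  classical
  haveI := Fintype.ofFinite G
  haveI : ∀ i, Fintype (L i) := fun i => Fintype.ofFinite _
  haveI : ∀ i, Fintype (H i) := fun i => Fintype.ofFinite _
  haveI : ∀ i, ((H i).subgroupOf (L i)).Normal := fun i =>
    Cfsg.Lib.Characters.Coherence.normal_subgroupOf (hHn i)
  have hnil : ∀ i, Group.IsNilpotent (H i) := fun i => by
    obtain ⟨φ, r, h⟩ := exists_fpf ((H i).subgroupOf (L i))
      (fun h => (hHL i).not_ge (Subgroup.subgroupOf_eq_top.mp h))
      (fun k hk hk1 x hx => hfrob i k hk (fun h => hk1 (Subtype.ext h)) (Subgroup.mem_inf.mpr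
        ⟨x.2, Subgroup.mem_centralizer_singleton_iff.mpr
          (congrArg Subtype.val (Subgroup.mem_centralizer_singleton_iff.mp hx))⟩))
    have := Cfsg.Lib.Solv.ThompsonKernel.fpf_isNilpotent h
    exact Group.nilpotent_of_mulEquiv (Subgroup.subgroupOfEquivOfLe (hHL i).le)
  have hK : ∀ i, Cfsg.Lib.Characters.Coherence.OddFrobTI (L i) ((H i).subgroupOf (L i)) := fun i =>
    Cfsg.Lib.Characters.Coherence.OddFrobTI.of_subgroups (hHL i).le (hH1 i) (hHL i).ne (hnil i)
      (hodd.of_dvd_nat (L i).card_subgroup_dvd_card) (hfrob i) (hTI i).1 (hTI i).2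
  exact Cfsg.Lib.Characters.Coherence.no_family hodd hι L H (fun i => (hHL i).le) hK hcop
    (fun i => (hTI i).1) (fun i => (hTI i).2) hcover

end Cfsg.Agent.S1526
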