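import Cfsg.Statements.S1527
import Mathlib

-- import your own Cfsg.Agent.* helpers here

set_option autoImplicit false
open Cfsg

namespace Cfsg.Agent.S1527

/-- Let G be a finite group and H i (i in a finite index type) subgroups of pairwise coprime orders, each of whose underlying sets is a TI-subset of G, such that every non-identity element of G is conjugate to an element of some H i. Then Nat.card G − 1 = Σ_i [G : N_G(H i)] · (Nat.card (H i) − 1). -/
theorem result {G : Type*} [Group G] [Finite G] {ι : Type*} [Fintype ι] (H : ι → Subgroup G) (hcop : ∀ i j, i ≠ j → Nat.Coprime (Nat.card (H i)) (Nat.card (H j))) (hTI : ∀ i, Cfsg.IsTISubset (H i : Set G)) (hcover : ∀ g : G, g ≠ 1 → ∃ i, ∃ x : G, x * g * x⁻¹ ∈ H i) : Nat.card G - 1 = ∑ i, (Subgroup.normalizer (H i : Set G)).index * (Nat.card (H i) - 1) := by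
  classical
  set N := fun i => Subgroup.normalizer (H i : Set G)
  have hconjmem : ∀ i, ∀ g : G, g ∈ N i → ∀ h : G, (g * h * g⁻¹ ∈ H i ↔ h ∈ H i) := fun i g hg h =>
    (Subgroup.mem_normalizer_iff.mp hg h).symm
  let f : (Σ i, (G ⧸ N i) × {h : H i // h ≠ 1}) → {g : G // g ≠ 1} := fun t =>
    ⟨t.2.1.out * (t.2.2.1 : G) * t.2.1.out⁻¹, fun he => t.2.2.2 (Subtype.ext (conj_eq_one_iff.mp he))⟩
  have hbij : Function.Bijective f := by
    constructor
    · rintro ⟨i, q, ⟨h, hh⟩⟩ ⟨j, r, ⟨k, hk⟩⟩ he
      have he' : q.out * (h : G) * q.out⁻¹ = r.out * (k : G) * r.out⁻¹ := congrArg Subtype.val he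
      set z := r.out⁻¹ * q.out
      have hz : z * (h : G) * z⁻¹ = k := by
        calc z * (h : G) * z⁻¹ = r.out⁻¹ * (q.out * (h : G) * q.out⁻¹) * r.out := by simp only [z]; group
          _ = r.out⁻¹ * (r.out * (k : G) * r.out⁻¹) * r.out := by rw [he']
          _ = k := by group
      have hij : i = j := by
        by_contra hne
        have ho : orderOf (k : G) = orderOf (h : G) := by
          rw [← hz]; exact orderOf_injective (MulAut.conj z).toMonoidHom (MulEquiv.injective _) _
        have h1 := Nat.eq_one_of_dvd_coprimes (hcop i j hne)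
          (Subgroup.orderOf_dvd_natCard _ h.2) (ho ▸ Subgroup.orderOf_dvd_natCard _ k.2)
        exact hh (Subtype.ext (orderOf_eq_one_iff.mp h1))
      subst hij
      have hzN : z ∈ N i := by
        by_contra hzn
        exact hh (Subtype.ext (hTI i z hzn h h.2 (hz ▸ k.2)))
      have hqr : r = q := by
        rw [← QuotientGroup.out_eq' r, ← QuotientGroup.out_eq' q]
        exact QuotientGroup.eq.mpr hzN
      subst hqr
      have : (h : G) = k := mul_left_cancel (mul_right_cancel he')
      obtain rfl : h = k := Subtype.ext this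
      rfl
    · rintro ⟨g, hg⟩
      obtain ⟨i, x, hx⟩ := hcover g hg
      set q : G ⧸ N i := QuotientGroup.mk x⁻¹
      obtain ⟨n, hn⟩ := QuotientGroup.mk_out_eq_mul (N i) x⁻¹
      have hm : q.out⁻¹ * g * q.out ∈ H i := by
        have h := (hconjmem i _ (Subgroup.inv_mem _ n.2) _).mpr hx
        rw [show q.out = x⁻¹ * n from hn]
        simpa [mul_assoc] using h
      refine ⟨⟨i, q, ⟨⟨_, hm⟩, fun he => hg ?_⟩⟩, Subtype.ext ?_⟩
      · have h1 : q.out⁻¹ * g * q.out = 1 := congrArg Subtype.val he
        have : q.out⁻¹ * g * (q.out⁻¹)⁻¹ = 1 := by rw [inv_inv]; exact h1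
        exact conj_eq_one_iff.mp this
      · show q.out * (q.out⁻¹ * g * q.out) * q.out⁻¹ = g
        group
  haveI := Fintype.ofFinite G
  have hc := Nat.card_eq_of_bijective f hbij
  rw [Nat.card_sigma] at hc
  have hcg : ∀ (X : Type _) [Finite X] (a : X), Nat.card {y : X // y ≠ a} = Nat.card X - 1 := by
    intro X _ a
    haveI := Fintype.ofFinite X
    rw [Nat.card_eq_fintype_card, Nat.card_eq_fintype_card, Fintype.card_subtype_compl,
      Fintype.card_subtype_eq]
  rw [hcg G 1] at hc
  rw [← hc]
  refine Finset.sum_congr rfl fun i _ => ?_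
  rw [Nat.card_prod, hcg (H i) 1, Subgroup.index]

end Cfsg.Agent.S1527
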