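import Cfsg.Statements.S0182
import Mathlib
import Cfsg.Agent.S1526
import Cfsg.Agent.S1527
-- import your own Cfsg.Agent.* helpers here

set_option autoImplicit false
open Cfsg

namespace Cfsg.Agent.S0182

universe u

variable {G : Type u} [Group G] [Finite G]

/-- Centralisers of nontrivial elements are commutative. -/
def CA (G : Type u) [Group G] : Prop :=
  ∀ x : G, x ≠ 1 → ∀ a ∈ Subgroup.centralizer ({x} : Set G), ∀ b ∈ Subgroup.centralizer ({x} : Set G),
    a * b = b * a

omit [Finite G] in
theorem CA.eq_of_mem (h : CA G) {x y : G} (hx : x ≠ 1) (hy : y ≠ 1)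
    (hyx : y ∈ Subgroup.centralizer ({x} : Set G)) :
    Subgroup.centralizer ({y} : Set G) = Subgroup.centralizer ({x} : Set G) := by
  have hxy : x ∈ Subgroup.centralizer ({y} : Set G) :=
    Subgroup.mem_centralizer_singleton_iff.mpr (Subgroup.mem_centralizer_singleton_iff.mp hyx).symm
  refine le_antisymm (fun g hg => ?_) (fun g hg => ?_)
  · exact Subgroup.mem_centralizer_singleton_iff.mpr (h y hy g hg x hxy)
  · exact Subgroup.mem_centralizer_singleton_iff.mpr (h x hx g hg y hyx)

omit [Finite G] in
theorem map_conj_centralizer (g x : G) :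
    (Subgroup.centralizer ({x} : Set G)).map (MulAut.conj g).toMonoidHom =
      Subgroup.centralizer ({g * x * g⁻¹} : Set G) := by
  ext y
  simp only [Subgroup.mem_map, Subgroup.mem_centralizer_singleton_iff, MulEquiv.coe_toMonoidHom,
    MulAut.conj_apply]
  constructor
  · rintro ⟨z, hz, rfl⟩
    calc g * z * g⁻¹ * (g * x * g⁻¹) = g * (z * x) * g⁻¹ := by group
      _ = g * (x * z) * g⁻¹ := by rw [hz]
      _ = _ := by group
  · intro hy
    refine ⟨g⁻¹ * y * g, ?_, by group⟩
    calc g⁻¹ * y * g * x = g⁻¹ * (y * (g * x * g⁻¹)) * g := by group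
      _ = g⁻¹ * (g * x * g⁻¹ * y) * g := by rw [hy]
      _ = _ := by group

omit [Finite G] in
theorem mem_self (x : G) : x ∈ Subgroup.centralizer ({x} : Set G) :=
  Subgroup.mem_centralizer_singleton_iff.mpr rfl

omit [Finite G] in
theorem mem_normalizer_of_conj_mem (h : CA G) {x a g : G} (hx : x ≠ 1) (ha : a ≠ 1)
    (hax : a ∈ Subgroup.centralizer ({x} : Set G))
    (hga : g * a * g⁻¹ ∈ Subgroup.centralizer ({x} : Set G)) :
    g ∈ Subgroup.normalizer ((Subgroup.centralizer ({x} : Set G) : Subgroup G) : Set G) := by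
  have h1 := h.eq_of_mem hx ha hax
  have h2 := h.eq_of_mem hx (fun he => ha (conj_eq_one_iff.mp he)) hga
  have h3 : (Subgroup.centralizer ({x} : Set G)).map (MulAut.conj g).toMonoidHom =
      Subgroup.centralizer ({x} : Set G) := by
    rw [← h1, map_conj_centralizer, h1, h2]
  rw [Subgroup.mem_normalizer_iff]
  intro y
  constructor
  · intro hy
    exact h3.le (Subgroup.mem_map_of_mem _ hy)
  · intro hy
    obtain ⟨z, hz, hzy⟩ := h3.ge hy
    rw [MulEquiv.coe_toMonoidHom, MulAut.conj_apply] at hzy
    rwa [← mul_left_cancel (mul_right_cancel hzy)]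

/-- A centraliser contains a Sylow subgroup for each of the prime divisors of its order. -/
theorem exists_sylow_le (h : CA G) {x : G} (hx : x ≠ 1) {p : ℕ} [hp : Fact p.Prime]
    (hdvd : p ∣ Nat.card (Subgroup.centralizer ({x} : Set G))) :
    ∃ P : Sylow p G, (P : Subgroup G) ≤ Subgroup.centralizer ({x} : Set G) ∧ (P : Subgroup G) ≠ ⊥ := by
  obtain ⟨a, ha⟩ := exists_prime_orderOf_dvd_card' p hdvd
  have ha1 : (a : G) ≠ 1 := fun he => hp.out.one_lt.ne' (by
    rw [← ha, show a = 1 from Subtype.ext he, orderOf_one])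
  have hzp : IsPGroup p (Subgroup.zpowers (a : G)) := IsPGroup.of_card (n := 1) (by
    rw [Nat.card_zpowers, Subgroup.orderOf_coe, ha, pow_one])
  obtain ⟨P, hP⟩ := hzp.exists_le_sylow
  have hne : (P : Subgroup G) ≠ ⊥ := ne_bot_of_le_ne_bot (by simpa using ha1) hP
  have : Nontrivial P := (Subgroup.nontrivial_iff_ne_bot _).mpr hne
  have := P.2.center_nontrivial
  obtain ⟨z, hz⟩ := exists_ne (1 : Subgroup.center P)
  have hz1 : ((z : P) : G) ≠ 1 := fun he => hz (Subtype.ext (Subtype.ext he))
  have hza : ((z : P) : G) ∈ Subgroup.centralizer ({(a : G)} : Set G) :=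
    Subgroup.mem_centralizer_singleton_iff.mpr
      (congrArg Subtype.val (Subgroup.mem_center_iff.mp z.2 ⟨a, hP (Subgroup.mem_zpowers _)⟩)).symm
  rw [h.eq_of_mem hx ha1 a.2] at hza
  refine ⟨P, fun y hy => ?_, hne⟩
  rw [← h.eq_of_mem hx hz1 hza]
  exact Subgroup.mem_centralizer_singleton_iff.mpr
    (congrArg Subtype.val (Subgroup.mem_center_iff.mp z.2 ⟨y, hy⟩))

theorem solvable_aux : ∀ (n : ℕ) (G : Type u) [Group G] [Finite G], Nat.card G ≤ n →
    Odd (Nat.card G) → CA G → Group.IsSolvable G := by
  intro n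
  induction n with
  | zero => intro G _ _ hn; exact absurd hn (Nat.card_pos (α := G)).not_ge
  | succ n ih =>
  intro G _ _ hn hodd h
  have hsub : ∀ H : Subgroup G, H ≠ ⊤ → Group.IsSolvable H := by
    intro H hH
    refine ih H ?_ (hodd.of_dvd_nat H.card_subgroup_dvd_card) fun x hx a ha b hb => Subtype.ext ?_
    · have : Nat.card H < Nat.card G := lt_of_le_of_ne (Subgroup.card_le_card_group H)
        fun e => hH (Subgroup.eq_top_of_card_eq H e)
      omega
    · rw [Subgroup.mem_centralizer_singleton_iff] at ha hb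
      exact h x (fun he => hx (Subtype.ext he)) a
        (Subgroup.mem_centralizer_singleton_iff.mpr (congrArg Subtype.val ha)) b
        (Subgroup.mem_centralizer_singleton_iff.mpr (congrArg Subtype.val hb))
  by_cases hab : ∃ x : G, x ≠ 1 ∧ Subgroup.centralizer ({x} : Set G) = ⊤
  · obtain ⟨x, hx, htop⟩ := hab
    exact Group.isSolvable_of_comm fun a b => h x hx a (htop ▸ Subgroup.mem_top a) b
      (htop ▸ Subgroup.mem_top b)
  push Not at hab
  rcases subsingleton_or_nontrivial G with hG | hG
  · exact Group.isSolvable_of_comm fun a b => Subsingleton.elim _ _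
  by_cases hsimple : ∃ N : Subgroup G, N.Normal ∧ N ≠ ⊥ ∧ N ≠ ⊤
  · obtain ⟨N, hN, hNb, hNt⟩ := hsimple
    have hNsolv := hsub N hNt
    -- an abelian normal subgroup
    obtain ⟨V, hV, hVb, hVc⟩ : ∃ V : Subgroup G, V.Normal ∧ V ≠ ⊥ ∧
        ∀ a ∈ V, ∀ b ∈ V, a * b = b * a := by
      obtain ⟨m, hm⟩ := (Group.isSolvable_def N).mp hNsolv
      classical
      have hex : ∃ k, derivedSeries N k = ⊥ := ⟨m, hm⟩
      have hk0 : Nat.find hex ≠ 0 := by
        intro h0
        have := Nat.find_spec hex
        rw [h0, derivedSeries_zero] at this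
        have hnt : Nontrivial N := (Subgroup.nontrivial_iff_ne_bot N).mpr hNb
        exact top_ne_bot this
      obtain ⟨k, hk⟩ := Nat.exists_eq_succ_of_ne_zero hk0
      have hspec := Nat.find_spec hex
      rw [hk, derivedSeries_succ] at hspec
      have hmin := Nat.find_min hex (show k < Nat.find hex by omega)
      have hchar : (derivedSeries N k).Characteristic := derivedSeries_characteristic N k
      refine ⟨(derivedSeries N k).map N.subtype, ConjAct.normal_of_characteristic_of_normal,
        fun e => hmin ((Subgroup.map_eq_bot_iff_of_injective _ N.subtype_injective).mp e), ?_⟩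
      rintro _ ⟨a, ha, rfl⟩ _ ⟨b, hb, rfl⟩
      have : a * b * a⁻¹ * b⁻¹ = 1 := by
        rw [← Subgroup.mem_bot, ← hspec]
        exact Subgroup.commutator_mem_commutator ha hb
      have h2 : a * b = b * a := by
        calc a * b = a * b * a⁻¹ * b⁻¹ * (b * a) := by group
          _ = b * a := by rw [this, one_mul]
      exact congrArg Subtype.val h2
    obtain ⟨x, hxV, hx1⟩ := V.bot_or_exists_ne_one.resolve_left hVb
    set A := Subgroup.centralizer ({x} : Set G) with hA
    have hVA : V ≤ A := fun v hv => Subgroup.mem_centralizer_singleton_iff.mpr (hVc v hv x hxV)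
    have hAn : A.Normal := Subgroup.normalizer_eq_top_iff.mp (top_le_iff.mp fun g _ =>
      mem_normalizer_of_conj_mem h hx1 hx1 (mem_self x) (hVA (hV.conj_mem x hxV g)))
    have hcop : Nat.Coprime (Nat.card A) A.index := by
      refine Nat.coprime_of_dvd fun p hp hpA hpi => ?_
      have := Fact.mk hp
      obtain ⟨P, hP, -⟩ := exists_sylow_le h hx1 hpA
      exact P.not_dvd_index (hpi.trans (Subgroup.index_dvd_of_le hP))
    obtain ⟨B, hB⟩ := Subgroup.exists_right_complement'_of_coprime hcop
    have hBt : B ≠ ⊤ := by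
      intro hBe
      have h1 : A = ⊥ := Subgroup.isComplement'_top_right.mp (hBe ▸ hB)
      have : x ∈ A := mem_self x
      rw [h1, Subgroup.mem_bot] at this
      exact hx1 this
    have hBs := hsub B hBt
    have hAs : Group.IsSolvable A := Group.isSolvable_of_comm fun a b =>
      Subtype.ext (h x hx1 a a.2 b b.2)
    refine Group.isSolvable_of_ker_le_range A.subtype (QuotientGroup.mk' A) ?_ (hG'' := ?_)
    · rw [QuotientGroup.ker_mk', Subgroup.range_subtype]
    · refine Group.isSolvable_of_surjective (f := (QuotientGroup.mk' A).comp B.subtype) fun q => ?_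
      obtain ⟨g, rfl⟩ := QuotientGroup.mk'_surjective A q
      obtain ⟨⟨a, b⟩, hab'⟩ := hB.surjective g
      refine ⟨b, ?_⟩
      rw [MonoidHom.comp_apply, ← hab', map_mul]
      rw [show QuotientGroup.mk' A (a : G) = 1 from (QuotientGroup.eq_one_iff _).mpr a.2, one_mul]
      rfl
  -- the simple case
  push Not at hsimple
  exfalso
  let T := {A : Subgroup G // ∃ x : G, x ≠ 1 ∧ A = Subgroup.centralizer ({x} : Set G)}
  let s : Setoid T :=
    { r := fun A B => ∃ g : G, B.1 = A.1.map (MulAut.conj g).toMonoidHom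
      iseqv :=
        { refl := fun A => ⟨1, by ext; simp [Subgroup.mem_map]⟩
          symm := by
            rintro A B ⟨g, hg⟩
            refine ⟨g⁻¹, ?_⟩
            rw [hg, Subgroup.map_map]
            conv_lhs => rw [← Subgroup.map_id A.1]
            congr 1
            ext y
            simp [mul_assoc]
          trans := by
            rintro A B C ⟨g, hg⟩ ⟨k, hk⟩
            refine ⟨k * g, ?_⟩
            rw [hk, hg, Subgroup.map_map]
            congr 1
            ext y
            simp [mul_assoc] } }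
  let ι := Quotient s
  have : Finite T := inferInstance
  have := Fintype.ofFinite ι
  let A : ι → Subgroup G := fun i => i.out.1
  choose x hx hA using fun i : ι => i.out.2
  have hA' : ∀ i, A i = Subgroup.centralizer ({x i} : Set G) := hA
  have hAne : ∀ i, A i ≠ ⊥ := fun i he => hx i (by
    rw [← Subgroup.mem_bot, ← he, hA']; exact mem_self _)
  have hnotnormal : ∀ i, ¬ (A i).Normal := fun i hn' => by
    have := hsimple _ hn' (hAne i)
    exact hab (x i) (hx i) ((hA' i) ▸ this)
  have hlt : ∀ i, A i < Subgroup.normalizer (A i : Set G) := by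
    intro i
    refine lt_of_le_of_ne Subgroup.le_normalizer fun he => ?_
    obtain ⟨p, hp, hdvd⟩ := Nat.exists_prime_and_dvd (n := Nat.card (A i))
      (fun e => hAne i (Subgroup.card_eq_one.mp e))
    have := Fact.mk hp
    rw [hA'] at hdvd
    obtain ⟨P, hPA, hPne⟩ := exists_sylow_le h (hx i) hdvd
    have hNP : Subgroup.normalizer (P : Set G) ≤ Subgroup.centralizer (P : Set G) := by
      intro g hg
      obtain ⟨a, haP, ha1⟩ := (P : Subgroup G).bot_or_exists_ne_one.resolve_left hPne
      have hgA : g ∈ A i := by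
        rw [he, hA']
        exact mem_normalizer_of_conj_mem h (hx i) ha1 (hPA haP)
          (hPA ((Subgroup.mem_normalizer_iff.mp hg a).mp haP))
      rw [hA'] at hgA
      exact Subgroup.mem_centralizer_iff.mpr fun y hy => h (x i) (hx i) y (hPA hy) g hgA
    have hc := MonoidHom.ker_transferSylow_isComplement' P hNP
    by_cases hk : (MonoidHom.transferSylow P hNP).ker = ⊥
    · rw [hk] at hc
      have hPt : (P : Subgroup G) = ⊤ := Subgroup.isComplement'_bot_left.mp hc
      exact hab (x i) (hx i) (top_le_iff.mp (hPt ▸ hPA))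
    · have hkt := hsimple _ inferInstance hk
      rw [hkt] at hc
      exact hPne (Subgroup.isComplement'_top_left.mp hc)
  have hTI : ∀ i, Cfsg.IsTISubset (A i : Set G) := by
    intro i g hg y hy hgy
    by_contra hy1
    rw [SetLike.mem_coe, hA'] at hy hgy
    exact hg ((hA' i) ▸ mem_normalizer_of_conj_mem h (hx i) hy1 hy hgy)
  have hcover : ∀ g : G, g ≠ 1 → ∃ i, ∃ y : G, y * g * y⁻¹ ∈ A i := by
    intro g hg
    let t : T := ⟨Subgroup.centralizer ({g} : Set G), g, hg, rfl⟩
    obtain ⟨k, hk⟩ : s.r t (Quotient.mk s t).out := Setoid.symm (Quotient.mk_out (s := s) t)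
    refine ⟨Quotient.mk s t, k, ?_⟩
    show k * g * k⁻¹ ∈ (Quotient.mk s t).out.1
    rw [hk]
    exact ⟨g, mem_self g, rfl⟩
  have hcop : ∀ i j, i ≠ j → Nat.Coprime (Nat.card (A i)) (Nat.card (A j)) := by
    intro i j hij
    refine Nat.coprime_of_dvd fun p hp hpi hpj => hij ?_
    have := Fact.mk hp
    rw [hA'] at hpi hpj
    obtain ⟨P, hP, hPne⟩ := exists_sylow_le h (hx i) hpi
    obtain ⟨Q, hQ, -⟩ := exists_sylow_le h (hx j) hpj
    obtain ⟨g, hg⟩ := MulAction.exists_smul_eq G P Q
    obtain ⟨a, haP, ha1⟩ := (P : Subgroup G).bot_or_exists_ne_one.resolve_left hPne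
    have hQa : g * a * g⁻¹ ∈ (Q : Subgroup G) := by
      rw [← hg]
      exact ⟨a, haP, rfl⟩
    have h1 := h.eq_of_mem (hx i) ha1 (hP haP)
    have h2 := h.eq_of_mem (hx j) (fun he => ha1 (conj_eq_one_iff.mp he)) (hQ hQa)
    have h3 : (j.out).1 = (i.out).1.map (MulAut.conj g).toMonoidHom := by
      rw [hA j, hA i, ← h1, map_conj_centralizer, h2]
    rw [← i.out_eq, ← j.out_eq]
    exact Quotient.sound ⟨g, h3⟩
  have hι : 2 ≤ Fintype.card ι := by
    by_contra hlt2
    have hcount := Cfsg.Agent.S1527.result A hcop hTI hcover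
    obtain ⟨g, hg⟩ := exists_ne (1 : G)
    obtain ⟨i, -⟩ := hcover g hg
    have hsub1 : ∀ j, j = i := fun j => Fintype.card_le_one_iff.mp (by omega) j i
    rw [Finset.sum_eq_single i (fun j _ hj => absurd (hsub1 j) hj)
      (fun hh => absurd (Finset.mem_univ i) hh)] at hcount
    have hmul := Subgroup.index_mul_card (Subgroup.normalizer (A i : Set G))
    have hle : Nat.card (A i) < Nat.card (Subgroup.normalizer (A i : Set G)) :=
      lt_of_le_of_ne (Subgroup.card_le_of_le (hlt i).le)
        fun e => (hlt i).ne (Subgroup.eq_of_le_of_card_ge (hlt i).le e.ge)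
    have hne1 : 1 < (Subgroup.normalizer (A i : Set G)).index :=
      Subgroup.one_lt_index_of_ne_top fun e => hnotnormal i (Subgroup.normalizer_eq_top_iff.mp e)
    have hpos : 0 < Nat.card (A i) := Nat.card_pos
    have hgpos : 0 < Nat.card G := Nat.card_pos
    set N := Nat.card (Subgroup.normalizer (A i : Set G))
    set I := (Subgroup.normalizer (A i : Set G)).index
    have h5 : I * (Nat.card (A i) - 1) + 2 * I ≤ I * N := by
      rw [mul_comm 2 I, ← Nat.mul_add]
      exact Nat.mul_le_mul_left _ (by omega)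
    omega
  exact Cfsg.Agent.S1526.result hodd hι (fun i => Subgroup.normalizer (A i : Set G)) A hlt hAne
    (fun i y hy z hz => (Subgroup.mem_normalizer_iff.mp hy z).mp hz)
    (fun i z hz hz1 w hw => by
      rw [hA'] at hz ⊢
      rw [← h.eq_of_mem (hx i) hz1 hz]
      exact (Subgroup.mem_inf.mp hw).2)
    hcop (fun i => ⟨hTI i, rfl⟩) hcover


/-- The CA-Theorem for odd order: a finite group of odd order in which every non-identity element has an abelian centralizer is solvable. -/
theorem result {G : Type*} [Group G] [Finite G] (hodd : Odd (Nat.card G)) (hCA : ∀ x : G, x ≠ 1 → ∀ a ∈ Subgroup.centralizer ({x} : Set G), ∀ b ∈ Subgroup.centralizer ({x} : Set G), a * b = b * a) : Group.IsSolvable G := by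
  exact solvable_aux (Nat.card G) G le_rfl hodd hCA

end Cfsg.Agent.S0182
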