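import Cfsg.Statements.S3889
import Mathlib
-- import your own Cfsg.Agent.* helpers here

set_option autoImplicit false
open Cfsg

namespace Cfsg.Agent.S3889

/-- A finite abelian group that is the union of a family of proper subgroups any two of which intersect trivially is elementary abelian: its exponent is a prime. -/
theorem result {G : Type*} [CommGroup G] [Finite G] (𝓑 : Set (Subgroup G)) (hprop : ∀ B ∈ 𝓑, B ≠ ⊤)
    (hcov : ∀ g : G, ∃ B ∈ 𝓑, g ∈ B) (hdisj : ∀ B ∈ 𝓑, ∀ C ∈ 𝓑, B ≠ C → B ⊓ C = ⊥) :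
    (Monoid.exponent G).Prime := by
  classical
  obtain ⟨B₁, hB₁, -⟩ := hcov 1
  obtain ⟨g, -, hg⟩ := SetLike.exists_of_lt (lt_top_iff_ne_top.2 (hprop B₁ hB₁))
  have hg1 : g ≠ 1 := fun h => hg (h ▸ B₁.one_mem)
  have huniq : ∀ a : G, a ≠ 1 → ∀ B ∈ 𝓑, ∀ C ∈ 𝓑, a ∈ B → a ∈ C → B = C := fun a ha B hB C hC hb hc => by
    by_contra hne
    have : a ∈ B ⊓ C := ⟨hb, hc⟩
    rw [hdisj B hB C hC hne, Subgroup.mem_bot] at this
    exact ha this
  have hdiff : ∀ a b : G, a ≠ 1 → b ≠ 1 → (∀ B ∈ 𝓑, a ∈ B → b ∉ B) → ∀ n : ℕ, a ^ n = 1 → b ^ n = 1 := by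
    intro a b ha hb hab n hn
    by_contra hbn
    obtain ⟨B, hB, haB⟩ := hcov a
    obtain ⟨C, hC, hbC⟩ := hcov b
    obtain ⟨D, hD, habD⟩ := hcov (a * b)
    have hCD : C = D := huniq _ hbn C hC D hD (pow_mem hbC n) (by
      have := pow_mem habD n
      rwa [mul_pow, hn, one_mul] at this)
    subst hCD
    have haC : a ∈ C := by simpa using mul_mem habD (inv_mem hbC)
    exact hab C hC haC hbC
  have hord : ∀ a b : G, a ≠ 1 → b ≠ 1 → orderOf a = orderOf b := by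
    intro a b ha hb
    have h1 : ∀ a b : G, a ≠ 1 → b ≠ 1 → (∀ B ∈ 𝓑, a ∈ B → b ∉ B) → orderOf a = orderOf b := by
      intro a b ha hb hab
      exact Nat.dvd_antisymm
        (orderOf_dvd_of_pow_eq_one (hdiff b a hb ha (fun B hB hbB haB => hab B hB haB hbB) _ (pow_orderOf_eq_one b)))
        (orderOf_dvd_of_pow_eq_one (hdiff a b ha hb hab _ (pow_orderOf_eq_one a)))
    by_cases hab : ∀ B ∈ 𝓑, a ∈ B → b ∉ B
    · exact h1 a b ha hb hab
    · push Not at hab
      obtain ⟨B, hB, haB, hbB⟩ := hab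
      obtain ⟨c, -, hc⟩ := SetLike.exists_of_lt (lt_top_iff_ne_top.2 (hprop B hB))
      have hc1 : c ≠ 1 := fun h => hc (h ▸ B.one_mem)
      rw [h1 a c ha hc1 fun C hC haC hcC => hc (huniq a ha B hB C hC haB haC ▸ hcC),
        h1 b c hb hc1 fun C hC hbC hcC => hc (huniq b hb B hB C hC hbB hbC ▸ hcC)]
  haveI : Nontrivial G := nontrivial_of_ne g 1 hg1
  obtain ⟨p, hp, hpd⟩ := Nat.exists_prime_and_dvd (Finite.one_lt_card (α := G)).ne'
  haveI := Fact.mk hp
  obtain ⟨x, hx⟩ := exists_prime_orderOf_dvd_card' (G := G) p hpd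
  have hx1 : x ≠ 1 := fun h => by rw [h, orderOf_one] at hx; exact hp.ne_one hx.symm
  have : Monoid.exponent G = p := Nat.dvd_antisymm
    (Monoid.exponent_dvd_of_forall_pow_eq_one fun a => by
      rcases eq_or_ne a 1 with rfl | ha
      · exact one_pow p
      · rw [← hx, ← hord a x ha hx1, pow_orderOf_eq_one])
    (hx ▸ Monoid.order_dvd_exponent x)
  rw [this]; exact hp

end Cfsg.Agent.S3889
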