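import Cfsg.Statements.S0111
import Mathlib
-- import your own Cfsg.Agent.* helpers here

set_option autoImplicit false
open Cfsg

namespace Cfsg.Agent.S0111

/-- The Thompson transfer lemma states that an involution of a Sylow 2-subgroup P lying outside a subgroup Q of index 2 in P either lies outside some normal subgroup of index 2 in G or is conjugate to an element of Q. -/
theorem result {G : Type*} [Group G] [Finite G] (P : Sylow 2 G) (Q : Subgroup G) (hQP : Q ≤ (P : Subgroup G)) (hQi : Q.relIndex (P : Subgroup G) = 2) (u : G) (hu : orderOf u = 2) (huP : u ∈ (P : Subgroup G)) (huQ : u ∉ Q) : (∃ M : Subgroup G, M.Normal ∧ M.index = 2 ∧ u ∉ M) ∨ ∃ g : G, g * u * g⁻¹ ∈ Q := by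
  by_contra hcon
  push Not at hcon
  obtain ⟨h1, h2⟩ := hcon
  haveI := Fact.mk Nat.prime_two
  set R : Subgroup (P : Subgroup G) := Q.subgroupOf (P : Subgroup G) with hR
  have hRi : R.index = 2 := hQi
  haveI : R.Normal := Subgroup.normal_of_index_eq_two hRi
  haveI : IsCyclic ((P : Subgroup G) ⧸ R) := by
    haveI : Fact (Nat.card ((P : Subgroup G) ⧸ R)).Prime :=
      ⟨by rw [← Subgroup.index_eq_card, hRi]; exact Nat.prime_two⟩
    exact isCyclic_of_prime_card rfl
  letI : CommGroup ((P : Subgroup G) ⧸ R) := IsCyclic.commGroup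
  let φ : (P : Subgroup G) →* (P : Subgroup G) ⧸ R := QuotientGroup.mk' R
  let V : G →* (P : Subgroup G) ⧸ R := MonoidHom.transfer φ
  set c : (P : Subgroup G) ⧸ R := φ ⟨u, huP⟩ with hc
  have hc1 : c ≠ 1 := fun h => huQ ((QuotientGroup.eq_one_iff (N := R) (⟨u, huP⟩ : (P : Subgroup G))).1 h)
  have hcard2 : Nat.card ((P : Subgroup G) ⧸ R) = 2 := by rw [← Subgroup.index_eq_card, hRi]
  have hcu : ∀ a : (P : Subgroup G) ⧸ R, a ≠ 1 → a = c := by
    intro a ha
    obtain ⟨x, y, hxy, huniv⟩ := Nat.card_eq_two_iff.1 hcard2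
    have hmem : ∀ z : (P : Subgroup G) ⧸ R, z = x ∨ z = y := fun z => by
      have : z ∈ ({x, y} : Set ((P : Subgroup G) ⧸ R)) := huniv ▸ Set.mem_univ z
      exact this
    rcases hmem 1 with h | h <;> rcases hmem a with ha' | ha' <;> rcases hmem c with hc' | hc' <;>
      first
        | exact ha'.trans hc'.symm
        | exact absurd (ha'.trans h.symm) ha
        | exact absurd (hc'.trans h.symm) hc1
  have hu2 : u ^ 2 = 1 := hu ▸ pow_orderOf_eq_one u
  have hc2 : c ^ 2 = 1 := by
    rw [hc, ← map_pow]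
    have : (⟨u, huP⟩ : (P : Subgroup G)) ^ 2 = 1 := Subtype.ext hu2
    rw [this, map_one]
  have hV : V u = c := by
    haveI : Fintype (Quotient (MulAction.orbitRel (Subgroup.zpowers u) (G ⧸ (P : Subgroup G)))) :=
      Fintype.ofFinite _
    have hsum : V u = c ^ (P : Subgroup G).index := by
      rw [Subgroup.index_eq_sum_minimalPeriod (P : Subgroup G) u, ← Finset.prod_pow_eq_pow_sum]
      show MonoidHom.transfer φ u = _
      rw [MonoidHom.transfer_eq_prod_quotient_orbitRel_zpowers_quot]
      refine Finset.prod_congr rfl fun q _ => ?_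
      set k := Function.minimalPeriod (fun x => u • x) q.out with hk
      have hper : Function.IsPeriodicPt (fun x : G ⧸ (P : Subgroup G) => u • x) 2 q.out := by
        show ((fun x : G ⧸ (P : Subgroup G) => u • x))^[2] q.out = q.out
        rw [smul_iterate, hu2]
        exact one_smul _ _
      rcases (Nat.dvd_prime Nat.prime_two).1 hper.minimalPeriod_dvd with h | h
      · simp only [h, pow_one]
        refine hcu _ fun hφ => ?_
        have := (QuotientGroup.eq_one_iff (N := R) _).1 hφ
        rw [hR, Subgroup.mem_subgroupOf] at this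
        exact h2 (q.out.out⁻¹) (by simpa using this)
      · simp only [h, hc2, hu2, mul_one, inv_mul_cancel]
        exact map_one φ
    rw [hsum]
    obtain ⟨j, hj⟩ : Odd (P : Subgroup G).index :=
      Nat.odd_iff.2 (Nat.two_dvd_ne_zero.1 P.not_dvd_index)
    rw [hj, pow_succ, pow_mul, hc2, one_pow, one_mul]
  refine hc1 ?_
  rw [← hV]
  refine h1 V.ker inferInstance ?_
  rw [Subgroup.index_ker, show V.range = ⊤ from ?_, Subgroup.card_top, hcard2]
  rw [eq_top_iff]
  intro a _
  by_cases ha : a = 1
  · exact ⟨1, by rw [map_one, ha]⟩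
  · exact ⟨u, hV.trans (hcu a ha).symm⟩

end Cfsg.Agent.S0111
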