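import Cfsg.Statements.S0118
import Mathlib
import Cfsg.Agent.Lib.PLocal.ZJElementaryClosed
import Cfsg.Agent.Lib.PStable.ZJControl
import Cfsg.Agent.Lib.PStable.Involve
-- import your own Cfsg.Agent.* helpers here

set_option autoImplicit false
open Cfsg

namespace Cfsg.Agent.S0118

open Cfsg.Lib.PLocal Cfsg.Lib.PStable

theorem not_involves_qd {G : Type*} [Group G] {p : ℕ} [Fact p.Prime]
    (hfree : ¬ ∃ (H K : Subgroup G) (hK : (K.subgroupOf H).Normal), Nonempty ((H ⧸ K.subgroupOf H) ≃* Matrix.SpecialLinearGroup (Fin 2) (ZMod p))) :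
    ¬ Cfsg.Involves ↥(Cfsg.qd p) G := by
  rintro ⟨H, K, hn, ⟨e⟩⟩
  haveI := hn
  have hinj : ∀ (m m' : Matrix.SpecialLinearGroup (Fin 2) (ZMod p)) (c c' : Fin 2 → ZMod p), aff m c = aff m' c' → m = m' := by
    intro m m' c c' h
    have h00 := congrArg (fun M : Matrix.SpecialLinearGroup (Fin 3) (ZMod p) => (M : Matrix (Fin 3) (Fin 3) (ZMod p)) 0 0) h
    have h01 := congrArg (fun M : Matrix.SpecialLinearGroup (Fin 3) (ZMod p) => (M : Matrix (Fin 3) (Fin 3) (ZMod p)) 0 1) h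
    have h10 := congrArg (fun M : Matrix.SpecialLinearGroup (Fin 3) (ZMod p) => (M : Matrix (Fin 3) (Fin 3) (ZMod p)) 1 0) h
    have h11 := congrArg (fun M : Matrix.SpecialLinearGroup (Fin 3) (ZMod p) => (M : Matrix (Fin 3) (Fin 3) (ZMod p)) 1 1) h
    simp [aff] at h00 h01 h10 h11
    apply Subtype.ext
    ext i j
    fin_cases i <;> fin_cases j <;> assumption
  have hex : ∀ M : Cfsg.qd p, ∃ m, ∃ c, aff m c = (M : Matrix.SpecialLinearGroup (Fin 3) (ZMod p)) := fun M => exists_aff M.2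
  choose f c hf using hex
  let φ : Cfsg.qd p →* Matrix.SpecialLinearGroup (Fin 2) (ZMod p) := MonoidHom.mk' f fun M N => by
    refine hinj _ _ (c (M * N)) (c M + (f M : Matrix (Fin 2) (Fin 2) (ZMod p)).mulVec (c N)) ?_
    rw [hf, aff_mul _ _ (c M) (c N), hf, hf]; rfl
  have hφ : Function.Surjective φ := fun m => ⟨⟨aff m 0, aff_mem m 0⟩, hinj _ _ (c _) 0 (hf _)⟩
  obtain ⟨R, hR, hiso⟩ := section_of_hom H.subtype H.subtype_injective
    (φ.comp (e.toMonoidHom.comp (QuotientGroup.mk' (K.subgroupOf H))))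
    (hφ.comp (e.surjective.comp (QuotientGroup.mk'_surjective _)))
  exact hfree ⟨_, R, hR, hiso⟩

/-- Glauberman's ZJ-Theorem, in the case of groups with no section isomorphic to SL(2,p), p odd: conjugation of subsets of a Sylow p-subgroup P inside P is always induced from the normalizer of Z(J(P)). -/
theorem result {G : Type*} [Group G] [Finite G] {p : ℕ} [Fact p.Prime] (hp : p ≠ 2) (hfree : ¬ ∃ (H K : Subgroup G) (hK : (K.subgroupOf H).Normal), Nonempty ((H ⧸ K.subgroupOf H) ≃* Matrix.SpecialLinearGroup (Fin 2) (ZMod p))) (P : Sylow p G) (A : Set G) (hA : A ⊆ (P : Set G)) (g : G) (hAg : (fun a => g⁻¹ * a * g) '' A ⊆ (P : Set G)) : ∃ n ∈ Subgroup.normalizer (Cfsg.centerThompsonOf p (P : Subgroup G) : Set G), ∀ a ∈ A, n⁻¹ * a * n = g⁻¹ * a * g := by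
  have hW : IsSubOp p (fun (H : Type _) (_ : Group H) (D : Subgroup H) => Cfsg.Lib.PLocal.jZ p D) :=
    { le := fun _ _ _ D => jZ_le D
      map := fun _ _ _ _ _ f _ hf => jZ_map f hf
      ne_bot := fun _ _ _ _ hD hne => jZ_ne_bot hD hne }
  have hc := ctrl_of_class hW (Free p)
    (fun _ _ _ hf H h => hf (involves_of_subgroup H h))
    (fun _ _ _ hf N _ h => hf (involves_of_quotient _ (QuotientGroup.mk'_surjective N) h))
    (fun _ _ _ hf hc S D hD =>
      jZ_normal_closed hp hc S D hD (stableFor_of_normalizerPStable (normalizerPStable_of_free hp hf) _))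
    (Nat.card G) G rfl (not_involves_qd hfree) P _ (stronglyClosed_self _)
  obtain ⟨x, hx, hxe⟩ := hc g⁻¹ A hA fun a ha => by
    rw [inv_inv]; exact hAg ⟨a, ha, rfl⟩
  refine ⟨x⁻¹, ?_, fun a ha => ?_⟩
  · rw [centerThompsonOf_eq_jZ]; exact inv_mem hx
  · rw [inv_inv, ← hxe a ha, inv_inv]

end Cfsg.Agent.S0118
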