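import Cfsg.Statements.S0214
import Mathlib
import Cfsg.Agent.Lib.TwoFus.GeneratedCore
-- import your own Cfsg.Agent.* helpers here

set_option autoImplicit false
open Cfsg

namespace Cfsg.Agent.S0214

/-- Let H be a proper subgroup of the finite group G and P a nontrivial Sylow 2-subgroup of H. Then H is strongly embedded in G if and only if N_G(X) ≤ H for every nontrivial subgroup X of P. -/
theorem result {G : Type*} [Group G] [Finite G] (H : Subgroup G) (hH : H ≠ ⊤) (P : Sylow 2 ↥H) (hP : (P : Subgroup ↥H) ≠ ⊥) : Cfsg.IsStronglyEmbedded H ↔ (∀ X : Subgroup ↥H, X ≤ (P : Subgroup ↥H) → X ≠ ⊥ → Subgroup.normalizer ((X.map H.subtype : Subgroup G) : Set G) ≤ H) := by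
  have : Fact (Nat.Prime 2) := ⟨Nat.prime_two⟩
  have hPr : ¬ Cfsg.PRankLE 2 0 ↥(P : Subgroup ↥H) := Cfsg.Lib.TwoFus.not_rank_zero P.2 hP
  have heven : Even (Nat.card H) := by
    rw [even_iff_two_dvd]
    have : Nontrivial (P : Subgroup ↥H) := (Subgroup.nontrivial_iff_ne_bot _).2 hP
    obtain ⟨n, hn, hc⟩ := P.2.nontrivial_iff_card.1 inferInstance
    exact (hc ▸ dvd_pow_self 2 (Nat.pos_iff_ne_zero.1 hn)).trans
      (Subgroup.card_subgroup_dvd_card _)
  constructor
  · intro hse X hX hX1 g hg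
    by_contra hgH
    have hXp : IsPGroup 2 ↥(X.map H.subtype) := (P.2.to_le hX).map _
    have hne : X.map H.subtype ≠ ⊥ := fun e =>
      hX1 ((Subgroup.map_eq_bot_iff_of_injective _ H.subtype_injective).1 e)
    have : Nontrivial ↥(X.map H.subtype) := (Subgroup.nontrivial_iff_ne_bot _).2 hne
    obtain ⟨n, hn, hc⟩ := hXp.nontrivial_iff_card.1 inferInstance
    refine Nat.not_odd_iff_even.2 (even_iff_two_dvd.2 ?_) (hse.2.2 g hgH)
    refine (hc ▸ dvd_pow_self 2 (Nat.pos_iff_ne_zero.1 hn)).trans (Subgroup.card_dvd_of_le ?_)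
    refine le_inf (Subgroup.map_subtype_le _) fun x hx => ?_
    exact ⟨g⁻¹ * x * g, Subgroup.map_subtype_le _ ((Subgroup.mem_normalizer_iff''.1 hg x).1 hx),
      by simp [MulAut.conj_apply, mul_assoc]⟩
  · intro h
    refine ⟨hH, heven, fun g hg => ?_⟩
    by_contra hodd
    rw [Nat.not_odd_iff_even, even_iff_two_dvd] at hodd
    obtain ⟨s, hs⟩ := exists_prime_orderOf_dvd_card' 2 hodd
    have hsG : orderOf (s : G) = 2 := by rwa [Subgroup.orderOf_coe]
    have hp : IsPGroup 2 ↥(Subgroup.zpowers (s : G)) :=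
      IsPGroup.of_card (n := 1) (by rw [Nat.card_zpowers, hsG, pow_one])
    refine hg (Cfsg.Lib.TwoFus.generated_core_mem H P hPr (fun Q hQ hr => ?_)
      (Subgroup.zpowers_le.2 s.2.1) hp
      (Cfsg.Lib.TwoFus.not_rank_zero hp (fun e => ?_)) ?_)
    · have hQH : Q ≤ H := hQ.trans (Subgroup.map_subtype_le _)
      have hsub : Q.subgroupOf H ≤ (P : Subgroup ↥H) := by
        intro a ha
        obtain ⟨b, hb, hbe⟩ := hQ ha
        rwa [← Subtype.ext (show (b : G) = a from hbe)]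
      have h1 := h (Q.subgroupOf H) hsub (fun e => hr (by
        have hQb : Q = ⊥ := (Subgroup.subgroupOf_eq_bot.1 e).eq_bot_of_le hQH
        subst hQb
        exact Cfsg.Lib.TwoFus.rank_zero_bot))
      rwa [Subgroup.subgroupOf_map_subtype, inf_eq_left.2 hQH] at h1
    · rw [Subgroup.zpowers_eq_bot] at e
      rw [e, orderOf_one] at hsG
      omega
    · intro e he
      obtain ⟨i, rfl⟩ := Subgroup.mem_zpowers_iff.1 he
      obtain ⟨r, hr, hrs⟩ := s.2.2
      rw [show g⁻¹ * (s : G) ^ i * g = (g⁻¹ * (s : G) * g⁻¹⁻¹) ^ i by rw [conj_zpow, inv_inv],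
        show g⁻¹ * (s : G) * g⁻¹⁻¹ = r by
          rw [← hrs]; show g⁻¹ * (g * r * g⁻¹) * g⁻¹⁻¹ = r; group]
      exact H.zpow_mem hr i

end Cfsg.Agent.S0214
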