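import Cfsg.Statements.S0223
import Mathlib
import Cfsg.Agent.Lib.Invol.Dihedral
-- import your own Cfsg.Agent.* helpers here

set_option autoImplicit false
open Cfsg

namespace Cfsg.Agent.S0223

/-- Let H be a proper subgroup of even order of the finite group G. Then H is strongly embedded if and only if (i) C_G(t) ≤ H for every involution t of H and (ii) H controls fusion of its involutions: involutions of H conjugate in G are conjugate in H. -/
theorem result {G : Type*} [Group G] [Finite G] (H : Subgroup G) (hH : H ≠ ⊤) (heven : Even (Nat.card H)) : Cfsg.IsStronglyEmbedded H ↔ ((∀ t ∈ H, orderOf t = 2 → Subgroup.centralizer ({t} : Set G) ≤ H) ∧ (∀ t ∈ H, ∀ s ∈ H, orderOf t = 2 → orderOf s = 2 → IsConj t s → ∃ h ∈ H, h * t * h⁻¹ = s)) := by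
  constructor
  · rintro ⟨-, -, h⟩
    have key : ∀ g : G, ∀ t ∈ H, orderOf t = 2 → g * t * g⁻¹ ∈ H → g ∈ H := by
      intro g t ht ht2 hg
      by_contra hgH
      have hodd := h g hgH
      have hmem : g * t * g⁻¹ ∈ H ⊓ H.map (MulAut.conj g).toMonoidHom :=
        ⟨hg, ⟨t, ht, rfl⟩⟩
      have h2 : 2 ∣ Nat.card ↥(H ⊓ H.map (MulAut.conj g).toMonoidHom) :=
        (Cfsg.Lib.Invol.orderTwo_conj g ht2) ▸ Subgroup.orderOf_dvd_natCard _ hmem
      exact Nat.not_odd_iff_even.2 (even_iff_two_dvd.2 h2) hodd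
    refine ⟨fun t ht ht2 g hg => key g t ht ht2 ?_, fun t ht s hs ht2 hs2 hconj => ?_⟩
    · rw [Subgroup.mem_centralizer_singleton_iff.1 hg, mul_inv_cancel_right]
      exact ht
    · obtain ⟨g, hg⟩ := isConj_iff.1 hconj
      exact ⟨g, key g t ht ht2 (hg ▸ hs), hg⟩
  · rintro ⟨h1, h2⟩
    refine ⟨hH, heven, fun g hg => ?_⟩
    by_contra hodd
    rw [Nat.not_odd_iff_even, even_iff_two_dvd] at hodd
    have : Fact (Nat.Prime 2) := ⟨Nat.prime_two⟩
    obtain ⟨s, hs⟩ := exists_prime_orderOf_dvd_card' 2 hodd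
    have hs2 : orderOf (s : G) = 2 := by rw [Subgroup.orderOf_coe]; exact hs
    obtain ⟨t, ht, hts⟩ := s.2.2
    change g * t * g⁻¹ = (s : G) at hts
    have ht2 : orderOf t = 2 := by
      have := Cfsg.Lib.Invol.orderTwo_conj g⁻¹ hs2
      rwa [← hts, show g⁻¹ * (g * t * g⁻¹) * g⁻¹⁻¹ = t by group] at this
    obtain ⟨h, hh, hhs⟩ := h2 t ht s s.2.1 ht2 hs2 (isConj_iff.2 ⟨g, hts⟩)
    have hc : g⁻¹ * h ∈ H := h1 t ht ht2 (Subgroup.mem_centralizer_singleton_iff.2 (by
      calc g⁻¹ * h * t = g⁻¹ * (h * t * h⁻¹) * h := by group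
        _ = g⁻¹ * (g * t * g⁻¹) * h := by rw [hhs, hts]
        _ = t * (g⁻¹ * h) := by group))
    exact hg (by simpa using mul_mem hh (inv_mem hc))

end Cfsg.Agent.S0223
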