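import Cfsg.Statements.S0224
import Mathlib
import Cfsg.Agent.Lib.Invol.Dihedral
-- import your own Cfsg.Agent.* helpers here

set_option autoImplicit false
open Cfsg

namespace Cfsg.Agent.S0224

/-- Let H be a proper subgroup of even order of the finite group G. Then H is strongly embedded if and only if each involution of H fixes exactly one point (namely the coset H) in the action of G on the cosets of H. -/
theorem result {G : Type*} [Group G] [Finite G] (H : Subgroup G) (hH : H ≠ ⊤) (heven : Even (Nat.card H)) : Cfsg.IsStronglyEmbedded H ↔ ∀ t ∈ H, orderOf t = 2 → Nat.card {c : G ⧸ H // t • c = c} = 1 := by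
  have key : ∀ t g : G, t • (g : G ⧸ H) = (g : G ⧸ H) ↔ g⁻¹ * t * g ∈ H := by
    intro t g
    rw [eq_comm, MulAction.Quotient.smul_coe, QuotientGroup.eq, smul_eq_mul, mul_assoc]
  constructor
  · rintro ⟨-, -, h⟩ t ht ht2
    rw [Nat.card_eq_one_iff_exists]
    refine ⟨⟨((1 : G) : G ⧸ H), (key t 1).2 (by simpa using ht)⟩, ?_⟩
    rintro ⟨c, hc⟩
    obtain ⟨g, rfl⟩ := QuotientGroup.mk_surjective c
    refine Subtype.ext (QuotientGroup.eq.2 ?_)
    rw [mul_one]
    refine inv_mem ?_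
    by_contra hg
    have hmem : t ∈ H ⊓ H.map (MulAut.conj g).toMonoidHom :=
      ⟨ht, ⟨g⁻¹ * t * g, (key t g).1 hc, show g * (g⁻¹ * t * g) * g⁻¹ = t by group⟩⟩
    exact Nat.not_odd_iff_even.2
      (even_iff_two_dvd.2 (ht2 ▸ Subgroup.orderOf_dvd_natCard _ hmem)) (h g hg)
  · intro h
    refine ⟨hH, heven, fun g hg => ?_⟩
    by_contra hodd
    rw [Nat.not_odd_iff_even, even_iff_two_dvd] at hodd
    have : Fact (Nat.Prime 2) := ⟨Nat.prime_two⟩
    obtain ⟨s, hs⟩ := exists_prime_orderOf_dvd_card' 2 hodd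
    have hs2 : orderOf (s : G) = 2 := by rw [Subgroup.orderOf_coe]; exact hs
    obtain ⟨u, hu, hus⟩ := s.2.2
    change g * u * g⁻¹ = (s : G) at hus
    have h1 : (s : G) • ((1 : G) : G ⧸ H) = ((1 : G) : G ⧸ H) :=
      (key _ 1).2 (by simpa using s.2.1)
    have h2 : (s : G) • ((g : G) : G ⧸ H) = ((g : G) : G ⧸ H) :=
      (key _ g).2 (by rw [← hus]; simpa [mul_assoc] using hu)
    have huniq := (Nat.card_eq_one_iff_unique.1 (h _ s.2.1 hs2)).1
    have := congrArg Subtype.val
      (huniq.elim (⟨_, h1⟩ : {c : G ⧸ H // (s : G) • c = c}) ⟨_, h2⟩)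
    exact hg (by simpa using QuotientGroup.eq.1 this)

end Cfsg.Agent.S0224
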