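import Cfsg.Statements.S0228
import Mathlib
-- import your own Cfsg.Agent.* helpers here

set_option autoImplicit false
open Cfsg

namespace Cfsg.Agent.S0228

/-- A group of order 12 in which no involution is central is isomorphic to the alternating group on four letters. -/
theorem result {G : Type*} [Group G] [Finite G] (hG : Nat.card G = 12) (hz : ∀ z : G, orderOf z = 2 → z ∉ Subgroup.center G) : Nonempty (G ≃* alternatingGroup (Fin 4)) := by
  classical
  have : Fact (Nat.Prime 3) := ⟨Nat.prime_three⟩
  have : Fact (Nat.Prime 2) := ⟨Nat.prime_two⟩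
  obtain ⟨Q⟩ : Nonempty (Sylow 3 G) := inferInstance
  have h12 : Nat.card G = 3 * 4 := by rw [hG]
  have hQ : Nat.card (Q : Subgroup G) = 3 := by
    rw [Q.card_eq_multiplicity, h12, Nat.factorization_mul (by norm_num) (by norm_num)]
    norm_num [Nat.Prime.factorization_self, Nat.factorization_eq_zero_of_not_dvd]
  have hQi : (Q : Subgroup G).index = 4 := by
    have := (Q : Subgroup G).card_mul_index
    rw [hQ, hG] at this
    omega
  set N := Subgroup.normalizer ((Q : Subgroup G) : Set G) with hN
  have hcount : Nat.card (Sylow 3 G) = N.index := Q.card_eq_index_normalizer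
  have hmod := card_sylow_modEq_one 3 G
  have hdvd : N.index ∣ 4 := hQi ▸ Subgroup.index_dvd_of_le Subgroup.le_normalizer
  have hn4 : N.index = 4 := by
    have hle := Nat.le_of_dvd (by norm_num) hdvd
    have hpos : 0 < N.index := Nat.pos_of_ne_zero Subgroup.index_ne_zero_of_finite
    rw [hcount] at hmod
    unfold Nat.ModEq at hmod
    by_contra hne
    have h1 : N.index = 1 := by interval_cases h : N.index <;> omega
    haveI : (Q : Subgroup G).Normal := Subgroup.normalizer_eq_top_iff.1 (Subgroup.index_eq_one.1 h1)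
    obtain ⟨R⟩ : Nonempty (Sylow 2 G) := inferInstance
    have hR : Nat.card (R : Subgroup G) = 4 := by
      rw [R.card_eq_multiplicity, h12, Nat.factorization_mul (by norm_num) (by norm_num),
        show (4 : ℕ) = 2 ^ 2 from rfl, Nat.Prime.factorization_pow Nat.prime_two]
      norm_num [Nat.factorization_eq_zero_of_not_dvd]
    set C := Subgroup.centralizer ((Q : Subgroup G) : Set G) with hC
    have hi2 : C.relIndex ⊤ ∣ 2 := by
      have key := Subgroup.card_dvd_of_injective _
        (QuotientGroup.kerLift_injective (Q : Subgroup G).normalizerMonoidHom)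
      rw [Subgroup.normalizerMonoidHom_ker, ← Subgroup.index, ← Subgroup.relIndex, ← hN,
        Subgroup.index_eq_one.1 h1] at key
      refine key.trans (dvd_of_eq ?_)
      haveI : IsCyclic ↥(Q : Subgroup G) := isCyclic_of_prime_card hQ
      rw [IsCyclic.card_mulAut, hQ, Nat.totient_prime Nat.prime_three]
    rw [Subgroup.relIndex_top_right] at hi2
    have h2C : 2 ∣ Nat.card C := by
      have := C.card_mul_index
      rcases (Nat.dvd_prime Nat.prime_two).1 hi2 with h | h <;> rw [h] at this <;> omega
    obtain ⟨u, hu⟩ := exists_prime_orderOf_dvd_card' 2 h2C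
    obtain ⟨R', hR'⟩ := (IsPGroup.of_card (n := 1) (by
      rw [Nat.card_zpowers, Subgroup.orderOf_coe, hu, pow_one]) :
        IsPGroup 2 ↥(Subgroup.zpowers (u : G))).exists_le_sylow
    have hR'c : Nat.card (R' : Subgroup G) = 2 ^ 2 := by
      rw [R'.card_eq_multiplicity, ← R.card_eq_multiplicity, hR]
      norm_num
    have hRcomm : IsMulCommutative ↥(R' : Subgroup G) := by
      letI := IsPGroup.commGroupOfCardEqPrimeSq hR'c
      exact ⟨⟨mul_comm⟩⟩
    refine hz (u : G) (by rw [Subgroup.orderOf_coe, hu]) ?_
    refine Subgroup.mem_center_iff.2 fun g => ?_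
    have htop : (Q : Subgroup G) ⊔ (R' : Subgroup G) ≤ Subgroup.centralizer ({(u : G)} : Set G) := by
      refine sup_le (fun q hq => Subgroup.mem_centralizer_singleton_iff.2
        (Subgroup.mem_centralizer_iff.1 u.2 q hq)) (fun r hr => ?_)
      exact Subgroup.mem_centralizer_singleton_iff.2 (congrArg Subtype.val
        (hRcomm.is_comm.comm ⟨r, hr⟩ ⟨(u : G), hR' (Subgroup.mem_zpowers _)⟩))
    have htop' : (Q : Subgroup G) ⊔ (R' : Subgroup G) = ⊤ := by
      refine Subgroup.eq_top_of_card_eq _ (Nat.dvd_antisymm (Subgroup.card_subgroup_dvd_card _) ?_)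
      rw [h12]
      have d1 := Subgroup.card_dvd_of_le (le_sup_left : (Q : Subgroup G) ≤ (Q : Subgroup G) ⊔ (R' : Subgroup G))
      have d2 := Subgroup.card_dvd_of_le (le_sup_right : (R' : Subgroup G) ≤ (Q : Subgroup G) ⊔ (R' : Subgroup G))
      rw [hQ] at d1
      rw [hR'c] at d2
      exact (by norm_num : Nat.Coprime 3 4).mul_dvd_of_dvd_of_dvd d1 d2
    exact Subgroup.mem_centralizer_singleton_iff.1 (htop (htop'.symm ▸ Subgroup.mem_top g))
  have hNQ : N = Q := by
    refine (Subgroup.eq_of_le_of_card_ge Subgroup.le_normalizer ?_).symm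
    have := N.card_mul_index
    rw [hn4, hG] at this
    rw [hQ]
    rw [hN] at this
    omega
  let f : G →* Equiv.Perm (Sylow 3 G) := MulAction.toPermHom G (Sylow 3 G)
  have hker : f.ker = ⊥ := by
    have hle : f.ker ≤ (Q : Subgroup G) := fun g hg => by
      rw [← hNQ]
      exact Sylow.smul_eq_iff_mem_normalizer.1 (Equiv.ext_iff.1 (MonoidHom.mem_ker.1 hg) Q)
    rcases (Nat.dvd_prime Nat.prime_three).1 (hQ ▸ Subgroup.card_dvd_of_le hle) with h | h
    · exact Subgroup.card_eq_one.1 h
    · exfalso
      have e : f.ker = (Q : Subgroup G) := Subgroup.eq_of_le_of_card_ge hle (by rw [h, hQ])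
      haveI : (Q : Subgroup G).Normal := e ▸ MonoidHom.normal_ker f
      rw [hN, Subgroup.normalizer_eq_top, Subgroup.index_top] at hn4
      omega
  have hinj : Function.Injective f := (MonoidHom.ker_eq_bot_iff f).1 hker
  have hcard4 : Nat.card (Sylow 3 G) = Nat.card (Fin 4) := by rw [hcount, hn4, Nat.card_fin]
  obtain ⟨e⟩ := (Finite.card_eq).1 hcard4
  let g : G →* Equiv.Perm (Fin 4) := e.permCongrHom.toMonoidHom.comp f
  have hginj : Function.Injective g := e.permCongrHom.injective.comp hinj
  have hidx : g.range.index = 2 := by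
    have h := g.range.card_mul_index
    rw [← Nat.card_congr (MonoidHom.ofInjective hginj).toEquiv, hG, Nat.card_perm, Nat.card_fin,
      show Nat.factorial 4 = 24 from rfl] at h
    omega
  exact ⟨(MonoidHom.ofInjective hginj).trans
    (MulEquiv.subgroupCongr (Equiv.Perm.eq_alternatingGroup_of_index_eq_two hidx))⟩

end Cfsg.Agent.S0228
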