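import Cfsg.Statements.S0301
import Mathlib
import Cfsg.Agent.Lib.Classical.LowRankIso
import Cfsg.Agent.Lib.Classical.ClassicalOrders
import Cfsg.Agent.Lib.Classical.SymplecticSimple
import Cfsg.Agent.Lib.Classical.SLGroup
import Cfsg.Agent.Lib.Classical.OrthMatrix
import Cfsg.Agent.Lib.Classical.LeviOmega
-- import your own Cfsg.Agent.* helpers here

set_option autoImplicit false
open Cfsg

namespace Cfsg.Agent.S0301

open Matrix in
/-- Transvections preserve the Pfaffian. -/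
lemma pf_transvection {F : Type*} [Field F] (Y : Matrix (Fin 4) (Fin 4) F) (h0 : ∀ a, Y a a = 0) (hs : ∀ a b, Y a b = -Y b a)
    (i j : Fin 4) (hij : i ≠ j) (c : F) :
    let W := Matrix.transvection i j c * Y * (Matrix.transvection i j c)ᵀ
    W 0 1 * W 2 3 + W 0 2 * (-W 1 3) + W 0 3 * W 1 2 = Y 0 1 * Y 2 3 + Y 0 2 * (-Y 1 3) + Y 0 3 * Y 1 2 := by
  have ht : (Matrix.transvection i j c)ᵀ = Matrix.transvection j i c := by
    simp [Matrix.transvection, Matrix.transpose_single]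
  intro W
  simp only [W, ht]
  fin_cases i <;> fin_cases j <;> simp at hij <;>
    simp [h0, hs 1 0, hs 2 0, hs 3 0, hs 2 1, hs 3 1, hs 3 2] <;> ring

open scoped Matrix in
/-- Matrices of determinant one preserve the Pfaffian. -/
lemma pf_det_one {F : Type*} [Field F] (g : Matrix.SpecialLinearGroup (Fin 4) F) (Y : Matrix (Fin 4) (Fin 4) F)
    (h0 : ∀ a, Y a a = 0) (hs : ∀ a b, Y a b = -Y b a) :
    let W := (g : Matrix (Fin 4) (Fin 4) F) * Y * (g : Matrix (Fin 4) (Fin 4) F)ᵀ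
    W 0 1 * W 2 3 + W 0 2 * (-W 1 3) + W 0 3 * W 1 2 = Y 0 1 * Y 2 3 + Y 0 2 * (-Y 1 3) + Y 0 3 * Y 1 2 := by
  classical
  let Alt : Matrix (Fin 4) (Fin 4) F → Prop := fun Z => ∃ U : Matrix (Fin 4) (Fin 4) F, Z = U - Uᵀ
  let pf : Matrix (Fin 4) (Fin 4) F → F := fun W => W 0 1 * W 2 3 + W 0 2 * (-W 1 3) + W 0 3 * W 1 2
  have hclos : ∀ (B Z : Matrix (Fin 4) (Fin 4) F), Alt Z → Alt (B * Z * Bᵀ) := by
    rintro B Z ⟨U, rfl⟩
    exact ⟨B * U * Bᵀ, by rw [Matrix.mul_sub, Matrix.sub_mul, Matrix.transpose_mul, Matrix.transpose_mul, Matrix.transpose_transpose, Matrix.mul_assoc B Uᵀ]⟩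
  let K : Subgroup (Matrix.SpecialLinearGroup (Fin 4) F) :=
    { carrier := {g | ∀ Z, Alt Z → pf ((g : Matrix (Fin 4) (Fin 4) F) * Z * (g : Matrix (Fin 4) (Fin 4) F)ᵀ) = pf Z}
      one_mem' := fun Z _ => by simp
      mul_mem' := fun {x y} hx hy Z hZ => by
        rw [Matrix.SpecialLinearGroup.coe_mul, Matrix.transpose_mul,
          show (x : Matrix (Fin 4) (Fin 4) F) * y * Z * ((y : Matrix (Fin 4) (Fin 4) F)ᵀ * (x : Matrix (Fin 4) (Fin 4) F)ᵀ) =
            x * (y * Z * (y : Matrix (Fin 4) (Fin 4) F)ᵀ) * (x : Matrix (Fin 4) (Fin 4) F)ᵀ by simp only [Matrix.mul_assoc],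
          hx _ (hclos _ _ hZ), hy Z hZ]
      inv_mem' := fun {x} hx Z hZ => by
        have h := hx _ (hclos ((x⁻¹ : Matrix.SpecialLinearGroup (Fin 4) F) : Matrix (Fin 4) (Fin 4) F) Z hZ)
        rw [show ((x : Matrix.SpecialLinearGroup (Fin 4) F) : Matrix (Fin 4) (Fin 4) F) * (((x⁻¹ : Matrix.SpecialLinearGroup (Fin 4) F) : Matrix (Fin 4) (Fin 4) F) * Z * ((x⁻¹ : Matrix.SpecialLinearGroup (Fin 4) F) : Matrix (Fin 4) (Fin 4) F)ᵀ) * ((x : Matrix.SpecialLinearGroup (Fin 4) F) : Matrix (Fin 4) (Fin 4) F)ᵀ =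
          (((x : Matrix.SpecialLinearGroup (Fin 4) F) : Matrix (Fin 4) (Fin 4) F) * ((x⁻¹ : Matrix.SpecialLinearGroup (Fin 4) F) : Matrix (Fin 4) (Fin 4) F)) * Z * (((x : Matrix.SpecialLinearGroup (Fin 4) F) : Matrix (Fin 4) (Fin 4) F) * ((x⁻¹ : Matrix.SpecialLinearGroup (Fin 4) F) : Matrix (Fin 4) (Fin 4) F))ᵀ by
            simp only [Matrix.transpose_mul, Matrix.mul_assoc], ← Matrix.SpecialLinearGroup.coe_mul, mul_inv_cancel,
          Matrix.SpecialLinearGroup.coe_one, Matrix.one_mul, Matrix.transpose_one, Matrix.mul_one] at h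
        exact h.symm }
  have hK : K = ⊤ := Cfsg.Lib.Classical.SLGroup.eq_top_of_transvection _ fun i j hij c => by
    rintro Z ⟨U, rfl⟩
    exact pf_transvection (U - Uᵀ) (fun a => by simp) (fun a b => by simp) i j hij c
  refine (show g ∈ K by rw [hK]; trivial) Y ⟨Matrix.of fun a b => if a < b then Y a b else 0, ?_⟩
  ext a b
  rcases lt_trichotomy a b with h | h | h
  · simp [h, not_lt_of_gt h]
  · subst h; simp [h0]
  · simp [h, not_lt_of_gt h, hs a b]

/-- A matrix commuting with four Clifford generators is scalar. -/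
lemma scalar_of_commute {F : Type*} [Field F] (h2 : (2 : F) ≠ 0) (G : Matrix (Fin 4) (Fin 4) F)
    (bu : G * !![1, 0, 0, 0; 0, -1, 0, 0; 0, 0, 1, 0; 0, 0, 0, -1] = !![1, 0, 0, 0; 0, -1, 0, 0; 0, 0, 1, 0; 0, 0, 0, -1] * G)
    (bc : G * !![0, 1, 0, 0; 0, 0, 0, 0; 0, 0, 0, 0; 0, 0, 1, 0] = !![0, 1, 0, 0; 0, 0, 0, 0; 0, 0, 0, 0; 0, 0, 1, 0] * G)
    (bd : G * !![0, 0, 0, 0; 1, 0, 0, 0; 0, 0, 0, 1; 0, 0, 0, 0] = !![0, 0, 0, 0; 1, 0, 0, 0; 0, 0, 0, 1; 0, 0, 0, 0] * G)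
    (ba : G * !![0, 0, 0, -1; 0, 0, 1, 0; 0, 0, 0, 0; 0, 0, 0, 0] = !![0, 0, 0, -1; 0, 0, 1, 0; 0, 0, 0, 0; 0, 0, 0, 0] * G) :
    ∃ r : F, G = Matrix.scalar (Fin 4) r := by
  have ev := fun (X Y : Matrix (Fin 4) (Fin 4) F) (h : X = Y) (i j : Fin 4) => congrFun (congrFun h i) j
  have hz : ∀ x : F, x + x = 0 → x = 0 := fun x h => (mul_eq_zero.1 (show (2 : F) * x = 0 by linear_combination h)).resolve_left h2
  have u := ev _ _ bu
  have c := ev _ _ bc
  have d := ev _ _ bd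
  have a := ev _ _ ba
  simp [Fin.forall_fin_succ, Matrix.mul_apply, Fin.sum_univ_four, Matrix.vecMul, Matrix.mulVec, dotProduct] at u c d a
  refine ⟨G 0 0, ?_⟩
  ext i j
  fin_cases i <;> fin_cases j <;> simp <;> grind

open scoped Matrix in
set_option maxHeartbeats 1000000 in
/-- The action of `Sp₄` on alternating matrices orthogonal to the form, as isometries of the Pfaffian. -/
theorem exists_sp_action (F : Type*) [Field F] [Fintype F] (h2 : (2 : F) ≠ 0) :
    ∃ ψ : Matrix.symplecticGroup (Fin 2) F →* Cfsg.isometryGroup F (Cfsg.quadFormOdd 2 F),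
      ψ.ker ≤ Subgroup.center (Matrix.symplecticGroup (Fin 2) F) ∧ Nat.card ψ.ker ≤ 2 := by
  classical
  let e4 : Fin 4 ≃ Fin 2 ⊕ Fin 2 :=
    { toFun := ![Sum.inl 0, Sum.inl 1, Sum.inr 0, Sum.inr 1]
      invFun := Sum.elim ![0, 1] ![2, 3]
      left_inv := by intro x; fin_cases x <;> rfl
      right_inv := by rintro (x | x) <;> fin_cases x <;> rfl }
  let J4 : Matrix (Fin 4) (Fin 4) F := !![0, 0, -1, 0; 0, 0, 0, -1; 1, 0, 0, 0; 0, 1, 0, 0]
  have hJ : (Matrix.J (Fin 2) F).submatrix e4 e4 = J4 := by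
    ext i j
    fin_cases i <;> fin_cases j <;> simp [e4, J4, Matrix.J]
  let B : Matrix.symplecticGroup (Fin 2) F → Matrix (Fin 4) (Fin 4) F := fun A => (A : Matrix (Fin 2 ⊕ Fin 2) (Fin 2 ⊕ Fin 2) F).submatrix e4 e4
  have hB1 : B 1 = 1 := Matrix.submatrix_one_equiv e4
  have hBm : ∀ A A' : Matrix.symplecticGroup (Fin 2) F, B (A * A') = B A * B A' := fun A A' => (Matrix.submatrix_mul_equiv _ _ e4 e4 e4).symm
  have hBJ : ∀ A, (B A)ᵀ * J4 * B A = J4 := fun A => by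
    rw [← hJ]
    show ((A : Matrix (Fin 2 ⊕ Fin 2) (Fin 2 ⊕ Fin 2) F).submatrix e4 e4)ᵀ * _ * (A : Matrix (Fin 2 ⊕ Fin 2) (Fin 2 ⊕ Fin 2) F).submatrix e4 e4 = _
    rw [Matrix.transpose_submatrix, Matrix.submatrix_mul_equiv, Matrix.submatrix_mul_equiv, SymplecticGroup.mem_iff'.1 A.2]
  have hBd : ∀ A, (B A).det = 1 := fun A => by
    show ((A : Matrix (Fin 2 ⊕ Fin 2) (Fin 2 ⊕ Fin 2) F).submatrix e4 e4).det = 1
    rw [Matrix.det_submatrix_equiv_self, SymplecticGroup.det_eq_one A.2]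
  let U : (Unit ⊕ (Fin 2 ⊕ Fin 2) → F) →ₗ[F] Matrix (Fin 4) (Fin 4) F :=
    { toFun := fun v => !![0, v (.inr (.inl 0)), v (.inl ()), v (.inr (.inl 1)); 0, 0, v (.inr (.inr 1)), -v (.inl ()); 0, 0, 0, v (.inr (.inr 0)); 0, 0, 0, 0]
      map_add' := fun v w => by ext i j; fin_cases i <;> fin_cases j <;> simp [add_comm]
      map_smul' := fun c v => by ext i j; fin_cases i <;> fin_cases j <;> simp }
  let mat : (Unit ⊕ (Fin 2 ⊕ Fin 2) → F) →ₗ[F] Matrix (Fin 4) (Fin 4) F := U - (Matrix.transposeLinearEquiv (Fin 4) (Fin 4) F F).toLinearMap ∘ₗ U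
  have hmat : ∀ v, mat v = U v - (U v)ᵀ := fun v => rfl
  let coord : Matrix (Fin 4) (Fin 4) F →ₗ[F] (Unit ⊕ (Fin 2 ⊕ Fin 2) → F) :=
    { toFun := fun M => Sum.elim (fun _ => M 0 2) (Sum.elim ![M 0 1, M 0 3] ![M 2 3, M 1 2])
      map_add' := fun v w => by funext x; rcases x with x | x | x <;> (try fin_cases x) <;> simp
      map_smul' := fun c v => by funext x; rcases x with x | x | x <;> (try fin_cases x) <;> simp }
  have hcm : ∀ v, coord (mat v) = v := fun v => by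
    funext x
    rcases x with x | x | x <;> (try fin_cases x) <;> simp [hmat, coord, U]
  have hmi : Function.Injective mat := Function.LeftInverse.injective hcm
  have htau : ∀ W : Matrix (Fin 4) (Fin 4) F, (J4 * (W - Wᵀ)).trace = 2 * ((W - Wᵀ) 0 2 + (W - Wᵀ) 1 3) := fun W => by
    simp [J4, Matrix.trace, Matrix.mul_apply, Fin.sum_univ_four, Matrix.vecMul, dotProduct]
    ring
  have htau0 : ∀ v, (J4 * mat v).trace = 0 := fun v => by
    rw [hmat, htau]; simp [U]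
  have hmc : ∀ W : Matrix (Fin 4) (Fin 4) F, (J4 * (W - Wᵀ)).trace = 0 → mat (coord (W - Wᵀ)) = W - Wᵀ := fun W hW => by
    rw [htau] at hW
    have h13 := (mul_eq_zero.1 hW).resolve_left h2
    rw [hmat]
    ext i j
    fin_cases i <;> fin_cases j <;> simp [coord, U] at h13 ⊢ <;> first | linear_combination h13 | linear_combination -h13
  let T : Matrix (Fin 4) (Fin 4) F → Module.End F (Unit ⊕ (Fin 2 ⊕ Fin 2) → F) := fun g =>
    coord ∘ₗ LinearMap.mulLeft F g ∘ₗ LinearMap.mulRight F gᵀ ∘ₗ mat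
  have hTc : ∀ g v, T g v = coord (g * mat v * gᵀ) := fun g v => by
    show coord (g * (mat v * gᵀ)) = _
    rw [← Matrix.mul_assoc]
  have hT : ∀ A v, mat (T (B A) v) = B A * mat v * (B A)ᵀ := fun A v => by
    have e : B A * mat v * (B A)ᵀ = B A * U v * (B A)ᵀ - (B A * U v * (B A)ᵀ)ᵀ := by
      rw [hmat, Matrix.mul_sub, Matrix.sub_mul, Matrix.transpose_mul, Matrix.transpose_mul, Matrix.transpose_transpose, Matrix.mul_assoc (B A) (U v)ᵀ]
    have htr : (J4 * (B A * mat v * (B A)ᵀ)).trace = 0 := by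
      rw [← Matrix.mul_assoc, Matrix.trace_mul_comm, ← Matrix.mul_assoc, ← Matrix.mul_assoc, hBJ, htau0]
    rw [e] at htr
    rw [hTc, e, hmc _ htr]
  let M : Matrix.symplecticGroup (Fin 2) F →* Matrix (Unit ⊕ (Fin 2 ⊕ Fin 2)) (Unit ⊕ (Fin 2 ⊕ Fin 2)) F :=
    { toFun := fun A => LinearMap.toMatrix' (T (B A))
      map_one' := by
        show LinearMap.toMatrix' (T (B 1)) = 1
        rw [show T (B 1) = LinearMap.id from LinearMap.ext fun v => hmi (by rw [hT, hB1]; simp), LinearMap.toMatrix'_id]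
      map_mul' := fun A A' => by
        show LinearMap.toMatrix' (T (B (A * A'))) = LinearMap.toMatrix' (T (B A)) * LinearMap.toMatrix' (T (B A'))
        rw [← LinearMap.toMatrix'_comp]
        congr 1
        refine LinearMap.ext fun v => hmi ?_
        show mat (T (B (A * A')) v) = mat (T (B A) (T (B A') v))
        rw [hT, hT, hT, hBm, Matrix.transpose_mul]
        simp only [Matrix.mul_assoc] }
  have hMv : ∀ A v, M A *ᵥ v = T (B A) v := fun A v => LinearMap.toMatrix'_mulVec _ _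
  have hQ : ∀ v, Cfsg.quadFormOdd 2 F v = mat v 0 1 * mat v 2 3 + mat v 0 2 * (-mat v 1 3) + mat v 0 3 * mat v 1 2 := fun v => by
    simp [hmat, U, Cfsg.quadFormOdd, Fin.sum_univ_two]
    ring
  have hiso : ∀ A, M.toHomUnits A ∈ Cfsg.isometryGroup F (Cfsg.quadFormOdd 2 F) := by
    intro A u v
    show Cfsg.quadFormOdd 2 F (M A *ᵥ u) = Cfsg.quadFormOdd 2 F u
    rw [hMv, hQ, hQ, hT]
    exact pf_det_one ⟨B A, hBd A⟩ (mat u) (fun a => by rw [hmat]; simp) (fun a b => by rw [hmat]; simp)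
  refine ⟨(M.toHomUnits).codRestrict _ hiso, ?_⟩
  set ψ := (M.toHomUnits).codRestrict _ hiso
  have hker : ∀ A ∈ ψ.ker, ∃ r : F, r * r = 1 ∧ B A = Matrix.scalar (Fin 4) r := by
    intro A hA
    have h' : M A = 1 := congrArg Units.val (congrArg Subtype.val (MonoidHom.mem_ker.1 hA))
    set G := B A with hG
    have hfix : ∀ v, G * mat v * Gᵀ = mat v := fun v => by rw [hG, ← hT, ← hMv, h', Matrix.one_mulVec]
    have hcom : ∀ v, G * (mat v * J4) = mat v * J4 * G := fun v => by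
      calc G * (mat v * J4) = G * mat v * (Gᵀ * J4 * G) := by rw [hG, hBJ, Matrix.mul_assoc]
        _ = _ := by rw [← Matrix.mul_assoc, ← Matrix.mul_assoc, hfix]
    obtain ⟨r, hr⟩ := scalar_of_commute h2 G
      (by
        have h := hcom (Sum.elim (fun _ => 1) 0)
        rwa [show mat (Sum.elim (fun _ => 1) 0) * J4 = !![1, 0, 0, 0; 0, -1, 0, 0; 0, 0, 1, 0; 0, 0, 0, -1] by
          ext i j; fin_cases i <;> fin_cases j <;> simp [hmat, U, J4, Matrix.mul_apply, Fin.sum_univ_four]] at h)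
      (by
        have h := hcom (Sum.elim 0 (Sum.elim ![0, 1] 0))
        rwa [show mat (Sum.elim 0 (Sum.elim ![0, 1] 0)) * J4 = !![0, 1, 0, 0; 0, 0, 0, 0; 0, 0, 0, 0; 0, 0, 1, 0] by
          ext i j; fin_cases i <;> fin_cases j <;> simp [hmat, U, J4, Matrix.mul_apply, Fin.sum_univ_four]] at h)
      (by
        have h := hcom (Sum.elim 0 (Sum.elim 0 ![0, 1]))
        rwa [show mat (Sum.elim 0 (Sum.elim 0 ![0, 1])) * J4 = !![0, 0, 0, 0; 1, 0, 0, 0; 0, 0, 0, 1; 0, 0, 0, 0] by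
          ext i j; fin_cases i <;> fin_cases j <;> simp [hmat, U, J4, Matrix.mul_apply, Fin.sum_univ_four]] at h)
      (by
        have h := hcom (Sum.elim 0 (Sum.elim ![1, 0] 0))
        rwa [show mat (Sum.elim 0 (Sum.elim ![1, 0] 0)) * J4 = !![0, 0, 0, -1; 0, 0, 1, 0; 0, 0, 0, 0; 0, 0, 0, 0] by
          ext i j; fin_cases i <;> fin_cases j <;> simp [hmat, U, J4, Matrix.mul_apply, Fin.sum_univ_four]] at h)
    refine ⟨r, ?_, hr⟩
    have h := congrFun (congrFun (hBJ A) 2) 0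
    rw [← hG, hr] at h
    simpa [J4, Matrix.mul_diagonal, Matrix.diagonal_mul, Matrix.diagonal_transpose] using h
  refine ⟨fun A hA => ?_, ?_⟩
  · obtain ⟨r, -, hr⟩ := hker A hA
    refine Subgroup.mem_center_iff.2 fun C => Subtype.ext ?_
    have hinj : ∀ X Y : Matrix.symplecticGroup (Fin 2) F, B X = B Y → (X : Matrix (Fin 2 ⊕ Fin 2) (Fin 2 ⊕ Fin 2) F) = Y := fun X Y h => by
      ext i j
      simpa [B] using congrFun (congrFun h (e4.symm i)) (e4.symm j)
    exact hinj (C * A) (A * C) (by rw [hBm, hBm, hr, (Matrix.scalar_commute _ (fun r' => Commute.all _ _) (B C)).eq])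
  · choose r hr1 hr2 using fun A : ψ.ker => hker A.1 A.2
    let f : ψ.ker → rootsOfUnity 2 F := fun A => ⟨⟨r A, r A, hr1 A, hr1 A⟩, (mem_rootsOfUnity 2 _).2 (Units.ext (by
      rw [Units.val_pow_eq_pow_val, pow_two]; exact hr1 A))⟩
    have hf : Function.Injective f := fun A A' h => by
      have hrr : r A = r A' := congrArg (fun u : rootsOfUnity 2 F => ((u : Fˣ) : F)) h
      have hBB : B A.1 = B A'.1 := by rw [hr2, hr2, hrr]
      refine Subtype.ext (Subtype.ext ?_)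
      ext i j
      simpa [B] using congrFun (congrFun hBB (e4.symm i)) (e4.symm j)
    refine (Nat.card_le_card_of_injective f hf).trans ?_
    have : NeZero (2 : ℕ) := ⟨two_ne_zero⟩
    exact card_rootsOfUnity F 2

/-- PΩ_5(q) is isomorphic to PSp_4(q) for q odd. -/
theorem result {F : Type*} [Field F] [Fintype F] (hodd : Odd (Fintype.card F)) : Nonempty (Cfsg.POmega F (Cfsg.quadFormOdd 2 F) ≃* Cfsg.PSp 2 F) := by
  classical
  have h2 : (2 : F) ≠ 0 := Cfsg.Lib.Classical.ClassicalOrders.two_ne rfl hodd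
  obtain ⟨ψ, hker, hz⟩ := exists_sp_action F h2
  set q := Fintype.card F with hq
  have hq1 : 1 < q := Fintype.one_lt_card
  have hq3 : 3 ≤ q := by obtain ⟨t, ht⟩ := hodd; omega
  have hperf := Cfsg.Lib.Classical.SpSimple.perfect_symplecticGroup (F := F) (m := 2) (Or.inr (Or.inl ⟨rfl, hq3⟩))
  set N := q ^ 4 * ((q ^ 2 - 1) * (q ^ 4 - 1)) with hN
  have hO : Nat.card (Cfsg.isometryGroup F (Cfsg.quadFormOdd 2 F)) = 2 * N := by
    rw [Cfsg.Lib.Classical.ClassicalOrders.card_odd rfl hodd, hN]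
    simp [Finset.prod_range_succ]
    ring
  have hsp : Nat.card (Matrix.symplecticGroup (Fin 2) F) = N := by
    rw [Cfsg.Lib.Classical.ClassicalOrders.card_sp rfl, hN]
    simp [Finset.prod_range_succ]
    rfl
  have hR : Nat.card ψ.range * Nat.card ψ.ker = N := by
    rw [← hsp, Subgroup.card_eq_card_quotient_mul_card_subgroup ψ.ker, Nat.card_congr (QuotientGroup.quotientKerEquivRange ψ).toEquiv]
  have hle : commutator (Cfsg.isometryGroup F (Cfsg.quadFormOdd 2 F)) ≤ ψ.range := by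
    refine Cfsg.Lib.Classical.LowRankIso.le_range_of_card hperf ψ ?_
    let Q : QuadraticForm F (Unit ⊕ (Fin 2 ⊕ Fin 2) → F) :=
      (Cfsg.Lib.Classical.QuadOrders.Qs 2 (Cfsg.Lib.Classical.QuadOrders.Q1 (F := F))).comp (Cfsg.Lib.Classical.QuadOrders.eOdd F 2).toLinearMap
    have hidx : (Cfsg.Omega F (Cfsg.quadFormOdd 2 F)).index = 4 :=
      Cfsg.Lib.Classical.OrthMatrix.omega_index (Q := Q) (fun v => Cfsg.Lib.Classical.QuadOrders.eOdd_form 2 v)
        (Cfsg.Lib.Classical.QuadOrders.nondeg_comp _ (Cfsg.Lib.Classical.QuadOrders.nondeg_std (Cfsg.Lib.Classical.QuadOrders.Q1_nondeg h2)))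
        (Cfsg.Lib.Classical.OrthMatrix.hex_of_two_ne h2) h2 (by simp)
    have h := (Cfsg.Omega F (Cfsg.quadFormOdd 2 F)).card_mul_index
    rw [hidx, hO] at h
    have hsub := Subgroup.card_le_of_le (Cfsg.Lib.Classical.LowRankIso.range_le hperf ψ)
    have hpos : 0 < Nat.card ψ.range := Nat.card_pos
    change Nat.card ψ.range = Nat.card (Cfsg.Omega F (Cfsg.quadFormOdd 2 F))
    change Nat.card ψ.range ≤ Nat.card (Cfsg.Omega F (Cfsg.quadFormOdd 2 F)) at hsub
    have : Nat.card ψ.range * Nat.card ψ.ker ≤ Nat.card ψ.range * 2 := Nat.mul_le_mul_left _ hz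
    omega
  exact Cfsg.Lib.Classical.LowRankIso.nonempty_iso hperf ψ hker hle

end Cfsg.Agent.S0301
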