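import Cfsg.Statements.S0647
import Mathlib
import Cfsg.Agent.Lib.PLocal.ElementaryAbelian
-- import your own Cfsg.Agent.* helpers here

set_option autoImplicit false
open Cfsg

namespace Cfsg.Agent.S0647

/-- For a nonempty family of maximal abelian subgroups of a finite group, the intersection of the family is the centre of the subgroup it generates, which is also the full centralizer of that subgroup. -/
theorem result {S : Type*} [Group S] [Finite S] (𝒜 : Set (Subgroup S)) (hne : 𝒜.Nonempty) (hab : ∀ A ∈ 𝒜, IsMulCommutative A) (hmax : ∀ A ∈ 𝒜, ∀ B : Subgroup S, IsMulCommutative B → A ≤ B → B = A) : sInf 𝒜 = sSup 𝒜 ⊓ Subgroup.centralizer ((sSup 𝒜 : Subgroup S) : Set S) ∧ sInf 𝒜 = Subgroup.centralizer ((sSup 𝒜 : Subgroup S) : Set S) := by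
  have hc : ∀ A ∈ 𝒜, Subgroup.centralizer (A : Set S) = A := by
    intro A hA
    have h0 : ∀ u ∈ A, ∀ v ∈ A, u * v = v * u := fun u hu v hv =>
      congrArg Subtype.val ((hab A hA).is_comm.comm (⟨u, hu⟩ : A) ⟨v, hv⟩)
    refine le_antisymm (fun x hx => ?_) fun a ha => Subgroup.mem_centralizer_iff.2 fun b hb => h0 b hb a ha
    have hcl := Lib.PLocal.closure_comm (s := (A : Set S) ∪ {x}) (by
      rintro u (hu | rfl) v (hv | rfl)
      · exact h0 u hu v hv
      · exact Subgroup.mem_centralizer_iff.1 hx u hu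
      · exact (Subgroup.mem_centralizer_iff.1 hx v hv).symm
      · rfl)
    have he := hmax A hA (Subgroup.closure ((A : Set S) ∪ {x})) ⟨⟨fun u v => Subtype.ext (hcl u u.2 v v.2)⟩⟩
      fun a ha => Subgroup.subset_closure (Or.inl ha)
    exact he ▸ Subgroup.subset_closure (Or.inr rfl)
  have hC : sInf 𝒜 = Subgroup.centralizer ((sSup 𝒜 : Subgroup S) : Set S) := by
    refine le_antisymm ?_ (le_sInf fun A hA => le_trans (Subgroup.centralizer_le (show (A : Set S) ≤ ((sSup 𝒜 : Subgroup S) : Set S) from SetLike.coe_subset_coe.2 (le_sSup hA))) (hc A hA).le)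
    rw [Subgroup.le_centralizer_iff]
    refine sSup_le fun A hA => ?_
    rw [Subgroup.le_centralizer_iff]
    exact (sInf_le hA).trans (hc A hA).ge
  obtain ⟨A, hA⟩ := hne
  exact ⟨le_antisymm (le_inf ((sInf_le hA).trans (le_sSup hA)) hC.le) (inf_le_right.trans hC.ge), hC⟩

end Cfsg.Agent.S0647
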