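import Cfsg.Statements.S0649
import Mathlib
import Cfsg.Agent.Lib.PLocal.Replacement
-- import your own Cfsg.Agent.* helpers here

set_option autoImplicit false
open Cfsg

namespace Cfsg.Agent.S0649

/-- In the Glauberman replacement situation, if B does not normalize A then some element of B normalizes N_S(A) without normalizing A. -/
theorem result {S : Type*} [Group S] [Finite S] {p : ℕ} [Fact p.Prime] (hS : IsPGroup p S) (B : Subgroup S) [B.Normal] (hB2 : p = 2 → IsMulCommutative B) (A : Subgroup S) (hA : IsMulCommutative A) (hBA : ⁅B, B⁆ ≤ A) (hnot : ¬ B ≤ Subgroup.normalizer (A : Set S)) : ∃ b ∈ B, b ∈ Subgroup.normalizer ((Subgroup.normalizer (A : Set S)) : Set S) ∧ b ∉ Subgroup.normalizer (A : Set S) := by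
  haveI : Group.IsNilpotent S := hS.isNilpotent
  set X := Subgroup.normalizer (A : Set S)
  have hlt : X < B ⊔ X := lt_of_le_not_ge le_sup_right fun h => hnot (le_sup_left.trans h)
  have hnc : X.subgroupOf (B ⊔ X) < Subgroup.normalizer ((X.subgroupOf (B ⊔ X)) : Set ↥(B ⊔ X)) :=
    Group.normalizerCondition_of_isNilpotent _ (lt_top_iff_ne_top.2 fun h => hlt.not_ge (Subgroup.subgroupOf_eq_top.1 h))
  obtain ⟨z, hz, hzX⟩ := SetLike.exists_of_lt hnc
  obtain ⟨b, hb, x, hx, e⟩ := Subgroup.mem_sup_of_normal_left.1 z.2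
  have hzN : (z : S) ∈ Subgroup.normalizer ((X : Subgroup S) : Set S) := by
    refine Cfsg.Lib.PLocal.mem_normalizer_of_map_conj (Subgroup.eq_of_le_of_card_ge ?_ (Subgroup.card_map_of_injective (MulAut.conj (z : S)).injective).ge)
    rintro _ ⟨w, hw, rfl⟩
    exact ((Subgroup.mem_normalizer_iff.1 hz ⟨w, le_sup_right (a := B) hw⟩).1 hw : _)
  refine ⟨b, hb, ?_, fun h => hzX (show (z : S) ∈ X from e ▸ mul_mem h hx)⟩
  have := mul_mem hzN (inv_mem (Subgroup.le_normalizer hx))
  rwa [← e, mul_inv_cancel_right] at this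

end Cfsg.Agent.S0649
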