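import Cfsg.Statements.S0652
import Mathlib
import Cfsg.Agent.Lib.PLocal.Replacement
-- import your own Cfsg.Agent.* helpers here

set_option autoImplicit false
open Cfsg

namespace Cfsg.Agent.S0652

/-- For odd p and D normal in the p-group S, the elementary abelian subgroups of D of largest order satisfy the replacement property for class-2 normal subgroups of S. -/
theorem result {S : Type*} [Group S] [Finite S] {p : ℕ} [Fact p.Prime] (hS : IsPGroup p S) (hp : p ≠ 2) (D : Subgroup S) [D.Normal] : ∀ (B : Subgroup S) [B.Normal], ⁅⁅B, B⁆, B⁆ = ⊥ → (∃ U ∈ (Set.image (fun A : Subgroup ↥D => A.map D.subtype) (Cfsg.maxElementaryAbelianSubgroups p ↥D)), ⁅B, B⁆ ≤ U ∧ ¬ B ≤ U) → ∃ A ∈ (Set.image (fun A : Subgroup ↥D => A.map D.subtype) (Cfsg.maxElementaryAbelianSubgroups p ↥D)), ⁅B, B⁆ ≤ A ∧ ¬ B ≤ A ∧ B ≤ Subgroup.normalizer (A : Set S) := by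
  intro B _ _ hU
  refine Cfsg.Lib.PLocal.replacement_property hS hp D _ ?_ ?_ B hU
  · rintro _ ⟨A, ⟨hA, -⟩, rfl⟩
    haveI := hA.1
    exact ⟨Subgroup.map_subtype_le A, inferInstance⟩
  · rintro _ ⟨A, ⟨hA, hmax⟩, rfl⟩ A' hA' hab hc he
    haveI := hab
    refine ⟨A'.subgroupOf D, ⟨⟨inferInstance, fun x hx => ?_⟩, fun C hC => ?_⟩, Subgroup.map_subgroupOf_eq_of_le hA'⟩
    · have h1 : Monoid.exponent (A.map D.subtype) ∣ p := by
        refine Monoid.exponent_dvd_of_forall_pow_eq_one fun y => Subtype.ext ?_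
        obtain ⟨a, ha, e⟩ := y.2
        rw [SubgroupClass.coe_pow, ← e, ← map_pow, hA.2 a ha, map_one, OneMemClass.coe_one]
      refine Subtype.ext ?_
      have := Monoid.exponent_dvd_iff_forall_pow_eq_one.1 (he.trans h1) (⟨(x : S), hx⟩ : A')
      exact (congrArg Subtype.val this : _)
    rw [Nat.card_congr (Subgroup.subgroupOfEquivOfLe hA').toEquiv, hc, Subgroup.card_map_of_injective D.subtype_injective]
    exact hmax C hC

end Cfsg.Agent.S0652
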