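import Cfsg.Statements.S0655
import Mathlib
import Cfsg.Agent.Lib.PLocal.ElementaryAbelian
-- import your own Cfsg.Agent.* helpers here

set_option autoImplicit false
open Cfsg

namespace Cfsg.Agent.S0655

/-- In a p-group the intersection of all elementary abelian subgroups of largest order is the subgroup generated by the elements of order dividing p in the centre (equivalently the centralizer) of the elementary-version Thompson subgroup. -/
theorem result {S : Type*} [Group S] [Finite S] {p : ℕ} [Fact p.Prime] (hS : IsPGroup p S) : sInf (Cfsg.maxElementaryAbelianSubgroups p S) = Cfsg.omegaCenterThompson p S ∧ Cfsg.omegaCenterThompson p S = Cfsg.omegaOne p (Subgroup.centralizer (Cfsg.thompsonSubgroup p S : Set S)) := by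
  obtain ⟨A, hA⟩ := Lib.PLocal.maxElem_nonempty (p := p) (G := S)
  have h1 : Cfsg.omegaOne p (Subgroup.centralizer (Cfsg.thompsonSubgroup p S : Set S)) ≤
      sInf (Cfsg.maxElementaryAbelianSubgroups p S) :=
    le_sInf fun B hB => (Subgroup.closure_le _).2 fun x hx =>
      Lib.PLocal.mem_of_centralizes_max hB (Subgroup.centralizer_le (Lib.PLocal.le_thompsonSubgroup hB) hx.1) hx.2
  have h2 : Cfsg.omegaCenterThompson p S ≤ Cfsg.omegaOne p (Subgroup.centralizer (Cfsg.thompsonSubgroup p S : Set S)) :=
    Subgroup.closure_mono fun x hx => ⟨hx.1.2, hx.2⟩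
  have h3 : sInf (Cfsg.maxElementaryAbelianSubgroups p S) ≤ Cfsg.omegaCenterThompson p S := by
    intro x hx
    refine Lib.PLocal.mem_omegaOne ⟨Lib.PLocal.le_thompsonSubgroup hA (Subgroup.mem_sInf.1 hx A hA), ?_⟩
      (hA.1.2 x (Subgroup.mem_sInf.1 hx A hA))
    show x ∈ Subgroup.centralizer (Cfsg.thompsonSubgroup p S : Set S)
    have hle : Cfsg.thompsonSubgroup p S ≤ Subgroup.centralizer {x} := sSup_le fun B hB b hb =>
      Subgroup.mem_centralizer_singleton_iff.2 (Lib.PLocal.elem_comm hB.1 hb (Subgroup.mem_sInf.1 hx B hB))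
    exact Subgroup.mem_centralizer_iff.2 fun y hy => Subgroup.mem_centralizer_singleton_iff.1 (hle hy)
  exact ⟨le_antisymm h3 (h2.trans h1), le_antisymm h2 (h1.trans h3)⟩

end Cfsg.Agent.S0655
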