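import Cfsg.Statements.S0664
import Mathlib
import Cfsg.Agent.Lib.PLocal.ZJ
import Cfsg.Agent.Lib.PStable.Stable

set_option autoImplicit false
open Cfsg Cfsg.Lib

namespace Cfsg.Agent.S0664

theorem stableFor_of_normalizerPStable {G : Type*} [Group G] [Finite G] {p : ℕ} [Fact p.Prime]
    (hst : IsNormalizerPStable p G) (S : Subgroup G) : PLocal.StableFor p S := by
  intro B _ hBp a _ hquad
  have hN : Subgroup.normalizer (B : Set G) = ⊤ := Subgroup.normalizer_eq_top B
  have ha : a ∈ Subgroup.normalizer (B : Set G) := hN ▸ Subgroup.mem_top a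
  have h1 := hst B hBp a ha hquad
  set N := Subgroup.normalizer (B : Set G)
  set CN := (Subgroup.centralizer (B : Set G)).subgroupOf N
  set C := Subgroup.centralizer (B : Set G)
  let f : N ⧸ CN →* G ⧸ C := QuotientGroup.map CN C N.subtype (fun x hx => hx)
  have hf : Function.Surjective f := fun y => by
    obtain ⟨g, rfl⟩ := QuotientGroup.mk'_surjective C y
    exact ⟨QuotientGroup.mk ⟨g, hN ▸ Subgroup.mem_top g⟩, rfl⟩
  exact Solv.map_pCore_le (f := f) p hf ⟨_, h1, rfl⟩

/-- Glauberman's ZJ-Theorem in its section-free form: for odd p, a finite group with no section isomorphic to Qd(p) whose largest normal p-subgroup contains its centralizer has Z(J(S)) normal, J(S) the abelian-version Thompson subgroup of a Sylow p-subgroup S. -/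
theorem result {G : Type*} [Group G] [Finite G] {p : ℕ} [Fact p.Prime] (hp : p ≠ 2) (hfree : ¬ ∃ (K R : Subgroup G) (hR : (R.subgroupOf K).Normal), Nonempty ((K ⧸ R.subgroupOf K) ≃* ↥(Cfsg.qd p))) (hc : Subgroup.centralizer (Cfsg.pCore p G : Set G) ≤ Cfsg.pCore p G) (S : Sylow p G) : (Cfsg.centerThompsonAOf ((S : Subgroup G))).Normal := by
  rw [PLocal.centerThompsonAOf_eq]
  exact PLocal.zF_normal hp (fun A h => h) (fun A A' _ h _ _ => h) PLocal.ab_conj PLocal.ab_bot hc S
    (stableFor_of_normalizerPStable (PStable.normalizerPStable_of_free hp hfree) _)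

end Cfsg.Agent.S0664
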