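import Cfsg.Statements.S0692
import Mathlib

set_option autoImplicit false
set_option maxHeartbeats 4000000
set_option maxRecDepth 8000
open Cfsg

namespace Cfsg.Agent.S0692


/-- Matrices as quadruples. -/
def qmul (x y : ZMod 11 × ZMod 11 × ZMod 11 × ZMod 11) : ZMod 11 × ZMod 11 × ZMod 11 × ZMod 11 :=
  (x.1 * y.1 + x.2.1 * y.2.2.1, x.1 * y.2.1 + x.2.1 * y.2.2.2,
   x.2.2.1 * y.1 + x.2.2.2 * y.2.2.1, x.2.2.1 * y.2.1 + x.2.2.2 * y.2.2.2)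

def gens : Fin 2 → ZMod 11 × ZMod 11 × ZMod 11 × ZMod 11 :=
  ![(0, 10, 1, 0), (2, 4, 1, 8)]

def elems : List (ZMod 11 × ZMod 11 × ZMod 11 × ZMod 11) :=
  [(1, 0, 0, 1), (0, 10, 1, 0), (2, 4, 1, 8), (10, 0, 0, 10), (10, 3, 2, 4), (4, 9, 8, 10), (8, 7, 10, 2), (0, 1, 10, 0), (9, 7, 10, 3), (3, 1, 4, 9), (1, 9, 8, 7), (6, 0, 4, 2), (7, 3, 2, 1), (1, 8, 9, 7), (7, 2, 3, 1), (3, 4, 1, 9), (7, 9, 6, 0), (9, 10, 7, 3), (0, 5, 2, 7), (1, 2, 10, 10), (6, 8, 5, 5), (8, 10, 7, 2), (10, 2, 3, 4), (5, 0, 7, 9), (4, 8, 9, 10), (9, 4, 0, 5), (1, 1, 1, 2), (6, 6, 6, 8), (5, 7, 0, 9), (2, 10, 10, 1), (8, 5, 5, 6), (9, 0, 4, 5), (4, 2, 5, 0), (2, 1, 4, 8), (0, 6, 9, 4), (10, 9, 1, 1), (5, 3, 6, 6), (0, 2, 5, 7), (1, 10, 2, 10), (6, 5, 8, 5), (7, 6, 9, 0), (6, 10, 9, 6), (3, 0, 10, 4), (10, 6, 5, 2), (2, 7, 0, 6), (10,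 10, 10, 9), (5, 5, 5, 3), (6, 4, 0, 2), (9, 1, 1, 10), (3, 6, 6, 5), (2, 0, 7, 6), (2, 5, 6, 10), (1, 7, 3, 0), (6, 9, 10, 6), (10, 5, 6, 2), (0, 8, 4, 1), (6, 1, 2, 6), (4, 0, 1, 3), (0, 9, 6, 4), (10, 1, 9, 1), (5, 6, 3, 6), (4, 5, 2, 0), (5, 1, 2, 5), (8, 0, 1, 7), (1, 5, 6, 9), (5, 9, 10, 5), (7, 10, 0, 8), (9, 5, 6, 1), (10, 8, 4, 0), (3, 3, 3, 7), (8, 9, 9, 2), (0, 7, 3, 10), (9, 6, 5, 1), (10, 4, 8, 0), (5, 2, 1, 5), (1, 6, 5, 9), (0, 3, 7, 10), (5, 10, 9, 5), (7, 0, 10, 8), (8, 4, 3, 3), (2, 9, 8, 9), (8, 1, 0, 7), (3, 8, 7, 8), (9, 3, 2, 2), (3, 5, 9, 8), (7, 1, 5, 4), (6, 2, 1, 6), (4, 1, 0, 3), (2, 6, 5, 10), (1, 3, 7, 0), (8, 8, 8, 4), (3, 2, 2, 9), (0, 4, 8, 1), (4, 3, 3, 8), (9, 9, 9, 3), (2, 3, 3, 5), (6, 7, 7, 1), (3, 10, 0, 4), (5, 8, 8, 2), (1, 4, 4, 6), (3, 7, 8, 8), (9, 2, 3, 2), (8,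 3, 4, 3), (2, 8, 9, 9), (8, 6, 2, 3), (4, 10, 6, 7), (3, 9, 5, 8), (7, 5, 1, 4), (5, 4, 4, 10), (7, 7, 7, 4), (6, 3, 3, 9), (7, 8, 8, 3), (2, 2, 2, 8), (9, 8, 8, 6), (10, 7, 7, 5), (4, 7, 7, 7), (8, 2, 6, 3), (4, 6, 10, 7), (7, 4, 4, 4), (4, 4, 4, 7)]

def words : List (List (Fin 2)) :=
  [[], [0], [1], [0, 0], [0, 1], [1, 0], [1, 1], [0, 0, 0], [0, 0, 1], [0, 1, 0], [0, 1, 1], [1, 0, 1], [1, 1, 0], [0, 0, 0, 1], [0, 0, 1, 0], [0, 0, 1, 1], [0, 1, 0, 1], [0, 1, 1, 0], [1, 0, 1, 0], [1, 0, 1, 1], [1, 1, 0, 1], [0, 0, 0, 1, 0], [0, 0, 0, 1, 1], [0, 0, 1, 0, 1], [0, 0, 1, 1, 0], [0, 1, 0, 1, 0], [0, 1, 0, 1, 1], [0, 1, 1, 0, 1], [1, 0, 1, 0, 1], [1, 0, 1, 1, 0], [1, 1, 0, 1, 0], [1, 1, 0, 1, 1], [0, 0, 0, 1, 0, 1], [0, 0, 0, 1, 1, 0], [0, 0, 1, 0, 1, 0], [0, 0, 1, 0, 1, 1], [0, 0, 1, 1, 0, 1], [0, 1, 0, 1,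 0, 1], [0, 1, 0, 1, 1, 0], [0, 1, 1, 0, 1, 0], [0, 1, 1, 0, 1, 1], [1, 0, 1, 0, 1, 1], [1, 0, 1, 1, 0, 1], [1, 1, 0, 1, 0, 1], [0, 0, 0, 1, 0, 1, 0], [0, 0, 0, 1, 0, 1, 1], [0, 0, 0, 1, 1, 0, 1], [0, 0, 1, 0, 1, 0, 1], [0, 0, 1, 0, 1, 1, 0], [0, 0, 1, 1, 0, 1, 0], [0, 0, 1, 1, 0, 1, 1], [0, 1, 0, 1, 0, 1, 1], [0, 1, 0, 1, 1, 0, 1], [0, 1, 1, 0, 1, 0, 1], [1, 0, 1, 0, 1, 1, 0], [1, 0, 1, 1, 0, 1, 0], [1, 0, 1, 1, 0, 1, 1], [1, 1, 0, 1, 0, 1, 1], [0, 0, 0, 1, 0, 1, 0, 1], [0, 0, 0, 1, 0, 1, 1, 0], [0, 0, 0, 1, 1, 0, 1, 0], [0, 0, 0, 1, 1, 0, 1, 1], [0, 0, 1, 0, 1, 0, 1, 1], [0, 0, 1, 0, 1, 1, 0, 1], [0, 0, 1, 1, 0, 1, 0, 1], [0, 1, 0, 1, 0, 1, 1, 0], [0, 1, 0, 1, 1, 0, 1, 0], [0, 1, 0, 1, 1, 0, 1, 1], [0, 1, 1, 0, 1, 0, 1, 1], [1, 0, 1, 0, 1, 1, 0, 1], [1, 0, 1, 1, 0, 1, 0, 1], [1, 1, 0, 1, 0, 1, 1, 0], [0,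 0, 0, 1, 0, 1, 0, 1, 1], [0, 0, 0, 1, 0, 1, 1, 0, 1], [0, 0, 0, 1, 1, 0, 1, 0, 1], [0, 0, 1, 0, 1, 0, 1, 1, 0], [0, 0, 1, 0, 1, 1, 0, 1, 0], [0, 0, 1, 0, 1, 1, 0, 1, 1], [0, 0, 1, 1, 0, 1, 0, 1, 1], [0, 1, 0, 1, 0, 1, 1, 0, 1], [0, 1, 0, 1, 1, 0, 1, 0, 1], [0, 1, 1, 0, 1, 0, 1, 1, 0], [1, 0, 1, 0, 1, 1, 0, 1, 0], [1, 0, 1, 0, 1, 1, 0, 1, 1], [1, 0, 1, 1, 0, 1, 0, 1, 1], [1, 1, 0, 1, 0, 1, 1, 0, 1], [0, 0, 0, 1, 0, 1, 0, 1, 1, 0], [0, 0, 0, 1, 0, 1, 1, 0, 1, 0], [0, 0, 0, 1, 0, 1, 1, 0, 1, 1], [0, 0, 0, 1, 1, 0, 1, 0, 1, 1], [0, 0, 1, 0, 1, 0, 1, 1, 0, 1], [0, 0, 1, 0, 1, 1, 0, 1, 0, 1], [0, 0, 1, 1, 0, 1, 0, 1, 1, 0], [0, 1, 0, 1, 0, 1, 1, 0, 1, 0], [0, 1, 0, 1, 0, 1, 1, 0, 1, 1], [0, 1, 0, 1, 1, 0, 1, 0, 1, 1], [0, 1, 1, 0, 1, 0, 1, 1, 0, 1], [1, 0, 1, 0, 1, 1, 0, 1, 0, 1], [1, 0, 1, 1, 0, 1, 0, 1, 1,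 0], [1, 1, 0, 1, 0, 1, 1, 0, 1, 0], [0, 0, 0, 1, 0, 1, 0, 1, 1, 0, 1], [0, 0, 0, 1, 0, 1, 1, 0, 1, 0, 1], [0, 0, 1, 0, 1, 0, 1, 1, 0, 1, 0], [0, 0, 1, 0, 1, 0, 1, 1, 0, 1, 1], [0, 0, 1, 0, 1, 1, 0, 1, 0, 1, 1], [0, 0, 1, 1, 0, 1, 0, 1, 1, 0, 1], [0, 1, 0, 1, 1, 0, 1, 0, 1, 1, 0], [0, 1, 1, 0, 1, 0, 1, 1, 0, 1, 0], [1, 0, 1, 0, 1, 1, 0, 1, 0, 1, 1], [1, 0, 1, 1, 0, 1, 0, 1, 1, 0, 1], [1, 1, 0, 1, 0, 1, 1, 0, 1, 0, 1], [0, 0, 0, 1, 0, 1, 0, 1, 1, 0, 1, 0], [0, 0, 0, 1, 0, 1, 0, 1, 1, 0, 1, 1], [0, 0, 0, 1, 0, 1, 1, 0, 1, 0, 1, 1], [0, 0, 1, 1, 0, 1, 0, 1, 1, 0, 1, 0], [0, 1, 0, 1, 1, 0, 1, 0, 1, 1, 0, 1], [0, 1, 1, 0, 1, 0, 1, 1, 0, 1, 0, 1], [1, 0, 1, 0, 1, 1, 0, 1, 0, 1, 1, 0], [1, 0, 1, 1, 0, 1, 0, 1, 1, 0, 1, 0], [1, 1, 0, 1, 0, 1, 1, 0, 1, 0, 1, 1]]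

theorem elems_closed : ∀ x ∈ elems, ∀ k, qmul x (gens k) ∈ elems := by decide +kernel

theorem elems_words : words.map (fun w => w.foldl (fun x k => qmul x (gens k)) (1, 0, 0, 1)) = elems := by
  decide +kernel

theorem elems_nodup : elems.Nodup := by decide +kernel

theorem elems_free : ∀ x ∈ elems, ∀ v : ZMod 11 × ZMod 11, v ≠ 0 →
    (x.1 * v.1 + x.2.1 * v.2, x.2.2.1 * v.1 + x.2.2.2 * v.2) = v → x = (1, 0, 0, 1) := by decide +kernel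

open Matrix in
def toQ (M : Matrix (Fin 2) (Fin 2) (ZMod 11)) : ZMod 11 × ZMod 11 × ZMod 11 × ZMod 11 :=
  (M 0 0, M 0 1, M 1 0, M 1 1)

theorem toQ_mul (M N : Matrix (Fin 2) (Fin 2) (ZMod 11)) : toQ (M * N) = qmul (toQ M) (toQ N) := by
  simp [toQ, qmul, Matrix.mul_apply, Fin.sum_univ_two]

theorem toQ_inj {M N : Matrix (Fin 2) (Fin 2) (ZMod 11)} (h : toQ M = toQ N) : M = N := by
  simp only [toQ, Prod.mk.injEq] at h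
  ext i j
  fin_cases i <;> fin_cases j
  · exact h.1
  · exact h.2.1
  · exact h.2.2.1
  · exact h.2.2.2

theorem main (g : Fin 2 → GL (Fin 2) (ZMod 11)) (hg : ∀ k, toQ (g k : Matrix (Fin 2) (Fin 2) (ZMod 11)) = gens k) :
    Nat.card (Subgroup.closure (Set.range g)) = 120 ∧
    ∀ v w : Fin 2 → ZMod 11, v ≠ 0 → w ≠ 0 → ∃! h : Subgroup.closure (Set.range g),
      Matrix.mulVec ((h : GL (Fin 2) (ZMod 11)) : Matrix (Fin 2) (Fin 2) (ZMod 11)) v = w := by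
  classical
  set H := Subgroup.closure (Set.range g)
  have hmem : ∀ h ∈ H, toQ (h : Matrix (Fin 2) (Fin 2) (ZMod 11)) ∈ elems := by
    intro h hh
    rw [← Subgroup.mem_toSubmonoid, Subgroup.closure_toSubmonoid_of_finite] at hh
    induction hh using Submonoid.closure_induction_right with
    | one => decide
    | mul_right x _ y hy ih =>
      obtain ⟨k, rfl⟩ := hy
      rw [Units.val_mul, toQ_mul, hg]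
      exact elems_closed _ ih k
  have hex : ∀ q ∈ elems, ∃ h : H, toQ ((h : GL (Fin 2) (ZMod 11)) : Matrix (Fin 2) (Fin 2) (ZMod 11)) = q := by
    intro q hq
    rw [← elems_words, List.mem_map] at hq
    obtain ⟨w, -, rfl⟩ := hq
    induction w using List.reverseRecOn with
    | nil => exact ⟨1, by simp [toQ]⟩
    | append_singleton w k ih =>
      obtain ⟨h, hh⟩ := ih
      refine ⟨h * ⟨g k, Subgroup.subset_closure ⟨k, rfl⟩⟩, ?_⟩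
      rw [List.foldl_append, List.foldl_cons, List.foldl_nil, Subgroup.coe_mul, Units.val_mul, toQ_mul, hh, hg]
  let f : H → {q // q ∈ elems} := fun h => ⟨_, hmem h h.2⟩
  have hcard : Nat.card H = 120 := by
    rw [Nat.card_eq_of_bijective f ⟨fun a b e => Subtype.ext (Units.ext (toQ_inj (congrArg Subtype.val e))),
      fun q => ⟨(hex q q.2).choose, Subtype.ext (hex q q.2).choose_spec⟩⟩,
      Nat.card_eq_fintype_card, Fintype.card_of_subtype elems.toFinset (fun x => List.mem_toFinset),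
      List.toFinset_card_of_nodup elems_nodup]
    rfl
  refine ⟨hcard, fun v w hv hw => ?_⟩
  let act : H → {u : Fin 2 → ZMod 11 // u ≠ 0} := fun h =>
    ⟨Matrix.mulVec ((h : GL (Fin 2) (ZMod 11)) : Matrix (Fin 2) (Fin 2) (ZMod 11)) v, fun e => hv (by
      have := congrArg (Matrix.mulVec (((h : GL (Fin 2) (ZMod 11))⁻¹ : GL _ _) : Matrix (Fin 2) (Fin 2) (ZMod 11))) e
      rwa [Matrix.mulVec_mulVec, ← Units.val_mul, inv_mul_cancel, Units.val_one, Matrix.one_mulVec,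
        Matrix.mulVec_zero] at this)⟩
  have hinj : Function.Injective act := by
    intro a b e
    have e' := congrArg Subtype.val e
    have h1 : Matrix.mulVec (((a⁻¹ * b : H) : GL (Fin 2) (ZMod 11)) : Matrix (Fin 2) (Fin 2) (ZMod 11)) v = v := by
      simp only [act] at e'
      rw [Subgroup.coe_mul, Units.val_mul, ← Matrix.mulVec_mulVec, ← e', Matrix.mulVec_mulVec, ← Units.val_mul,
        ← Subgroup.coe_mul, inv_mul_cancel]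
      simp
    have h2 := elems_free _ (hmem _ (a⁻¹ * b).2) (v 0, v 1) (fun h0 => hv (by
      simp only [Prod.ext_iff, Prod.fst_zero, Prod.snd_zero] at h0
      funext i; fin_cases i
      · exact h0.1
      · exact h0.2)) (by
      conv_rhs => rw [← h1]
      simp [toQ, Matrix.mulVec, dotProduct, Fin.sum_univ_two])
    have h3 : a⁻¹ * b = 1 := Subtype.ext (Units.ext (toQ_inj (h2.trans (by simp [toQ]))))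
    exact inv_mul_eq_one.mp h3
  have hbij := (Nat.bijective_iff_injective_and_card act).mpr ⟨hinj, by
    rw [hcard, Nat.card_eq_fintype_card, Fintype.card_subtype_compl, Fintype.card_subtype_eq]
    simp⟩
  obtain ⟨h, hh⟩ := hbij.2 ⟨w, hw⟩
  exact ⟨h, congrArg Subtype.val hh, fun k hk => hinj ((Subtype.ext hk).trans hh.symm)⟩

/-- An exceptional sharply doubly transitive group of degree 11^2: the listed matrices generate a subgroup of GL(2,11) of order 120 acting regularly on the non-zero vectors. -/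
theorem result (A : Matrix.GeneralLinearGroup (Fin 2) (ZMod 11)) (B : Matrix.GeneralLinearGroup (Fin 2) (ZMod 11)) (hA : (A : Matrix (Fin 2) (Fin 2) (ZMod 11)) = !![0, -1; 1, 0]) (hB : (B : Matrix (Fin 2) (Fin 2) (ZMod 11)) = !![2, 4; 1, -3]) : Nat.card (Subgroup.closure ({A, B} : Set (Matrix.GeneralLinearGroup (Fin 2) (ZMod 11)))) = 120 ∧ ∀ v w : Fin 2 → ZMod 11, v ≠ 0 → w ≠ 0 → ∃! h : Subgroup.closure ({A, B} : Set (Matrix.GeneralLinearGroup (Fin 2) (ZMod 11))), Matrix.mulVec ((h : Matrix.GeneralLinearGroup (Fin 2) (ZMod 11)) : Matrix (Fin 2) (Fin 2) (ZMod 11)) v = w := by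
  have hr : Set.range ![A, B] = ({A, B} : Set (Matrix.GeneralLinearGroup (Fin 2) (ZMod 11))) := by
    simp [Matrix.range_cons, Matrix.range_empty]
    try aesop
  have h := main ![A, B] (fun k => by fin_cases k <;> simp [toQ, gens, hA, hB] <;> decide)
  rw [hr] at h
  exact h

end Cfsg.Agent.S0692
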