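import Cfsg.Statements.S0693
import Mathlib

set_option autoImplicit false
set_option maxHeartbeats 4000000
set_option maxRecDepth 8000
open Cfsg

namespace Cfsg.Agent.S0693

/-- Matrices as quadruples. -/
def qmul (x y : ZMod 59 × ZMod 59 × ZMod 59 × ZMod 59) : ZMod 59 × ZMod 59 × ZMod 59 × ZMod 59 :=
  (x.1 * y.1 + x.2.1 * y.2.2.1, x.1 * y.2.1 + x.2.1 * y.2.2.2,
   x.2.2.1 * y.1 + x.2.2.2 * y.2.2.1, x.2.2.1 * y.2.1 + x.2.2.2 * y.2.2.2)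

def gens : Fin 2 → ZMod 59 × ZMod 59 × ZMod 59 × ZMod 59 :=
  ![(0, 58, 1, 0), (9, 15, 49, 49)]

def elems : List (ZMod 59 × ZMod 59 × ZMod 59 × ZMod 59) :=
  [(1, 0, 0, 1), (0, 58, 1, 0), (9, 15, 49, 49), (58, 0, 0, 58), (10, 10, 9, 15), (15, 50, 49, 10), (49, 44, 10, 9), (0, 1, 58, 0), (50, 44, 10, 10), (10, 49, 15, 50), (49, 50, 49, 44), (48, 20, 46, 45), (44, 10, 9, 49), (49, 49, 50, 44), (44, 9, 10, 49), (10, 15, 49, 50), (13, 14, 48, 20), (50, 10, 44, 10), (20, 11, 45, 13), (55, 48, 23, 4), (1, 29, 4, 58), (49, 10, 44, 9), (10, 9, 10, 15), (11, 39, 13, 14), (15, 49, 50, 10), (14, 46, 20, 11), (36, 55, 55, 48), (55, 1, 1, 29), (11, 13, 39, 14), (48, 4, 4, 36), (29, 58, 58, 55), (14, 20, 46, 11), (46, 45, 11, 39), (9, 49, 15, 49), (39, 48, 14, 46), (4, 11, 36, 55), (58, 30, 55, 1), (20, 45, 11, 13), (55, 23, 48, 4), (1, 4, 29, 58), (13, 48, 14, 20),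 (28, 35, 34, 32), (38, 31, 30, 54), (35, 32, 31, 25), (45, 13, 39, 48), (23, 4, 4, 11), (4, 58, 58, 30), (48, 46, 20, 45), (11, 55, 55, 23), (30, 1, 1, 4), (45, 39, 13, 48), (25, 27, 28, 35), (29, 5, 38, 31), (28, 34, 35, 32), (35, 31, 32, 25), (31, 21, 54, 29), (32, 24, 25, 28), (54, 28, 29, 38), (39, 14, 48, 46), (4, 36, 11, 55), (58, 55, 30, 1), (46, 11, 45, 39), (31, 24, 25, 27), (21, 28, 29, 5), (24, 27, 28, 34), (27, 34, 35, 31), (5, 30, 31, 21), (34, 31, 32, 24), (30, 21, 54, 28), (5, 38, 38, 53), (10, 19, 19, 48), (28, 5, 38, 30), (34, 32, 31, 24), (30, 54, 21, 28), (31, 25, 24, 27), (24, 28, 27, 34), (28, 38, 5, 30), (27, 35, 34, 31), (5, 31, 30, 21), (21, 6, 5, 38), (40, 11, 10, 19), (21, 29, 28, 5), (38, 54, 53, 21), (19, 49, 48, 40), (18, 19, 45, 41), (25, 16, 42, 34), (32, 25, 24, 28), (54, 29, 28, 38), (25, 28, 27, 35), (29, 38, 5, 31),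 (54, 21, 21, 6), (49, 40, 40, 11), (31, 54, 21, 29), (6, 38, 38, 54), (11, 19, 19, 49), (14, 18, 18, 19), (17, 25, 25, 16), (38, 30, 31, 54), (19, 41, 41, 14), (16, 34, 34, 17), (38, 53, 54, 21), (19, 48, 49, 40), (21, 5, 6, 38), (40, 10, 11, 19), (41, 40, 14, 18), (34, 43, 17, 25), (18, 45, 19, 41), (25, 42, 16, 34), (42, 34, 34, 43), (56, 52, 52, 3), (40, 18, 18, 45), (53, 21, 21, 5), (48, 40, 40, 10), (45, 41, 41, 40), (43, 25, 25, 42), (7, 56, 56, 52), (41, 14, 40, 18), (34, 17, 43, 25), (52, 3, 3, 7), (3, 7, 7, 56)]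

def words : List (List (Fin 2)) :=
  [[], [0], [1], [0, 0], [0, 1], [1, 0], [1, 1], [0, 0, 0], [0, 0, 1], [0, 1, 0], [0, 1, 1], [1, 0, 1], [1, 1, 0], [0, 0, 0, 1], [0, 0, 1, 0], [0, 0, 1, 1], [0, 1, 0, 1], [0, 1, 1, 0], [1, 0, 1, 0], [1, 0, 1, 1], [1, 1, 0, 1], [0, 0, 0, 1, 0], [0, 0, 0, 1, 1], [0, 0, 1, 0, 1], [0, 0, 1, 1, 0], [0, 1, 0, 1, 0], [0, 1, 0, 1, 1], [0, 1, 1, 0, 1], [1, 0, 1, 0, 1], [1, 0, 1, 1, 0], [1, 1, 0, 1, 0], [1, 1, 0, 1, 1], [0, 0, 0, 1, 0, 1], [0, 0, 0, 1, 1, 0], [0, 0, 1, 0, 1, 0], [0, 0, 1, 0, 1, 1], [0, 0, 1, 1, 0, 1], [0, 1, 0, 1, 0, 1], [0, 1, 0, 1, 1, 0], [0, 1, 1, 0, 1, 0], [0, 1, 1, 0, 1, 1], [1, 0, 1, 0, 1, 1], [1, 0, 1, 1, 0, 1], [1, 1, 0, 1, 0, 1], [0, 0, 0, 1, 0, 1, 0], [0, 0, 0, 1, 0, 1, 1], [0, 0, 0, 1, 1, 0, 1], [0, 0, 1, 0, 1, 0, 1], [0, 0, 1, 0, 1, 1, 0], [0, 0, 1, 1, 0, 1, 0], [0, 0, 1, 1, 0, 1, 1], [0, 1, 0, 1,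 0, 1, 1], [0, 1, 0, 1, 1, 0, 1], [0, 1, 1, 0, 1, 0, 1], [1, 0, 1, 0, 1, 1, 0], [1, 0, 1, 1, 0, 1, 0], [1, 0, 1, 1, 0, 1, 1], [1, 1, 0, 1, 0, 1, 1], [0, 0, 0, 1, 0, 1, 0, 1], [0, 0, 0, 1, 0, 1, 1, 0], [0, 0, 0, 1, 1, 0, 1, 0], [0, 0, 0, 1, 1, 0, 1, 1], [0, 0, 1, 0, 1, 0, 1, 1], [0, 0, 1, 0, 1, 1, 0, 1], [0, 0, 1, 1, 0, 1, 0, 1], [0, 1, 0, 1, 0, 1, 1, 0], [0, 1, 0, 1, 1, 0, 1, 0], [0, 1, 0, 1, 1, 0, 1, 1], [0, 1, 1, 0, 1, 0, 1, 1], [1, 0, 1, 0, 1, 1, 0, 1], [1, 0, 1, 1, 0, 1, 0, 1], [1, 1, 0, 1, 0, 1, 1, 0], [0, 0, 0, 1, 0, 1, 0, 1, 1], [0, 0, 0, 1, 0, 1, 1, 0, 1], [0, 0, 0, 1, 1, 0, 1, 0, 1], [0, 0, 1, 0, 1, 0, 1, 1, 0], [0, 0, 1, 0, 1, 1, 0, 1, 0], [0, 0, 1, 0, 1, 1, 0, 1, 1], [0, 0, 1, 1, 0, 1, 0, 1, 1], [0, 1, 0, 1, 0, 1, 1, 0, 1], [0, 1, 0, 1, 1, 0, 1, 0, 1], [0, 1, 1, 0, 1, 0, 1, 1, 0], [1, 0, 1, 0, 1, 1, 0, 1, 0], [1, 0, 1, 0, 1, 1, 0, 1, 1], [1,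 0, 1, 1, 0, 1, 0, 1, 1], [1, 1, 0, 1, 0, 1, 1, 0, 1], [0, 0, 0, 1, 0, 1, 0, 1, 1, 0], [0, 0, 0, 1, 0, 1, 1, 0, 1, 0], [0, 0, 0, 1, 0, 1, 1, 0, 1, 1], [0, 0, 0, 1, 1, 0, 1, 0, 1, 1], [0, 0, 1, 0, 1, 0, 1, 1, 0, 1], [0, 0, 1, 0, 1, 1, 0, 1, 0, 1], [0, 0, 1, 1, 0, 1, 0, 1, 1, 0], [0, 1, 0, 1, 0, 1, 1, 0, 1, 0], [0, 1, 0, 1, 0, 1, 1, 0, 1, 1], [0, 1, 0, 1, 1, 0, 1, 0, 1, 1], [0, 1, 1, 0, 1, 0, 1, 1, 0, 1], [1, 0, 1, 0, 1, 1, 0, 1, 0, 1], [1, 0, 1, 1, 0, 1, 0, 1, 1, 0], [1, 1, 0, 1, 0, 1, 1, 0, 1, 0], [0, 0, 0, 1, 0, 1, 0, 1, 1, 0, 1], [0, 0, 0, 1, 0, 1, 1, 0, 1, 0, 1], [0, 0, 1, 0, 1, 0, 1, 1, 0, 1, 0], [0, 0, 1, 0, 1, 0, 1, 1, 0, 1, 1], [0, 0, 1, 0, 1, 1, 0, 1, 0, 1, 1], [0, 0, 1, 1, 0, 1, 0, 1, 1, 0, 1], [0, 1, 0, 1, 1, 0, 1, 0, 1, 1, 0], [0, 1, 1, 0, 1, 0, 1, 1, 0, 1, 0], [1, 0, 1, 0, 1, 1, 0, 1, 0, 1, 1], [1, 0, 1, 1, 0, 1, 0, 1, 1, 0, 1], [1, 1, 0, 1,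 0, 1, 1, 0, 1, 0, 1], [0, 0, 0, 1, 0, 1, 0, 1, 1, 0, 1, 0], [0, 0, 0, 1, 0, 1, 0, 1, 1, 0, 1, 1], [0, 0, 0, 1, 0, 1, 1, 0, 1, 0, 1, 1], [0, 0, 1, 1, 0, 1, 0, 1, 1, 0, 1, 0], [0, 1, 0, 1, 1, 0, 1, 0, 1, 1, 0, 1], [0, 1, 1, 0, 1, 0, 1, 1, 0, 1, 0, 1], [1, 0, 1, 0, 1, 1, 0, 1, 0, 1, 1, 0], [1, 0, 1, 1, 0, 1, 0, 1, 1, 0, 1, 0], [1, 1, 0, 1, 0, 1, 1, 0, 1, 0, 1, 1]]

def next0 : List ℕ := [1, 3, 5, 7, 9, 8, 12, 0, 14, 13, 17, 18, 15, 21, 2, 24, 25, 22, 23, 29, 30, 4, 33, 34, 6, 32, 38, 39, 40, 35, 36, 37, 44, 10, 11, 48, 49, 50, 45, 46, 47, 54, 55, 56, 16, 59, 60, 61, 19, 20, 58, 65, 66, 67, 62, 63, 64, 71, 31, 26, 27, 28, 75, 76, 77, 72, 73, 74, 81, 82, 83, 78, 86, 87, 88, 41, 42, 43, 92, 93, 94, 89, 90, 91, 98, 99, 51, 52, 53, 97, 102, 103, 57, 100, 101, 106, 107, 68, 104, 105, 111, 112, 69, 70, 110, 114, 113, 108, 117, 118, 84, 79, 80, 116, 85, 109, 95,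 96, 119, 115]

def next1 : List ℕ := [2, 4, 6, 8, 10, 11, 0, 13, 15, 16, 1, 19, 20, 22, 23, 3, 26, 27, 28, 5, 31, 32, 7, 35, 36, 37, 9, 40, 41, 42, 43, 12, 45, 46, 47, 14, 50, 51, 52, 53, 17, 18, 56, 57, 58, 21, 61, 62, 63, 64, 24, 25, 67, 68, 69, 70, 29, 30, 72, 73, 74, 33, 34, 77, 78, 79, 80, 38, 39, 83, 84, 85, 44, 88, 89, 90, 91, 48, 49, 94, 95, 96, 97, 54, 55, 93, 100, 101, 59, 60, 103, 104, 105, 71, 65, 66, 102, 108, 109, 110, 112, 113, 81, 75, 76, 111, 115, 116, 82, 114, 119, 92, 86, 87, 98, 117, 118, 106, 107, 99]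

theorem next_eq : elems.map (fun x => qmul x (gens 0)) = next0.map (fun i => elems.getD i (1, 0, 0, 1)) ∧
    elems.map (fun x => qmul x (gens 1)) = next1.map (fun i => elems.getD i (1, 0, 0, 1)) ∧
    (∀ i ∈ next0, i < elems.length) ∧ (∀ i ∈ next1, i < elems.length) := by decide +kernel

theorem elems_closed (x : ZMod 59 × ZMod 59 × ZMod 59 × ZMod 59) (hx : x ∈ elems) (k : Fin 2) :
    qmul x (gens k) ∈ elems := by
  have aux : ∀ (l : List ℕ) (g : ZMod 59 × ZMod 59 × ZMod 59 × ZMod 59), (∀ i ∈ l, i < elems.length) →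
      elems.map (fun x => qmul x g) = l.map (fun i => elems.getD i (1, 0, 0, 1)) → qmul x g ∈ elems := by
    intro l g hl he
    have hmem : qmul x g ∈ elems.map (fun x => qmul x g) := List.mem_map.2 ⟨x, hx, rfl⟩
    rw [he, List.mem_map] at hmem
    obtain ⟨i, hi, hxi⟩ := hmem
    rw [← hxi, List.getD_eq_getElem _ _ (hl i hi)]
    exact List.getElem_mem _
  obtain ⟨h0, h1, l0, l1⟩ := next_eq
  match k with
  | 0 => exact aux next0 _ l0 h0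
  | 1 => exact aux next1 _ l1 h1

theorem elems_words : words.map (fun w => w.foldl (fun x k => qmul x (gens k)) (1, 0, 0, 1)) = elems := by
  decide +kernel

theorem elems_nodup : elems.Nodup := by decide +kernel

def qsmul (c : ZMod 59) (x : ZMod 59 × ZMod 59 × ZMod 59 × ZMod 59) : ZMod 59 × ZMod 59 × ZMod 59 × ZMod 59 :=
  (c * x.1, c * x.2.1, c * x.2.2.1, c * x.2.2.2)

def traces : List (ZMod 59) := [0, 1, 2, 25, 26, 33, 34, 57, 58]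

theorem elems_det_all : (elems.map (fun x => decide (x.1 * x.2.2.2 + 58 * (x.2.1 * x.2.2.1) = 1))).all id = true := by
  decide +kernel

theorem elems_det (x : ZMod 59 × ZMod 59 × ZMod 59 × ZMod 59) (hx : x ∈ elems) :
    x.1 * x.2.2.2 + 58 * (x.2.1 * x.2.2.1) = 1 :=
  of_decide_eq_true ((List.all_eq_true.1 elems_det_all) _ (List.mem_map.2 ⟨x, hx, rfl⟩))

theorem elems_trace : ∀ x ∈ elems, x.1 + x.2.2.2 ∈ traces ∧ (x.1 + x.2.2.2 = 2 → x = (1, 0, 0, 1)) := by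
  decide +kernel

theorem traces_free : ∀ i < 29, ∀ t ∈ traces,
    (4 : ZMod 59) ^ i * 4 ^ i - 4 ^ i * t + 1 = 0 → i = 0 ∧ t = 2 := by decide +kernel

theorem four_sq : ∀ i < 29, (4 : ZMod 59) ^ i * 4 ^ i = 1 → i = 0 := by decide +kernel

theorem elems_free (i : ℕ) (hi : i < 29) (x : ZMod 59 × ZMod 59 × ZMod 59 × ZMod 59) (hx : x ∈ elems)
    (h : ((qsmul (4 ^ i) x).1 - 1) * ((qsmul (4 ^ i) x).2.2.2 - 1) -
      (qsmul (4 ^ i) x).2.1 * (qsmul (4 ^ i) x).2.2.1 = 0) :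
    qsmul (4 ^ i) x = (1, 0, 0, 1) := by
  have hd := elems_det x hx
  obtain ⟨h0, h2⟩ := traces_free i hi _ (elems_trace x hx).1 (by
    simp only [qsmul] at h
    linear_combination (norm := (ring_nf; (try reduce_mod_char))) h - (4 : ZMod 59) ^ i * 4 ^ i * hd)
  rw [h0, (elems_trace x hx).2 h2]
  simp [qsmul]

theorem elems_scalar (i : ℕ) (hi : i < 29) (x : ZMod 59 × ZMod 59 × ZMod 59 × ZMod 59) (hx : x ∈ elems)
    (h : qsmul (4 ^ i) x ∈ elems) : i = 0 := by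
  have hd := elems_det x hx
  have hd' := elems_det _ h
  simp only [qsmul] at hd'
  exact four_sq i hi (by linear_combination (norm := (ring_nf; (try reduce_mod_char))) hd' - (4 : ZMod 59) ^ i * 4 ^ i * hd)

theorem four_pow : (4 : ZMod 59) ^ 29 = 1 := by decide +kernel

theorem qsmul_qmul (c : ZMod 59) (x y : ZMod 59 × ZMod 59 × ZMod 59 × ZMod 59) :
    qmul (qsmul c x) y = qsmul c (qmul x y) := by
  simp only [qmul, qsmul, Prod.mk.injEq]; refine ⟨?_, ?_, ?_, ?_⟩ <;> ring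

theorem qmul_scalar (c : ZMod 59) (x : ZMod 59 × ZMod 59 × ZMod 59 × ZMod 59) :
    qmul x (c, 0, 0, c) = qsmul c x := by
  simp only [qmul, qsmul, Prod.mk.injEq]; refine ⟨?_, ?_, ?_, ?_⟩ <;> ring

theorem qsmul_qsmul (c d : ZMod 59) (x : ZMod 59 × ZMod 59 × ZMod 59 × ZMod 59) :
    qsmul c (qsmul d x) = qsmul (c * d) x := by
  simp [qsmul, mul_assoc]

open Matrix in
def toQ (M : Matrix (Fin 2) (Fin 2) (ZMod 59)) : ZMod 59 × ZMod 59 × ZMod 59 × ZMod 59 :=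
  (M 0 0, M 0 1, M 1 0, M 1 1)

theorem toQ_mul (M N : Matrix (Fin 2) (Fin 2) (ZMod 59)) : toQ (M * N) = qmul (toQ M) (toQ N) := by
  simp [toQ, qmul, Matrix.mul_apply, Fin.sum_univ_two]

theorem toQ_inj {M N : Matrix (Fin 2) (Fin 2) (ZMod 59)} (h : toQ M = toQ N) : M = N := by
  simp only [toQ, Prod.mk.injEq] at h
  ext i j
  fin_cases i <;> fin_cases j
  · exact h.1
  · exact h.2.1
  · exact h.2.2.1
  · exact h.2.2.2

instance fact_prime_fifty_nine : Fact (Nat.Prime 59) := ⟨by norm_num⟩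

theorem main (g : Fin 2 → GL (Fin 2) (ZMod 59)) (hg : ∀ k, toQ (g k : Matrix (Fin 2) (Fin 2) (ZMod 59)) = gens k)
    (c : GL (Fin 2) (ZMod 59)) (hc : toQ (c : Matrix (Fin 2) (Fin 2) (ZMod 59)) = (4, 0, 0, 4)) :
    Nat.card (Subgroup.closure (insert c (Set.range g))) = 3480 ∧
    ∀ v w : Fin 2 → ZMod 59, v ≠ 0 → w ≠ 0 → ∃! h : Subgroup.closure (insert c (Set.range g)),
      Matrix.mulVec ((h : GL (Fin 2) (ZMod 59)) : Matrix (Fin 2) (Fin 2) (ZMod 59)) v = w := by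
  classical
  set H := Subgroup.closure (insert c (Set.range g))
  have hmod : ∀ i : ℕ, (4 : ZMod 59) ^ i = 4 ^ (i % 29) := fun i => by
    conv_lhs => rw [← Nat.mod_add_div i 29, pow_add, pow_mul, four_pow, one_pow, mul_one]
  have hmem : ∀ h ∈ H, ∃ i < 29, ∃ x ∈ elems,
      toQ (h : Matrix (Fin 2) (Fin 2) (ZMod 59)) = qsmul (4 ^ i) x := by
    intro h hh
    rw [← Subgroup.mem_toSubmonoid, Subgroup.closure_toSubmonoid_of_finite] at hh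
    induction hh using Submonoid.closure_induction_right with
    | one => exact ⟨0, by norm_num, (1, 0, 0, 1), by decide, by simp [toQ, qsmul]⟩
    | mul_right x _ y hy ih =>
      obtain ⟨i, hi, q, hq, he⟩ := ih
      rcases hy with rfl | ⟨k, rfl⟩
      · refine ⟨(i + 1) % 29, Nat.mod_lt _ (by norm_num), q, hq, ?_⟩
        rw [Units.val_mul, toQ_mul, hc, he, qmul_scalar, qsmul_qsmul, ← hmod, pow_succ']
      · exact ⟨i, hi, _, elems_closed q hq k, by rw [Units.val_mul, toQ_mul, he, hg, qsmul_qmul]⟩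
  have hexq : ∀ q ∈ elems, ∃ h : H, toQ ((h : GL (Fin 2) (ZMod 59)) : Matrix (Fin 2) (Fin 2) (ZMod 59)) = q := by
    intro q hq
    rw [← elems_words, List.mem_map] at hq
    obtain ⟨w, -, rfl⟩ := hq
    induction w using List.reverseRecOn with
    | nil => exact ⟨1, by simp [toQ]⟩
    | append_singleton w k ih =>
      obtain ⟨h, hh⟩ := ih
      refine ⟨h * ⟨g k, Subgroup.subset_closure (Set.mem_insert_of_mem _ ⟨k, rfl⟩)⟩, ?_⟩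
      rw [List.foldl_append, List.foldl_cons, List.foldl_nil, Subgroup.coe_mul, Units.val_mul, toQ_mul, hh, hg]
  have hexc : ∀ (i : ℕ) (h : H), ∃ h' : H, toQ ((h' : GL (Fin 2) (ZMod 59)) : Matrix (Fin 2) (Fin 2) (ZMod 59)) =
      qsmul (4 ^ i) (toQ ((h : GL (Fin 2) (ZMod 59)) : Matrix (Fin 2) (Fin 2) (ZMod 59))) := by
    intro i
    induction i with
    | zero => exact fun h => ⟨h, by simp [qsmul, toQ]⟩
    | succ i ih =>
      intro h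
      obtain ⟨h', hh'⟩ := ih h
      refine ⟨h' * ⟨c, Subgroup.subset_closure (Set.mem_insert _ _)⟩, ?_⟩
      rw [Subgroup.coe_mul, Units.val_mul, toQ_mul, hh', hc, qmul_scalar, qsmul_qsmul, pow_succ']
  have hfree : ∀ h : H, ∀ v : Fin 2 → ZMod 59, v ≠ 0 →
      Matrix.mulVec ((h : GL (Fin 2) (ZMod 59)) : Matrix (Fin 2) (Fin 2) (ZMod 59)) v = v → h = 1 := by
    intro h v hv hfix
    obtain ⟨i, hi, q, hq, he⟩ := hmem h h.2
    refine Subtype.ext (Units.ext (toQ_inj ?_))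
    rw [he, show toQ (((1 : H) : GL (Fin 2) (ZMod 59)) : Matrix (Fin 2) (Fin 2) (ZMod 59)) = (1, 0, 0, 1) from by
      simp [toQ]]
    refine elems_free i hi q hq ?_
    rw [← he]
    have hdet : Matrix.det (((h : GL (Fin 2) (ZMod 59)) : Matrix (Fin 2) (Fin 2) (ZMod 59)) - 1) = 0 :=
      Matrix.exists_mulVec_eq_zero_iff.1 ⟨v, hv, by rw [Matrix.sub_mulVec, hfix, Matrix.one_mulVec, sub_self]⟩
    rw [Matrix.det_fin_two] at hdet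
    simpa [toQ] using hdet
  let S : Finset (ℕ × (ZMod 59 × ZMod 59 × ZMod 59 × ZMod 59)) := Finset.range 29 ×ˢ elems.toFinset
  have hS : S.card = 3480 := by
    rw [Finset.card_product, Finset.card_range, List.toFinset_card_of_nodup elems_nodup]; rfl
  have hlow : 3480 ≤ Nat.card H := by
    have hex : ∀ z : S, ∃ h : H, toQ ((h : GL (Fin 2) (ZMod 59)) : Matrix (Fin 2) (Fin 2) (ZMod 59)) =
        qsmul (4 ^ z.1.1) z.1.2 := by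
      rintro ⟨⟨i, q⟩, hz⟩
      simp only [S, Finset.mem_product, List.mem_toFinset] at hz
      obtain ⟨h, hh⟩ := hexq q hz.2
      obtain ⟨h', hh'⟩ := hexc i h
      exact ⟨h', by rw [hh', hh]⟩
    choose F hF using hex
    rw [← hS, ← Nat.card_eq_finsetCard]
    refine Nat.card_le_card_of_injective F ?_
    rintro ⟨⟨i, q⟩, hz⟩ ⟨⟨j, r⟩, hw⟩ e
    simp only [S, Finset.mem_product, List.mem_toFinset, Finset.mem_range] at hz hw
    have h1 := (hF ⟨⟨i, q⟩, _⟩).symm.trans ((congrArg (fun x : H =>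
      toQ ((x : GL (Fin 2) (ZMod 59)) : Matrix (Fin 2) (Fin 2) (ZMod 59))) e).trans (hF ⟨⟨j, r⟩, _⟩))
    simp only at h1
    have key : ∀ a b : ℕ, a < 29 → b < 29 → a ≤ b → ∀ x ∈ elems, ∀ y ∈ elems,
        qsmul (4 ^ a) x = qsmul (4 ^ b) y → a = b ∧ x = y := by
      intro a b ha hb hab x hx y hy he
      have hdiv : qsmul (4 ^ (b - a)) y = x := by
        have h2 := congrArg (qsmul ((4 : ZMod 59) ^ (29 - a))) he
        rw [qsmul_qsmul, qsmul_qsmul, ← pow_add, ← pow_add, Nat.sub_add_cancel ha.le, four_pow] at h2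
        rw [show 29 - a + b = 29 + (b - a) by omega, pow_add, four_pow, one_mul] at h2
        rw [← h2]; simp [qsmul]
      have hz0 := elems_scalar (b - a) (by omega) y hy (hdiv ▸ hx)
      refine ⟨by omega, ?_⟩
      rw [hz0] at hdiv
      rw [← hdiv]; simp [qsmul]
    rcases Nat.le_total i j with hij | hij
    · obtain ⟨rfl, rfl⟩ := key i j hz.1 hw.1 hij q hz.2 r hw.2 h1; rfl
    · obtain ⟨rfl, rfl⟩ := key j i hw.1 hz.1 hij r hw.2 q hz.2 h1.symm; rfl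
  have hact : ∀ v : Fin 2 → ZMod 59, v ≠ 0 → ∃ f : H → {u : Fin 2 → ZMod 59 // u ≠ 0}, Function.Injective f ∧
      ∀ h, (f h : Fin 2 → ZMod 59) = Matrix.mulVec ((h : GL (Fin 2) (ZMod 59)) : Matrix (Fin 2) (Fin 2) (ZMod 59)) v := by
    intro v hv
    refine ⟨fun h => ⟨Matrix.mulVec ((h : GL (Fin 2) (ZMod 59)) : Matrix (Fin 2) (Fin 2) (ZMod 59)) v, fun e => hv (by
      have := congrArg (Matrix.mulVec (((h : GL (Fin 2) (ZMod 59))⁻¹ : GL _ _) : Matrix (Fin 2) (Fin 2) (ZMod 59))) e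
      rwa [Matrix.mulVec_mulVec, ← Units.val_mul, inv_mul_cancel, Units.val_one, Matrix.one_mulVec,
        Matrix.mulVec_zero] at this)⟩, ?_, fun h => rfl⟩
    intro a b e
    have e' := congrArg Subtype.val e
    simp only at e'
    have h1 : Matrix.mulVec (((a⁻¹ * b : H) : GL (Fin 2) (ZMod 59)) : Matrix (Fin 2) (Fin 2) (ZMod 59)) v = v := by
      rw [Subgroup.coe_mul, Units.val_mul, ← Matrix.mulVec_mulVec, ← e', Matrix.mulVec_mulVec, ← Units.val_mul,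
        ← Subgroup.coe_mul, inv_mul_cancel]
      simp
    exact inv_mul_eq_one.mp (hfree _ v hv h1)
  have hupp : Nat.card {u : Fin 2 → ZMod 59 // u ≠ 0} = 3480 := by
    rw [Nat.card_eq_fintype_card, Fintype.card_subtype_compl, Fintype.card_subtype_eq]
    simp
  have hv1 : (fun _ => 1 : Fin 2 → ZMod 59) ≠ 0 := fun e => one_ne_zero (congrFun e 0)
  have hcard : Nat.card H = 3480 := by
    obtain ⟨f, hf, -⟩ := hact _ hv1
    exact le_antisymm (hupp ▸ Nat.card_le_card_of_injective f hf) hlow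
  refine ⟨hcard, fun v w hv hw => ?_⟩
  obtain ⟨f, hf, hfv⟩ := hact v hv
  have hbij := (Nat.bijective_iff_injective_and_card f).mpr ⟨hf, hcard.trans hupp.symm⟩
  obtain ⟨h, hh⟩ := hbij.2 ⟨w, hw⟩
  exact ⟨h, (hfv h).symm.trans (congrArg Subtype.val hh), fun k hk =>
    hf ((Subtype.ext ((hfv k).trans hk)).trans hh.symm)⟩

/-- An exceptional sharply doubly transitive group of degree 59^2: the listed matrices generate a subgroup of GL(2,59) of order 3480 acting regularly on the non-zero vectors. -/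
theorem result (A : Matrix.GeneralLinearGroup (Fin 2) (ZMod 59)) (B : Matrix.GeneralLinearGroup (Fin 2) (ZMod 59)) (C : Matrix.GeneralLinearGroup (Fin 2) (ZMod 59)) (hA : (A : Matrix (Fin 2) (Fin 2) (ZMod 59)) = !![0, -1; 1, 0]) (hB : (B : Matrix (Fin 2) (Fin 2) (ZMod 59)) = !![9, 15; -10, -10]) (hC : (C : Matrix (Fin 2) (Fin 2) (ZMod 59)) = !![4, 0; 0, 4]) : Nat.card (Subgroup.closure ({A, B, C} : Set (Matrix.GeneralLinearGroup (Fin 2) (ZMod 59)))) = 3480 ∧ ∀ v w : Fin 2 → ZMod 59, v ≠ 0 → w ≠ 0 → ∃! h : Subgroup.closure ({A, B, C} : Set (Matrix.GeneralLinearGroup (Fin 2) (ZMod 59))), Matrix.mulVec ((h : Matrix.GeneralLinearGroup (Fin 2) (ZMod 59)) : Matrix (Fin 2) (Fin 2) (ZMod 59)) v = w := by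
  have hr : insert C (Set.range ![A, B]) = ({A, B, C} : Set (Matrix.GeneralLinearGroup (Fin 2) (ZMod 59))) := by
    ext x; simp [Matrix.range_cons, Matrix.range_empty]; tauto
  have h := main ![A, B] (fun k => by fin_cases k <;> simp [toQ, gens, hA, hB] <;> decide) C (by simp [toQ, hC])
  rw [hr] at h
  exact h

end Cfsg.Agent.S0693
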