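import Cfsg.Statements.S0804
import Mathlib
import Cfsg.Agent.Lib.Classical.LinearOrders
-- import your own Cfsg.Agent.* helpers here

set_option autoImplicit false
open Cfsg
open scoped Matrix MatrixGroups

namespace Cfsg.Agent.S0804

/-- Coefficients with respect to `1, a, b, ab` over `ℤ[φ]`. -/
abbrev Co : Type := (ℤ × ℤ) × (ℤ × ℤ) × (ℤ × ℤ) × (ℤ × ℤ)

/-- The sixty permutations. -/
def ptab : Fin 60 → Fin 5 → Fin 5 := ![
  ![0, 1, 2, 3, 4], ![1, 0, 3, 2, 4], ![2, 1, 4, 3, 0], ![3, 0, 4, 2, 1], ![1, 2, 3, 4, 0], ![4, 1, 0, 3, 2],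
  ![0, 3, 2, 4, 1], ![4, 0, 1, 2, 3], ![3, 2, 0, 4, 1], ![1, 4, 3, 0, 2], ![2, 3, 1, 4, 0], ![0, 4, 2, 1, 3],
  ![2, 3, 4, 0, 1], ![0, 2, 1, 4, 3], ![3, 4, 2, 0, 1], ![3, 2, 4, 1, 0], ![1, 3, 0, 4, 2], ![2, 4, 3, 1, 0],
  ![4, 3, 1, 0, 2], ![2, 0, 4, 1, 3], ![4, 3, 0, 2, 1], ![2, 4, 1, 0, 3], ![4, 2, 0, 1, 3], ![3, 1, 4, 0, 2],
  ![4, 2, 1, 3, 0], ![3, 4, 0, 1, 2], ![1, 3, 2, 0, 4], ![4, 0, 3, 1, 2], ![0, 3, 1, 2, 4], ![0, 2, 3, 1, 4],
  ![4, 1, 2, 0, 3], ![1, 2, 0, 3, 4], ![3, 1, 0, 2, 4], ![0, 4, 1, 3, 2], ![3, 0, 2, 1, 4], ![1, 3, 4, 2, 0],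
  ![2, 0, 1, 3, 4], ![1, 4, 0, 2, 3], ![2, 1, 3, 0, 4], ![0, 2, 4, 3, 1], ![0, 1, 4, 2, 3], ![1, 4, 2, 3, 0],
  ![3, 1, 2, 4, 0], ![1, 0, 4, 3, 2], ![0, 4, 3, 2, 1], ![2, 0, 3, 4, 1], ![1, 0, 2, 4, 3], ![4, 1, 3, 2, 0],
  ![2, 4, 0, 3, 1], ![2, 1, 0, 4, 3], ![0, 1, 3, 4, 2], ![4, 0, 2, 3, 1], ![3, 4, 1, 2, 0], ![3, 0, 1, 4, 2],
  ![4, 2, 3, 0, 1], ![1, 2, 4, 0, 3], ![4, 3, 2, 1, 0], ![0, 3, 4, 1, 2], ![3, 2, 1, 0, 4], ![2, 3, 0, 1, 4]]

/-- The sixty icosian representatives. -/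
def vtab : Fin 60 → Co := ![
  ((1, 0), (0, 0), (0, 0), (0, 0)), ((0, 0), (1, 0), (0, 0), (0, 0)), ((0, 0), (0, 0), (1, 0), (0, 0)),
  ((0, 0), (0, 0), (0, 0), (1, 0)), ((0, 1), (1, 0), (0, 0), (-1, 0)), ((-1, 0), (0, 0), (1, 0), (0, 0)),
  ((-1, 0), (0, 1), (1, 0), (0, 0)), ((0, 0), (-1, 0), (0, 0), (1, 0)), ((0, 0), (1, 0), (0, 1), (0, 0)),
  ((0, 1), (0, 0), (0, 0), (-1, 0)), ((-1, 0), (0, 0), (0, 0), (0, 1)), ((0, 0), (0, 1), (1, 0), (0, 0)),
  ((0, 1), (0, 1), (0, 0), (0, -1)), ((0, -1), (0, 0), (0, 1), (1, 0)), ((0, 0), (1, 0), (0, 1), (-1, 0)),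
  ((0, -1), (0, 1), (0, 1), (0, 0)), ((0, 0), (0, -1), (-1, 0), (0, 1)), ((-1, 0), (0, 0), (1, 0), (0, 1)),
  ((0, 0), (0, 1), (0, 1), (0, 0)), ((0, 1), (0, 1), (1, 0), (0, -1)), ((1, 1), (0, 0), (-1, 0), (0, -1)),
  ((0, -1), (1, 0), (0, 1), (0, 0)), ((0, -1), (0, 0), (0, 0), (0, 1)), ((0, -1), (0, 1), (0, 1), (1, 0)),
  ((0, 0), (1, 1), (0, 1), (-1, 0)), ((-1, 0), (0, -1), (0, 0), (0, 1)), ((0, -1), (0, 0), (0, 1), (0, 1)),
  ((-1, 0), (0, 1), (1, 1), (0, 0)), ((1, 0), (0, 1), (0, 1), (0, -1)), ((0, 0), (0, -1), (0, -1), (0, 1)),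
  ((0, -1), (-1, 0), (0, 0), (1, 1)), ((0, -1), (1, 0), (0, 1), (0, 1)), ((1, 0), (1, 1), (0, 1), (0, -1)),
  ((1, 1), (0, 1), (0, 0), (-1, -1)), ((-1, -1), (0, 0), (0, 1), (0, 1)), ((0, -1), (0, 1), (1, 1), (0, 0)),
  ((-1, -1), (1, 0), (0, 1), (0, 1)), ((0, -1), (1, 1), (1, 1), (0, 0)), ((0, 0), (-1, -1), (0, -1), (0, 1)),
  ((0, -1), (0, -1), (0, 0), (1, 1)), ((0, -1), (0, 1), (1, 1), (1, 0)), ((0, 0), (1, 1), (1, 1), (-1, 0)),
  ((1, 1), (1, 0), (0, 0), (-1, -1)), ((0, -1), (0, -1), (-1, 0), (1, 1)), ((-1, -1), (0, 0), (1, 0), (1, 1)),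
  ((-1, 0), (1, 1), (1, 1), (0, 0)), ((0, 1), (1, 1), (1, 0), (-1, -1)), ((-1, -1), (-1, 0), (1, 0), (1, 1)),
  ((-1, -1), (1, 0), (1, 1), (0, 1)), ((0, 0), (1, 1), (1, 1), (0, -1)), ((-1, -1), (0, 1), (1, 1), (1, 0)),
  ((1, 0), (-1, -1), (-1, -1), (1, 0)), ((-1, 0), (-1, -1), (0, -1), (1, 1)), ((-1, -1), (0, 0), (0, 1), (1, 1)),
  ((0, 1), (1, 1), (0, 1), (-1, -1)), ((0, 2), (0, 0), (0, -1), (-1, -1)), ((-1, -1), (0, 1), (1, 1), (0, 1)),
  ((0, 0), (0, 2), (1, 1), (0, -1)), ((0, -1), (1, 1), (0, 2), (0, 0)), ((-1, -1), (0, -1), (0, 0), (0, 2))]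

/-- Right multiplication by the first generator. -/
def na : Fin 60 → Fin 60 := ![1, 0, 4, 6, 2, 9, 3, 11, 12, 5, 15, 7, 8, 19, 20, 10, 23, 24, 25, 13, 14, 22, 21, 16, 17, 18, 32, 33, 34, 36, 37, 38, 26, 27, 28, 42, 29, 30, 31, 45, 46, 47, 35, 50, 51, 39, 40, 41, 54, 55, 43, 44, 56, 57, 48, 49, 52, 53, 59, 58]

/-- Right multiplication by the second generator. -/
def nb : Fin 60 → Fin 60 := ![2, 3, 5, 7, 8, 0, 10, 1, 13, 14, 16, 17, 18, 4, 21, 22, 6, 25, 26, 27, 28, 9, 29, 30, 31, 11, 12, 34, 35, 15, 38, 39, 40, 41, 19, 20, 43, 44, 23, 24, 47, 48, 49, 51, 52, 53, 45, 32, 33, 50, 42, 36, 37, 46, 58, 54, 59, 56, 55, 57]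

/-- The parent of an entry. -/
def par : Fin 60 → ℕ × Bool := ![(0, false), (0, false), (0, true), (1, true), (2, false), (2, true), (3, false), (3, true), (4, true), (5, false), (6, true), (7, false), (8, false), (8, true), (9, true), (10, false), (10, true), (11, true), (12, true), (13, false), (14, false), (14, true), (15, true), (16, false), (17, false), (17, true), (18, true), (19, true), (20, true), (22, true), (23, true), (24, true), (26, false), (27, false), (27, true), (28, true), (29, false), (30, false), (30, true), (31, true), (32, true), (33, true), (35, false), (36, true), (37, true), (39, false), (40, false), (40, true), (41, true), (42, true), (43, false), (43, true), (44, true), (45, true), (48, false), (49, false), (52, false), (53, false), (54, true), (56, true)]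

/-- Codes of the permutations. -/
def codes : Fin 60 → ℕ := ![2930, 2826, 482, 978, 586, 1634, 1190, 2154, 1138, 1346, 542, 2070, 742, 2410, 698, 238, 1766, 222, 1294, 2102, 894, 1922, 2014, 1358, 414, 1398, 2566, 1454, 2790, 2710, 1934, 2886, 2758, 1670, 2678, 366, 2902, 2146, 2582, 1110, 2230, 446, 558, 1726, 970, 1202, 2426, 334, 1022, 2382, 1830, 1054, 298, 1778, 714, 1986, 194, 1490, 2538, 2642]

/-- Product with `φ`. -/
def mphi (p : ℤ × ℤ) : ℤ × ℤ := (p.2, p.1 + p.2)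

/-- Right multiplication of coefficients by `a`. -/
def mulA (v : Co) : Co :=
  ((-v.2.1) + mphi v.2.2.1 + -v.2.2.2, v.1 + v.2.2.1 + mphi v.2.2.2, v.2.2.2, -v.2.2.1)

/-- Right multiplication of coefficients by `b`. -/
def mulB (v : Co) : Co := (-v.2.2.1, -v.2.2.2, v.1 + v.2.2.1, v.2.1 + v.2.2.2)

/-- The first generator of `A₅`. -/
def pa : Equiv.Perm (Fin 5) := Equiv.swap 0 1 * Equiv.swap 2 3

/-- The second generator of `A₅`. -/
def pb : Equiv.Perm (Fin 5) := Equiv.swap 0 2 * Equiv.swap 2 4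

lemma ptab_na : ∀ i x, ptab (na i) x = ptab i (pa x) := by decide +kernel

lemma ptab_nb : ∀ i x, ptab (nb i) x = ptab i (pb x) := by decide +kernel

lemma vtab_na : ∀ i, mulA (vtab i) = vtab (na i) ∨ mulA (vtab i) = -vtab (na i) := by decide +kernel

lemma vtab_nb : ∀ i, mulB (vtab i) = vtab (nb i) ∨ mulB (vtab i) = -vtab (nb i) := by decide +kernel

lemma code_eq : ∀ i, (ptab i 0 : ℕ) + 5 * ptab i 1 + 25 * ptab i 2 + 125 * ptab i 3 + 625 * ptab i 4 = codes i := by decide +kernel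

lemma codes_injective : Function.Injective codes := by unfold Function.Injective; decide +kernel

lemma ptab_injective : Function.Injective ptab := fun i j h => codes_injective (by rw [← code_eq, ← code_eq, h])

lemma ptab_zero : ∀ x, ptab 0 x = x := by decide +kernel

lemma par_spec : ∀ i : Fin 60, i = 0 ∨ ∃ j : Fin 60, (j : ℕ) < i ∧ (j : ℕ) = (par i).1 ∧ i = (if (par i).2 then nb j else na j) := by decide +kernel

lemma pab_even : pa ∈ alternatingGroup (Fin 5) ∧ pb ∈ alternatingGroup (Fin 5) := by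
  simp only [Equiv.Perm.mem_alternatingGroup]; decide

/-- Generators satisfying the icosian relations give a copy of `A₅`. -/
theorem exists_a5 {F : Type*} [Field F] [Finite F] (φ : F) (hφ : φ * φ = φ + 1) (A B : SL(2, F))
    (hA : A.1 * A.1 = -1) (hB : B.1 * B.1 = B.1 - 1) (hBA : B.1 * A.1 = A.1 + φ • (1 : Matrix (Fin 2) (Fin 2) F) - A.1 * B.1)
    (hne : (A : SL(2, F)) ∉ Subgroup.center SL(2, F)) :
    ∃ H : Subgroup (Matrix.ProjectiveSpecialLinearGroup (Fin 2) F), Nonempty (H ≃* alternatingGroup (Fin 5)) := by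
  classical
  let r : ℤ × ℤ → F := fun p => (p.1 : F) + (p.2 : F) * φ
  let ev : Co → Matrix (Fin 2) (Fin 2) F := fun v =>
    r v.1 • (1 : Matrix (Fin 2) (Fin 2) F) + r v.2.1 • A.1 + r v.2.2.1 • B.1 + r v.2.2.2 • (A.1 * B.1)
  have rn : ∀ p, r (-p) = -r p := fun p => by simp [r]; ring
  have ra : ∀ p p', r (p + p') = r p + r p' := fun p p' => by simp [r]; ring
  have rphi : ∀ p, r (mphi p) = φ * r p := fun p => by
    simp only [r, mphi, Int.cast_add]; linear_combination (-(p.2 : F)) * hφ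
  have evn : ∀ v, ev (-v) = -ev v := fun v => by
    simp only [ev, Prod.fst_neg, Prod.snd_neg, rn, neg_smul]; abel
  have hABA : A.1 * B.1 * A.1 = φ • A.1 - 1 + B.1 := by
    rw [Matrix.mul_assoc, hBA, Matrix.mul_sub, Matrix.mul_add, hA, Matrix.mul_smul, Matrix.mul_one, ← Matrix.mul_assoc, hA, neg_mul, Matrix.one_mul]
    abel
  have evA : ∀ v, ev (mulA v) = ev v * A.1 := fun v => by
    simp only [ev, mulA, rn, ra, rphi, Matrix.add_mul, Matrix.smul_mul, Matrix.one_mul, hA, hBA, hABA]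
    module
  have evB : ∀ v, ev (mulB v) = ev v * B.1 := fun v => by
    simp only [ev, mulB, rn, ra, Matrix.add_mul, Matrix.smul_mul, Matrix.one_mul, Matrix.mul_assoc, hB, Matrix.mul_sub, Matrix.mul_one]
    module
  let π := QuotientGroup.mk' (Subgroup.center SL(2, F))
  let ga : alternatingGroup (Fin 5) := ⟨pa, pab_even.1⟩
  let gb : alternatingGroup (Fin 5) := ⟨pb, pab_even.2⟩
  let S : Set (alternatingGroup (Fin 5) × Matrix.ProjectiveSpecialLinearGroup (Fin 2) F) :=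
    {z | ∃ i, ⇑(z.1 : Equiv.Perm (Fin 5)) = ptab i ∧ ∃ M : SL(2, F), π M = z.2 ∧ M.1 = ev (vtab i)}
  have hneg : ∀ M : SL(2, F), π (-M) = π M := fun M => by
    rw [QuotientGroup.mk'_eq_mk']
    refine ⟨-1, Matrix.SpecialLinearGroup.mem_center_iff.2 ⟨-1, by rw [Fintype.card_fin]; ring, by ext i j; fin_cases i <;> fin_cases j <;> simp⟩, by simp⟩
  have step : ∀ (g : alternatingGroup (Fin 5)) (X : SL(2, F)) (n : Fin 60 → Fin 60) (op : Co → Co),
      (∀ i x, ptab (n i) x = ptab i ((g : Equiv.Perm (Fin 5)) x)) → (∀ i, op (vtab i) = vtab (n i) ∨ op (vtab i) = -vtab (n i)) →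
      (∀ v, ev (op v) = ev v * X.1) → ∀ z ∈ S, z * (g, π X) ∈ S := by
    rintro g X n op hp hv he z ⟨i, hi, M, hM, hMv⟩
    refine ⟨n i, funext fun x => ?_, ?_⟩
    · show (z.1 : Equiv.Perm (Fin 5)) ((g : Equiv.Perm (Fin 5)) x) = _
      rw [hp, hi]
    · rcases hv i with h | h
      · exact ⟨M * X, by rw [map_mul, hM]; rfl, by rw [Matrix.SpecialLinearGroup.coe_mul, hMv, ← he, h]⟩
      · exact ⟨-(M * X), by rw [hneg, map_mul, hM]; rfl,
          by rw [Matrix.SpecialLinearGroup.coe_neg, Matrix.SpecialLinearGroup.coe_mul, hMv, ← he, h, evn, neg_neg]⟩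
  have h1 : (1 : alternatingGroup (Fin 5) × Matrix.ProjectiveSpecialLinearGroup (Fin 2) F) ∈ S := by
    refine ⟨0, funext fun x => ?_, 1, map_one π, ?_⟩
    · rw [ptab_zero]; rfl
    · simp [ev, r, vtab]
  let K : Subgroup (alternatingGroup (Fin 5) × Matrix.ProjectiveSpecialLinearGroup (Fin 2) F) := Subgroup.closure {(ga, π A), (gb, π B)}
  have hK : ∀ z ∈ K, z ∈ S := by
    intro z hz
    rw [← Subgroup.mem_toSubmonoid, Subgroup.closure_toSubmonoid_of_finite] at hz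
    induction hz using Submonoid.closure_induction_right with
    | one => exact h1
    | mul_right x hx y hy ih =>
      rcases hy with rfl | rfl
      · exact step ga A na mulA ptab_na vtab_na evA x ih
      · exact step gb B nb mulB ptab_nb vtab_nb evB x ih
  have hall : ∀ n : ℕ, ∀ i : Fin 60, (i : ℕ) = n → ∃ z ∈ K, ⇑(z.1 : Equiv.Perm (Fin 5)) = ptab i := by
    intro n
    induction n using Nat.strong_induction_on with
    | _ n ih =>
      intro i hi
      rcases par_spec i with rfl | ⟨j, hj, -, hij⟩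
      · exact ⟨1, K.one_mem, funext fun x => (ptab_zero x).symm⟩
      · obtain ⟨z, hz, hzp⟩ := ih j (hi ▸ hj) j rfl
        rw [hij]
        cases (par i).2
        · exact ⟨z * (ga, π A), K.mul_mem hz (Subgroup.subset_closure (by simp)), funext fun x => by
            show (z.1 : Equiv.Perm (Fin 5)) (pa x) = ptab (na j) x
            rw [ptab_na, hzp]⟩
        · exact ⟨z * (gb, π B), K.mul_mem hz (Subgroup.subset_closure (by simp)), funext fun x => by
            show (z.1 : Equiv.Perm (Fin 5)) (pb x) = ptab (nb j) x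
            rw [ptab_nb, hzp]⟩
  let f₁ : K →* alternatingGroup (Fin 5) := (MonoidHom.fst _ _).comp K.subtype
  have hinj : Function.Injective f₁ := by
    intro z z' h
    obtain ⟨i, hi, M, hM, hMv⟩ := hK _ z.2
    obtain ⟨i', hi', M', hM', hMv'⟩ := hK _ z'.2
    have hij : i = i' := ptab_injective (by rw [← hi, ← hi']; exact congrArg (fun g : alternatingGroup (Fin 5) => ⇑(g : Equiv.Perm (Fin 5))) h)
    refine Subtype.ext (Prod.ext h ?_)
    rw [← hM, ← hM', show M = M' from Subtype.ext (by rw [hMv, hMv', hij])]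
  have hsurj : Function.Surjective f₁ := by
    choose z hz hzp using fun i : Fin 60 => hall i i rfl
    let g : Fin 60 → alternatingGroup (Fin 5) := fun i => f₁ ⟨z i, hz i⟩
    have hg : Function.Injective g := fun i j h => ptab_injective (by
      rw [← hzp i, ← hzp j]; exact congrArg (fun g : alternatingGroup (Fin 5) => ⇑(g : Equiv.Perm (Fin 5))) h)
    have hb := hg.bijective_of_nat_card_le (by rw [nat_card_alternatingGroup, Nat.card_fin, Nat.card_fin]; decide)
    intro y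
    obtain ⟨i, hi⟩ := hb.2 y
    exact ⟨_, hi⟩
  let e : K ≃* alternatingGroup (Fin 5) := MulEquiv.ofBijective f₁ ⟨hinj, hsurj⟩
  let f : alternatingGroup (Fin 5) →* Matrix.ProjectiveSpecialLinearGroup (Fin 2) F := ((MonoidHom.snd _ _).comp K.subtype).comp e.symm.toMonoidHom
  have hfa : f ga = π A := by
    have h : e ⟨(ga, π A), Subgroup.subset_closure (by simp)⟩ = ga := rfl
    show ((e.symm ga : K) : alternatingGroup (Fin 5) × Matrix.ProjectiveSpecialLinearGroup (Fin 2) F).2 = _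
    rw [show e.symm ga = ⟨(ga, π A), Subgroup.subset_closure (by simp)⟩ from (MulEquiv.symm_apply_eq e).2 h.symm]
  haveI : IsSimpleGroup (alternatingGroup (Fin 5)) := alternatingGroup.isSimpleGroup_five
  have hf : Function.Injective f := by
    rw [← MonoidHom.ker_eq_bot_iff]
    refine (f.normal_ker.eq_bot_or_eq_top).resolve_right fun h => hne ?_
    have := MonoidHom.mem_ker.1 (h ▸ Subgroup.mem_top ga)
    rw [hfa] at this
    exact (QuotientGroup.eq_one_iff _).1 this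
  exact ⟨f.range, ⟨(MonoidHom.ofInjective hf).symm⟩⟩

/-- The golden ratio in a field whose `SL₂` has an element of order five. -/
theorem exists_golden {F : Type*} [Field F] [Fintype F] (h5 : 5 ∣ Nat.card SL(2, F)) : ∃ φ : F, φ * φ = φ + 1 := by
  classical
  haveI : Fact (Nat.Prime 5) := ⟨by norm_num⟩
  obtain ⟨g, hg⟩ := exists_prime_orderOf_dvd_card' 5 h5
  have hg5 : g ^ 5 = 1 := hg ▸ pow_orderOf_eq_one g
  set M : Matrix (Fin 2) (Fin 2) F := g.1 with hM
  have hd : M 0 0 * M 1 1 - M 0 1 * M 1 0 = 1 := by rw [← Matrix.det_fin_two]; exact g.2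
  set t := M 0 0 + M 1 1 with ht
  have h2 : M * M = t • M - 1 := by
    ext i j
    fin_cases i <;> fin_cases j <;> simp [Matrix.mul_apply, Fin.sum_univ_two, ht] <;> first | ring1 | linear_combination (-1 : F) * hd
  have h5' : (t ^ 4 - 3 * t ^ 2 + 1) • M - (t ^ 3 - 2 * t) • (1 : Matrix (Fin 2) (Fin 2) F) = 1 := by
    have e : M ^ 5 = 1 := by
      have := congrArg Subtype.val hg5
      rwa [Matrix.SpecialLinearGroup.coe_pow, Matrix.SpecialLinearGroup.coe_one] at this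
    rw [show M ^ 5 = M * M * (M * M) * M by simp only [pow_succ, pow_zero, one_mul, Matrix.mul_assoc]] at e
    simp only [h2, Matrix.sub_mul, Matrix.mul_sub, Matrix.smul_mul, Matrix.mul_smul, Matrix.one_mul, Matrix.mul_one, smul_sub, smul_smul] at e
    refine Eq.trans ?_ e; module
  by_cases hc : t ^ 4 - 3 * t ^ 2 + 1 = 0
  · rw [hc, zero_smul, zero_sub] at h5'
    have h00 := congrFun (congrFun h5' 0) 0
    simp at h00
    refine ⟨-t, ?_⟩
    have hp : (t - 1) * (t * t + t - 1) = 0 := by linear_combination -h00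
    rcases mul_eq_zero.1 hp with h | h
    · exact absurd hc (by rw [sub_eq_zero.1 h]; norm_num)
    · linear_combination h
  · exfalso
    obtain ⟨s, hs⟩ : ∃ s : F, M = s • (1 : Matrix (Fin 2) (Fin 2) F) :=
      ⟨(1 + (t ^ 3 - 2 * t)) / (t ^ 4 - 3 * t ^ 2 + 1), by
        rw [sub_eq_iff_eq_add] at h5'
        rw [div_eq_inv_mul, mul_smul, add_smul, one_smul, ← h5', smul_smul, inv_mul_cancel₀ hc, one_smul]⟩
    have hs2 : s * s = 1 := by rw [hs] at hd; simpa using hd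
    have hg2 : g ^ 2 = 1 := Subtype.ext (by
      rw [Matrix.SpecialLinearGroup.coe_pow, ← hM, hs, pow_two, Matrix.smul_mul, Matrix.one_mul, smul_smul, hs2, one_smul, Matrix.SpecialLinearGroup.coe_one])
    have := orderOf_dvd_of_pow_eq_one hg2
    rw [hg] at this
    norm_num at this

/-- A point on the trace conic. -/
theorem exists_conic {F : Type*} [Field F] [Fintype F] (φ : F) (hφ : φ * φ = φ + 1) :
    ∃ t u : F, t * t - t + 1 + u * u - φ * u = 0 := by
  classical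
  by_cases h2 : ringChar F = 2
  · haveI : CharP F 2 := h2 ▸ ringChar.charP F
    have h1 : φ + 1 ≠ 0 := fun h => by
      have : φ = 1 := by linear_combination h - CharTwo.two_eq_zero (R := F)
      rw [this] at hφ
      exact one_ne_zero (α := F) (by linear_combination -hφ)
    refine ⟨-(1 / (φ + 1)), 1 / (φ + 1), ?_⟩
    field_simp
    linear_combination (φ + 2) * CharTwo.two_eq_zero (R := F)
  · obtain ⟨t, u, h⟩ := FiniteField.exists_root_sum_quadratic (f := Polynomial.X ^ 2 - Polynomial.X + 1)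
      (g := Polynomial.X ^ 2 - Polynomial.C φ * Polynomial.X) (by compute_degree!) (by compute_degree!) (by
        exact FiniteField.odd_card_of_char_ne_two h2)
    exact ⟨t, u, by simp at h; linear_combination h⟩

/-- PSL_2(q) has a subgroup isomorphic to A_5 iff 5 ∣ q(q² − 1). -/
theorem result {F : Type*} [Field F] [Fintype F] {q : ℕ} (hF : Fintype.card F = q) : (∃ H : Subgroup (Matrix.ProjectiveSpecialLinearGroup (Fin 2) F), Nonempty (H ≃* alternatingGroup (Fin 5))) ↔ 5 ∣ q * (q ^ 2 - 1) := by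
  classical
  have hsl : Nat.card SL(2, F) = Nat.card (Matrix.ProjectiveSpecialLinearGroup (Fin 2) F) * Nat.card (Subgroup.center SL(2, F)) :=
    Subgroup.card_eq_card_quotient_mul_card_subgroup _
  have hslq : Nat.card SL(2, F) = q * (q ^ 2 - 1) := by
    have h := Cfsg.Lib.Classical.LinearOrders.card_sl_mul (F := F) (n := 2) (by omega)
    rw [Fin.prod_univ_two] at h
    simp only [Fin.val_zero, Fin.val_one, pow_zero, pow_one] at h
    rw [hF] at h
    have hq1 : 1 < q := hF ▸ Fintype.one_lt_card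
    refine Nat.eq_of_mul_eq_mul_left (show 0 < q - 1 by omega) (h.trans ?_)
    rw [show q ^ 2 - q = q * (q - 1) by rw [Nat.mul_sub, mul_one, pow_two]]
    ring
  constructor
  · rintro ⟨H, ⟨e⟩⟩
    rw [← hslq, hsl]
    refine Dvd.dvd.mul_right (dvd_trans ?_ (Subgroup.card_subgroup_dvd_card H)) _
    rw [Nat.card_congr e.toEquiv, nat_card_alternatingGroup, Nat.card_fin]
    decide
  · intro h5
    rw [← hslq] at h5
    obtain ⟨φ, hφ⟩ := exists_golden h5
    obtain ⟨t, u, htu⟩ := exists_conic φ hφ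
    let A : SL(2, F) := ⟨!![0, -1; 1, 0], by simp [Matrix.det_fin_two]⟩
    let B : SL(2, F) := ⟨!![t, u; u - φ, 1 - t], by simp [Matrix.det_fin_two]; linear_combination -htu⟩
    refine exists_a5 φ hφ A B ?_ ?_ ?_ ?_
    · ext i j; fin_cases i <;> fin_cases j <;> simp [A, Matrix.mul_apply, Fin.sum_univ_two]
    · ext i j; fin_cases i <;> fin_cases j <;> simp [B, Matrix.mul_apply, Fin.sum_univ_two] <;> first | linear_combination htu | ring1
    · ext i j; fin_cases i <;> fin_cases j <;> simp [A, B, Matrix.mul_apply, Fin.sum_univ_two] <;> ring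
    · intro hc
      obtain ⟨r, -, hr⟩ := Matrix.SpecialLinearGroup.mem_center_iff.1 hc
      have := congrFun (congrFun hr 1) 0
      simp [A] at this

end Cfsg.Agent.S0804
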