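import Cfsg.Statements.S5893
import Mathlib
import Cfsg.Agent.Lib.Classical.DicksonEven
import Cfsg.Agent.Lib.Classical.SplitDihedralMax
import Cfsg.Agent.Lib.Classical.NonsplitDihedralMax
import Cfsg.Agent.Lib.Classical.DihedralIso
import Cfsg.Agent.Lib.Classical.SubfieldGroupMaxTwo
import Cfsg.Agent.Lib.Classical.TwoDimTorusSylow
-- import your own Cfsg.Agent.* helpers here

set_option autoImplicit false
open Cfsg

namespace Cfsg.Agent.S5893

open Matrix Cfsg.Lib.PStable Cfsg.Lib.Classical.MinIndex Cfsg.Lib.Classical.SplitDih Cfsg.Lib.Classical.NsDih Cfsg.Lib.Classical.SubfieldEven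

section
variable {F : Type*} [Field F] [Fintype F] [CharP F 2]

theorem psl_bij (K : Type*) [Field K] [CharP K 2] : Function.Bijective (QuotientGroup.mk' (Subgroup.center (Matrix.SpecialLinearGroup (Fin 2) K))) := by
  refine ⟨?_, QuotientGroup.mk'_surjective _⟩
  rw [← MonoidHom.ker_eq_bot_iff, QuotientGroup.ker_mk', Subgroup.eq_bot_iff_forall]
  intro z hz
  obtain ⟨c, hc, h⟩ := Matrix.SpecialLinearGroup.mem_center_iff.1 hz
  rw [Fintype.card_fin, sq_eq_one_iff, CharTwo.neg_eq, or_self] at hc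
  subst hc
  exact Subtype.ext (by rw [← h]; simp)

theorem exists_sqrt (v : F) : ∃ l : F, l * l = v := by
  have hi : Function.Injective fun x : F => x * x := fun a b e => by
    rcases mul_self_eq_mul_self_iff.1 e with h | h
    · exact h
    · rw [h, CharTwo.neg_eq]
  exact Finite.injective_iff_surjective.1 hi v

theorem mono_iso : Nonempty (mono F ≃* DihedralGroup (Fintype.card F - 1)) := by
  classical
  let f : Fˣ →* mono F := dg.codRestrict _ dg_mem
  have hf : Function.Injective f := fun a b e => Units.ext (congrArg (fun v : mono F => v.1 0 0) e)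
  haveI : IsCyclic f.range := isCyclic_of_surjective f.rangeRestrict f.rangeRestrict_surjective
  refine Cfsg.Lib.Classical.nonempty_mulEquiv_dihedral f.range ?_ ?_ ⟨wy, wy_mem⟩ (Subtype.ext ?_) ?_ ?_ ?_
  · rw [← Nat.card_congr (MonoidHom.ofInjective hf).toEquiv, Nat.card_units, Nat.card_eq_fintype_card]
  · have := Fintype.one_lt_card (α := F); omega
  · refine Matrix.SpecialLinearGroup.ext _ _ fun i j => ?_
    fin_cases i <;> fin_cases j <;> simp [mul_ap, wy_coe, CharTwo.neg_eq]
  · rintro ⟨u, hu⟩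
    have := congrArg (fun v : mono F => v.1 0 0) hu
    simp [f, dg_coe, wy_coe] at this
  · rintro r ⟨u, rfl⟩
    refine Subtype.ext (Matrix.SpecialLinearGroup.ext _ _ fun i j => ?_)
    fin_cases i <;> fin_cases j <;> simp [f, mul_ap, inv_ap, dg_coe, wy_coe, CharTwo.neg_eq]
  · rintro ⟨m, hm⟩
    have hdiag : ∀ g : Matrix.SpecialLinearGroup (Fin 2) F, g 0 1 = 0 → g 1 0 = 0 → ∃ u, dg u = g := fun g h01 h10 => by
      have hd := det_two g
      rw [h01, zero_mul, sub_zero] at hd
      refine ⟨Units.mkOfMulEqOne _ _ hd, Matrix.SpecialLinearGroup.ext _ _ fun i j => ?_⟩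
      fin_cases i <;> fin_cases j <;> simp [dg_coe, h01, h10]
      exact (eq_inv_of_mul_eq_one_right hd).symm
    rcases hm with ⟨h1, h2⟩ | ⟨h1, h2⟩
    · obtain ⟨u, hu⟩ := hdiag m h1 h2
      exact Or.inl ⟨u, Subtype.ext hu⟩
    · obtain ⟨u, hu⟩ := hdiag (wy * m) (by simp [mul_ap, wy_coe, h2]) (by simp [mul_ap, wy_coe, h1])
      exact Or.inr ⟨u, Subtype.ext hu⟩

theorem nor_iso {ν : F} (hν : Irr ν) : Nonempty (nor ν ≃* DihedralGroup (Fintype.card F + 1)) := by
  classical
  obtain ⟨w, hw⟩ := exists_isW hν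
  haveI := isCyclic_tor hν
  haveI : IsCyclic ((tor ν).subgroupOf (nor ν)) := isCyclic_of_surjective (Subgroup.subgroupOfEquivOfLe tor_le).symm (MulEquiv.surjective _)
  have hneg : (-1 : Matrix.SpecialLinearGroup (Fin 2) F) = 1 := Matrix.SpecialLinearGroup.ext _ _ fun i j => by
    fin_cases i <;> fin_cases j <;> simp [CharTwo.neg_eq]
  refine Cfsg.Lib.Classical.nonempty_mulEquiv_dihedral ((tor ν).subgroupOf (nor ν)) ?_ ?_ ⟨w, Or.inr hw⟩
    (Subtype.ext (hw.sq.trans hneg)) ?_ ?_ ?_
  · rw [Nat.card_congr (Subgroup.subgroupOfEquivOfLe tor_le).toEquiv, card_tor hν]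
  · omega
  · intro hwt
    rw [Subgroup.mem_subgroupOf] at hwt
    have h3 : Nat.card (nor ν) ≤ Nat.card (tor ν) := Nat.card_le_card_of_injective (fun g => (⟨g.1, by
      rcases g.2 with hg | hg
      · exact hg
      · have := (tor ν).mul_mem hwt (hw.inv.mul_mul hg)
        rwa [mul_inv_cancel_left] at this⟩ : tor ν)) fun a b e => Subtype.ext (congrArg (fun z : tor ν => z.1) e)
    rw [card_nor hν, card_tor hν] at h3
    omega
  · intro r hr
    rw [Subgroup.mem_subgroupOf] at hr
    refine eq_inv_of_mul_eq_one_left (Subtype.ext ?_)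
    show w * r.1 * w * r.1 = 1
    rw [mul_assoc (w * r.1), (hw.mul hr).sq, hneg]
  · rintro ⟨g, hg | hg⟩
    · exact Or.inl hg
    · exact Or.inr (Subgroup.mem_subgroupOf.2 (hw.mul_mul hg))

/-- The maximal dihedral group of a semisimple element. -/
theorem exists_dihedral (hq : 4 ≤ Fintype.card F) (z : Matrix.SpecialLinearGroup (Fin 2) F) (hz : z * z ≠ 1) :
    ∃ K : Subgroup (Matrix.SpecialLinearGroup (Fin 2) F), K ≠ ⊤ ∧ 2 ∣ Nat.card K ∧
      (Nonempty (K ≃* DihedralGroup (Fintype.card F - 1)) ∨ Nonempty (K ≃* DihedralGroup (Fintype.card F + 1))) ∧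
      ∀ g, g * z * g⁻¹ = z ∨ g * z * g⁻¹ = z⁻¹ → g ∈ K := by
  classical
  have h2 : (2 : F) = 0 := CharP.cast_eq_zero F 2
  have hdet := det_two z
  set t := z 0 0 + z 1 1 with htd
  have ht : t ≠ 0 := fun e => hz (by
    refine Matrix.SpecialLinearGroup.ext _ _ fun i j => ?_
    rw [htd] at e
    fin_cases i <;> fin_cases j <;> simp [mul_ap]
    · linear_combination (z 0 0) * e - hdet - h2
    · linear_combination (z 0 1) * e
    · linear_combination (z 1 0) * e
    · linear_combination (z 1 1) * e - hdet - h2)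
  have finish : ∀ (K₀ : Subgroup (Matrix.SpecialLinearGroup (Fin 2) F)) (X s : Matrix.SpecialLinearGroup (Fin 2) F),
      z * s = s * X → K₀ ≠ ⊤ → 2 ∣ Nat.card K₀ →
      (Nonempty (K₀ ≃* DihedralGroup (Fintype.card F - 1)) ∨ Nonempty (K₀ ≃* DihedralGroup (Fintype.card F + 1))) →
      (∀ g, g * X * g⁻¹ = X ∨ g * X * g⁻¹ = X⁻¹ → g ∈ K₀) →
      ∃ K : Subgroup (Matrix.SpecialLinearGroup (Fin 2) F), K ≠ ⊤ ∧ 2 ∣ Nat.card K ∧
        (Nonempty (K ≃* DihedralGroup (Fintype.card F - 1)) ∨ Nonempty (K ≃* DihedralGroup (Fintype.card F + 1))) ∧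
        ∀ g, g * z * g⁻¹ = z ∨ g * z * g⁻¹ = z⁻¹ → g ∈ K := by
    intro K₀ X s hs htop hev hiso hmem
    let c := MulAut.conj s
    let e := (c.subgroupMap K₀).symm
    refine ⟨K₀.map c.toMonoidHom, fun h => htop ?_, hev.trans (dvd_of_eq (Nat.card_congr e.toEquiv).symm), ?_, fun g hg => ?_⟩
    · exact Subgroup.map_injective c.injective (h.trans (Subgroup.map_top_of_surjective _ c.surjective).symm)
    · exact hiso.imp (Nonempty.map e.trans) (Nonempty.map e.trans)
    · obtain rfl : z = s * X * s⁻¹ := by rw [← hs, mul_inv_cancel_right]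
      refine ⟨s⁻¹ * g * s, hmem _ ?_, by simp [c, mul_assoc]⟩
      rcases hg with e | e
      · left
        calc s⁻¹ * g * s * X * (s⁻¹ * g * s)⁻¹ = s⁻¹ * (g * (s * X * s⁻¹) * g⁻¹) * s := by group
          _ = X := by rw [e]; group
      · right
        calc s⁻¹ * g * s * X * (s⁻¹ * g * s)⁻¹ = s⁻¹ * (g * (s * X * s⁻¹) * g⁻¹) * s := by group
          _ = X⁻¹ := by rw [e]; group
  by_cases hroot : ∃ r, r * r + t * r + 1 = 0
  · obtain ⟨r, hr, hrz⟩ : ∃ r, r * r + t * r + 1 = 0 ∧ (z 1 0 = 0 → r = z 0 0) := by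
      by_cases h10 : z 1 0 = 0
      · exact ⟨z 0 0, by linear_combination (z 0 0) * htd + (z 0 0 * z 0 0) * h2 + hdet + (z 0 1) * h10 + h2, fun _ => rfl⟩
      · exact hroot.imp fun r hr => ⟨hr, fun h => absurd h h10⟩
    have hr0 : r ≠ 0 := fun e => by rw [e] at hr; simp at hr
    have hr1 : r + r⁻¹ = t := by
      field_simp
      linear_combination hr - t * r * h2
    have hmono : ∀ g, g * dg (Units.mk0 r hr0) * g⁻¹ = dg (Units.mk0 r hr0) ∨ g * dg (Units.mk0 r hr0) * g⁻¹ = (dg (Units.mk0 r hr0))⁻¹ → g ∈ mono F := by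
      have hd : r - r⁻¹ ≠ 0 := fun e => ht (by linear_combination -hr1 - e + r * h2)
      intro g hg
      simp only [mul_inv_eq_iff_eq_mul] at hg
      rcases hg with e | e
      · have e01 := congrArg (fun v : Matrix.SpecialLinearGroup (Fin 2) F => v 0 1) e
        have e10 := congrArg (fun v : Matrix.SpecialLinearGroup (Fin 2) F => v 1 0) e
        simp [mul_ap, dg_coe] at e01 e10
        exact Or.inl ⟨(mul_eq_zero.1 (show g 0 1 * (r - r⁻¹) = 0 by linear_combination -e01)).resolve_right hd,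
          (mul_eq_zero.1 (show g 1 0 * (r - r⁻¹) = 0 by linear_combination e10)).resolve_right hd⟩
      · have e00 := congrArg (fun v : Matrix.SpecialLinearGroup (Fin 2) F => v 0 0) e
        have e11 := congrArg (fun v : Matrix.SpecialLinearGroup (Fin 2) F => v 1 1) e
        simp [mul_ap, inv_ap, dg_coe] at e00 e11
        exact Or.inr ⟨(mul_eq_zero.1 (show g 0 0 * (r - r⁻¹) = 0 by linear_combination e00)).resolve_right hd,
          (mul_eq_zero.1 (show g 1 1 * (r - r⁻¹) = 0 by linear_combination -e11)).resolve_right hd⟩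
    obtain ⟨s, hs⟩ : ∃ s : Matrix.SpecialLinearGroup (Fin 2) F, z * s = s * dg (Units.mk0 r hr0) := by
      by_cases h10 : z 1 0 = 0
      · have hzd : z 0 0 * z 1 1 = 1 := by linear_combination hdet + z 0 1 * h10
        obtain rfl := hrz h10
        have h11 : (z 0 0)⁻¹ = z 1 1 := (eq_inv_of_mul_eq_one_right hzd).symm
        refine ⟨upperU (z 0 1 / t), ?_⟩
        refine Matrix.SpecialLinearGroup.ext _ _ fun i j => ?_
        fin_cases i <;> fin_cases j <;> simp [mul_ap, upperU_entries, dg_coe, h10, h11]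
        field_simp
        linear_combination (-(z 0 1)) * htd + (z 0 1 * z 0 0) * h2 + (z 0 1) * htd - (z 0 1) * htd
      · obtain ⟨l, hl⟩ := exists_sqrt ((z 1 0 * t)⁻¹ : F)
        refine ⟨⟨!![l * (r + z 1 1), l * (r⁻¹ + z 1 1); l * z 1 0, l * z 1 0], by
          simp [det_fin_two]
          have : l * l * (z 1 0 * t) = 1 := by rw [hl, inv_mul_cancel₀ (mul_ne_zero h10 ht)]
          linear_combination this + (l * l * z 1 0) * hr1 - (l * l * z 1 0 * r⁻¹) * h2⟩, ?_⟩
        have hr2 : r⁻¹ = t + r := by linear_combination hr1 - r * h2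
        have hri : (t + r) * r = 1 := by rw [← hr2, inv_mul_cancel₀ hr0]
        refine Subtype.ext ?_
        change (z : Matrix (Fin 2) (Fin 2) F) * _ = _ * (dg (Units.mk0 r hr0) : Matrix (Fin 2) (Fin 2) F)
        ext i j
        fin_cases i <;> fin_cases j <;> simp [Matrix.mul_apply, Fin.sum_univ_two, dg_coe, hr2]
        · linear_combination l * hri + (-l) * hdet + (-(l * r)) * htd + (l * (z 0 0 * z 1 1 + r * z 0 0 - r * r - r * z 1 1 - 1)) * h2 + (l * r * r) * h2 + (l * r * z 1 1) * h2 - (l * r * r) * h2 + (l * (1 - r * z 0 0 - r * z 1 1)) * h2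
        · linear_combination l * hri + (-l) * hdet + (-(l * (t + r))) * htd - (l * (z 0 0 * r + 2 * z 1 1 * r + z 1 1 * z 1 1 + r * r)) * h2
        · linear_combination (l * z 1 0 * z 1 1) * h2
        · linear_combination (l * z 1 0 * z 1 1) * h2
    refine finish (mono F) _ s hs (fun h => ?_) ?_ (Or.inl mono_iso) hmono
    · have : Cfsg.Agent.SL2RankOne.up (1 : F) ∈ mono F := by rw [h]; trivial
      rcases this with ⟨h1, -⟩ | ⟨h1, -⟩ <;> simp [Cfsg.Agent.SL2RankOne.up_coe] at h1
    · obtain ⟨i⟩ := mono_iso (F := F)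
      rw [Nat.card_congr i.toEquiv, DihedralGroup.nat_card]
      exact dvd_mul_right 2 _
  push Not at hroot
  have h10 : z 1 0 ≠ 0 := fun e => hroot (z 0 0) (by linear_combination (z 0 0) * htd + (z 0 0 * z 0 0) * h2 + hdet + (z 0 1) * e + h2)
  have hν : Irr ((t * t)⁻¹ : F) := fun x e => hroot (x * t) (by
    field_simp at e
    linear_combination e + (x * t * t + 1) * h2)
  let X : Matrix.SpecialLinearGroup (Fin 2) F := ⟨!![0, t⁻¹; t, t], by simp [det_fin_two]; field_simp; exact CharTwo.neg_eq 1⟩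
  have hX : X ∈ tor ((t * t)⁻¹ : F) := ⟨by simp [X]; field_simp, by simp [X]⟩
  obtain ⟨l, hl⟩ := exists_sqrt (t / z 1 0 : F)
  have hll : l * l * z 1 0 = t := by rw [hl, div_mul_cancel₀ _ h10]
  let s : Matrix.SpecialLinearGroup (Fin 2) F := ⟨!![l, l * z 0 0 / t; 0, l * z 1 0 / t], by
    simp [det_fin_two]; field_simp; linear_combination hll⟩
  have hs : z * s = s * X := by
    refine Subtype.ext (Matrix.ext fun i j => ?_)
    rw [Matrix.SpecialLinearGroup.coe_mul, Matrix.SpecialLinearGroup.coe_mul]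
    fin_cases i <;> fin_cases j <;> simp [Matrix.mul_apply, Fin.sum_univ_two, s, X] <;> field_simp
    · linear_combination (-(l * z 0 0)) * htd + hdet * l + (l * (z 0 1 * z 1 0 - z 0 0 * z 1 1)) * h2
    · linear_combination (-(l * z 1 0)) * htd
  refine finish (nor _) X s hs (fun h => ?_) ?_ (Or.inr (nor_iso hν)) fun g hg => ?_
  · have hc := card_nor hν
    rw [h, Subgroup.card_top, Cfsg.Lib.Classical.TwoDim.card_SL] at hc
    have h5 : Fintype.card F * (Fintype.card F - 1) = 2 := Nat.eq_of_mul_eq_mul_left (show 0 < Fintype.card F + 1 by omega)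
      ((show (Fintype.card F + 1) * (Fintype.card F * (Fintype.card F - 1)) = Fintype.card F * ((Fintype.card F + 1) * (Fintype.card F - 1)) by ring).trans (hc.trans (mul_comm _ _)))
    have := Nat.mul_le_mul hq (show 3 ≤ Fintype.card F - 1 by omega)
    omega
  · rw [card_nor hν]; exact dvd_mul_right 2 _
  · refine mem_nor_of_conj hν hX (by simpa [X] using ht) ?_
    rcases hg with e | e <;> rw [e]
    exacts [hX, (tor _).inv_mem hX]

end

set_option maxHeartbeats 1600000 in
/-- Let F be a finite field of even order q ≥ 4 and let M be a maximal subgroup of PSL₂(F) (= SL₂(F) = PGL₂(F)). Then one of the following holds: |M| = q(q − 1) (the stabiliser of a point of the projective line, elementary abelian of order q extended by a cyclic group of order q − 1); M is dihedral of order 2(q − 1); M is dihedral of order 2(q + 1); or q = q₀^r for a prime r with q₀ ≠ 2 and M ≅ PSL₂(F₀) with |F₀| = q₀. -/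
theorem result {F : Type*} [Field F] [Fintype F]
    (heven : Even (Fintype.card F)) (h4 : 4 ≤ Fintype.card F) (M : Subgroup (Matrix.ProjectiveSpecialLinearGroup (Fin 2) F)) (hM : IsCoatom M) :
    Nat.card M = Fintype.card F * (Fintype.card F - 1) ∨
    Nonempty (M ≃* DihedralGroup (Fintype.card F - 1)) ∨
    Nonempty (M ≃* DihedralGroup (Fintype.card F + 1)) ∨
    (∃ (F₀ : Type) (_ : Field F₀) (_ : Fintype F₀) (r : ℕ), r.Prime ∧ Fintype.card F₀ ≠ 2 ∧
        Fintype.card F = Fintype.card F₀ ^ r ∧ Nonempty (M ≃* Matrix.ProjectiveSpecialLinearGroup (Fin 2) F₀)) := by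
  classical
  haveI hp : CharP F 2 := by
    obtain ⟨p, hp⟩ := CharP.exists F
    obtain ⟨e, hpp, hpe⟩ := FiniteField.card F p
    obtain rfl : 2 = p := ((Nat.prime_dvd_prime_iff_eq Nat.prime_two hpp).1 (Nat.prime_two.dvd_of_dvd_pow (even_iff_two_dvd.1 (hpe ▸ heven))))
    exact hp
  set q := Fintype.card F with hqd
  let e := MulEquiv.ofBijective _ (psl_bij F)
  set N := M.map e.symm.toMonoidHom with hNd
  have iMN : M ≃* N := e.symm.subgroupMap M
  have hN : IsCoatom N := (OrderIso.isCoatom_iff e.symm.mapSubgroup M).2 hM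
  have hcN : Nat.card M = Nat.card N := Nat.card_congr iMN.toEquiv
  rw [hcN]
  have hconjC : ∀ K : Subgroup (Matrix.SpecialLinearGroup (Fin 2) F), IsCoatom K → ∀ s, IsCoatom (K.map (MulAut.conj s).toMonoidHom) :=
    fun K hK s => (OrderIso.isCoatom_iff (MulAut.conj s).mapSubgroup K).2 hK
  have hdih : ∀ (K : Subgroup (Matrix.SpecialLinearGroup (Fin 2) F)), IsCoatom K → (N ≃* K) → ∀ z : K, z * z ≠ 1 →
      (∀ g : K, g * z * g⁻¹ = z ∨ g * z * g⁻¹ = z⁻¹) →
      2 ∣ Nat.card K ∧ (Nonempty (M ≃* DihedralGroup (q - 1)) ∨ Nonempty (M ≃* DihedralGroup (q + 1))) := by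
    intro K hK iNK z hz hall
    obtain ⟨D, hDtop, hDev, hDiso, hDmem⟩ := exists_dihedral h4 (z : Matrix.SpecialLinearGroup (Fin 2) F) fun h => hz (Subtype.ext h)
    have hKD : K = D := by
      have hle : K ≤ D := fun g hg => hDmem g ((hall ⟨g, hg⟩).imp (congrArg Subtype.val) (congrArg Subtype.val))
      rcases lt_or_eq_of_le hle with h | h
      · exact absurd (hK.2 D h) hDtop
      · exact h
    subst hKD
    exact ⟨hDev, hDiso.imp (fun ⟨i⟩ => ⟨(iMN.trans iNK).trans i⟩) fun ⟨i⟩ => ⟨(iMN.trans iNK).trans i⟩⟩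
  by_cases hev : 2 ∣ Nat.card N
  swap
  · -- odd order
    exfalso
    have hinv : ∀ x : N, x * x = 1 → x = 1 := fun x hx => by
      rcases (Nat.dvd_prime Nat.prime_two).1 (orderOf_dvd_of_pow_eq_one ((pow_two x).trans hx)) with h | h
      · exact orderOf_eq_one_iff.1 h
      · exact absurd ((dvd_of_eq h.symm).trans (orderOf_dvd_natCard x)) hev
    by_cases hbot : ∀ x : N, x = 1
    · have h2 := hN.2 (Subgroup.zpowers (upperU (1 : F))) ?_
      · have hcz : Nat.card (Subgroup.zpowers (upperU (1 : F))) = Nat.card (Matrix.SpecialLinearGroup (Fin 2) F) := by rw [h2, Subgroup.card_top]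
        rw [Nat.card_zpowers, Cfsg.Lib.Classical.TwoDim.card_SL, ← hqd] at hcz
        have h3 : orderOf (upperU (1 : F)) ∣ 2 := orderOf_dvd_of_pow_eq_one (by rw [pow_two, ← upperU_add, CharTwo.add_self_eq_zero, upperU_zero])
        have := Nat.le_of_dvd two_pos h3
        have h5 := Nat.mul_le_mul h4 (Nat.mul_le_mul (show 1 ≤ q + 1 by omega) (show 1 ≤ q - 1 by omega))
        omega
      · refine lt_of_le_of_ne (fun x hx => ?_) fun h => ?_
        · rw [show x = 1 from congrArg Subtype.val (hbot ⟨x, hx⟩)]; exact one_mem _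
        · have h' : upperU (1 : F) ∈ N := h ▸ Subgroup.mem_zpowers _
          have := congrArg (fun v : N => v.1 0 1) (hbot ⟨_, h'⟩)
          simp [upperU] at this
    push Not at hbot
    obtain ⟨z, hz1⟩ := hbot
    have hne : ∀ x : N, x ≠ 1 → x * x ≠ 1 := fun x hx h => hx (hinv x h)
    have hz := hne z hz1
    have hs1 : ∀ x : N, x ≠ 1 → ∀ s : ℕ, ((∃ h : N, h * x * h⁻¹ = x⁻¹) ↔ s = 2) → s ≠ 2 := fun x hx s hiff hs => by
      obtain ⟨h, hh⟩ := hiff.2 hs
      obtain ⟨k, hk⟩ : ∃ k, Nat.card N = 2 * k + 1 := ⟨Nat.card N / 2, by omega⟩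
      have hh2 : h * h ∈ cenE x := mem_cenE.2 (mul_inv_eq_iff_eq_mul.1 (by
        calc h * h * x * (h * h)⁻¹ = h * (h * x * h⁻¹) * h⁻¹ := by group
          _ = h * x⁻¹ * h⁻¹ := by rw [hh]
          _ = (h * x * h⁻¹)⁻¹ := by group
          _ = x := by rw [hh, inv_inv]))
      have hhc : h ∈ cenE x := by
        have : h = (h * h) ^ (k + 1) := by
          rw [← pow_two, ← pow_mul, show 2 * (k + 1) = Nat.card N + 1 by omega, pow_succ, pow_card_eq_one', one_mul]
        rw [this]; exact (cenE x).pow_mem hh2 _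
      rw [mul_inv_eq_iff_eq_mul.2 (mem_cenE.1 hhc)] at hh
      exact hne x hx (by nth_rewrite 2 [hh]; exact mul_inv_cancel x)
    have hbig : ∀ x : N, x ≠ 1 → Nat.card N * 2 ≤ 3 * (clsE x).ncard ∧ (clsE x).ncard * Nat.card (cenE x) = Nat.card N * (Nat.card (cenE x) - 1) := fun x hx => by
      obtain ⟨s, hs, hc, he, hiff⟩ := card_clsE (hne x hx)
      obtain rfl : s = 1 := hs.resolve_right (hs1 x hx s hiff)
      rw [one_mul] at he
      refine ⟨?_, he⟩
      obtain ⟨f, hf⟩ : ∃ f, Nat.card (cenE x) = f + 3 := ⟨_, (Nat.sub_add_cancel hc).symm⟩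
      rw [hf, show f + 3 - 1 = f + 2 from rfl] at he
      nlinarith
    have hsub : ∀ x : N, x ≠ 1 → clsE x ⊆ {1}ᶜ := fun x hx y hy h => (clsE_eq (hne x hx) hy).1 (by rw [show y = 1 from h, one_mul])
    have hcompl : ({1}ᶜ : Set N).ncard + 1 = Nat.card N := by
      have := Set.ncard_add_ncard_compl ({1} : Set N)
      rw [Set.ncard_singleton] at this
      omega
    have hall : clsE z = {1}ᶜ := by
      refine (hsub z hz1).antisymm fun y hy => ?_
      by_contra hyn
      have hy1 : y ≠ 1 := hy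
      have hdisj : Disjoint (clsE z) (clsE y) := Set.disjoint_left.2 fun w hw hw' => hyn (by
        rw [← (clsE_eq hz hw).2, (clsE_eq (hne y hy1) hw').2]
        exact self_mem_clsE (hne y hy1))
      have hle := Set.ncard_le_ncard (Set.union_subset (hsub z hz1) (hsub y hy1)) (Set.toFinite _)
      rw [Set.ncard_union_eq hdisj] at hle
      have := (hbig z hz1).1
      have := (hbig y hy1).1
      omega
    have hcen : cenE z = ⊤ := by
      refine Subgroup.eq_top_of_card_eq _ ?_
      have h := (hbig z hz1).2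
      rw [hall] at h
      obtain ⟨f, hf⟩ : ∃ f, Nat.card (cenE z) = f + 1 := ⟨Nat.card (cenE z) - 1, by have := Nat.card_pos (α := cenE z); omega⟩
      rw [hf, Nat.add_sub_cancel, ← hcompl] at h
      rw [hf, ← hcompl]
      nlinarith
    refine hev (hdih N hN (MulEquiv.refl _) z hz fun g => Or.inl ?_).1
    exact mul_inv_eq_iff_eq_mul.2 (mem_cenE.1 (hcen ▸ Subgroup.mem_top g))
  obtain ⟨x, hx⟩ := exists_prime_orderOf_dvd_card' 2 hev
  obtain ⟨s, a0, ha0, hsa⟩ := exists_conj_upper (p := 2) (x : Matrix.SpecialLinearGroup (Fin 2) F)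
    (by rw [← SubmonoidClass.coe_pow]; exact congrArg Subtype.val (orderOf_dvd_iff_pow_eq_one.1 (dvd_of_eq hx))) (fun e => by
      rw [show x = 1 from Subtype.ext e, orderOf_one] at hx
      exact absurd hx (by norm_num))
  set N1 := N.map (MulAut.conj s⁻¹).toMonoidHom with hN1d
  have hN1 : IsCoatom N1 := hconjC N hN _
  have i1 : N ≃* N1 := (MulAut.conj s⁻¹).subgroupMap N
  rw [Nat.card_congr i1.toEquiv]
  have hU1 : a0 ∈ aGrp N1 := ⟨x, x.2, by rw [← hsa]; simp⟩
  by_cases hB : ∀ g ∈ N1, g 1 0 = 0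
  · left
    let B : Subgroup (Matrix.SpecialLinearGroup (Fin 2) F) :=
      { carrier := {g | g 1 0 = 0}
        one_mem' := by simp
        mul_mem' := fun {a b} ha hb => by simp only [Set.mem_setOf_eq] at ha hb ⊢; rw [mul_entry, ha, hb]; ring
        inv_mem' := fun {a} ha => by simp only [Set.mem_setOf_eq] at ha ⊢; rw [(inv_entries a).2.2.1, ha, neg_zero] }
    have hBtop : B ≠ ⊤ := fun h => by
      have : Cfsg.Agent.SL2RankOne.lo (1 : F) ∈ B := h ▸ Subgroup.mem_top _
      exact one_ne_zero (α := F) this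
    have hNB : N1 = B := by
      rcases lt_or_eq_of_le (show N1 ≤ B from hB) with h | h
      · exact absurd (hN1.2 B h) hBtop
      · exact h
    let f : B → F × Fˣ := fun g => (g.1 0 1, Units.mkOfMulEqOne (g.1 0 0) (g.1 1 1) (by
      have := det_eq (g := g.1); rw [show g.1 1 0 = 0 from g.2] at this; linear_combination this))
    have hf : Function.Bijective f := by
      refine ⟨fun a b h => ?_, fun ⟨b, u⟩ => ⟨⟨⟨!![(u : F), b; 0, ((u⁻¹ : Fˣ) : F)], by simp [det_fin_two]⟩, rfl⟩, Prod.ext rfl (Units.ext rfl)⟩⟩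
      simp only [f, Prod.mk.injEq] at h
      obtain ⟨h01, h00⟩ := h
      have h11 : a.1 1 1 = b.1 1 1 := congrArg (fun u : Fˣ => ((u⁻¹ : Fˣ) : F)) h00
      have h00' : a.1 0 0 = b.1 0 0 := congrArg Units.val h00
      refine Subtype.ext (Matrix.SpecialLinearGroup.ext _ _ fun i j => ?_)
      fin_cases i <;> fin_cases j <;> simp [h01, h00', h11, show a.1 1 0 = 0 from a.2, show b.1 1 0 = 0 from b.2]
    rw [hNB, Nat.card_eq_of_bijective f hf, Nat.card_prod, Nat.card_units, Nat.card_eq_fintype_card]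
  push Not at hB
  obtain ⟨g0, hg0, h10⟩ := hB
  right
  rcases dickson_even ha0 hU1 (g0 := ⟨g0, hg0⟩) h10 with ⟨-, z, hz, hcard, h, hh⟩ | ⟨-, -, -, z, hzB, hz, h, hh⟩
  · refine or_assoc.1 (Or.inl (hdih N1 hN1 i1 z hz fun g => ?_).2)
    have hidx : (cenE z).index = 2 := Nat.eq_of_mul_eq_mul_left (Nat.card_pos (α := cenE z)) (by
      rw [Subgroup.card_mul_index, hcard, mul_comm])
    haveI := Subgroup.normal_of_index_eq_two hidx
    have hm := mem_cenE.1 (Subgroup.Normal.conj_mem this z (mem_cenE.2 rfl) g)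
    rcases Cfsg.Lib.Classical.SubfieldEven.eq_or_eq_inv (fun e => hz (Subtype.ext e)) (congrArg Subtype.val hm) (trc_conj' z g) with e | e
    · exact Or.inl (Subtype.ext e)
    · exact Or.inr (Subtype.ext e)
  right; right
  -- the subfield case
  have hzd := borel_prod z hzB
  have hne : ent z 0 0 + ent z 1 1 ≠ 0 := fun e => by
    have h2 : (2 : F) = 0 := CharP.cast_eq_zero F 2
    refine hz (Subtype.ext (Matrix.SpecialLinearGroup.ext _ _ fun i j => ?_))
    have hz10 : z.1 1 0 = 0 := hzB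
    simp only [ent] at e hzd
    fin_cases i <;> fin_cases j <;> simp [mul_entry, hz10]
    · linear_combination (z.1 0 0) * e - hzd - h2
    · linear_combination (z.1 0 1) * e
    · linear_combination (z.1 1 1) * e - hzd - h2
  obtain ⟨r, hr⟩ := exists_sqrt (a0⁻¹ : F)
  have hr0 : r ≠ 0 := fun e => by rw [e, mul_zero] at hr; exact inv_ne_zero ha0 hr.symm
  set c := dg (Units.mk0 r hr0) * upperU (ent z 0 1 / (ent z 0 0 + ent z 1 1)) with hcd
  set N2 := N1.map (MulAut.conj c).toMonoidHom with hN2d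
  have hN2 : IsCoatom N2 := hconjC N1 hN1 _
  have i2 : N1 ≃* N2 := (MulAut.conj c).subgroupMap N1
  have h2 : (2 : F) = 0 := CharP.cast_eq_zero F 2
  have hU2 : (1 : F) ∈ aGrp N2 := ⟨upperU a0, hU1, by
    show c * upperU a0 * c⁻¹ = upperU 1
    rw [mul_inv_eq_iff_eq_mul, hcd]
    refine Matrix.SpecialLinearGroup.ext _ _ fun i j => ?_
    fin_cases i <;> fin_cases j <;> simp [mul_entry, upperU_entries, dg_coe]
    have : r * r * a0 = 1 := by rw [hr, inv_mul_cancel₀ ha0]
    field_simp
    linear_combination (ent z 0 0 + ent z 1 1) * this⟩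
  let z2 : N2 := ⟨c * z.1 * c⁻¹, z.1, z.2, rfl⟩
  let hh2 : N2 := ⟨c * h.1 * c⁻¹, h.1, h.2, rfl⟩
  have hz2e : c * z.1 * c⁻¹ = dg (Units.mkOfMulEqOne _ _ hzd) := by
    rw [mul_inv_eq_iff_eq_mul, hcd]
    have hz10 : z.1 1 0 = 0 := hzB
    simp only [ent] at hne hzd ⊢
    refine Matrix.SpecialLinearGroup.ext _ _ fun i j => ?_
    fin_cases i <;> fin_cases j <;> simp [mul_entry, upperU_entries, dg_coe, hz10] <;> field_simp
    all_goals first
      | linear_combination (z.1 0 1 * z.1 1 1) * h2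
      | exact eq_one_div_of_mul_eq_one_right hzd
  have hh2i : hh2 * z2 * hh2⁻¹ = z2⁻¹ := Subtype.ext (by
    show c * h.1 * c⁻¹ * (c * z.1 * c⁻¹) * (c * h.1 * c⁻¹)⁻¹ = (c * z.1 * c⁻¹)⁻¹
    have := congrArg Subtype.val hh
    simp only [Subgroup.coe_mul, Subgroup.coe_inv] at this
    calc _ = c * (h.1 * z.1 * h.1⁻¹) * c⁻¹ := by group
      _ = _ := by rw [this]; group)
  have hz2 : z2 * z2 ≠ 1 := fun e => hz (Subtype.ext (by
    have := congrArg Subtype.val e
    change c * z.1 * c⁻¹ * (c * z.1 * c⁻¹) = 1 at this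
    show z.1 * z.1 = 1
    rw [show c * z.1 * c⁻¹ * (c * z.1 * c⁻¹) = c * (z.1 * z.1) * c⁻¹ by group] at this
    exact conj_eq_one_iff.1 this))
  have z10 : ent z2 1 0 = 0 := by show (c * z.1 * c⁻¹) 1 0 = 0; rw [hz2e]; rfl
  have z01 : ent z2 0 1 = 0 := by show (c * z.1 * c⁻¹) 0 1 = 0; rw [hz2e]; rfl
  have z00 : ent z2 0 0 = ent z 0 0 := by show (c * z.1 * c⁻¹) 0 0 = _; rw [hz2e]; rfl
  have z11 : ent z2 1 1 = ent z 1 1 := by show (c * z.1 * c⁻¹) 1 1 = _; rw [hz2e]; rfl
  have hgB : hh2 ∉ borel N2 := fun hb => by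
    have e := congrArg (fun v : N2 => ent v 0 0) (mul_inv_eq_iff_eq_mul.1 hh2i)
    simp only [ent, Subgroup.coe_mul, Subgroup.coe_inv, mul_entry, (inv_entries z2.1).1, (inv_entries z2.1).2.1] at e
    rw [show z2.1 0 1 = 0 from z01, show z2.1 1 0 = 0 from z10, show z2.1 0 0 = ent z 0 0 from z00, show z2.1 1 1 = ent z 1 1 from z11] at e
    have h0 : hh2.1 0 0 * (ent z 0 0 + ent z 1 1) = 0 := by linear_combination e + (hh2.1 0 0 * ent z 1 1) * h2
    have hd := det_eq (g := hh2.1)
    rw [(mul_eq_zero.1 h0).resolve_right hne, show hh2.1 1 0 = 0 from hb] at hd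
    simp at hd
  rcases dickson_even one_ne_zero hU2 hgB with ⟨hA, -⟩ | ⟨ha4, hd, hO, -⟩
  · exfalso
    have hmem := sq_mul_mem_aGrp (show z2 ∈ borel N2 from z10) hU2
    rw [z00, mul_one] at hmem
    have h3 : ({0, 1, ent z 0 0 ^ 2} : Set F).ncard = 3 := by
      refine Set.ncard_eq_three.2 ⟨0, 1, _, zero_ne_one, (pow_ne_zero 2 (left_ne_zero_of_mul_eq_one hzd)).symm, fun e => hne ?_, rfl⟩
      have e1 : ent z 0 0 = 1 := by
        rcases mul_self_eq_one_iff.1 ((pow_two _).symm.trans e.symm) with h | h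
        · exact h
        · rw [h, CharTwo.neg_eq]
      rw [e1, one_mul] at hzd
      rw [e1, hzd, CharTwo.add_self_eq_zero]
    have hle := Set.ncard_le_ncard (t := (aGrp N2 : Set F)) (show ({0, 1, ent z 0 0 ^ 2} : Set F) ⊆ aGrp N2 by
      rintro v (rfl | rfl | rfl)
      exacts [(aGrp N2).zero_mem, hU2, hmem]) (Set.toFinite _)
    rw [h3, ← Nat.card_coe_set_eq] at hle
    have : Nat.card (aGrp N2) = 2 := hA
    change 3 ≤ Nat.card (aGrp N2) at hle
    omega
  obtain ⟨S, hScard, hSr⟩ := eq_subfield_group hU2 z10 z01 hz2 hh2i hd hO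
  haveI := Fintype.ofFinite S
  haveI : CharP S 2 := (RingHom.charP_iff S.subtype Subtype.val_injective 2).2 hp
  obtain ⟨k, -, hk⟩ := FiniteField.card S 2
  rw [← hScard, Nat.card_eq_fintype_card] at ha4
  letI : Fintype (GaloisField 2 k) := Fintype.ofFinite _
  have hcardK : Fintype.card (GaloisField 2 k) = Fintype.card S := by
    rw [← Nat.card_eq_fintype_card, GaloisField.card 2 k k.ne_zero, hk]
  have hn := Module.card_eq_pow_finrank (K := S) (V := F)
  set n := Module.finrank S F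
  refine ⟨GaloisField 2 k, inferInstance, inferInstance, n, ?_, by rw [hcardK]; omega, by rw [hcardK]; exact hn, ?_⟩
  · -- a larger proper subfield would give an overgroup
    have hn1 : n ≠ 1 := fun e => hN2.1 (by
      rw [e, pow_one] at hn
      rw [← hSr]
      refine Subgroup.eq_top_of_card_eq _ ?_
      rw [← Nat.card_congr (MonoidHom.ofInjective (f := Matrix.SpecialLinearGroup.map (n := Fin 2) S.subtype) (fun a b e => Matrix.SpecialLinearGroup.ext _ _ fun i j =>
        Subtype.ext (congrArg (fun v : Matrix.SpecialLinearGroup (Fin 2) F => v i j) e))).toEquiv,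
        Cfsg.Lib.Classical.TwoDim.card_SL, Cfsg.Lib.Classical.TwoDim.card_SL, hn])
    by_contra hnp
    have hn2 : 2 ≤ n := by
      rcases Nat.eq_zero_or_pos n with h0 | h0
      · rw [h0, pow_zero] at hn; omega
      · omega
    obtain ⟨m, hm1, hm2, hmn⟩ := (Nat.not_prime_iff_exists_dvd_lt hn2).1 hnp |>.imp fun m h => (⟨h.2.1, h.2.2, h.1⟩ : 2 ≤ m ∧ m < n ∧ m ∣ n)
    obtain ⟨r', hr'⟩ := hmn
    letI : Fintype (GaloisField 2 (k * m)) := Fintype.ofFinite _
    have hc1 : Fintype.card (GaloisField 2 (k * m)) = Fintype.card S ^ m := by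
      rw [← Nat.card_eq_fintype_card, GaloisField.card 2 _ (Nat.mul_ne_zero k.ne_zero (by omega)), hk, pow_mul]
    obtain ⟨φ⟩ := Cfsg.Lib.Classical.SubfieldTwo.exists_emb (F := F) (K := GaloisField 2 (k * m)) (r := r')
      (Nat.pos_of_ne_zero fun h => by rw [h, mul_zero] at hr'; omega) (by rw [hc1, hn, ← pow_mul, ← hr'])
    have hpos : 1 < Fintype.card S ^ m := Nat.one_lt_pow (by omega) (by omega)
    have hsub : ∀ v : S, (v : F) ∈ φ.fieldRange := fun v => by
      let P : Polynomial F := Polynomial.X ^ (Fintype.card S ^ m) - Polynomial.X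
      have hP : P ≠ 0 := FiniteField.X_pow_card_sub_X_ne_zero F hpos
      have hroots : Set.range φ ⊆ P.rootSet F := by
        rintro _ ⟨y, rfl⟩
        rw [Polynomial.mem_rootSet]
        refine ⟨hP, ?_⟩
        simp only [P, map_sub, map_pow, Polynomial.aeval_X]
        rw [← map_pow, ← hc1, FiniteField.pow_card, sub_self]
      have heq : Set.range φ = P.rootSet F := by
        refine Set.eq_of_subset_of_ncard_le hroots ?_ (Set.toFinite _)
        rw [← Nat.card_coe_set_eq (Set.range φ), Nat.card_range_of_injective φ.injective, Nat.card_eq_fintype_card, hc1]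
        refine (Polynomial.ncard_rootSet_le P F).trans ?_
        exact le_of_eq (FiniteField.X_pow_card_sub_X_natDegree_eq F hpos)
      have hv : (v : F) ∈ P.rootSet F := by
        rw [Polynomial.mem_rootSet]
        refine ⟨hP, ?_⟩
        simp only [P, map_sub, map_pow, Polynomial.aeval_X]
        rw [← SubmonoidClass.coe_pow, FiniteField.pow_card_pow, sub_self]
      rw [← heq] at hv
      exact hv
    let ψ1 := Matrix.SpecialLinearGroup.map (n := Fin 2) φ
    have hψ1 : Function.Injective ψ1 := fun a b e => Matrix.SpecialLinearGroup.ext _ _ fun i j =>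
      φ.injective (congrArg (fun v : Matrix.SpecialLinearGroup (Fin 2) F => v i j) e)
    have hle : N2 ≤ ψ1.range := by
      rw [← hSr]
      rintro _ ⟨g, rfl⟩
      choose f hf using fun i j => hsub (g i j)
      have hdet : Matrix.det (Matrix.of f) = 1 := φ.injective (by
        rw [RingHom.map_det, map_one, show φ.mapMatrix (Matrix.of f) = ((Matrix.SpecialLinearGroup.map S.subtype g : Matrix.SpecialLinearGroup (Fin 2) F) : Matrix (Fin 2) (Fin 2) F) from Matrix.ext fun i j => hf i j]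
        exact Matrix.SpecialLinearGroup.det_coe _)
      exact ⟨⟨_, hdet⟩, Matrix.SpecialLinearGroup.ext _ _ fun i j => hf i j⟩
    have hcards : ∀ {A : Type} [Field A] [Fintype A], Nat.card (Matrix.SpecialLinearGroup (Fin 2) A) = Fintype.card A * ((Fintype.card A + 1) * (Fintype.card A - 1)) := fun {A} _ _ =>
      Cfsg.Lib.Classical.TwoDim.card_SL
    have hmono : ∀ a b : ℕ, 2 ≤ a → a < b → a * ((a + 1) * (a - 1)) < b * ((b + 1) * (b - 1)) := fun a b ha hab =>
      Nat.mul_lt_mul_of_lt_of_le hab (Nat.mul_le_mul (by omega) (by omega)) (Nat.mul_pos (by omega) (by omega))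
    have h1lt : Fintype.card S < Fintype.card S ^ m := lt_self_pow₀ (by omega) (by omega)
    have h2lt : Fintype.card S ^ m < Fintype.card S ^ n := Nat.pow_lt_pow_right (by omega) hm2
    have hc2 : Nat.card ψ1.range = Fintype.card S ^ m * ((Fintype.card S ^ m + 1) * (Fintype.card S ^ m - 1)) := by
      rw [← Nat.card_congr (MonoidHom.ofInjective hψ1).toEquiv, hcards, hc1]
    rcases lt_or_eq_of_le hle with hlt | heq
    · have htop := hN2.2 _ hlt
      rw [htop, Subgroup.card_top, Cfsg.Lib.Classical.TwoDim.card_SL, hn] at hc2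
      have := hmono _ _ (by omega) h2lt
      omega
    · rw [← heq, ← hSr, ← Nat.card_congr (MonoidHom.ofInjective (f := Matrix.SpecialLinearGroup.map (n := Fin 2) S.subtype) (fun a b e => Matrix.SpecialLinearGroup.ext _ _ fun i j =>
        Subtype.ext (congrArg (fun v : Matrix.SpecialLinearGroup (Fin 2) F => v i j) e))).toEquiv, Cfsg.Lib.Classical.TwoDim.card_SL] at hc2
      have := hmono _ _ (by omega) h1lt
      omega
  · let eK := FiniteField.ringEquivOfCardEq hcardK
    let ψ := Matrix.SpecialLinearGroup.map (n := Fin 2) (S.subtype.comp eK.toRingHom)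
    have hψ : Function.Injective ψ := fun a b e => Matrix.SpecialLinearGroup.ext _ _ fun i j =>
      eK.injective (Subtype.ext (congrArg (fun v : Matrix.SpecialLinearGroup (Fin 2) F => v i j) e))
    have hr2 : ψ.range = N2 := by
      rw [← hSr]
      refine le_antisymm ?_ ?_
      · rintro _ ⟨g, rfl⟩
        exact ⟨Matrix.SpecialLinearGroup.map eK.toRingHom g, Matrix.SpecialLinearGroup.ext _ _ fun i j => rfl⟩
      · rintro _ ⟨g, rfl⟩
        exact ⟨Matrix.SpecialLinearGroup.map eK.symm.toRingHom g, Matrix.SpecialLinearGroup.ext _ _ fun i j =>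
          congrArg Subtype.val (eK.apply_symm_apply _)⟩
    exact ⟨((((iMN.trans i1).trans i2).trans (MulEquiv.subgroupCongr hr2).symm).trans (MonoidHom.ofInjective hψ).symm).trans
      (MulEquiv.ofBijective _ (psl_bij (GaloisField 2 k)))⟩

end Cfsg.Agent.S5893
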