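import Cfsg.Statements.S0810
import Mathlib
import Cfsg.Agent.S5893
import Cfsg.Agent.S0804
import Cfsg.Agent.Lib.Classical.DicksonEven
import Cfsg.Agent.Lib.Classical.MinimalIndexSL2
import Cfsg.Agent.Lib.Classical.SubfieldGroupMaxTwo
import Cfsg.Agent.Lib.Classical.TwoDimTorusSylow
import Cfsg.Agent.Lib.Classical.PSLTwoOdd
import Cfsg.Agent.Lib.Classical.SLGroup
import Cfsg.Agent.Lib.Classical.SymplecticSimple
import Cfsg.Agent.Lib.Characters.Burnside
-- import your own Cfsg.Agent.* helpers here

set_option autoImplicit false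
open Cfsg

namespace Cfsg.Agent.S0810

open Matrix Cfsg.Lib.PStable Cfsg.Lib.Classical.MinIndex

universe u

theorem solvable_23 {G : Type*} [Group G] [Finite G] {a b : ℕ} (h : Nat.card G = 2 ^ a * 3 ^ b) : Group.IsSolvable G :=
  Cfsg.Lib.Characters.isSolvable_of_card_eq_pow_mul_pow Nat.prime_two Nat.prime_three _ G h ⟨a, b, rfl⟩

theorem solvable_of_abelian_normal {G : Type*} [Group G] (C : Subgroup G) [C.Normal] (h : ∀ x ∈ C, ∀ y ∈ C, x * y = y * x)
    (hsq : ∀ g : G, g * g ∈ C) : Group.IsSolvable G := by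
  haveI : Group.IsSolvable C := Group.isSolvable_of_comm fun a b => Subtype.ext (h a a.2 b b.2)
  haveI : Group.IsSolvable (G ⧸ C) := Group.isSolvable_of_comm fun a b => by
    have hinv : ∀ x : G ⧸ C, x⁻¹ = x := fun x => inv_eq_of_mul_eq_one_right (QuotientGroup.induction_on x fun g =>
      (QuotientGroup.eq_one_iff (g * g)).2 (hsq g))
    have := hinv (a * b)
    rw [_root_.mul_inv_rev, hinv a, hinv b] at this
    exact this.symm
  exact solvable_of_ker_le_range C.subtype (QuotientGroup.mk' C) (by rw [QuotientGroup.ker_mk', Subgroup.range_subtype])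

theorem normal_of_sq {G : Type*} [Group G] (C : Subgroup G) (hsq : ∀ g : G, g * g ∈ C) : C.Normal :=
  ⟨fun n hn g => by
    have e : g * n * g⁻¹ = (g * n) * (g * n) * (n⁻¹ * (g * g)⁻¹) := by group
    rw [e]; exact C.mul_mem (hsq _) (C.mul_mem (C.inv_mem hn) (C.inv_mem (hsq g)))⟩

theorem solvable_borel {F : Type*} [Field F] (M : Subgroup (Matrix.SpecialLinearGroup (Fin 2) F))
    (h : ∀ g ∈ M, g 1 0 = 0) : Group.IsSolvable M := by
  haveI : Group.IsSolvable (chi M).ker := Group.isSolvable_of_comm fun a b => by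
    have hq : ∀ c : (chi M).ker, ∃ v, ((c.1 : M) : Matrix.SpecialLinearGroup (Fin 2) F) = upperU v := fun c =>
      ⟨_, qGrp_eq (⟨c.1, c.2, rfl⟩ : (c.1 : M) ∈ qGrp M)⟩
    obtain ⟨x, hx⟩ := hq a
    obtain ⟨y, hy⟩ := hq b
    refine Subtype.ext (Subtype.ext (Subtype.ext ?_))
    simp only [Subgroup.coe_mul, hx, hy, ← upperU_add, add_comm]
  haveI : Group.IsSolvable (borel M) := solvable_of_ker_le_range (chi M).ker.subtype (chi M) (by rw [Subgroup.range_subtype])
  exact solvable_of_surjective (f := (borel M).subtype) fun g => ⟨⟨g, h g g.2⟩, rfl⟩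

theorem not_solvable_a5 : ¬ Group.IsSolvable (alternatingGroup (Fin 5)) := fun h => by
  haveI := h
  haveI : Group.IsSolvable ℤˣ := Group.isSolvable_of_comm mul_comm
  exact Equiv.Perm.fin_5_not_solvable (solvable_of_ker_le_range (alternatingGroup (Fin 5)).subtype Equiv.Perm.sign
    (by rw [Subgroup.range_subtype]; exact le_refl _))

theorem not_solvable_image {K : Type*} [Field K] [Fintype K] (hK : 4 ≤ Fintype.card K) {G : Type*} [Group G]
    (f : Matrix.SpecialLinearGroup (Fin 2) K →* G) (hf : ∀ g, f g = 1 → g ∈ Subgroup.center _) : ¬ Group.IsSolvable f.range := fun h => by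
  classical
  haveI := h
  haveI : Group.IsSolvable (Subgroup.center (Matrix.SpecialLinearGroup (Fin 2) K)) := Group.isSolvable_of_comm fun a b => Subtype.ext (Subgroup.mem_center_iff.1 b.2 a.1)
  haveI : Group.IsSolvable (Matrix.SpecialLinearGroup (Fin 2) K) := solvable_of_ker_le_range
    (Subgroup.center (Matrix.SpecialLinearGroup (Fin 2) K)).subtype f.rangeRestrict (by
      rw [Subgroup.range_subtype, MonoidHom.ker_rangeRestrict]; exact fun g hg => hf g hg)
  obtain ⟨a, ha⟩ := Cfsg.Lib.Classical.SpSimple.exists_big hK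
  haveI : Nontrivial (Matrix.SpecialLinearGroup (Fin 2) K) := ⟨upperU 1, 1, fun e => by
    have := congrArg (fun v : Matrix.SpecialLinearGroup (Fin 2) K => v 0 1) e
    simp [upperU] at this⟩
  exact (Group.IsSolvable.commutator_lt_top_of_nontrivial (Matrix.SpecialLinearGroup (Fin 2) K)).ne
    (Cfsg.Lib.Classical.SLGroup.commutator_sl_eq_top (Or.inr ⟨a, ha⟩))

theorem solvable_odd {F : Type u} [Field F] [Fintype F] {p : ℕ} [Fact p.Prime] [CharP F p] (hp2 : p ≠ 2)
    (h120 : ∀ M : Subgroup (Matrix.SpecialLinearGroup (Fin 2) F), Nat.card M = 120 → M = ⊤)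
    (hsub : ∀ a : ℕ, a ∣ Fintype.card F → 1 < a → (a + 1) ∣ Nat.card (Matrix.SpecialLinearGroup (Fin 2) F) → a = Fintype.card F ∨ a = 3)
    (M : Subgroup (Matrix.SpecialLinearGroup (Fin 2) F)) (hneg : (-1 : Matrix.SpecialLinearGroup (Fin 2) F) ∈ M) (htop : M ≠ ⊤) :
    Group.IsSolvable M := by
  classical
  have hpp : p.Prime := Fact.out
  have h2 : (2 : F) ≠ 0 := Ring.two_ne_zero (by rw [ringChar.eq F p]; exact hp2)
  by_cases hpM : p ∣ Nat.card M
  · obtain ⟨x, hx⟩ := exists_prime_orderOf_dvd_card' p hpM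
    have hx' : (x : Matrix.SpecialLinearGroup (Fin 2) F) ^ p = 1 := by
      rw [← SubmonoidClass.coe_pow]; exact congrArg Subtype.val (orderOf_dvd_iff_pow_eq_one.1 (dvd_of_eq hx))
    obtain ⟨s, a, ha, hsa⟩ := exists_conj_upper (x : Matrix.SpecialLinearGroup (Fin 2) F) hx' fun e => by
      rw [show x = 1 from Subtype.ext e, orderOf_one] at hx
      exact hpp.one_lt.ne hx
    set M' := M.map (MulAut.conj s⁻¹).toMonoidHom
    have i : M ≃* M' := (MulAut.conj s⁻¹).subgroupMap M
    have htop' : M' ≠ ⊤ := fun h => htop (Subgroup.eq_top_of_card_eq M (by rw [Nat.card_congr i.toEquiv, h, Subgroup.card_top]))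
    suffices Group.IsSolvable M' from solvable_of_solvable_injective (f := i.toMonoidHom) i.injective
    have hneg' : (-1 : Matrix.SpecialLinearGroup (Fin 2) F) ∈ M' := ⟨-1, hneg, by simp [mul_assoc]⟩
    have hU : a ∈ aGrp M' := ⟨x, x.2, by rw [← hsa]; simp⟩
    by_cases hB : ∀ g ∈ M', g 1 0 = 0
    · exact solvable_borel M' hB
    push Not at hB
    obtain ⟨g, hg, h10⟩ := hB
    rcases index_eq hp2 hneg' ha hU (g0 := ⟨g, hg⟩) h10 with hi | ⟨-, h, -⟩
    swap
    · exact absurd (h120 M' h) htop'
    have hα : Nat.card (aGrp M') ∣ Fintype.card F := by rw [← Nat.card_eq_fintype_card]; exact (aGrp M').card_addSubgroup_dvd_card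
    have h1α : 1 < Nat.card (aGrp M') := Finite.one_lt_card_iff_nontrivial.2 ⟨⟨a, hU⟩, 0, fun e => ha (congrArg Subtype.val e)⟩
    rcases hsub _ hα h1α (hi ▸ (Subgroup.index_dvd_card (borel M')).trans (Subgroup.card_subgroup_dvd_card M')) with e | e
    · have : aGrp M' = ⊤ := (aGrp M').eq_top_of_card_eq (e.trans Nat.card_eq_fintype_card.symm)
      exact absurd (upper_eq_top (fun v => (this ▸ trivial : v ∈ aGrp M')) hg h10) htop'
    · have hd := torSize_le ha hU
      have hd1 : 0 < torSize M' := Nat.card_pos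
      have hM : Nat.card M' = 24 * torSize M' := by
        rw [← Subgroup.card_mul_index (borel M'), card_borel hneg' h2, hi, e]; ring
      rw [e] at hd
      rcases (show torSize M' = 1 ∨ torSize M' = 2 by omega) with h | h
      · exact solvable_23 (a := 3) (b := 1) (by rw [hM, h]; norm_num)
      · exact solvable_23 (a := 4) (b := 1) (by rw [hM, h]; norm_num)
  · have hss : ∀ z : M, z ∉ scSet M → trc (z : Matrix.SpecialLinearGroup (Fin 2) F) ^ 2 ≠ 4 := fun z hz ht => by
      have key : ∀ v : M, trc (v : Matrix.SpecialLinearGroup (Fin 2) F) = 2 → v = 1 := fun v hv => by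
        have hvp : v ^ p = 1 := Subtype.ext (by rw [SubmonoidClass.coe_pow, pow_char_of_trc_two hv]; rfl)
        rcases (Nat.dvd_prime hpp).1 (orderOf_dvd_of_pow_eq_one hvp) with e | e
        · exact orderOf_eq_one_iff.1 e
        · exact absurd ((dvd_of_eq e.symm).trans (orderOf_dvd_natCard v)) hpM
      have hsc : ∀ v : M, (v : Matrix.SpecialLinearGroup (Fin 2) F) = 1 ∨ (v : Matrix.SpecialLinearGroup (Fin 2) F) = -1 → v ∈ scSet M :=
        fun v hv => (isScalar2_iff _).2 hv
      rcases eq_or_eq_neg_of_sq_eq_sq (trc (z : Matrix.SpecialLinearGroup (Fin 2) F)) 2 (by rw [ht]; norm_num) with h | h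
      · exact hz (hsc z (Or.inl (by rw [key z h]; rfl)))
      · have := key (⟨-1, hneg⟩ * z) (by
          show trc ((-1 : Matrix.SpecialLinearGroup (Fin 2) F) * (z : Matrix.SpecialLinearGroup (Fin 2) F)) = 2
          rw [neg_one_mul]
          simp only [trc, neg_entry] at h ⊢
          linear_combination -h)
        have h' : -(z : Matrix.SpecialLinearGroup (Fin 2) F) = 1 := by simpa using congrArg Subtype.val this
        exact hz (hsc z (Or.inr (by rw [← h', neg_neg])))
    rcases Cfsg.Lib.Classical.PrimeToChar.small_types hneg h2 hss with ⟨C, hC, hsq, -, -⟩ | h | h | h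
    · haveI := normal_of_sq C hsq
      exact solvable_of_abelian_normal C hC hsq
    · exact solvable_23 (a := 3) (b := 1) (by rw [h]; norm_num)
    · exact solvable_23 (a := 4) (b := 1) (by rw [h]; norm_num)
    · exact absurd (h120 M h) htop

theorem arith_three {r i : ℕ} (hr : r.Prime) (hi0 : 0 < i) (hir : i ≤ r) (h : (3 ^ i + 1) ∣ 3 ^ r * ((3 ^ r + 1) * (3 ^ r - 1))) :
    i = r ∨ i = 1 := by
  rcases eq_or_lt_of_le hir with h' | hlt
  · exact Or.inl h'
  right
  have hco : Nat.Coprime (3 ^ i + 1) (3 ^ r) := Nat.Coprime.pow_right r (by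
    rw [Nat.coprime_comm, Nat.prime_three.coprime_iff_not_dvd]
    intro h3
    have : 3 ∣ 3 ^ i := dvd_pow_self 3 hi0.ne'
    omega)
  have h1 := hco.dvd_of_dvd_mul_left h
  have e2 : ∀ j : ℕ, (3 ^ j + 1) * (3 ^ j - 1) = 3 ^ (2 * j) - 1 := fun j => by
    rw [← Nat.sq_sub_sq, ← pow_mul, one_pow, mul_comm j]
  have h2 : (3 ^ i + 1) ∣ 3 ^ (2 * i) - 1 := e2 i ▸ dvd_mul_right _ _
  rw [e2] at h1
  have h3 := Nat.dvd_gcd h1 h2
  rw [Nat.pow_sub_one_gcd_pow_sub_one, Nat.gcd_mul_left, (hr.coprime_iff_not_dvd.2 (Nat.not_dvd_of_pos_of_lt hi0 hlt)).gcd_eq_one] at h3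
  have h4 := Nat.le_of_dvd (by norm_num) h3
  norm_num at h4
  by_contra hi1
  have := Nat.pow_le_pow_right (show 0 < 3 by norm_num) (show 2 ≤ i by omega)
  omega

/-- PSL_2(q) is minimal simple iff q is 2^r (r prime), 3^r (r an odd prime), a prime greater than 5 congruent to 2 or 3 mod 5, or 5. -/
theorem result {F : Type*} [Field F] [Fintype F] {q : ℕ} (hF : Fintype.card F = q) : Cfsg.IsMinimalSimple (Matrix.ProjectiveSpecialLinearGroup (Fin 2) F) ↔ ((∃ r : ℕ, r.Prime ∧ q = 2 ^ r) ∨ (∃ r : ℕ, r.Prime ∧ r ≠ 2 ∧ q = 3 ^ r) ∨ (q.Prime ∧ 5 < q ∧ (q % 5 = 2 ∨ q % 5 = 3)) ∨ q = 5) := by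
  classical
  have h2le : 2 ≤ q := hF ▸ Fintype.one_lt_card
  obtain ⟨p, hp⟩ := CharP.exists F
  obtain ⟨n, hpp, hpn⟩ := FiniteField.card F p
  haveI := Fact.mk hpp
  rw [hF] at hpn
  let π := QuotientGroup.mk' (Subgroup.center (Matrix.SpecialLinearGroup (Fin 2) F))
  have hπ : Function.Surjective π := QuotientGroup.mk'_surjective _
  have hker : ∀ g, π g = 1 ↔ g ∈ Subgroup.center (Matrix.SpecialLinearGroup (Fin 2) F) := fun g => QuotientGroup.eq_one_iff g
  have hSL : Nat.card (Matrix.SpecialLinearGroup (Fin 2) F) = q * ((q + 1) * (q - 1)) := by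
    rw [Cfsg.Lib.Classical.TwoDim.card_SL, hF]
  have hcen : Nat.card (Subgroup.center (Matrix.SpecialLinearGroup (Fin 2) F)) ≤ 2 := by
    let f : Subgroup.center (Matrix.SpecialLinearGroup (Fin 2) F) → Bool := fun z => decide (z.1 0 0 = 1)
    have hf : Function.Injective f := fun a b e => by
      obtain ⟨c, hc, hca⟩ := Matrix.SpecialLinearGroup.mem_center_iff.1 a.2
      obtain ⟨d, hd, hdb⟩ := Matrix.SpecialLinearGroup.mem_center_iff.1 b.2
      rw [Fintype.card_fin, sq_eq_one_iff] at hc hd
      have ea : a.1 0 0 = c := by rw [← hca]; simp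
      have eb : b.1 0 0 = d := by rw [← hdb]; simp
      simp only [f, decide_eq_decide, ea, eb] at e
      have hcd : c = d := by
        rcases hc with rfl | rfl
        · exact (e.1 rfl).symm
        · rcases hd with rfl | rfl
          · exact e.2 rfl
          · rfl
      exact Subtype.ext (Subtype.ext (by rw [← hca, ← hdb, hcd]))
    exact (Nat.card_le_card_of_injective f hf).trans (by simp)
  have hPSL : Nat.card (Matrix.SpecialLinearGroup (Fin 2) F) ≤ Nat.card (Matrix.ProjectiveSpecialLinearGroup (Fin 2) F) * 2 :=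
    (Subgroup.card_eq_card_quotient_mul_card_subgroup _).trans_le (Nat.mul_le_mul_left _ hcen)
  constructor
  · rintro ⟨hsimple, hnc, hsolv⟩
    have hq4 : 4 ≤ q := by
      by_contra hlt
      refine hnc ?_
      haveI := hsimple
      haveI : Group.IsSolvable (Matrix.SpecialLinearGroup (Fin 2) F) := by
        rcases (show q = 2 ∨ q = 3 by omega) with h | h
        · exact solvable_23 (a := 1) (b := 1) (by rw [hSL, h]; norm_num)
        · exact solvable_23 (a := 3) (b := 1) (by rw [hSL, h]; norm_num)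
      haveI : Group.IsSolvable (Matrix.ProjectiveSpecialLinearGroup (Fin 2) F) := solvable_of_surjective hπ
      exact ⟨⟨fun a b => IsSimpleGroup.comm_iff_isSolvable.2 inferInstance a b⟩⟩
    have hsubf : ∀ m : ℕ, 0 < m → m < (n : ℕ) → m ∣ (n : ℕ) → 4 ≤ p ^ m → False := by
      intro m hm0 hmn hdvd hm4
      obtain ⟨r', hr'⟩ := hdvd
      letI : Fintype (GaloisField p m) := Fintype.ofFinite _
      have hc : Fintype.card (GaloisField p m) = p ^ m := by rw [← Nat.card_eq_fintype_card, GaloisField.card p m hm0.ne']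
      obtain ⟨φ⟩ := Cfsg.Lib.Classical.SubfieldTwo.exists_emb (F := F) (K := GaloisField p m) (r := r')
        (Nat.pos_of_ne_zero fun h => by rw [h, mul_zero] at hr'; omega) (by rw [hF, hpn, hc, ← pow_mul, ← hr'])
      let ψ := Matrix.SpecialLinearGroup.map (n := Fin 2) φ
      let f := π.comp ψ
      have hf : ∀ g, f g = 1 → g ∈ Subgroup.center _ := fun g hg => by
        obtain ⟨c, hc1, hc2⟩ := Matrix.SpecialLinearGroup.mem_center_iff.1 ((hker (ψ g)).1 hg)
        have e : ∀ i j, φ (g i j) = (Matrix.scalar (Fin 2) c) i j := fun i j => (congrFun (congrFun hc2 i) j).symm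
        have e0 : φ (g 0 0) = c := by rw [e]; simp
        refine Matrix.SpecialLinearGroup.mem_center_iff.2 ⟨g 0 0, φ.injective (by rw [map_pow, e0, hc1, map_one]), ?_⟩
        ext i j
        refine φ.injective ?_
        rw [e]
        fin_cases i <;> fin_cases j <;> simp [e0]
      refine not_solvable_image (by omega) f hf (hsolv _ fun h => ?_)
      have h1 : Nat.card (Matrix.ProjectiveSpecialLinearGroup (Fin 2) F) ≤ Nat.card (Matrix.SpecialLinearGroup (Fin 2) (GaloisField p m)) :=
        Nat.card_le_card_of_surjective f (MonoidHom.range_eq_top.1 h)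
      rw [hSL] at hPSL
      rw [Cfsg.Lib.Classical.TwoDim.card_SL, hc] at h1
      have h3 : 2 * p ^ m ≤ q := by
        rw [hpn]
        exact (Nat.mul_le_mul_right _ hpp.two_le).trans ((pow_succ' p m).symm.trans_le (Nat.pow_le_pow_right hpp.pos hmn))
      have h4' := Nat.mul_lt_mul_of_le_of_lt h3 (Nat.mul_lt_mul_of_lt_of_le (show p ^ m + 1 < q + 1 by omega) (show p ^ m - 1 ≤ q - 1 by omega) (by omega)) (by omega)
      have e : 2 * p ^ m * ((p ^ m + 1) * (p ^ m - 1)) = p ^ m * ((p ^ m + 1) * (p ^ m - 1)) * 2 := by ring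
      omega
    have hA5 : 7 ≤ q → 5 ∣ q * (q ^ 2 - 1) → False := fun h7 h5 => by
      obtain ⟨H, ⟨e⟩⟩ := (Cfsg.Agent.S0804.result hF).2 h5
      have hH : H ≠ ⊤ := fun h => by
        have hc : Nat.card H = 60 := by
          rw [Nat.card_congr e.toEquiv, nat_card_alternatingGroup, Nat.card_fin]; rfl
        rw [h, Subgroup.card_top] at hc
        have h6 := Nat.mul_le_mul h7 (Nat.mul_le_mul (show 8 ≤ q + 1 by omega) (show 6 ≤ q - 1 by omega))
        rw [hSL, hc] at hPSL
        omega
      haveI := hsolv H hH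
      exact not_solvable_a5 (solvable_of_surjective (f := e.toMonoidHom) e.surjective)
    rcases eq_or_ne p 2 with rfl | hp2
    · refine Or.inl ⟨n, ?_, hpn⟩
      by_contra hn
      have hn2 : 2 ≤ (n : ℕ) := by
        by_contra h
        have : (n : ℕ) = 1 := by have := n.pos; omega
        rw [this] at hpn; omega
      obtain ⟨m, hmn, hm2, hlt⟩ := (Nat.not_prime_iff_exists_dvd_lt hn2).1 hn
      exact hsubf m (by omega) hlt hmn (Nat.pow_le_pow_right two_pos hm2 : 2 ^ 2 ≤ 2 ^ m)
    rcases eq_or_ne p 3 with rfl | hp3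
    · refine Or.inr (Or.inl ⟨n, ?_, ?_, hpn⟩)
      · by_contra hn
        have hn2 : 2 ≤ (n : ℕ) := by
          by_contra h
          have : (n : ℕ) = 1 := by have := n.pos; omega
          rw [this] at hpn; omega
        obtain ⟨m, hmn, hm2, hlt⟩ := (Nat.not_prime_iff_exists_dvd_lt hn2).1 hn
        exact hsubf m (by omega) hlt hmn ((show 4 ≤ 3 ^ 2 by norm_num).trans (Nat.pow_le_pow_right (by norm_num) hm2))
      · intro h
        rw [h] at hpn
        exact hA5 (by omega) (by rw [hpn]; norm_num)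
    have hp5 : 5 ≤ p := by
      have := hpp.two_le
      by_contra h
      interval_cases p <;> first | omega | (exact absurd hpp (by norm_num))
    have hn1 : (n : ℕ) = 1 := by
      by_contra h
      exact hsubf 1 one_pos (by have := n.pos; omega) (one_dvd _) (by rw [pow_one]; omega)
    rw [hn1, pow_one] at hpn
    subst hpn
    rcases eq_or_ne q 5 with h5 | h5
    · exact Or.inr (Or.inr (Or.inr h5))
    refine Or.inr (Or.inr (Or.inl ⟨hpp, by omega, ?_⟩))
    by_contra h
    refine hA5 (by have : q ≠ 6 := (fun e => by rw [e] at hpp; norm_num at hpp); omega) (Dvd.dvd.mul_left ?_ q)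
    have hq0 : q % 5 ≠ 0 := fun e => h5 (((Nat.prime_dvd_prime_iff_eq Nat.prime_five hpp).1 (Nat.dvd_of_mod_eq_zero e)).symm)
    have h14 : q % 5 = 1 ∨ q % 5 = 4 := by omega
    rw [show q ^ 2 - 1 = (q + 1) * (q - 1) by rw [← Nat.sq_sub_sq, one_pow]]
    rcases h14 with e | e
    · exact Dvd.dvd.mul_left (Nat.dvd_of_mod_eq_zero (by omega)) _
    · exact Dvd.dvd.mul_right (Nat.dvd_of_mod_eq_zero (by omega)) _
  · intro hlist
    have hq4 : 4 ≤ q := by
      rcases hlist with ⟨r, hr, rfl⟩ | ⟨r, hr, -, rfl⟩ | ⟨-, h, -⟩ | rfl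
      · exact (show 4 = 2 ^ 2 by norm_num) ▸ Nat.pow_le_pow_right two_pos hr.two_le
      · exact ((show 4 ≤ 3 ^ 2 by norm_num)).trans (Nat.pow_le_pow_right (by norm_num) hr.two_le)
      · omega
      · norm_num
    obtain ⟨a, ha⟩ := Cfsg.Lib.Classical.SpSimple.exists_big (F := F) (hF ▸ hq4)
    have hns : ¬ Group.IsSolvable (Matrix.ProjectiveSpecialLinearGroup (Fin 2) F) := fun h => by
      haveI := h
      refine not_solvable_image (hF ▸ hq4) π (fun g hg => (hker g).1 hg) ?_
      exact solvable_of_solvable_injective (f := π.range.subtype) Subtype.val_injective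
    refine ⟨Cfsg.Lib.Classical.SLGroup.isSimpleGroup_psl (Or.inr ⟨a, ha⟩), fun h => hns (Group.isSolvable_of_comm fun x y => h.is_comm.comm x y), fun H hH => ?_⟩
    set M := H.comap π with hMd
    have htop : M ≠ ⊤ := fun h => hH (by rw [← Subgroup.map_comap_eq_self_of_surjective hπ H, ← hMd, h, Subgroup.map_top_of_surjective π hπ])
    suffices Group.IsSolvable M by
      haveI := this
      exact solvable_of_surjective (f := (π.comp M.subtype).codRestrict H fun x => x.2) fun h => by
        obtain ⟨g, hg⟩ := hπ h.1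
        exact ⟨⟨g, by show π g ∈ H; rw [hg]; exact h.2⟩, Subtype.ext hg⟩
    rcases eq_or_ne p 2 with rfl | hp2
    · -- even
      haveI : CharP F 2 := hp
      obtain ⟨r, hr, hqr⟩ : ∃ r : ℕ, r.Prime ∧ q = 2 ^ r := by
        have heq : ∀ r : ℕ, ∀ b, b.Prime → q = b ^ r → 0 < r → b = 2 := fun r b hb h hr0 =>
          ((Nat.prime_dvd_prime_iff_eq hb Nat.prime_two).1 (hb.dvd_of_dvd_pow (n := (n : ℕ)) (hpn ▸ h ▸ dvd_pow_self b hr0.ne')))
        rcases hlist with h | ⟨r, hr, -, h⟩ | ⟨hq, h, -⟩ | h
        · exact h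
        · exact absurd (heq r 3 Nat.prime_three h hr.pos) (by norm_num)
        · exact absurd (heq 1 q hq (pow_one q).symm one_pos) (by omega)
        · exact absurd (heq 1 5 Nat.prime_five (by rw [h, pow_one]) one_pos) (by norm_num)
      obtain ⟨K, hK, hHK⟩ := (eq_top_or_exists_le_coatom H).resolve_left hH
      suffices Group.IsSolvable K by
        haveI := this
        have hsK : Group.IsSolvable H := solvable_of_solvable_injective (f := Subgroup.inclusion hHK) (Subgroup.inclusion_injective hHK)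
        haveI := hsK
        haveI : Group.IsSolvable (Subgroup.center (Matrix.SpecialLinearGroup (Fin 2) F)) := Group.isSolvable_of_comm fun a b => Subtype.ext (Subgroup.mem_center_iff.1 b.2 a.1)
        exact solvable_of_ker_le_range ((Subgroup.inclusion (show Subgroup.center (Matrix.SpecialLinearGroup (Fin 2) F) ≤ M from fun z hz => by
          show π z ∈ H; rw [(hker z).2 hz]; exact one_mem _))) ((π.comp M.subtype).codRestrict H fun x => x.2) (fun x hx => ⟨⟨x.1, (hker x.1).1 (congrArg Subtype.val hx)⟩, rfl⟩)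
      have hev : Even (Fintype.card F) := by rw [hF, hqr]; exact Nat.even_pow.2 ⟨even_two, hr.ne_zero⟩
      have hdih : ∀ k, Nonempty (K ≃* DihedralGroup k) → Group.IsSolvable K := fun k ⟨i⟩ => by
        haveI : Group.IsSolvable (DihedralGroup k) := by
          let C := Subgroup.zpowers (DihedralGroup.r (1 : ZMod k))
          have hsq : ∀ g : DihedralGroup k, g * g ∈ C := by
            rintro (i | i)
            · obtain ⟨z, hz⟩ := ZMod.intCast_surjective (i + i)
              exact ⟨z, by simp [DihedralGroup.r_one_zpow, hz]⟩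
            · simp only [DihedralGroup.sr_mul_self]; exact C.one_mem
          haveI := normal_of_sq C hsq
          exact solvable_of_abelian_normal C (fun x hx y hy => by
            obtain ⟨a, rfl⟩ := hx; obtain ⟨b, rfl⟩ := hy; exact (Commute.refl _).zpow_zpow a b) hsq
        exact solvable_of_solvable_injective (f := i.toMonoidHom) i.injective
      rcases Cfsg.Agent.S5893.result hev (hF ▸ hq4) K hK with hB | hD | hD | ⟨F₀, _, _, r', hr', hne, hcard, -⟩
      rotate_left
      · exact hdih _ hD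
      · exact hdih _ hD
      · exfalso
        rw [hF, hqr] at hcard
        obtain ⟨j, -, hj⟩ := (Nat.dvd_prime_pow Nat.prime_two).1 (show Fintype.card F₀ ∣ 2 ^ r from hcard ▸ dvd_pow_self _ hr'.ne_zero)
        rw [hj, ← pow_mul] at hcard
        have := Nat.pow_right_injective le_rfl hcard
        rcases hr.eq_one_or_self_of_dvd j (Dvd.intro _ this.symm) with e | e
        · exact hne (by rw [hj, e]; rfl)
        · rw [e] at this
          exact hr'.one_lt.ne (Nat.eq_of_mul_eq_mul_left hr.pos ((mul_one r).trans this))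
      -- the Borel subgroup
      let e := MulEquiv.ofBijective _ (Cfsg.Agent.S5893.psl_bij F)
      set N := K.map e.symm.toMonoidHom
      have iN : K ≃* N := e.symm.subgroupMap K
      suffices Group.IsSolvable N from solvable_of_solvable_injective (f := iN.toMonoidHom) iN.injective
      have hNc : Nat.card N = q * (q - 1) := by rw [← Nat.card_congr iN.toEquiv, hB, hF]
      have hev2 : 2 ∣ Nat.card N := by rw [hNc, hqr]; exact Dvd.dvd.mul_right (dvd_pow_self 2 hr.ne_zero) _
      obtain ⟨x, hx⟩ := exists_prime_orderOf_dvd_card' 2 hev2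
      obtain ⟨s, a0, ha0, hsa⟩ := exists_conj_upper (p := 2) (x : Matrix.SpecialLinearGroup (Fin 2) F)
        (by rw [← SubmonoidClass.coe_pow]; exact congrArg Subtype.val (orderOf_dvd_iff_pow_eq_one.1 (dvd_of_eq hx))) (fun e => by
          rw [show x = 1 from Subtype.ext e, orderOf_one] at hx
          exact absurd hx (by norm_num))
      set N' := N.map (MulAut.conj s⁻¹).toMonoidHom
      have i' : N ≃* N' := (MulAut.conj s⁻¹).subgroupMap N
      suffices Group.IsSolvable N' from solvable_of_solvable_injective (f := i'.toMonoidHom) i'.injective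
      have hU : a0 ∈ aGrp N' := ⟨x, x.2, by rw [← hsa]; simp⟩
      by_cases hBB : ∀ g ∈ N', g 1 0 = 0
      · exact solvable_borel N' hBB
      push Not at hBB
      obtain ⟨g, hg, h10⟩ := hBB
      rcases Cfsg.Lib.Classical.SubfieldEven.dickson_even ha0 hU (g0 := ⟨g, hg⟩) h10 with ⟨-, z, hz, hcard, -⟩ | ⟨-, hd, hO, -⟩
      · have hidx : (Cfsg.Lib.Classical.SubfieldEven.cenE z).index = 2 := Nat.eq_of_mul_eq_mul_left (Nat.card_pos (α := Cfsg.Lib.Classical.SubfieldEven.cenE z)) (by
          rw [Subgroup.card_mul_index, hcard, mul_comm])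
        haveI := Subgroup.normal_of_index_eq_two hidx
        exact solvable_of_abelian_normal _ (fun x hx y hy => Subtype.ext (commute_trans
          (Cfsg.Lib.Classical.SubfieldEven.not_scalar_of_sq fun e => hz (Subtype.ext e))
          (congrArg Subtype.val (Cfsg.Lib.Classical.SubfieldEven.mem_cenE.1 hx)) (congrArg Subtype.val (Cfsg.Lib.Classical.SubfieldEven.mem_cenE.1 hy))))
          (Subgroup.mul_self_mem_of_index_two hidx)
      · exfalso
        have hc : Nat.card N' = Nat.card (aGrp N') * (Nat.card (chi N').range) * (borel N').index := by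
          rw [← card_borel_eq, Subgroup.card_mul_index]
        rw [← Nat.card_congr i'.toEquiv, hNc, hO] at hc
        have hdvd : Nat.card (aGrp N') + 1 ∣ q * (q - 1) := hc ▸ dvd_mul_left _ _
        set A := Nat.card (aGrp N')
        have hd1 : A - 1 = Nat.card (chi N').range := by omega
        rw [← hd1] at hc
        have hAq : A ≤ q := by rw [← hF, ← Nat.card_eq_fintype_card]; exact Nat.card_le_card_of_injective _ Subtype.val_injective
        obtain ⟨j, -, hj⟩ := (Nat.dvd_prime_pow Nat.prime_two).1 (show A ∣ 2 ^ r by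
          rw [← hqr, ← hF, ← Nat.card_eq_fintype_card]; exact (aGrp N').card_addSubgroup_dvd_card)
        have hco : Nat.Coprime q (A + 1) := by
          rw [hqr, hj]
          refine Nat.Coprime.pow_left r (Nat.coprime_two_left.2 (Even.add_one (Nat.even_pow.2 ⟨even_two, fun h0 => ?_⟩)))
          rw [h0, pow_zero] at hj
          have : (A - 1) = 0 := by omega
          rw [this, mul_zero, zero_mul] at hc
          have := Nat.mul_pos (show 0 < q by omega) (show 0 < q - 1 by omega)
          omega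
        have h1 := Nat.le_of_dvd (show 0 < q - 1 by omega) ((hco.symm.dvd_of_dvd_mul_left hdvd))
        have h2 := Nat.mul_le_mul (show A ≤ q - 2 by omega) (Nat.mul_le_mul (show A - 1 ≤ q - 3 by omega) (show A + 1 ≤ q - 1 by omega))
        rw [← mul_assoc] at h2
        -- the count forces equality
        obtain ⟨u, hu⟩ : ∃ u, q = u + 4 := ⟨q - 4, by omega⟩
        rw [hu] at hc h1 h2 hdvd
        obtain ⟨k, hk⟩ := hdvd
        have hAe : A * (A - 1) = k := Nat.eq_of_mul_eq_mul_right (show 0 < A + 1 by omega) (hc.symm.trans (hk.trans (mul_comm _ _)))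
        rw [hj] at hc
        rcases Nat.lt_or_ge j r with hjr | hjr
        · have hpow : 2 * 2 ^ j ≤ 2 ^ r := (pow_succ' 2 j).symm.trans_le (Nat.pow_le_pow_right two_pos hjr)
          have hsame : 2 ^ j ∣ 2 ^ r := Nat.pow_dvd_pow 2 hjr.le
          obtain ⟨b, hb⟩ : ∃ b, 2 ^ r = 2 ^ j * (2 * b) := ⟨2 ^ (r - j - 1), by rw [← pow_succ', ← pow_add]; congr 1; omega⟩
          rw [← hu, hqr, hb] at hc
          simp only [mul_assoc] at hc
          have h3 := Nat.eq_of_mul_eq_mul_left (Nat.two_pow_pos j) hc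
          have hoddl : Even (2 * (b * (2 ^ j * (2 * b) - 1))) := even_two_mul _
          rw [h3] at hoddl
          have : j ≠ 0 := fun h0 => by rw [h0, pow_zero] at hj; have := Nat.card_pos (α := (chi N').range); omega
          have he : Even (2 ^ j) := Nat.even_pow.2 ⟨even_two, this⟩
          rw [Nat.even_mul] at hoddl
          rcases hoddl with h | h
          · obtain ⟨v, hv⟩ := he; obtain ⟨w, hw⟩ := h; omega
          · obtain ⟨v, hv⟩ := he; obtain ⟨w, hw⟩ := h; omega
        · have := Nat.pow_le_pow_right two_pos hjr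
          omega
    -- odd
    have hqodd : q % 2 = 1 := by rw [hpn]; exact Nat.odd_iff.1 ((hpp.odd_of_ne_two hp2).pow)
    have h2 : (2 : F) ≠ 0 := Ring.two_ne_zero (by rw [ringChar.eq F p]; exact hp2)
    have hneg : (-1 : Matrix.SpecialLinearGroup (Fin 2) F) ∈ M := by
      show π (-1) ∈ H
      rw [(hker _).2 (Subgroup.mem_center_iff.2 fun g => Subtype.ext (by simp))]
      exact one_mem _
    refine solvable_odd hp2 (fun M' hM' => ?_) (fun a ha ha1 hdvd => ?_) M hneg htop
    · rcases hlist with ⟨r, hr, e⟩ | ⟨r, hr, hr2, e⟩ | ⟨hq, hgt, h5⟩ | e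
      · rw [e, Nat.pow_mod] at hqodd; simp [hr.ne_zero] at hqodd
      · exfalso
        have h5d : 5 ∣ 3 ^ r * ((3 ^ r + 1) * (3 ^ r - 1)) := by
          rw [← e, ← hSL]; exact (show 5 ∣ 120 by norm_num).trans (hM' ▸ Subgroup.card_subgroup_dvd_card M')
        obtain ⟨t, rfl⟩ := hr.odd_of_ne_two hr2
        have h34 : ∀ t, 3 ^ (2 * t + 1) % 5 = 3 ∨ 3 ^ (2 * t + 1) % 5 = 2 := fun t => by
          induction t with
          | zero => left; norm_num
          | succ t ih => rw [show 3 ^ (2 * (t + 1) + 1) = 3 ^ (2 * t + 1) * 9 by ring]; omega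
        have h34' := h34 t
        generalize 3 ^ (2 * t + 1) = x at h34' h5d
        rcases Nat.prime_five.dvd_mul.1 h5d with h | h
        · omega
        rcases Nat.prime_five.dvd_mul.1 h with h | h <;> omega
      · exfalso
        have h5d : 5 ∣ q * ((q + 1) * (q - 1)) := hSL ▸ (show 5 ∣ 120 by norm_num).trans (hM' ▸ Subgroup.card_subgroup_dvd_card M')
        rcases Nat.prime_five.dvd_mul.1 h5d with h | h
        · omega
        rcases Nat.prime_five.dvd_mul.1 h with h | h <;> omega
      · exact Subgroup.eq_top_of_card_eq M' (by rw [hM', hSL, e])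
    · rw [hF] at ha ⊢
      rcases hlist with ⟨r, hr, e⟩ | ⟨r, hr, hr2, e⟩ | ⟨hq, hgt, h5⟩ | e
      · rw [e, Nat.pow_mod] at hqodd; simp [hr.ne_zero] at hqodd
      · rw [e] at ha hSL ⊢
        obtain ⟨i, hir, rfl⟩ := (Nat.dvd_prime_pow Nat.prime_three).1 ha
        rcases arith_three hr (Nat.pos_of_ne_zero fun h => by rw [h, pow_zero] at ha1; omega) hir (hSL ▸ hdvd) with h | h
        · exact Or.inl (by rw [h])
        · exact Or.inr (by rw [h, pow_one])
      · exact Or.inl ((hq.eq_one_or_self_of_dvd a ha).resolve_left (by omega))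
      · subst e
        exact Or.inl ((Nat.prime_five.eq_one_or_self_of_dvd a ha).resolve_left (by omega))

end Cfsg.Agent.S0810
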