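import Cfsg.Statements.S0822
import Mathlib
import Cfsg.Agent.Lib.Classical.UnitarySimple
import Cfsg.Agent.Lib.Classical.UnitaryStd
import Cfsg.Agent.Lib.Classical.UnitaryCentre
import Cfsg.Agent.Lib.Classical.UnitaryOrders
import Cfsg.Agent.Lib.Classical.ClassicalOrders
import Cfsg.Agent.S0246
-- import your own Cfsg.Agent.* helpers here

set_option autoImplicit false
open Cfsg
open scoped Matrix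

namespace Cfsg.Agent.S0822

/-- Nonisotropic points over the field with four elements. -/
def puT : Fin 40 → Fin 4 → Fin 4 := ![
  ![0, 0, 0, 1], ![0, 0, 1, 0], ![0, 1, 0, 0], ![0, 1, 1, 1], ![0, 1, 1, 2], ![0, 1, 1, 3], ![0, 1, 2, 1], ![0, 1, 2, 2],
  ![0, 1, 2, 3], ![0, 1, 3, 1], ![0, 1, 3, 2], ![0, 1, 3, 3], ![1, 0, 0, 0], ![1, 0, 1, 1], ![1, 0, 1, 2], ![1, 0, 1, 3],
  ![1, 0, 2, 1], ![1, 0, 2, 2], ![1, 0, 2, 3], ![1, 0, 3, 1], ![1, 0, 3, 2], ![1, 0, 3, 3], ![1, 1, 0, 1], ![1, 1, 0, 2],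
  ![1, 1, 0, 3], ![1, 1, 1, 0], ![1, 1, 2, 0], ![1, 1, 3, 0], ![1, 2, 0, 1], ![1, 2, 0, 2], ![1, 2, 0, 3], ![1, 2, 1, 0],
  ![1, 2, 2, 0], ![1, 2, 3, 0], ![1, 3, 0, 1], ![1, 3, 0, 2], ![1, 3, 0, 3], ![1, 3, 1, 0], ![1, 3, 2, 0], ![1, 3, 3, 0]]

/-- Isotropic points over the field with four elements. -/
def isT : Fin 45 → Fin 4 → Fin 4 := ![
  ![0, 0, 1, 1], ![0, 0, 1, 2], ![0, 0, 1, 3], ![0, 1, 0, 1], ![0, 1, 0, 2], ![0, 1, 0, 3], ![0, 1, 1, 0], ![0, 1, 2, 0],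
  ![0, 1, 3, 0], ![1, 0, 0, 1], ![1, 0, 0, 2], ![1, 0, 0, 3], ![1, 0, 1, 0], ![1, 0, 2, 0], ![1, 0, 3, 0], ![1, 1, 0, 0],
  ![1, 1, 1, 1], ![1, 1, 1, 2], ![1, 1, 1, 3], ![1, 1, 2, 1], ![1, 1, 2, 2], ![1, 1, 2, 3], ![1, 1, 3, 1], ![1, 1, 3, 2],
  ![1, 1, 3, 3], ![1, 2, 0, 0], ![1, 2, 1, 1], ![1, 2, 1, 2], ![1, 2, 1, 3], ![1, 2, 2, 1], ![1, 2, 2, 2], ![1, 2, 2, 3],
  ![1, 2, 3, 1], ![1, 2, 3, 2], ![1, 2, 3, 3], ![1, 3, 0, 0], ![1, 3, 1, 1], ![1, 3, 1, 2], ![1, 3, 1, 3], ![1, 3, 2, 1],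
  ![1, 3, 2, 2], ![1, 3, 2, 3], ![1, 3, 3, 1], ![1, 3, 3, 2], ![1, 3, 3, 3]]

/-- Points over the field with three elements. -/
def psT : Fin 40 → Fin 4 → ZMod 3 := ![
  ![0, 0, 0, 1], ![0, 0, 1, 0], ![0, 0, 1, 1], ![1, 1, 0, 0], ![1, 1, 0, 1], ![1, 1, 0, 2], ![1, 1, 1, 0], ![1, 1, 1, 1],
  ![1, 1, 1, 2], ![1, 1, 2, 0], ![1, 1, 2, 1], ![1, 1, 2, 2], ![0, 0, 1, 2], ![1, 2, 0, 0], ![1, 2, 0, 2], ![1, 2, 0, 1],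
  ![1, 2, 1, 0], ![1, 2, 1, 2], ![1, 2, 1, 1], ![1, 2, 2, 0], ![1, 2, 2, 2], ![1, 2, 2, 1], ![0, 1, 0, 0], ![0, 1, 0, 1],
  ![0, 1, 0, 2], ![1, 0, 0, 0], ![1, 0, 1, 0], ![1, 0, 2, 0], ![0, 1, 1, 1], ![0, 1, 1, 2], ![0, 1, 1, 0], ![1, 0, 1, 1],
  ![1, 0, 2, 1], ![1, 0, 0, 1], ![0, 1, 2, 2], ![0, 1, 2, 0], ![0, 1, 2, 1], ![1, 0, 2, 2], ![1, 0, 0, 2], ![1, 0, 1, 2]]

/-- The permutations of the transvections. -/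
def permT : Fin 45 → Fin 40 → Fin 40 := ![
  ![1, 0, 2, 3, 6, 9, 4, 7, 10, 5, 8, 11, 12, 13, 16, 19, 14, 17, 20, 15, 18, 21, 25, 26, 27, 22, 23, 24, 31, 32, 33, 28, 29, 30, 37, 38, 39, 34, 35, 36],
  ![1, 0, 2, 10, 4, 7, 11, 5, 8, 9, 3, 6, 12, 20, 14, 17, 21, 15, 18, 19, 13, 16, 27, 25, 26, 23, 24, 22, 33, 31, 32, 29, 30, 28, 39, 37, 38, 35, 36, 34],
  ![1, 0, 2, 8, 11, 5, 6, 9, 3, 7, 10, 4, 12, 18, 21, 15, 16, 19, 13, 17, 20, 14, 26, 27, 25, 24, 22, 23, 32, 33, 31, 30, 28, 29, 38, 39, 37, 36, 34, 35],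
  ![2, 1, 0, 3, 11, 7, 6, 5, 10, 9, 8, 4, 12, 25, 31, 37, 26, 32, 38, 27, 33, 39, 22, 28, 34, 13, 16, 19, 23, 29, 35, 14, 17, 20, 24, 30, 36, 15, 18, 21],
  ![2, 1, 0, 8, 4, 9, 11, 7, 3, 5, 10, 6, 12, 37, 25, 31, 38, 26, 32, 39, 27, 33, 35, 23, 29, 14, 17, 20, 36, 24, 30, 15, 18, 21, 34, 22, 28, 13, 16, 19],
  ![2, 1, 0, 10, 6, 5, 4, 9, 8, 7, 3, 11, 12, 31, 37, 25, 32, 38, 26, 33, 39, 27, 30, 36, 24, 15, 18, 21, 28, 34, 22, 13, 16, 19, 29, 35, 23, 14, 17, 20],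
  ![0, 2, 1, 3, 4, 5, 11, 9, 10, 7, 8, 6, 12, 22, 23, 24, 28, 29, 30, 34, 35, 36, 13, 14, 15, 25, 31, 37, 16, 17, 18, 26, 32, 38, 19, 20, 21, 27, 33, 39],
  ![0, 2, 1, 10, 11, 9, 6, 7, 8, 5, 3, 4, 12, 34, 35, 36, 22, 23, 24, 28, 29, 30, 16, 17, 18, 38, 26, 32, 19, 20, 21, 39, 27, 33, 13, 14, 15, 37, 25, 31],
  ![0, 2, 1, 8, 6, 7, 4, 5, 3, 9, 10, 11, 12, 28, 29, 30, 34, 35, 36, 22, 23, 24, 19, 20, 21, 33, 39, 27, 13, 14, 15, 31, 37, 25, 16, 17, 18, 32, 38, 26],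
  ![12, 1, 2, 25, 39, 32, 26, 37, 33, 27, 38, 31, 0, 13, 21, 17, 16, 15, 20, 19, 18, 14, 22, 36, 29, 3, 6, 9, 28, 24, 35, 11, 5, 8, 34, 30, 23, 7, 10, 4],
  ![12, 1, 2, 32, 25, 39, 33, 26, 37, 31, 27, 38, 0, 18, 14, 19, 21, 17, 13, 15, 20, 16, 30, 23, 34, 4, 7, 10, 36, 29, 22, 9, 3, 6, 24, 35, 28, 8, 11, 5],
  ![12, 1, 2, 39, 32, 25, 37, 33, 26, 38, 31, 27, 0, 20, 16, 15, 14, 19, 18, 17, 13, 21, 35, 28, 24, 5, 8, 11, 23, 34, 30, 10, 4, 7, 29, 22, 36, 6, 9, 3],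
  ![0, 12, 2, 22, 23, 24, 36, 34, 35, 29, 30, 28, 1, 13, 14, 15, 21, 19, 20, 17, 18, 16, 3, 4, 5, 25, 39, 32, 11, 9, 10, 31, 27, 38, 7, 8, 6, 37, 33, 26],
  ![0, 12, 2, 29, 30, 28, 22, 23, 24, 36, 34, 35, 1, 20, 21, 19, 16, 17, 18, 15, 13, 14, 6, 7, 8, 33, 26, 37, 5, 3, 4, 39, 32, 25, 10, 11, 9, 27, 38, 31],
  ![0, 12, 2, 36, 34, 35, 29, 30, 28, 22, 23, 24, 1, 18, 16, 17, 14, 15, 13, 19, 20, 21, 9, 10, 11, 38, 31, 27, 8, 6, 7, 26, 37, 33, 4, 5, 3, 32, 25, 39],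
  ![0, 1, 12, 13, 14, 15, 16, 17, 18, 19, 20, 21, 2, 3, 4, 5, 6, 7, 8, 9, 10, 11, 22, 23, 24, 25, 26, 27, 36, 34, 35, 39, 37, 38, 29, 30, 28, 32, 33, 31],
  ![25, 22, 13, 12, 32, 39, 29, 21, 8, 36, 10, 17, 3, 2, 37, 31, 34, 11, 18, 28, 20, 7, 1, 27, 26, 0, 24, 23, 19, 6, 30, 15, 4, 33, 16, 35, 9, 14, 38, 5],
  ![25, 23, 14, 39, 12, 32, 6, 30, 19, 18, 34, 11, 4, 31, 2, 37, 16, 35, 9, 8, 29, 21, 26, 1, 27, 0, 22, 24, 28, 20, 7, 13, 5, 33, 10, 17, 36, 15, 38, 3],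
  ![25, 24, 15, 32, 39, 12, 20, 7, 28, 9, 16, 35, 5, 37, 31, 2, 10, 17, 36, 19, 6, 30, 27, 26, 1, 0, 23, 22, 8, 29, 21, 14, 3, 33, 34, 11, 18, 13, 38, 4],
  ![26, 22, 16, 36, 4, 20, 12, 33, 37, 29, 15, 11, 6, 28, 14, 10, 2, 38, 32, 34, 5, 21, 1, 25, 27, 23, 0, 24, 13, 9, 30, 31, 18, 7, 19, 35, 3, 8, 17, 39],
  ![26, 23, 17, 21, 34, 5, 37, 12, 33, 9, 30, 13, 7, 11, 29, 15, 32, 2, 38, 19, 35, 3, 27, 1, 25, 24, 0, 22, 28, 14, 10, 31, 16, 8, 4, 20, 36, 6, 18, 39],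
  ![26, 24, 18, 3, 19, 35, 33, 37, 12, 14, 10, 28, 8, 13, 9, 30, 38, 32, 2, 4, 20, 36, 25, 27, 1, 22, 0, 23, 11, 29, 15, 31, 17, 6, 34, 5, 21, 7, 16, 39],
  ![27, 22, 19, 29, 18, 5, 36, 7, 14, 12, 31, 38, 9, 34, 8, 15, 28, 17, 4, 2, 39, 33, 1, 26, 25, 24, 23, 0, 16, 3, 30, 10, 32, 21, 13, 35, 6, 37, 11, 20],
  ![27, 23, 20, 3, 30, 16, 15, 34, 8, 38, 12, 31, 10, 13, 35, 6, 5, 29, 18, 33, 2, 39, 25, 1, 26, 22, 24, 0, 28, 17, 4, 11, 32, 19, 7, 14, 36, 37, 9, 21],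
  ![27, 24, 21, 17, 4, 28, 6, 13, 35, 31, 38, 12, 11, 7, 14, 36, 16, 3, 30, 39, 33, 2, 26, 25, 1, 23, 22, 0, 5, 29, 18, 9, 32, 20, 34, 8, 15, 37, 10, 19],
  ![0, 1, 12, 17, 18, 16, 20, 21, 19, 14, 15, 13, 2, 11, 9, 10, 5, 3, 4, 8, 6, 7, 35, 36, 34, 38, 39, 37, 28, 29, 30, 31, 32, 33, 24, 22, 23, 27, 25, 26],
  ![31, 28, 13, 21, 4, 35, 6, 17, 24, 38, 27, 12, 11, 2, 25, 37, 22, 7, 18, 34, 20, 3, 16, 23, 8, 14, 26, 10, 1, 33, 32, 0, 30, 29, 19, 5, 36, 15, 9, 39],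
  ![31, 29, 14, 36, 19, 5, 22, 7, 18, 12, 38, 27, 9, 37, 2, 25, 16, 23, 8, 4, 35, 21, 6, 17, 24, 15, 26, 11, 32, 1, 33, 0, 28, 30, 34, 20, 3, 13, 10, 39],
  ![31, 30, 15, 3, 34, 20, 16, 23, 8, 27, 12, 38, 10, 25, 37, 2, 6, 17, 24, 19, 5, 36, 22, 7, 18, 13, 26, 9, 33, 32, 1, 0, 29, 28, 4, 35, 21, 14, 11, 39],
  ![32, 28, 16, 39, 25, 12, 15, 7, 35, 9, 20, 24, 5, 34, 14, 6, 2, 26, 38, 22, 10, 21, 19, 23, 11, 4, 17, 27, 1, 31, 33, 29, 0, 30, 13, 8, 36, 37, 18, 3],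
  ![32, 29, 17, 12, 39, 25, 36, 13, 8, 22, 10, 21, 3, 7, 35, 15, 38, 2, 26, 19, 23, 11, 9, 20, 24, 5, 18, 27, 33, 1, 31, 30, 0, 28, 34, 14, 6, 37, 16, 4],
  ![32, 30, 18, 25, 12, 39, 6, 34, 14, 19, 23, 11, 4, 13, 8, 36, 26, 38, 2, 9, 20, 24, 22, 10, 21, 3, 16, 27, 31, 33, 1, 28, 0, 29, 7, 35, 15, 37, 17, 5],
  ![33, 28, 19, 3, 14, 24, 37, 26, 12, 18, 10, 35, 8, 22, 4, 15, 34, 17, 9, 2, 27, 39, 13, 23, 5, 25, 7, 20, 1, 32, 31, 30, 29, 0, 16, 11, 36, 6, 38, 21],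
  ![33, 29, 20, 22, 4, 15, 12, 37, 26, 36, 16, 11, 6, 13, 23, 5, 10, 35, 18, 39, 2, 27, 3, 14, 24, 25, 8, 21, 31, 1, 32, 28, 30, 0, 34, 17, 9, 7, 38, 19],
  ![33, 30, 21, 13, 23, 5, 26, 12, 37, 9, 34, 17, 7, 3, 14, 24, 16, 11, 36, 27, 39, 2, 22, 4, 15, 25, 6, 19, 32, 31, 1, 29, 28, 0, 10, 35, 18, 8, 38, 20],
  ![0, 1, 12, 21, 19, 20, 15, 13, 14, 18, 16, 17, 2, 7, 8, 6, 10, 11, 9, 4, 5, 3, 30, 28, 29, 33, 31, 32, 23, 24, 22, 26, 27, 25, 34, 35, 36, 37, 38, 39],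
  ![37, 34, 13, 17, 30, 5, 33, 12, 26, 9, 23, 21, 7, 2, 31, 25, 28, 3, 18, 22, 20, 11, 19, 10, 24, 15, 8, 27, 16, 29, 4, 14, 32, 6, 1, 39, 38, 0, 36, 35],
  ![37, 35, 14, 3, 18, 28, 26, 33, 12, 19, 10, 24, 8, 25, 2, 31, 16, 29, 4, 9, 23, 21, 22, 20, 11, 13, 6, 27, 5, 17, 30, 15, 32, 7, 38, 1, 39, 0, 34, 36],
  ![37, 36, 15, 29, 4, 16, 12, 26, 33, 22, 20, 11, 6, 31, 25, 2, 5, 17, 30, 19, 10, 24, 9, 23, 21, 14, 7, 27, 28, 3, 18, 13, 32, 8, 39, 38, 1, 0, 35, 34],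
  ![38, 34, 16, 3, 23, 15, 20, 30, 8, 31, 12, 27, 10, 22, 14, 5, 2, 32, 26, 28, 6, 21, 13, 4, 24, 25, 18, 11, 19, 29, 7, 9, 17, 33, 1, 37, 39, 35, 0, 36],
  ![38, 35, 17, 13, 4, 24, 6, 21, 28, 27, 31, 12, 11, 3, 23, 15, 26, 2, 32, 19, 29, 7, 22, 14, 5, 25, 16, 9, 8, 20, 30, 10, 18, 33, 39, 1, 37, 36, 0, 34],
  ![38, 36, 18, 22, 14, 5, 29, 7, 19, 12, 27, 31, 9, 13, 4, 24, 32, 26, 2, 8, 20, 30, 3, 23, 15, 25, 17, 10, 28, 6, 21, 11, 16, 33, 37, 39, 1, 34, 0, 35],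
  ![39, 34, 19, 32, 12, 25, 6, 23, 18, 14, 30, 11, 4, 28, 9, 15, 22, 17, 8, 2, 33, 27, 16, 7, 24, 5, 26, 21, 13, 29, 10, 31, 3, 20, 1, 38, 37, 36, 35, 0],
  ![39, 35, 20, 25, 32, 12, 16, 7, 24, 9, 15, 28, 5, 13, 29, 10, 6, 23, 18, 27, 2, 33, 22, 17, 8, 3, 26, 19, 11, 14, 30, 31, 4, 21, 37, 1, 38, 34, 36, 0],
  ![39, 36, 21, 12, 25, 32, 22, 17, 8, 29, 10, 13, 3, 11, 14, 30, 16, 7, 24, 33, 27, 2, 6, 23, 18, 4, 26, 20, 28, 9, 15, 31, 5, 19, 38, 37, 1, 35, 34, 0]]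

/-- The factors on the unitary side. -/
def cuT : Fin 45 → Fin 40 → Fin 4 := ![
  ![1, 1, 1, 1, 1, 1, 1, 1, 1, 1, 1, 1, 1, 1, 1, 1, 1, 1, 1, 1, 1, 1, 1, 1, 1, 1, 1, 1, 1, 1, 1, 1, 1, 1, 1, 1, 1, 1, 1, 1],
  ![3, 2, 1, 1, 1, 1, 1, 1, 1, 1, 1, 1, 1, 1, 1, 1, 1, 1, 1, 1, 1, 1, 1, 1, 1, 1, 1, 1, 1, 1, 1, 1, 1, 1, 1, 1, 1, 1, 1, 1],
  ![2, 3, 1, 1, 1, 1, 1, 1, 1, 1, 1, 1, 1, 1, 1, 1, 1, 1, 1, 1, 1, 1, 1, 1, 1, 1, 1, 1, 1, 1, 1, 1, 1, 1, 1, 1, 1, 1, 1, 1],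
  ![1, 1, 1, 1, 2, 3, 1, 2, 3, 1, 2, 3, 1, 1, 1, 1, 1, 1, 1, 1, 1, 1, 1, 1, 1, 1, 1, 1, 1, 1, 1, 1, 1, 1, 1, 1, 1, 1, 1, 1],
  ![3, 1, 2, 3, 1, 2, 3, 1, 2, 3, 1, 2, 1, 1, 1, 1, 1, 1, 1, 1, 1, 1, 1, 1, 1, 1, 1, 1, 1, 1, 1, 1, 1, 1, 1, 1, 1, 1, 1, 1],
  ![2, 1, 3, 2, 3, 1, 2, 3, 1, 2, 3, 1, 1, 1, 1, 1, 1, 1, 1, 1, 1, 1, 1, 1, 1, 1, 1, 1, 1, 1, 1, 1, 1, 1, 1, 1, 1, 1, 1, 1],
  ![1, 1, 1, 1, 1, 1, 2, 2, 2, 3, 3, 3, 1, 1, 1, 1, 1, 1, 1, 1, 1, 1, 1, 1, 1, 1, 1, 1, 1, 1, 1, 1, 1, 1, 1, 1, 1, 1, 1, 1],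
  ![1, 3, 2, 3, 3, 3, 1, 1, 1, 2, 2, 2, 1, 1, 1, 1, 1, 1, 1, 1, 1, 1, 1, 1, 1, 1, 1, 1, 1, 1, 1, 1, 1, 1, 1, 1, 1, 1, 1, 1],
  ![1, 2, 3, 2, 2, 2, 3, 3, 3, 1, 1, 1, 1, 1, 1, 1, 1, 1, 1, 1, 1, 1, 1, 1, 1, 1, 1, 1, 1, 1, 1, 1, 1, 1, 1, 1, 1, 1, 1, 1],
  ![1, 1, 1, 1, 2, 3, 1, 2, 3, 1, 2, 3, 1, 1, 2, 3, 1, 2, 3, 1, 2, 3, 1, 2, 3, 1, 1, 1, 1, 2, 3, 2, 2, 2, 1, 2, 3, 3, 3, 3],
  ![3, 1, 1, 3, 1, 2, 3, 1, 2, 3, 1, 2, 2, 3, 1, 2, 3, 1, 2, 3, 1, 2, 3, 1, 2, 1, 1, 1, 3, 1, 2, 2, 2, 2, 3, 1, 2, 3, 3, 3],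
  ![2, 1, 1, 2, 3, 1, 2, 3, 1, 2, 3, 1, 3, 2, 3, 1, 2, 3, 1, 2, 3, 1, 2, 3, 1, 1, 1, 1, 2, 3, 1, 2, 2, 2, 2, 3, 1, 3, 3, 3],
  ![1, 1, 1, 1, 1, 1, 2, 2, 2, 3, 3, 3, 1, 1, 1, 1, 2, 2, 2, 3, 3, 3, 1, 1, 1, 1, 2, 3, 2, 2, 2, 1, 2, 3, 3, 3, 3, 1, 2, 3],
  ![1, 3, 1, 3, 3, 3, 1, 1, 1, 2, 2, 2, 2, 3, 3, 3, 1, 1, 1, 2, 2, 2, 1, 1, 1, 3, 1, 2, 2, 2, 2, 3, 1, 2, 3, 3, 3, 3, 1, 2],
  ![1, 2, 1, 2, 2, 2, 3, 3, 3, 1, 1, 1, 3, 2, 2, 2, 3, 3, 3, 1, 1, 1, 1, 1, 1, 2, 3, 1, 2, 2, 2, 2, 3, 1, 3, 3, 3, 2, 3, 1],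
  ![1, 1, 1, 1, 1, 1, 1, 1, 1, 1, 1, 1, 1, 1, 1, 1, 1, 1, 1, 1, 1, 1, 1, 1, 1, 1, 1, 1, 2, 2, 2, 2, 2, 2, 3, 3, 3, 3, 3, 3],
  ![1, 1, 1, 1, 2, 3, 2, 1, 1, 3, 1, 1, 1, 1, 3, 2, 3, 1, 1, 2, 1, 1, 1, 3, 2, 1, 3, 2, 3, 3, 1, 3, 3, 1, 2, 1, 2, 2, 1, 2],
  ![3, 1, 1, 3, 1, 2, 1, 2, 1, 1, 3, 1, 1, 2, 1, 3, 1, 3, 1, 1, 2, 1, 2, 1, 3, 2, 3, 2, 1, 3, 3, 3, 3, 1, 2, 2, 1, 2, 1, 2],
  ![2, 1, 1, 2, 3, 1, 1, 1, 2, 1, 1, 3, 1, 3, 2, 1, 1, 1, 3, 1, 1, 2, 3, 2, 1, 3, 3, 2, 3, 1, 3, 3, 3, 1, 1, 2, 2, 2, 1, 2],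
  ![1, 3, 1, 3, 1, 1, 1, 2, 3, 2, 1, 1, 1, 2, 1, 1, 1, 3, 2, 3, 1, 1, 2, 3, 2, 2, 1, 3, 3, 3, 1, 1, 3, 3, 2, 1, 2, 2, 2, 1],
  ![3, 3, 1, 1, 3, 1, 3, 1, 2, 1, 2, 1, 1, 1, 2, 1, 2, 1, 3, 1, 3, 1, 2, 2, 3, 2, 2, 3, 1, 3, 3, 1, 3, 3, 2, 2, 1, 2, 2, 1],
  ![2, 3, 1, 1, 1, 3, 2, 3, 1, 1, 1, 2, 1, 1, 1, 2, 3, 2, 1, 1, 1, 3, 3, 2, 2, 2, 3, 3, 3, 1, 3, 1, 3, 3, 1, 2, 2, 2, 2, 1],
  ![1, 2, 1, 2, 1, 1, 3, 1, 1, 1, 2, 3, 1, 3, 1, 1, 2, 1, 1, 1, 3, 2, 3, 3, 2, 3, 2, 1, 3, 3, 1, 3, 1, 3, 2, 1, 2, 1, 2, 2],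
  ![3, 2, 1, 1, 2, 1, 1, 3, 1, 3, 1, 2, 1, 1, 3, 1, 1, 2, 1, 2, 1, 3, 2, 3, 3, 3, 2, 2, 1, 3, 3, 3, 1, 3, 2, 2, 1, 1, 2, 2],
  ![2, 2, 1, 1, 1, 2, 1, 1, 3, 2, 3, 1, 1, 1, 1, 3, 1, 1, 2, 3, 2, 1, 3, 2, 3, 3, 2, 3, 3, 1, 3, 3, 1, 3, 1, 2, 2, 1, 2, 2],
  ![1, 1, 3, 3, 3, 3, 3, 3, 3, 3, 3, 3, 2, 2, 2, 2, 2, 2, 2, 2, 2, 2, 3, 3, 3, 3, 3, 3, 1, 1, 1, 1, 1, 1, 2, 2, 2, 2, 2, 2],
  ![1, 1, 3, 3, 1, 1, 1, 3, 2, 1, 2, 3, 2, 2, 3, 2, 3, 2, 1, 2, 1, 2, 2, 1, 3, 2, 1, 3, 1, 3, 2, 1, 3, 2, 3, 1, 1, 3, 1, 1],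
  ![3, 1, 3, 1, 3, 1, 2, 1, 3, 3, 1, 2, 2, 2, 2, 3, 1, 3, 2, 2, 2, 1, 3, 2, 1, 2, 1, 3, 2, 1, 3, 2, 3, 2, 1, 3, 1, 3, 1, 1],
  ![2, 1, 3, 1, 1, 3, 3, 2, 1, 2, 3, 1, 2, 3, 2, 2, 2, 1, 3, 1, 2, 2, 1, 3, 2, 2, 1, 3, 3, 2, 1, 3, 3, 2, 1, 1, 3, 3, 1, 1],
  ![1, 3, 3, 1, 2, 3, 3, 1, 1, 1, 3, 2, 2, 2, 1, 2, 2, 3, 2, 3, 2, 1, 2, 1, 3, 3, 2, 1, 2, 3, 2, 2, 1, 3, 3, 1, 1, 1, 3, 1],
  ![3, 3, 3, 3, 1, 2, 1, 3, 1, 2, 1, 3, 2, 2, 2, 1, 2, 2, 3, 1, 3, 2, 3, 2, 1, 3, 2, 1, 2, 2, 3, 2, 2, 3, 1, 3, 1, 1, 3, 1],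
  ![2, 3, 3, 2, 3, 1, 1, 1, 3, 3, 2, 1, 2, 1, 2, 2, 3, 2, 2, 2, 1, 3, 1, 3, 2, 3, 2, 1, 3, 2, 2, 2, 3, 3, 1, 1, 3, 1, 3, 1],
  ![1, 2, 3, 1, 3, 2, 1, 2, 3, 3, 1, 1, 2, 3, 2, 1, 2, 1, 2, 2, 3, 2, 2, 1, 3, 1, 3, 2, 3, 3, 2, 3, 2, 1, 3, 1, 1, 1, 1, 3],
  ![3, 2, 3, 2, 1, 3, 3, 1, 2, 1, 3, 1, 2, 1, 3, 2, 2, 2, 1, 2, 2, 3, 3, 2, 1, 1, 3, 2, 2, 3, 3, 3, 2, 2, 1, 3, 1, 1, 1, 3],
  ![2, 2, 3, 3, 2, 1, 2, 3, 1, 1, 1, 3, 2, 2, 1, 3, 1, 2, 2, 3, 2, 2, 1, 3, 2, 1, 3, 2, 3, 2, 3, 3, 2, 3, 1, 1, 3, 1, 1, 3],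
  ![1, 1, 2, 2, 2, 2, 2, 2, 2, 2, 2, 2, 3, 3, 3, 3, 3, 3, 3, 3, 3, 3, 2, 2, 2, 2, 2, 2, 3, 3, 3, 3, 3, 3, 1, 1, 1, 1, 1, 1],
  ![1, 1, 2, 2, 1, 1, 1, 2, 3, 1, 3, 2, 3, 3, 3, 2, 3, 3, 1, 2, 1, 3, 3, 2, 1, 3, 2, 1, 2, 1, 1, 2, 1, 1, 1, 3, 2, 1, 3, 2],
  ![3, 1, 2, 1, 2, 1, 3, 1, 2, 2, 1, 3, 3, 2, 3, 3, 1, 3, 3, 3, 2, 1, 1, 3, 2, 3, 2, 1, 1, 2, 1, 2, 1, 1, 2, 1, 3, 2, 3, 2],
  ![2, 1, 2, 1, 1, 2, 2, 3, 1, 3, 2, 1, 3, 3, 2, 3, 3, 1, 3, 1, 3, 2, 2, 1, 3, 3, 2, 1, 1, 1, 2, 2, 1, 1, 3, 2, 1, 3, 3, 2],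
  ![1, 3, 2, 1, 3, 2, 2, 1, 1, 1, 2, 3, 3, 2, 1, 3, 3, 3, 2, 3, 3, 1, 3, 2, 1, 1, 3, 2, 2, 1, 1, 1, 2, 1, 2, 3, 2, 2, 1, 3],
  ![3, 3, 2, 2, 1, 3, 1, 2, 1, 3, 1, 2, 3, 3, 2, 1, 2, 3, 3, 1, 3, 3, 1, 3, 2, 1, 3, 2, 1, 2, 1, 1, 2, 1, 2, 2, 3, 2, 2, 3],
  ![2, 3, 2, 3, 2, 1, 1, 1, 2, 2, 3, 1, 3, 1, 3, 2, 3, 2, 3, 3, 1, 3, 2, 1, 3, 1, 3, 2, 1, 1, 2, 1, 2, 1, 3, 2, 2, 2, 3, 3],
  ![1, 2, 2, 1, 2, 3, 1, 3, 2, 2, 1, 1, 3, 3, 3, 1, 2, 1, 3, 3, 3, 2, 3, 2, 1, 2, 1, 3, 2, 1, 1, 1, 1, 2, 3, 3, 2, 3, 2, 1],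
  ![3, 2, 2, 3, 1, 2, 2, 1, 3, 1, 2, 1, 3, 1, 3, 3, 3, 2, 1, 2, 3, 3, 1, 3, 2, 2, 1, 3, 1, 2, 1, 1, 1, 2, 2, 3, 3, 3, 2, 2],
  ![2, 2, 2, 2, 3, 1, 3, 2, 1, 1, 1, 2, 3, 3, 1, 3, 1, 3, 2, 3, 2, 3, 2, 1, 3, 2, 1, 3, 1, 1, 2, 1, 1, 2, 3, 2, 3, 3, 2, 3]]

/-- The factors on the symplectic side. -/
def dsT : Fin 45 → Fin 40 → ZMod 3 := ![
  ![1, 1, 1, 1, 1, 1, 1, 1, 1, 1, 1, 1, 2, 2, 2, 2, 2, 2, 2, 2, 2, 2, 1, 1, 1, 1, 1, 1, 1, 1, 1, 1, 1, 1, 1, 1, 1, 1, 1, 1],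
  ![1, 1, 1, 1, 1, 1, 1, 1, 1, 1, 1, 1, 2, 2, 2, 2, 2, 2, 2, 2, 2, 2, 1, 1, 1, 1, 1, 1, 1, 1, 1, 1, 1, 1, 1, 1, 1, 1, 1, 1],
  ![1, 1, 1, 1, 1, 1, 1, 1, 1, 1, 1, 1, 2, 2, 2, 2, 2, 2, 2, 2, 2, 2, 1, 1, 1, 1, 1, 1, 1, 1, 1, 1, 1, 1, 1, 1, 1, 1, 1, 1],
  ![2, 1, 2, 1, 1, 1, 1, 1, 1, 1, 1, 1, 2, 1, 1, 1, 1, 1, 1, 1, 1, 1, 2, 2, 2, 1, 1, 1, 2, 2, 2, 1, 1, 1, 2, 2, 2, 1, 1, 1],
  ![2, 1, 2, 1, 1, 1, 1, 1, 1, 1, 1, 1, 2, 1, 1, 1, 1, 1, 1, 1, 1, 1, 2, 2, 2, 1, 1, 1, 2, 2, 2, 1, 1, 1, 2, 2, 2, 1, 1, 1],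
  ![2, 1, 2, 1, 1, 1, 1, 1, 1, 1, 1, 1, 2, 1, 1, 1, 1, 1, 1, 1, 1, 1, 2, 2, 2, 1, 1, 1, 2, 2, 2, 1, 1, 1, 2, 2, 2, 1, 1, 1],
  ![2, 1, 1, 2, 2, 2, 2, 2, 2, 2, 2, 2, 1, 1, 1, 1, 1, 1, 1, 1, 1, 1, 1, 1, 1, 1, 1, 1, 1, 1, 1, 1, 1, 1, 1, 1, 1, 1, 1, 1],
  ![2, 1, 1, 2, 2, 2, 2, 2, 2, 2, 2, 2, 1, 1, 1, 1, 1, 1, 1, 1, 1, 1, 1, 1, 1, 1, 1, 1, 1, 1, 1, 1, 1, 1, 1, 1, 1, 1, 1, 1],
  ![2, 1, 1, 2, 2, 2, 2, 2, 2, 2, 2, 2, 1, 1, 1, 1, 1, 1, 1, 1, 1, 1, 1, 1, 1, 1, 1, 1, 1, 1, 1, 1, 1, 1, 1, 1, 1, 1, 1, 1],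
  ![1, 1, 2, 1, 1, 1, 1, 1, 1, 1, 1, 1, 1, 1, 1, 1, 1, 1, 1, 1, 1, 1, 2, 2, 2, 1, 1, 1, 2, 2, 2, 1, 1, 1, 2, 2, 2, 1, 1, 1],
  ![1, 1, 2, 1, 1, 1, 1, 1, 1, 1, 1, 1, 1, 1, 1, 1, 1, 1, 1, 1, 1, 1, 2, 2, 2, 1, 1, 1, 2, 2, 2, 1, 1, 1, 2, 2, 2, 1, 1, 1],
  ![1, 1, 2, 1, 1, 1, 1, 1, 1, 1, 1, 1, 1, 1, 1, 1, 1, 1, 1, 1, 1, 1, 2, 2, 2, 1, 1, 1, 2, 2, 2, 1, 1, 1, 2, 2, 2, 1, 1, 1],
  ![2, 1, 1, 2, 2, 2, 2, 2, 2, 2, 2, 2, 1, 2, 2, 2, 2, 2, 2, 2, 2, 2, 2, 2, 2, 1, 1, 1, 2, 2, 2, 1, 1, 1, 2, 2, 2, 1, 1, 1],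
  ![2, 1, 1, 2, 2, 2, 2, 2, 2, 2, 2, 2, 1, 2, 2, 2, 2, 2, 2, 2, 2, 2, 2, 2, 2, 1, 1, 1, 2, 2, 2, 1, 1, 1, 2, 2, 2, 1, 1, 1],
  ![2, 1, 1, 2, 2, 2, 2, 2, 2, 2, 2, 2, 1, 2, 2, 2, 2, 2, 2, 2, 2, 2, 2, 2, 2, 1, 1, 1, 2, 2, 2, 1, 1, 1, 2, 2, 2, 1, 1, 1],
  ![2, 1, 1, 1, 1, 1, 1, 1, 1, 1, 1, 1, 1, 1, 1, 1, 1, 1, 1, 1, 1, 1, 2, 2, 2, 1, 1, 1, 2, 2, 2, 1, 1, 1, 2, 2, 2, 1, 1, 1],
  ![1, 2, 1, 2, 1, 2, 2, 1, 2, 1, 1, 2, 2, 1, 2, 1, 2, 2, 1, 1, 2, 1, 2, 1, 2, 1, 2, 1, 1, 2, 2, 1, 1, 1, 2, 1, 1, 2, 2, 2],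
  ![1, 2, 1, 2, 2, 1, 2, 2, 1, 2, 1, 1, 2, 1, 1, 2, 1, 2, 2, 1, 1, 2, 2, 2, 1, 1, 2, 1, 2, 1, 2, 1, 1, 1, 1, 2, 1, 2, 2, 2],
  ![1, 2, 1, 1, 2, 2, 1, 2, 2, 1, 2, 1, 2, 2, 1, 1, 2, 1, 2, 2, 1, 1, 1, 2, 2, 1, 2, 1, 2, 2, 1, 1, 1, 1, 1, 1, 2, 2, 2, 2],
  ![1, 2, 1, 1, 1, 2, 2, 1, 2, 2, 1, 2, 2, 1, 2, 1, 1, 2, 1, 2, 2, 1, 2, 1, 2, 1, 1, 2, 1, 2, 2, 1, 1, 1, 2, 1, 1, 2, 2, 2],
  ![1, 2, 1, 2, 1, 1, 2, 2, 1, 2, 2, 1, 2, 1, 1, 2, 1, 1, 2, 1, 2, 2, 2, 2, 1, 1, 1, 2, 2, 1, 2, 1, 1, 1, 1, 2, 1, 2, 2, 2],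
  ![1, 2, 1, 1, 2, 1, 1, 2, 2, 1, 2, 2, 2, 2, 1, 1, 2, 1, 1, 2, 1, 2, 1, 2, 2, 1, 1, 2, 2, 2, 1, 1, 1, 1, 1, 1, 2, 2, 2, 2],
  ![2, 1, 2, 1, 2, 1, 2, 2, 1, 1, 2, 1, 1, 1, 1, 2, 2, 1, 2, 2, 1, 2, 1, 2, 1, 1, 2, 2, 2, 1, 1, 2, 2, 2, 1, 2, 2, 1, 1, 1],
  ![2, 1, 2, 1, 1, 2, 1, 2, 2, 1, 1, 2, 1, 2, 1, 1, 2, 2, 1, 2, 2, 1, 1, 1, 2, 1, 2, 2, 1, 2, 1, 2, 2, 2, 2, 1, 2, 1, 1, 1],
  ![2, 1, 2, 2, 1, 1, 2, 1, 2, 2, 1, 1, 1, 1, 2, 1, 1, 2, 2, 1, 2, 2, 2, 1, 1, 1, 2, 2, 1, 1, 2, 2, 2, 2, 2, 2, 1, 1, 1, 1],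
  ![2, 1, 1, 1, 1, 1, 1, 1, 1, 1, 1, 1, 1, 1, 1, 1, 1, 1, 1, 1, 1, 1, 2, 2, 2, 1, 1, 1, 2, 2, 2, 1, 1, 1, 2, 2, 2, 1, 1, 1],
  ![2, 1, 2, 2, 1, 1, 2, 1, 2, 2, 1, 1, 1, 2, 1, 2, 1, 1, 2, 2, 1, 2, 1, 2, 2, 1, 1, 1, 1, 2, 1, 2, 1, 2, 2, 1, 1, 2, 2, 2],
  ![2, 1, 2, 1, 2, 1, 2, 2, 1, 1, 2, 1, 1, 2, 2, 1, 2, 1, 1, 2, 2, 1, 2, 1, 2, 1, 1, 1, 1, 1, 2, 2, 1, 2, 1, 2, 1, 2, 2, 2],
  ![2, 1, 2, 1, 1, 2, 1, 2, 2, 1, 1, 2, 1, 1, 2, 2, 1, 2, 1, 1, 2, 2, 2, 2, 1, 1, 1, 1, 2, 1, 1, 2, 1, 2, 1, 1, 2, 2, 2, 2],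
  ![2, 1, 2, 2, 1, 1, 2, 1, 1, 2, 1, 2, 1, 2, 1, 2, 2, 1, 2, 1, 1, 2, 1, 2, 2, 1, 1, 1, 1, 2, 1, 2, 2, 1, 2, 1, 1, 2, 2, 2],
  ![2, 1, 2, 1, 2, 1, 1, 2, 1, 2, 2, 1, 1, 2, 2, 1, 2, 2, 1, 2, 1, 1, 2, 1, 2, 1, 1, 1, 1, 1, 2, 2, 2, 1, 1, 2, 1, 2, 2, 2],
  ![2, 1, 2, 1, 1, 2, 1, 1, 2, 1, 2, 2, 1, 1, 2, 2, 1, 2, 2, 1, 2, 1, 2, 2, 1, 1, 1, 1, 2, 1, 1, 2, 2, 1, 1, 1, 2, 2, 2, 2],
  ![2, 1, 2, 2, 1, 2, 2, 1, 1, 2, 1, 1, 1, 1, 1, 2, 2, 1, 2, 2, 1, 2, 1, 2, 2, 1, 1, 1, 1, 2, 1, 1, 2, 2, 2, 1, 1, 2, 2, 2],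
  ![2, 1, 2, 2, 2, 1, 1, 2, 1, 1, 2, 1, 1, 2, 1, 1, 2, 2, 1, 2, 2, 1, 2, 1, 2, 1, 1, 1, 1, 1, 2, 1, 2, 2, 1, 2, 1, 2, 2, 2],
  ![2, 1, 2, 1, 2, 2, 1, 1, 2, 1, 1, 2, 1, 1, 2, 1, 1, 2, 2, 1, 2, 2, 2, 2, 1, 1, 1, 1, 2, 1, 1, 1, 2, 2, 1, 1, 2, 2, 2, 2],
  ![2, 1, 1, 1, 1, 1, 1, 1, 1, 1, 1, 1, 1, 1, 1, 1, 1, 1, 1, 1, 1, 1, 2, 2, 2, 1, 1, 1, 2, 2, 2, 1, 1, 1, 2, 2, 2, 1, 1, 1],
  ![1, 2, 1, 2, 1, 1, 2, 2, 1, 2, 2, 1, 2, 1, 2, 1, 2, 2, 1, 1, 2, 1, 1, 2, 2, 1, 1, 1, 2, 1, 1, 2, 2, 2, 2, 1, 2, 1, 2, 1],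
  ![1, 2, 1, 1, 2, 1, 1, 2, 2, 1, 2, 2, 2, 1, 1, 2, 1, 2, 2, 1, 1, 2, 2, 1, 2, 1, 1, 1, 1, 2, 1, 2, 2, 2, 2, 2, 1, 1, 2, 1],
  ![1, 2, 1, 1, 1, 2, 2, 1, 2, 2, 1, 2, 2, 2, 1, 1, 2, 1, 2, 2, 1, 1, 2, 2, 1, 1, 1, 1, 1, 1, 2, 2, 2, 2, 1, 2, 2, 1, 2, 1],
  ![1, 2, 1, 2, 2, 1, 2, 1, 1, 2, 2, 1, 2, 1, 2, 1, 1, 2, 1, 2, 2, 1, 1, 2, 2, 1, 1, 1, 2, 1, 1, 2, 2, 2, 2, 1, 2, 1, 1, 2],
  ![1, 2, 1, 1, 2, 2, 1, 2, 1, 1, 2, 2, 2, 1, 1, 2, 1, 1, 2, 1, 2, 2, 2, 1, 2, 1, 1, 1, 1, 2, 1, 2, 2, 2, 2, 2, 1, 1, 1, 2],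
  ![1, 2, 1, 2, 1, 2, 1, 1, 2, 2, 1, 2, 2, 2, 1, 1, 2, 1, 1, 2, 1, 2, 2, 2, 1, 1, 1, 1, 1, 1, 2, 2, 2, 2, 1, 2, 2, 1, 1, 2],
  ![1, 2, 1, 2, 2, 1, 2, 2, 1, 2, 1, 1, 2, 2, 2, 1, 1, 2, 1, 1, 2, 1, 1, 2, 2, 1, 1, 1, 2, 1, 1, 2, 2, 2, 2, 1, 2, 2, 1, 1],
  ![1, 2, 1, 1, 2, 2, 1, 2, 2, 1, 2, 1, 2, 1, 2, 2, 1, 1, 2, 1, 1, 2, 2, 1, 2, 1, 1, 1, 1, 2, 1, 2, 2, 2, 2, 2, 1, 2, 1, 1],
  ![1, 2, 1, 2, 1, 2, 2, 1, 2, 1, 1, 2, 2, 2, 1, 2, 2, 1, 1, 2, 1, 1, 2, 2, 1, 1, 1, 1, 1, 1, 2, 2, 2, 2, 1, 2, 2, 2, 1, 1]]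

/-- Symplectic matrices with the same permutations. -/
def wT : Fin 45 → Fin 4 → Fin 4 → ZMod 3 := ![
  ![![0, 1, 0, 0], ![1, 0, 0, 0], ![0, 0, 0, 1], ![0, 0, 1, 0]], ![![0, 1, 0, 0], ![1, 0, 0, 0], ![0, 2, 0, 1], ![1, 0, 1, 0]],
  ![![0, 1, 0, 0], ![1, 0, 0, 0], ![0, 1, 0, 1], ![2, 0, 1, 0]], ![![1, 0, 0, 0], ![2, 2, 0, 0], ![0, 0, 1, 2], ![0, 0, 0, 2]],
  ![![1, 0, 0, 0], ![2, 2, 0, 0], ![0, 1, 1, 2], ![2, 0, 0, 2]], ![![1, 0, 0, 0], ![2, 2, 0, 0], ![0, 2, 1, 2], ![1, 0, 0, 2]],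
  ![![1, 1, 0, 0], ![0, 2, 0, 0], ![0, 0, 1, 0], ![0, 0, 1, 2]], ![![1, 1, 0, 0], ![0, 2, 0, 0], ![0, 1, 1, 0], ![2, 0, 1, 2]],
  ![![1, 1, 0, 0], ![0, 2, 0, 0], ![0, 2, 1, 0], ![1, 0, 1, 2]], ![![1, 0, 0, 0], ![1, 2, 0, 0], ![0, 0, 1, 1], ![0, 0, 0, 2]],
  ![![1, 0, 0, 0], ![1, 2, 0, 0], ![0, 2, 1, 1], ![1, 0, 0, 2]], ![![1, 0, 0, 0], ![1, 2, 0, 0], ![0, 1, 1, 1], ![2, 0, 0, 2]],
  ![![1, 2, 0, 0], ![0, 2, 0, 0], ![0, 0, 1, 0], ![0, 0, 2, 2]], ![![1, 2, 0, 0], ![0, 2, 0, 0], ![0, 2, 1, 0], ![1, 0, 2, 2]],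
  ![![1, 2, 0, 0], ![0, 2, 0, 0], ![0, 1, 1, 0], ![2, 0, 2, 2]], ![![1, 0, 0, 0], ![0, 2, 0, 0], ![0, 0, 1, 0], ![0, 0, 0, 2]],
  ![![0, 0, 0, 1], ![0, 0, 2, 0], ![0, 2, 0, 0], ![1, 0, 0, 0]], ![![0, 2, 0, 1], ![0, 0, 2, 0], ![0, 2, 0, 0], ![1, 0, 2, 0]],
  ![![0, 1, 0, 1], ![0, 0, 2, 0], ![0, 2, 0, 0], ![1, 0, 1, 0]], ![![0, 0, 0, 1], ![1, 0, 2, 0], ![0, 2, 0, 1], ![1, 0, 0, 0]],
  ![![0, 2, 0, 1], ![1, 0, 2, 0], ![0, 1, 0, 1], ![2, 0, 2, 0]], ![![0, 1, 0, 1], ![1, 0, 2, 0], ![0, 0, 0, 1], ![0, 0, 1, 0]],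
  ![![0, 0, 0, 2], ![1, 0, 1, 0], ![0, 1, 0, 1], ![2, 0, 0, 0]], ![![0, 1, 0, 2], ![1, 0, 1, 0], ![0, 0, 0, 1], ![0, 0, 1, 0]],
  ![![0, 2, 0, 2], ![1, 0, 1, 0], ![0, 2, 0, 1], ![1, 0, 2, 0]], ![![1, 0, 0, 0], ![0, 2, 0, 0], ![0, 1, 1, 0], ![2, 0, 0, 2]],
  ![![1, 1, 0, 2], ![2, 2, 1, 0], ![0, 1, 1, 2], ![2, 0, 1, 2]], ![![1, 2, 0, 2], ![2, 2, 1, 0], ![0, 2, 1, 2], ![1, 0, 2, 2]],
  ![![1, 0, 0, 2], ![2, 2, 1, 0], ![0, 0, 1, 2], ![0, 0, 0, 2]], ![![1, 1, 0, 2], ![1, 2, 1, 0], ![0, 2, 1, 1], ![1, 0, 1, 2]],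
  ![![1, 2, 0, 2], ![1, 2, 1, 0], ![0, 1, 1, 1], ![2, 0, 2, 2]], ![![1, 0, 0, 2], ![1, 2, 1, 0], ![0, 0, 1, 1], ![0, 0, 0, 2]],
  ![![1, 1, 0, 2], ![0, 2, 1, 0], ![0, 0, 1, 0], ![0, 0, 1, 2]], ![![1, 2, 0, 2], ![0, 2, 1, 0], ![0, 0, 1, 0], ![0, 0, 2, 2]],
  ![![1, 0, 0, 2], ![0, 2, 1, 0], ![0, 0, 1, 0], ![0, 0, 0, 2]], ![![1, 0, 0, 0], ![0, 2, 0, 0], ![0, 2, 1, 0], ![1, 0, 0, 2]],
  ![![1, 1, 0, 1], ![2, 2, 2, 0], ![0, 2, 1, 2], ![1, 0, 1, 2]], ![![1, 0, 0, 1], ![2, 2, 2, 0], ![0, 0, 1, 2], ![0, 0, 0, 2]],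
  ![![1, 2, 0, 1], ![2, 2, 2, 0], ![0, 1, 1, 2], ![2, 0, 2, 2]], ![![1, 1, 0, 1], ![0, 2, 2, 0], ![0, 0, 1, 0], ![0, 0, 1, 2]],
  ![![1, 0, 0, 1], ![0, 2, 2, 0], ![0, 0, 1, 0], ![0, 0, 0, 2]], ![![1, 2, 0, 1], ![0, 2, 2, 0], ![0, 0, 1, 0], ![0, 0, 2, 2]],
  ![![1, 1, 0, 1], ![1, 2, 2, 0], ![0, 1, 1, 1], ![2, 0, 1, 2]], ![![1, 0, 0, 1], ![1, 2, 2, 0], ![0, 0, 1, 1], ![0, 0, 0, 2]],
  ![![1, 2, 0, 1], ![1, 2, 2, 0], ![0, 2, 1, 1], ![1, 0, 2, 2]]]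

/-- Addition in the field with four elements. -/
def add4 : Fin 4 → Fin 4 → Fin 4 := ![![0, 1, 2, 3], ![1, 0, 3, 2], ![2, 3, 0, 1], ![3, 2, 1, 0]]

/-- Multiplication in the field with four elements. -/
def mul4 : Fin 4 → Fin 4 → Fin 4 := ![![0, 0, 0, 0], ![0, 1, 2, 3], ![0, 2, 3, 1], ![0, 3, 1, 2]]

/-- The hermitian form. -/
def herm4 (u v : Fin 4 → Fin 4) : Fin 4 :=
  add4 (add4 (add4 (mul4 (u 0) (mul4 (v 0) (v 0))) (mul4 (u 1) (mul4 (v 1) (v 1)))) (mul4 (u 2) (mul4 (v 2) (v 2)))) (mul4 (u 3) (mul4 (v 3) (v 3)))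

/-- The symplectic matrix over the field with three elements. -/
def j3 : Matrix (Fin 2 ⊕ Fin 2) (Fin 2 ⊕ Fin 2) (ZMod 3) :=
  Matrix.of fun a b => (![![0, 0, -1, 0], ![0, 0, 0, -1], ![1, 0, 0, 0], ![0, 1, 0, 0]] : Fin 4 → Fin 4 → ZMod 3) (Sum.elim ![0, 1] ![2, 3] a) (Sum.elim ![0, 1] ![2, 3] b)

/-- Four coordinates as symplectic coordinates. -/
def sx {α : Type*} (v : Fin 4 → α) : Fin 2 ⊕ Fin 2 → α := Sum.elim ![v 0, v 1] ![v 2, v 3]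

/-- The witness matrices in symplectic coordinates. -/
def wM (k : Fin 45) : Matrix (Fin 2 ⊕ Fin 2) (Fin 2 ⊕ Fin 2) (ZMod 3) :=
  Matrix.of fun a b => wT k (Sum.elim ![0, 1] ![2, 3] a) (Sum.elim ![0, 1] ![2, 3] b)

lemma puT_ne : ∀ i, herm4 (puT i) (puT i) ≠ 0 := by decide +kernel

lemma puT_inj : ∀ i j c, (∀ x, puT i x = mul4 c (puT j x)) → i = j := by decide +kernel

lemma puT_cover : ∀ a b c d : Fin 4, herm4 ![a, b, c, d] ![a, b, c, d] ≠ 0 → ∃ i, ∃ r, ∀ x, ![a, b, c, d] x = mul4 r (puT i x) := by decide +kernel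

lemma isT_cover : ∀ a b c d : Fin 4, herm4 ![a, b, c, d] ![a, b, c, d] = 0 → (a = 0 ∧ b = 0 ∧ c = 0 ∧ d = 0) ∨ ∃ k, ∃ r, r ≠ 0 ∧ ∀ x, ![a, b, c, d] x = mul4 r (isT k x) := by decide +kernel

lemma isT_iso : ∀ k, herm4 (isT k) (isT k) = 0 := by decide +kernel

lemma tv_eq : ∀ k i x, add4 (puT i x) (mul4 (herm4 (puT i) (isT k)) (isT k x)) = mul4 (cuT k i) (puT (permT k i) x) := by decide +kernel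

lemma psT_ne : ∀ i, ∃ x, psT i x ≠ 0 := by decide +kernel

lemma psT_inj : ∀ i j c, (∀ x, psT i x = c * psT j x) → i = j := by decide +kernel

lemma psT_cover : ∀ a b c d : ZMod 3, (a = 0 ∧ b = 0 ∧ c = 0 ∧ d = 0) ∨ ∃ i, ∃ r, ∀ x, ![a, b, c, d] x = r * psT i x := by decide +kernel

lemma w_eq : ∀ k i a, (wM k *ᵥ sx (psT i)) a = dsT k i * sx (psT (permT k i)) a := by decide +kernel

lemma w_symp' : ∀ k (x : (Fin 2 ⊕ Fin 2) × (Fin 2 ⊕ Fin 2)), ((wM k)ᵀ * j3 * wM k) x.1 x.2 = j3 x.1 x.2 := by decide +kernel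

lemma w_symp (k : Fin 45) : (wM k)ᵀ * Matrix.J (Fin 2) (ZMod 3) * wM k = Matrix.J (Fin 2) (ZMod 3) := by
  have h : Matrix.J (Fin 2) (ZMod 3) = j3 := by
    ext a b; rcases a with a | a <;> rcases b with b | b <;> fin_cases a <;> fin_cases b <;> simp [Matrix.J, j3]
  rw [h]; exact Matrix.ext fun a b => w_symp' k (a, b)

/-- A permutation representation on a set of projective points. -/
theorem exists_perm_hom {G ι R : Type*} [Group G] [Fintype ι] [DecidableEq ι] [Field R] (toM : G →* Matrix ι ι R) {N : ℕ}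
    (P : Fin N → ι → R) (hne : ∀ i, P i ≠ 0) (hinj : ∀ i j (c : R), P i = c • P j → i = j)
    (hex : ∀ g i, ∃ j, ∃ c : R, toM g *ᵥ P i = c • P j) :
    ∃ ρ : G →* Equiv.Perm (Fin N), ∀ g i j (c : R), toM g *ᵥ P i = c • P j → ρ g i = j := by
  classical
  choose f c hf using hex
  have inv' : ∀ g v, toM g⁻¹ *ᵥ (toM g *ᵥ v) = v := fun g v => by
    rw [Matrix.mulVec_mulVec, ← map_mul, inv_mul_cancel, map_one, Matrix.one_mulVec]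
  have huniq : ∀ g i j (d : R), toM g *ᵥ P i = d • P j → f g i = j := fun g i j d h => by
    have h' : c g i • P (f g i) = d • P j := (hf g i).symm.trans h
    have hc : c g i ≠ 0 := fun h0 => by
      have := inv' g (P i)
      rw [hf g i, h0, zero_smul, Matrix.mulVec_zero] at this
      exact hne i this.symm
    exact hinj _ _ ((c g i)⁻¹ * d) (by rw [mul_smul, ← h', smul_smul, inv_mul_cancel₀ hc, one_smul])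
  have hmul : ∀ g h i, f (g * h) i = f g (f h i) := fun g h i =>
    huniq _ _ _ (c h i * c g (f h i)) (by rw [map_mul, ← Matrix.mulVec_mulVec, hf h i, Matrix.mulVec_smul, hf g, smul_smul])
  have hone : ∀ i, f 1 i = i := fun i => huniq 1 i i 1 (by rw [map_one, Matrix.one_mulVec, one_smul])
  let ρ : G →* Equiv.Perm (Fin N) :=
    { toFun := fun g => ⟨f g, f g⁻¹, fun i => by rw [← hmul, inv_mul_cancel, hone], fun i => by rw [← hmul, mul_inv_cancel, hone]⟩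
      map_one' := Equiv.ext hone
      map_mul' := fun g h => Equiv.ext (hmul g h) }
  exact ⟨ρ, huniq⟩

set_option maxHeartbeats 2000000 in
/-- PSU_4(2) ≅ PSp_4(3): with |F| = 4 and |K| = 3, the projective special unitary group of the standard Hermitian form on F^4 is isomorphic to PSp_4(K). -/
theorem result {F K : Type*} [Field F] [Fintype F] [Field K] [Fintype K] (hF : Fintype.card F = 4) (hK : Fintype.card K = 3) : Nonempty (Cfsg.PSU 4 F 2 ≃* Cfsg.PSp 2 K) := by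
  classical
  obtain ⟨σ, hne, hσ, hinv⟩ := Cfsg.Lib.Classical.exists_frobSq (F := F) (q := 2) (by rw [hF]; rfl)
  have hf := Cfsg.Lib.Classical.hermForm_isUnitaryForm hne hσ hinv 4
  haveI : Fact (Nat.Prime 3) := ⟨Nat.prime_three⟩
  haveI : CharP K 3 := charP_of_card_eq_prime hK
  haveI : CharP F 2 := charP_of_card_eq_prime_pow (f := 2) (by rw [hF]; rfl)
  obtain ⟨w, hw0, hw1⟩ : ∃ w : F, w ≠ 0 ∧ w ≠ 1 := by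
    by_contra! h
    have : (Finset.univ : Finset F) ⊆ {0, 1} := fun x _ => by
      by_cases hx : x = 0
      · simp [hx]
      · simp [h x hx]
    have := (Finset.card_le_card this).trans Finset.card_le_two
    rw [Finset.card_univ, hF] at this
    omega
  have h2 : (2 : F) = 0 := CharTwo.two_eq_zero
  have hw : w * w = w + 1 := by
    have h := FiniteField.pow_card_sub_one_eq_one w hw0
    rw [hF] at h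
    have h' : (w - 1) * (w * w + w + 1) = 0 := by linear_combination h
    linear_combination (mul_eq_zero.1 h').resolve_left (sub_ne_zero.2 hw1) - (w + 1) * h2
  let ι : Fin 4 → F := ![0, 1, w, w + 1]
  have ι0 : ι 0 = 0 := rfl
  have ιadd : ∀ a b, ι (add4 a b) = ι a + ι b := fun a b => by
    fin_cases a <;> fin_cases b <;> simp [ι, add4] <;>
      first | ring1 | linear_combination -h2 | linear_combination -w * h2 | linear_combination (-(w + 1)) * h2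
  have ιmul : ∀ a b, ι (mul4 a b) = ι a * ι b := fun a b => by
    fin_cases a <;> fin_cases b <;> simp [ι, mul4] <;>
      first | ring1 | linear_combination -hw | linear_combination -hw - w * h2 | linear_combination -hw - (w + 1) * h2
  have ιinj : Function.Injective ι := by
    have hw2 : w + 1 ≠ 0 := fun h => hw1 (by linear_combination h - h2)
    intro a b h
    fin_cases a <;> fin_cases b <;> first | rfl | (exfalso; simp [ι] at h <;> first | exact hw0 h | exact hw0 h.symm | exact hw1 h | exact hw1 h.symm | exact hw2 h | exact hw2 h.symm)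
  have ιsurj : Function.Surjective ι := ((Fintype.bijective_iff_injective_and_card ι).2 ⟨ιinj, by simp [hF]⟩).2
  have ιherm : ∀ u v, Cfsg.hermForm 4 F 2 (ι ∘ u) (ι ∘ v) = ι (herm4 u v) := fun u v => by
    simp only [Cfsg.hermForm, Fin.sum_univ_four, herm4, ιadd, ιmul, Function.comp_apply, pow_two]
  have lift : ∀ x : Fin 4 → F, ∃ a b c d, x = ι ∘ ![a, b, c, d] := fun x => by
    obtain ⟨a, ha⟩ := ιsurj (x 0); obtain ⟨b, hb⟩ := ιsurj (x 1); obtain ⟨c, hc⟩ := ιsurj (x 2); obtain ⟨d, hd⟩ := ιsurj (x 3)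
    exact ⟨a, b, c, d, funext fun i => by fin_cases i <;> simp [ha, hb, hc, hd]⟩
  let PU : Fin 40 → Fin 4 → F := fun i => ι ∘ puT i
  have hPUh : ∀ i, Cfsg.hermForm 4 F 2 (PU i) (PU i) ≠ 0 := fun i => by
    rw [ιherm, ← ι0]; exact fun h => puT_ne i (ιinj h)
  have hPUne : ∀ i, PU i ≠ 0 := fun i h => hPUh i (by rw [h]; simp [Cfsg.hermForm])
  obtain ⟨ρU, hρU⟩ := exists_perm_hom ((Cfsg.slToMat 4 F).comp (Cfsg.SU 4 F 2).subtype) PU hPUne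
    (fun i j c h => by
      obtain ⟨r, rfl⟩ := ιsurj c
      exact puT_inj i j r fun x => ιinj (by rw [ιmul]; exact congrFun h x))
    (fun g i => by
      obtain ⟨a, b, c, d, hx⟩ := lift ((Cfsg.slToMat 4 F).comp (Cfsg.SU 4 F 2).subtype g *ᵥ PU i)
      have hn : herm4 ![a, b, c, d] ![a, b, c, d] ≠ 0 := fun h => hPUh i (by
        rw [← g.2 (PU i) (PU i)]
        show Cfsg.hermForm 4 F 2 ((Cfsg.slToMat 4 F).comp (Cfsg.SU 4 F 2).subtype g *ᵥ PU i) ((Cfsg.slToMat 4 F).comp (Cfsg.SU 4 F 2).subtype g *ᵥ PU i) = 0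
        rw [hx, ιherm, h, ι0])
      obtain ⟨j, r, hj⟩ := puT_cover a b c d hn
      exact ⟨j, ι r, by rw [hx]; funext x; show ι _ = ι r * ι _; rw [hj x, ιmul]⟩)
  let h3 : ZMod 3 →+* K := ZMod.castHom (dvd_refl 3) K
  have h3inj : Function.Injective h3 := h3.injective
  have h3surj : Function.Surjective h3 := ((Fintype.bijective_iff_injective_and_card h3).2 ⟨h3inj, by simp [hK]⟩).2
  let PS : Fin 40 → Fin 2 ⊕ Fin 2 → K := fun i => h3 ∘ sx (psT i)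
  have sxinj : ∀ u v : Fin 4 → ZMod 3, (∀ a, sx u a = sx v a) → ∀ x, u x = v x := fun u v h x => by
    fin_cases x
    · exact h (.inl 0)
    · exact h (.inl 1)
    · exact h (.inr 0)
    · exact h (.inr 1)
  have hPSne : ∀ i, PS i ≠ 0 := fun i h => by
    obtain ⟨x, hx⟩ := psT_ne i
    exact hx (sxinj (psT i) 0 (fun a => h3inj (by
      have := congrFun h a
      rw [show sx (0 : Fin 4 → ZMod 3) a = 0 by rcases a with a | a <;> fin_cases a <;> rfl, map_zero]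
      exact this)) x)
  obtain ⟨ρS, hρS⟩ := exists_perm_hom (Cfsg.spToMat 2 K) PS hPSne
    (fun i j c h => by
      obtain ⟨r, rfl⟩ := h3surj c
      exact psT_inj i j r (sxinj (psT i) (fun x => r * psT j x) fun a => h3inj (by
        rw [show sx (fun x => r * psT j x) a = r * sx (psT j) a by rcases a with a | a <;> fin_cases a <;> rfl, map_mul]
        exact congrFun h a)))
    (fun g i => by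
      set x := Cfsg.spToMat 2 K g *ᵥ PS i with hx
      obtain ⟨a, ha⟩ := h3surj (x (.inl 0)); obtain ⟨b, hb⟩ := h3surj (x (.inl 1))
      obtain ⟨c, hc⟩ := h3surj (x (.inr 0)); obtain ⟨d, hd⟩ := h3surj (x (.inr 1))
      have hxe : x = h3 ∘ sx ![a, b, c, d] := funext fun z => by rcases z with z | z <;> fin_cases z <;> simp [sx, ha, hb, hc, hd]
      rcases psT_cover a b c d with ⟨rfl, rfl, rfl, rfl⟩ | ⟨j, r, hj⟩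
      · exfalso
        have h0 : x = 0 := by rw [hxe]; funext z; rcases z with z | z <;> fin_cases z <;> simp [sx]
        have := congrArg (fun v => Cfsg.spToMat 2 K g⁻¹ *ᵥ v) (hx.symm.trans h0)
        simp only [Matrix.mulVec_mulVec, ← map_mul, inv_mul_cancel, map_one, Matrix.one_mulVec, Matrix.mulVec_zero] at this
        exact hPSne i this
      · refine ⟨j, h3 r, ?_⟩
        rw [hxe]; funext z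
        show h3 (sx ![a, b, c, d] z) = h3 r * h3 (sx (psT j) z)
        rw [← map_mul]; congr 1
        rcases z with z | z <;> fin_cases z <;> simp [sx, ← hj])
  have hkS : ρS.ker ≤ Subgroup.center (Matrix.symplecticGroup (Fin 2) K) := by
    intro g hg
    have hax : ∀ i, ∃ c : K, Cfsg.spToMat 2 K g *ᵥ PS i = c • PS i := fun i => by
      set x := Cfsg.spToMat 2 K g *ᵥ PS i with hx
      obtain ⟨a, ha⟩ := h3surj (x (.inl 0)); obtain ⟨b, hb⟩ := h3surj (x (.inl 1))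
      obtain ⟨c, hc⟩ := h3surj (x (.inr 0)); obtain ⟨d, hd⟩ := h3surj (x (.inr 1))
      have hxe : x = h3 ∘ sx ![a, b, c, d] := funext fun z => by rcases z with z | z <;> fin_cases z <;> simp [sx, ha, hb, hc, hd]
      rcases psT_cover a b c d with ⟨rfl, rfl, rfl, rfl⟩ | ⟨j, r, hj⟩
      · exact ⟨0, by rw [hxe, zero_smul]; funext z; rcases z with z | z <;> fin_cases z <;> simp [sx]⟩
      · have he : x = h3 r • PS j := by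
          rw [hxe]; funext z
          show h3 (sx ![a, b, c, d] z) = h3 r * h3 (sx (psT j) z)
          rw [← map_mul]; congr 1
          rcases z with z | z <;> fin_cases z <;> simp [sx, ← hj]
        have := hρS g i j _ he
        rw [MonoidHom.mem_ker.1 hg] at this
        exact ⟨h3 r, by rw [he, ← this]; rfl⟩
    choose c hc using hax
    set G := Cfsg.spToMat 2 K g
    let se : Fin 4 → Fin 40 := ![25, 22, 1, 0]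
    have hone : PS 7 = fun _ => 1 := funext fun z => by rcases z with z | z <;> fin_cases z <;> simp [PS, sx, psT]
    have hcol' : ∀ a b, G a b = if a = b then c (se (Sum.elim ![0, 1] ![2, 3] b)) else 0 := fun a b => by
      have hsingle : PS (se (Sum.elim ![0, 1] ![2, 3] b)) = Pi.single b 1 := funext fun z => by
        rcases b with b | b <;> fin_cases b <;> rcases z with z | z <;> fin_cases z <;> simp [PS, se, sx, psT]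
      have h := congrFun (hc (se (Sum.elim ![0, 1] ![2, 3] b))) a
      rw [hsingle, Matrix.mulVec_single_one] at h
      simpa [Pi.single_apply] using h
    have hdiag : ∀ a, G a a = c 7 := fun a => by
      have h := congrFun (hc 7) a
      rw [hone, Matrix.mulVec, dotProduct, Finset.sum_eq_single a (fun b _ hb => by rw [hcol', if_neg (Ne.symm hb), zero_mul]) (by simp)] at h
      simpa using h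
    have hG : (g : Matrix (Fin 2 ⊕ Fin 2) (Fin 2 ⊕ Fin 2) K) = c 7 • 1 := Matrix.ext fun a b => by
      show G a b = _
      by_cases hab : a = b
      · subst hab; rw [hdiag]; simp
      · rw [hcol', if_neg hab]; simp [hab]
    exact Subgroup.mem_center_iff.2 fun h => Subtype.ext (by
      show (h : Matrix (Fin 2 ⊕ Fin 2) (Fin 2 ⊕ Fin 2) K) * g = (g : Matrix (Fin 2 ⊕ Fin 2) (Fin 2 ⊕ Fin 2) K) * h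
      rw [hG]; simp)
  have hneg : ∃ g : Matrix.symplecticGroup (Fin 2) K, g ∈ ρS.ker ∧ g ≠ 1 := by
    refine ⟨⟨-1, by rw [SymplecticGroup.mem_iff]; simp⟩, MonoidHom.mem_ker.2 (Equiv.ext fun i => hρS _ i i (-1) (by
      show (-1 : Matrix (Fin 2 ⊕ Fin 2) (Fin 2 ⊕ Fin 2) K) *ᵥ PS i = _
      rw [Matrix.neg_mulVec, Matrix.one_mulVec]; simp)), fun h => ?_⟩
    have h' := congrFun (congrFun (congrArg Subtype.val h) (.inl 0)) (.inl 0)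
    simp at h'
    have h2 : ((2 : ℕ) : K) = 0 := by push_cast; linear_combination -h'
    have := (CharP.cast_eq_zero_iff K 3 2).1 h2
    norm_num at this
  have hkS' : ρS.ker = Subgroup.center (Matrix.symplecticGroup (Fin 2) K) := by
    refine Subgroup.eq_of_le_of_card_ge hkS ?_
    rw [Cfsg.Agent.S0246.result hK 2 (by norm_num)]
    obtain ⟨g, hg, hg1⟩ := hneg
    haveI : Nontrivial ρS.ker := ⟨⟨⟨g, hg⟩, 1, fun h => hg1 (congrArg Subtype.val h)⟩⟩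
    exact le_trans (Nat.le_of_dvd two_pos (Nat.gcd_dvd_left 2 _)) (Finite.one_lt_card (α := ρS.ker))
  have hkU : ρU.ker = ⊥ := by
    have hcz : Subgroup.center (Cfsg.SU 4 F 2) = ⊥ := Subgroup.eq_bot_of_card_eq _ (by
      rw [Cfsg.Lib.Classical.UnitaryCentre.card_center (q := 2) (by rw [hF]; rfl) (by norm_num)]; rfl)
    refine eq_bot_iff.2 (le_trans ?_ hcz.le)
    intro g hg
    set G := (g.1 : Matrix (Fin 4) (Fin 4) F) with hG'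
    have hax : ∀ i, ∃ c : F, G *ᵥ PU i = c • PU i := fun i => by
      obtain ⟨a, b, c, d, hx⟩ := lift (G *ᵥ PU i)
      have hn : herm4 ![a, b, c, d] ![a, b, c, d] ≠ 0 := fun h => hPUh i (by
        rw [← g.2 (PU i) (PU i)]
        show Cfsg.hermForm 4 F 2 (G *ᵥ PU i) (G *ᵥ PU i) = 0
        rw [hx, ιherm, h, ι0])
      obtain ⟨j, r, hj⟩ := puT_cover a b c d hn
      have he : G *ᵥ PU i = ι r • PU j := by rw [hx]; funext x; show ι _ = ι r * ι _; rw [hj x, ιmul]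
      have := hρU g i j _ he
      rw [MonoidHom.mem_ker.1 hg] at this
      exact ⟨ι r, by rw [he, ← this]; rfl⟩
    choose c hc using hax
    let ue : Fin 4 → Fin 40 := ![12, 2, 1, 0]
    have hcol : ∀ a b, G a b = if a = b then c (ue b) else 0 := fun a b => by
      have hsingle : PU (ue b) = Pi.single b 1 := funext fun z => by fin_cases b <;> fin_cases z <;> simp [PU, ue, ι, puT]
      have h := congrFun (hc (ue b)) a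
      rw [hsingle, Matrix.mulVec_single_one] at h
      simpa [Pi.single_apply] using h
    have hp := hc 25
    have hq := hc 3
    have d0 := congrFun hp 0; have d1 := congrFun hp 1; have d2 := congrFun hp 2
    have e1 := congrFun hq 1; have e3 := congrFun hq 3
    simp [PU, ι, puT, Matrix.mulVec, dotProduct, Fin.sum_univ_four, hcol] at d0 d1 d2 e1 e3
    have hGs : G = G 1 1 • (1 : Matrix (Fin 4) (Fin 4) F) := Matrix.ext fun a b => by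
      rw [Matrix.smul_apply, hcol a b, hcol 1 1, if_pos rfl, Matrix.one_apply]
      by_cases hab : a = b
      · subst hab
        rw [if_pos rfl, if_pos rfl, smul_eq_mul, mul_one]
        fin_cases a <;> simp_all
      · rw [if_neg hab, if_neg hab, smul_zero]
    refine Subgroup.mem_center_iff.2 fun h => Subtype.ext (Subtype.ext ?_)
    show (h.1 : Matrix (Fin 4) (Fin 4) F) * G = G * (h.1 : Matrix (Fin 4) (Fin 4) F)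
    rw [hGs]; simp
  have hle : ρU.range ≤ ρS.range := by
    have htop : ρS.range.comap ρU = ⊤ := by
      refine Cfsg.Lib.Classical.SUSimple.eq_top_of_T_mem hf (by norm_num) _ fun v hv0 hv c hc => ?_
      rw [Subgroup.mem_comap]
      rcases eq_or_ne c 0 with rfl | hc0
      · rw [show Cfsg.Lib.Classical.SUSimple.T hf v hv 0 hc = 1 from Cfsg.Lib.Classical.SUSimple.ext_ap hf fun x => by
          rw [Cfsg.Lib.Classical.SUSimple.ap_T, Cfsg.Lib.Classical.SUSimple.ap_one]; simp, map_one]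
        exact one_mem _
      · obtain ⟨a, b, e, d, rfl⟩ := lift v
        rcases isT_cover a b e d (ιinj (by rw [← ιherm, hv, ι0])) with ⟨rfl, rfl, rfl, rfl⟩ | ⟨k, r, hr0, hk⟩
        · exact absurd (funext fun x => by fin_cases x <;> simp [ι]) hv0
        · have hr' : ι r ≠ 0 := fun h => hr0 (ιinj (h.trans ι0.symm))
          have hc1 : c = 1 := by
            obtain ⟨z, rfl⟩ := ιsurj c
            rw [hσ] at hc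
            fin_cases z
            · exact absurd rfl hc0
            · simp [ι]
            · exfalso; simp [ι] at hc; exact one_ne_zero (α := F) (by linear_combination hc - hw - w * h2)
            · exfalso; simp [ι] at hc; exact one_ne_zero (α := F) (by linear_combination hc - hw - (1 + 2 * w) * h2 + (0:F) * h2)
          have hvk : Cfsg.hermForm 4 F 2 (ι ∘ isT k) (ι ∘ isT k) = 0 := by rw [ιherm, isT_iso, ι0]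
          have hT : Cfsg.Lib.Classical.SUSimple.T hf (ι ∘ ![a, b, e, d]) hv c hc =
              Cfsg.Lib.Classical.SUSimple.T hf (ι ∘ isT k) hvk c hc := by
            refine Cfsg.Lib.Classical.SUSimple.T_congr hf (a := ι r) hv hvk hc hc (funext fun x => ?_) ?_
            · show ι _ = ι r * ι _; rw [hk x, ιmul]
            · rw [hσ, ← pow_succ', show (ι r) ^ (2 + 1) = 1 by
                have := FiniteField.pow_card_sub_one_eq_one (ι r) hr'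
                rwa [hF] at this, mul_one]
          rw [hT]
          let W : Matrix.symplecticGroup (Fin 2) K := ⟨(wM k).map h3, by
            rw [SymplecticGroup.mem_iff']
            have hJ : (Matrix.J (Fin 2) (ZMod 3)).map h3 = Matrix.J (Fin 2) K := by
              simp [Matrix.J, Matrix.fromBlocks_map, Matrix.map_neg]
            rw [← hJ, ← Matrix.transpose_map]
            have := congrArg h3.mapMatrix (w_symp k)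
            simpa only [map_mul, RingHom.mapMatrix_apply] using this⟩
          refine ⟨W, Equiv.ext fun i => ?_⟩
          rw [hρS W i (permT k i) (h3 (dsT k i)) (funext fun z => by
              show ((wM k).map h3 *ᵥ (h3 ∘ sx (psT i))) z = h3 _ * h3 _
              rw [← RingHom.map_mulVec, w_eq, map_mul]),
            hρU _ i (permT k i) (ι (cuT k i)) ?_]
          show Cfsg.Lib.Classical.SUSimple.ap _ (PU i) = _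
          rw [Cfsg.Lib.Classical.SUSimple.ap_T]
          funext x
          show ι (puT i x) + (c * Cfsg.hermForm 4 F 2 (ι ∘ puT i) (ι ∘ isT k)) * ι (isT k x) = ι _ * ι _
          rw [hc1, one_mul, ιherm, ← ιmul, ← ιadd, tv_eq, ιmul]
    intro x hx
    obtain ⟨g, rfl⟩ := hx
    have : g ∈ ρS.range.comap ρU := htop ▸ Subgroup.mem_top g
    exact this
  have hcU : Nat.card ρU.range = 25920 := by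
    rw [← Nat.card_congr (MonoidHom.ofInjective (ρU.ker_eq_bot_iff.1 hkU)).toEquiv]
    have h := Cfsg.Lib.Classical.UnitaryCentre.card_SU (n := 4) (q := 2) (F := F) (by rw [hF]; rfl) (by norm_num)
    rw [Cfsg.Lib.Classical.UnitaryOrders.card_GU (by rw [hF]; rfl)] at h
    simp [Finset.prod_range_succ, Nat.even_iff] at h ⊢
    omega
  have hcS : Nat.card ρS.range = 25920 := by
    have h := ρS.ker.card_mul_index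
    rw [Subgroup.index_ker, hkS', Cfsg.Agent.S0246.result hK 2 (by norm_num), Cfsg.Lib.Classical.ClassicalOrders.card_sp hK] at h
    simp [Finset.prod_range_succ] at h ⊢
    omega
  have heq : ρU.range = ρS.range := Subgroup.eq_of_le_of_card_ge hle (by rw [hcU, hcS])
  have hcz : Subgroup.center (Cfsg.SU 4 F 2) = ρU.ker := by
    rw [hkU]; exact Subgroup.eq_bot_of_card_eq _ (by
      rw [Cfsg.Lib.Classical.UnitaryCentre.card_center (q := 2) (by rw [hF]; rfl) (by norm_num)]; rfl)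
  exact ⟨(QuotientGroup.quotientMulEquivOfEq hcz).trans ((QuotientGroup.quotientKerEquivRange ρU).trans
    ((MulEquiv.subgroupCongr heq).trans ((QuotientGroup.quotientKerEquivRange ρS).symm.trans (QuotientGroup.quotientMulEquivOfEq hkS'))))⟩

end Cfsg.Agent.S0822
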