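import Cfsg.Statements.S0985
import Mathlib

set_option autoImplicit false
open Cfsg

namespace Cfsg.Agent.S0985

/-- If the number of Sylow p-subgroups of a finite group is not congruent to 1 modulo p^k, then there are two distinct Sylow p-subgroups P and R such that the index of P ∩ R in P is at most p^(k-1). -/
theorem result {G : Type*} [Group G] [Finite G] (p k : ℕ) [Fact p.Prime] (h : ¬ Nat.card (Sylow p G) ≡ 1 [MOD p ^ k]) : ∃ P R : Sylow p G, P ≠ R ∧ ((R : Subgroup G).subgroupOf (P : Subgroup G)).index ≤ p ^ (k - 1) := by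
  classical
  have hp : p.Prime := Fact.out
  obtain ⟨P⟩ : Nonempty (Sylow p G) := inferInstance
  by_contra hne
  push Not at hne
  apply h
  -- the orbit of R under P
  have horb : ∀ R : Sylow p G, Nat.card (MulAction.orbit (P : Subgroup G) R) =
      ((R : Subgroup G).subgroupOf (P : Subgroup G)).index := by
    intro R
    have e : MulAction.stabilizer (P : Subgroup G) R = (R : Subgroup G).subgroupOf (P : Subgroup G) := by
      ext x
      rw [Subgroup.mem_subgroupOf, MulAction.mem_stabilizer_iff]
      change (x : G) • R = R ↔ _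
      rw [Sylow.smul_eq_iff_mem_normalizer]
      constructor
      · intro hx
        have hY : IsPGroup p (Subgroup.zpowers (x : G)) :=
          P.isPGroup'.to_le (Subgroup.zpowers_le.mpr x.2)
        have : (x : G) ∈ Subgroup.zpowers (x : G) ⊓ Subgroup.normalizer (R : Set G) :=
          ⟨Subgroup.mem_zpowers _, hx⟩
        rw [hY.inf_normalizer_sylow R] at this
        exact this.2
      · exact fun hx => Subgroup.le_normalizer hx
    rw [← e, Nat.card_congr (MulAction.orbitEquivQuotientStabilizer (P : Subgroup G) R)]
    rfl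
  have hmod : ∀ R : Sylow p G, R ∉ MulAction.orbit (P : Subgroup G) P →
      p ^ k ∣ Nat.card (MulAction.orbit (P : Subgroup G) R) := by
    intro R hR
    have hPR : P ≠ R := fun e => hR (e ▸ MulAction.mem_orbit_self P)
    have hlt := hne P R hPR
    rw [← horb] at hlt
    obtain ⟨j, hj⟩ : ∃ j, Nat.card (MulAction.orbit (P : Subgroup G) R) = p ^ j := by
      rw [horb]
      exact P.isPGroup'.index _
    rw [hj] at hlt ⊢
    have := (Nat.pow_lt_pow_iff_right hp.one_lt).mp hlt
    exact pow_dvd_pow p (by omega)
  haveI : Fintype (MulAction.orbitRel.Quotient (P : Subgroup G) (Sylow p G)) := Fintype.ofFinite _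
  rw [Nat.card_congr (MulAction.selfEquivSigmaOrbits' (P : Subgroup G) (Sylow p G)), Nat.card_sigma,
    ← Finset.add_sum_erase _ _ (Finset.mem_univ (Quotient.mk'' P : MulAction.orbitRel.Quotient (P : Subgroup G) (Sylow p G)))]
  have h1 : Nat.card (MulAction.orbitRel.Quotient.orbit (Quotient.mk'' P : MulAction.orbitRel.Quotient (P : Subgroup G) (Sylow p G))) = 1 := by
    rw [MulAction.orbitRel.Quotient.orbit_mk, horb, show (P : Subgroup G).subgroupOf (P : Subgroup G) = ⊤ from
      Subgroup.subgroupOf_self _, Subgroup.index_top]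
  rw [h1]
  refine Nat.ModEq.symm ((Nat.modEq_iff_dvd' (Nat.le_add_right 1 _)).mpr ?_)
  rw [Nat.add_sub_cancel_left]
  refine Finset.dvd_sum fun ω hω => ?_
  induction ω using Quotient.inductionOn' with | h R => ?_
  rw [MulAction.orbitRel.Quotient.orbit_mk]
  refine hmod R fun hR => (Finset.mem_erase.mp hω).1 ?_
  exact Quotient.sound' hR

end Cfsg.Agent.S0985
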