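import Cfsg.Statements.S0989
import Mathlib
import Cfsg.Agent.Lib.PermGroup.TwinDegree

set_option autoImplicit false
open Cfsg

namespace Cfsg.Agent.S0989

/-- In the symmetric group on p or p + 1 letters, p a prime, the normalizer of a Sylow p-subgroup has order p * (p - 1). -/
theorem result {α : Type*} [Fintype α] [DecidableEq α] (p : ℕ) [Fact p.Prime] (hα : Fintype.card α = p ∨ Fintype.card α = p + 1) (P : Sylow p (Equiv.Perm α)) : Nat.card ↥(Subgroup.normalizer ((P : Subgroup (Equiv.Perm α)) : Set (Equiv.Perm α))) = p * (p - 1) := by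
  classical
  have hp : p.Prime := Fact.out
  set n := Fintype.card α with hn
  have hnp : n - p ≤ 1 ∧ p ≤ n := by omega
  have hcardG : Nat.card (Equiv.Perm α) = n.factorial := by
    rw [Nat.card_eq_fintype_card, Fintype.card_perm]
  have hp2 : ¬ p ^ 2 ∣ Nat.card (Equiv.Perm α) := by
    rw [hcardG]
    have h1 : n.factorial = (n - p).factorial * p * ((p-1).factorial) * n.choose p := by
      rw [← Nat.choose_mul_factorial_mul_factorial hnp.2, ← Nat.mul_factorial_pred hp.ne_zero]; ring
    have hf1 : (n - p).factorial = 1 := Nat.factorial_eq_one.mpr hnp.1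
    rw [h1, hf1, one_mul, sq, mul_assoc]
    intro hd
    have h2 := Nat.dvd_of_mul_dvd_mul_left hp.pos hd
    rcases hp.dvd_mul.mp h2 with h3 | h3
    · have := (Nat.Prime.dvd_factorial hp).mp h3
      have := hp.one_lt
      omega
    · rcases hα with e | e
      · rw [show n.choose p = 1 by rw [e, Nat.choose_self]] at h3
        exact hp.not_dvd_one h3
      · rw [show n.choose p = p + 1 by rw [e, Nat.choose_succ_self_right]] at h3
        exact hp.not_dvd_one ((Nat.dvd_add_right dvd_rfl).mp h3)
  have hPc : Nat.card (P : Subgroup (Equiv.Perm α)) = p := by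
    rw [P.card_eq_multiplicity]
    have : (Nat.card (Equiv.Perm α)).factorization p = 1 := by
      have h1 : 1 ≤ (Nat.card (Equiv.Perm α)).factorization p := by
        refine (hp.pow_dvd_iff_le_factorization Nat.card_pos.ne').mp ?_
        rw [pow_one, hcardG]
        exact (Nat.Prime.dvd_factorial hp).mpr hnp.2
      have h2 : (Nat.card (Equiv.Perm α)).factorization p < 2 := by
        by_contra h
        exact hp2 ((hp.pow_dvd_iff_le_factorization Nat.card_pos.ne').mpr (by omega))
      omega
    rw [this, pow_one]
  have hall : ∀ S : Sylow p (Equiv.Perm α), Nat.card (S : Subgroup (Equiv.Perm α)) = p := fun S => by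
    rw [S.card_eq_multiplicity, ← P.card_eq_multiplicity, hPc]
  have hcount := Cfsg.Lib.PermGroup.card_orderOf_eq_prime hall
  have hct : Nat.card {g : Equiv.Perm α // orderOf g = p} =
      ({g | g.cycleType = {p}} : Finset (Equiv.Perm α)).card := by
    rw [Nat.card_eq_fintype_card, Fintype.card_subtype]
    congr 1
    ext g
    simp only [Finset.mem_filter, Finset.mem_univ, true_and]
    constructor
    · intro hg
      obtain ⟨k, hk⟩ := Equiv.Perm.cycleType_prime_order (σ := g) (hg ▸ hp)
      rw [hg] at hk
      have hsum := Equiv.Perm.sum_cycleType g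
      have hle : g.support.card ≤ n := Finset.card_le_univ _
      rw [hk, Multiset.sum_replicate, smul_eq_mul] at hsum
      have : k = 0 := by
        by_contra h0
        have : 2 * p ≤ (k + 1) * p := Nat.mul_le_mul_right p (by omega)
        have := hp.one_lt
        omega
      rw [hk, this, zero_add, Multiset.replicate_one]
    · intro hg
      rw [← Equiv.Perm.lcm_cycleType, hg, Multiset.lcm_singleton, normalize_eq]
  have hmul := Equiv.Perm.card_of_cycleType_mul_eq α ({p} : Multiset ℕ)
  have hprod : ∏ x ∈ ({p} : Multiset ℕ).toFinset, (Multiset.count x ({p} : Multiset ℕ)).factorial = 1 := by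
    simp
  rw [← hct, hcount, hprod, Multiset.sum_singleton, Multiset.prod_singleton,
    Nat.factorial_eq_one.mpr hnp.1, one_mul, mul_one, if_pos ⟨hnp.2, fun a ha => by
      rw [Multiset.mem_singleton] at ha; rw [ha]; exact hp.two_le⟩] at hmul
  -- orbit-stabiliser for the Sylow subgroups
  have hidx := (Subgroup.normalizer ((P : Subgroup (Equiv.Perm α)) : Set (Equiv.Perm α))).card_mul_index
  have hi : Nat.card (Sylow p (Equiv.Perm α)) =
      (Subgroup.normalizer ((P : Subgroup (Equiv.Perm α)) : Set (Equiv.Perm α))).index := P.card_eq_index_normalizer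
  rw [← hi, hcardG, ← hmul] at hidx
  refine Nat.eq_of_mul_eq_mul_right (Nat.card_pos (α := Sylow p (Equiv.Perm α))) ?_
  rw [hidx]; ring

end Cfsg.Agent.S0989
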