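import Cfsg.Statements.S1154
import Cfsg.Agent.Lib.Tw.G2
-- import your own Cfsg.Agent.* helpers here

set_option autoImplicit false
open Cfsg

namespace Cfsg.Agent.S1154

section helper

open Cfsg.Lie Cfsg.Lib.Tw Cfsg.Lib.Tw.G2 Cfsg.Lib.Chev

theorem card_order_three {K : Type*} [Field K] [Fintype K] {m : ℕ} (hK : Fintype.card K = 3 ^ (2 * m + 1)) :
    Nat.card {u : ↥(chevG2.posUnipotent K ⊓ twistedG2 K (3 ^ m)) // orderOf u = 3} =
      (3 ^ (2 * m + 1)) ^ 2 - 1 := by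
  classical
  obtain ⟨T⟩ := exists_setup hK
  rw [T.U_eq hK]
  set G := T.g2 hK true with hG
  have h3 := T.three
  have hone : ∀ {t u v : K}, G.word t u v = 1 → t = 0 ∧ u = 0 ∧ v = 0 := by
    intro t u v e
    rw [← T.W_zero hK true] at e
    obtain ⟨-, et, -, -, eu, ev⟩ := T.W_inj hK _ _ _ _ _ _ _ _ _ _ _ _ e
    exact ⟨et, eu, ev⟩
  have hW : ∀ α β γ δ ε ζ : K,
      G.W α β γ δ ε ζ ^ 3 = G.W 0 0 0 (-(α ^ 2 * β)) 0 (-(α ^ 3 * β ^ 2)) := by
    intro α β γ δ ε ζ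
    rw [pow_succ, pow_two, G2Data.W_mul, G2Data.W_mul]
    congr 1
    · linear_combination α * h3
    · linear_combination β * h3
    · linear_combination (γ + α * β) * h3
    · linear_combination (δ + α ^ 2 * β - α * γ) * h3
    · linear_combination (ε - α ^ 3 * β) * h3
    · linear_combination (ζ - β * ε) * h3
  have hcube : ∀ t u v : K, G.word t u v ^ 3 = 1 ↔ t = 0 := by
    intro t u v
    rw [G2Data.word, hW, ← T.W_zero hK true]
    constructor
    · intro e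
      obtain ⟨-, -, -, e4, -, -⟩ := T.W_inj hK _ _ _ _ _ _ _ _ _ _ _ _ e
      rcases mul_eq_zero.1 (neg_eq_zero.1 e4) with h | h
      · exact (map_eq_zero G.g).1 (pow_eq_zero_iff two_ne_zero |>.1 h)
      · exact h
    · rintro rfl
      simp [hG]
  have hiff : ∀ t u v : K, orderOf (G.word t u v) = 3 ↔ t = 0 ∧ (u, v) ≠ 0 := by
    intro t u v
    haveI : Fact (Nat.Prime 3) := ⟨Nat.prime_three⟩
    constructor
    · intro h
      refine ⟨(hcube t u v).1 (h ▸ pow_orderOf_eq_one _), fun e => ?_⟩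
      obtain ⟨rfl, rfl⟩ : u = 0 ∧ v = 0 := Prod.ext_iff.1 e
      have : t = 0 := (hcube t 0 0).1 (h ▸ pow_orderOf_eq_one _)
      subst this
      rw [show G.word (0 : K) 0 0 = 1 by simp [G2Data.word, G2Data.W, G2Data.Q, hG, Setup.g2, X_zero],
        orderOf_one] at h
      omega
    · rintro ⟨rfl, h⟩
      exact orderOf_eq_prime ((hcube 0 u v).2 rfl) fun e => h (by
        obtain ⟨-, rfl, rfl⟩ := hone e
        rfl)
  have e : Nat.card {u : ↥(fixU T.S (T.O.piJ T.J0)) // orderOf u = 3} = Nat.card {p : K × K // p ≠ 0} := by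
    refine (Nat.card_congr (Equiv.ofBijective (fun p : {p : K × K // p ≠ 0} =>
      (⟨⟨G.word 0 p.1.1 p.1.2, (T.fixU_eq hK _).2 ⟨_, _, _, rfl⟩⟩, by
        rw [← Subgroup.orderOf_coe]
        exact (hiff 0 _ _).2 ⟨rfl, p.2⟩⟩ : {u : ↥(fixU T.S (T.O.piJ T.J0)) // orderOf u = 3})) ⟨?_, ?_⟩)).symm
    · rintro ⟨⟨u, v⟩, hp⟩ ⟨⟨u', v'⟩, hp'⟩ e
      have e' : G.word 0 u v = G.word 0 u' v' := congrArg Subtype.val (congrArg Subtype.val e)
      obtain ⟨-, -, -, -, e5, e6⟩ := T.W_inj hK _ _ _ _ _ _ _ _ _ _ _ _ e'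
      subst e5 e6
      rfl
    · rintro ⟨⟨x, hx⟩, ho⟩
      obtain ⟨t, u, v, rfl⟩ := (T.fixU_eq hK x).1 hx
      rw [← Subgroup.orderOf_coe] at ho
      obtain ⟨rfl, h⟩ := (hiff t u v).1 ho
      exact ⟨⟨(u, v), h⟩, rfl⟩
  rw [e, Nat.card_eq_fintype_card, Fintype.card_subtype_compl, Fintype.card_subtype_eq, Fintype.card_prod, hK, pow_two]

end helper


/-- In the small Ree group ²G₂(q), q = 3^(2m+1) with m ≥ 1, realised as G¹ inside the Chevalley group G₂ over the field with q elements (θ the 3^m-th power map), with `U¹ = G¹ ∩ U` (U the positive unipotent subgroup of the ambient G₂): `U¹` has exactly `q² - 1` elements of order 3. -/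
theorem result {K : Type*} [Field K] [Fintype K] {m : ℕ} (hm : 1 ≤ m) (hK : Fintype.card K = 3 ^ (2 * m + 1)) :
    Nat.card {u : ↥(Cfsg.Lie.chevG2.posUnipotent K ⊓ Cfsg.Lie.twistedG2 K (3 ^ m)) // orderOf u = 3} = (3 ^ (2 * m + 1)) ^ 2 - 1 := by
  exact card_order_three hK

end Cfsg.Agent.S1154
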