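import Cfsg.Statements.S1155
import Cfsg.Agent.Lib.Tw.G2
-- import your own Cfsg.Agent.* helpers here

set_option autoImplicit false
open Cfsg

namespace Cfsg.Agent.S1155

section helper

open Cfsg.Lie Cfsg.Lib.Tw Cfsg.Lib.Tw.G2 Cfsg.Lib.Chev
open scoped Pointwise

theorem inter_eq_one {K : Type*} [Field K] [Fintype K] {m : ℕ} (hK : Fintype.card K = 3 ^ (2 * m + 1))
    {g : GL chevG2.Idx K} (hg : g ∈ twistedG2 K (3 ^ m)) {x : GL chevG2.Idx K}
    (hx : x ∈ chevG2.posUnipotent K ⊓ twistedG2 K (3 ^ m))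
    (hx' : g⁻¹ * x * g ∈ chevG2.posUnipotent K ⊓ twistedG2 K (3 ^ m)) :
    g ∈ chevG2.borelSubgroup K ∨ x = 1 := by
  obtain ⟨T⟩ := exists_setup hK
  set P := (T.full hK).toParts with hP
  obtain ⟨π, hπ, hform⟩ := P.fixed_form (P.le_fix hg)
  obtain ⟨n, hn, hnN, hact⟩ := P.exists_rep hπ
  obtain ⟨b, hb, u, hu, rfl⟩ := hform n hn hnN hact
  have hcase : π = 1 ∨ π = T.O.piJ T.J0 := by
    refine T.O.induction_W1 (P := fun π => π = 1 ∨ π = T.O.piJ T.J0) (Or.inl rfl) ?_ π hπ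
    intro π _ J _ _ ih
    rw [T.J_eq J] at ih
    rcases ih with ih | ih
    · exact Or.inr (mul_inv_eq_one.1 ih)
    · refine Or.inl ?_
      rw [mul_inv_eq_iff_eq_mul.1 ih, (T.full hK).sq_piJ]
  have huB : u ∈ chevG2.borelSubgroup K := U_le_B (Uw_le_U certG2 hu.1)
  rcases hcase with rfl | rfl
  · refine Or.inl (mul_mem (mul_mem hb.1 (H_le_B ?_)) huB)
    exact mem_H_of_acts_one certG2 hnN hact
  refine Or.inr ?_
  obtain ⟨v, hv, t, ht, rfl⟩ := (mem_B_iff certG2).1 hb.1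
  -- conjugate into the opposite unipotent group
  have hy : u * ((v * t * n * u)⁻¹ * x * (v * t * n * u)) * u⁻¹ ∈ chevG2.posUnipotent K :=
    mul_mem (mul_mem (Uw_le_U certG2 hu.1) hx'.1) (inv_mem (Uw_le_U certG2 hu.1))
  have h1 : n * (u * ((v * t * n * u)⁻¹ * x * (v * t * n * u)) * u⁻¹) * n⁻¹ ∈ chevG2.negUnipotent K :=
    hact.conj_Uw certG2 (by rw [Uw_w0 T.w0 certG2]; exact hy)
  rw [show n * (u * ((v * t * n * u)⁻¹ * x * (v * t * n * u)) * u⁻¹) * n⁻¹ = (v * t)⁻¹ * x * (v * t) by group] at h1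
  have hbB : v * t ∈ chevG2.borelSubgroup K := hb.1
  have hxB : x ∈ chevG2.borelSubgroup K := U_le_B hx.1
  have h2 : (v * t)⁻¹ * x * (v * t) ∈ chevG2.borelSubgroup K ⊓ chevG2.negUnipotent K :=
    Subgroup.mem_inf.2 ⟨(chevG2.borelSubgroup K).mul_mem ((chevG2.borelSubgroup K).mul_mem ((chevG2.borelSubgroup K).inv_mem hbB) hxB) hbB, h1⟩
  rw [B_inf_V certG2, Subgroup.mem_bot] at h2
  calc x = (v * t) * ((v * t)⁻¹ * x * (v * t)) * (v * t)⁻¹ := by group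
    _ = 1 := by rw [h2]; group

theorem borel_normalizes {K : Type*} [Field K] [Fintype K] {g u : GL chevG2.Idx K}
    (hg : g ∈ chevG2.borelSubgroup K) (hu : u ∈ chevG2.posUnipotent K) :
    g * u * g⁻¹ ∈ chevG2.posUnipotent K := by
  obtain ⟨v, hv, t, ht, rfl⟩ := (mem_B_iff certG2).1 hg
  rw [show v * t * u * (v * t)⁻¹ = v * (t * u * t⁻¹) * v⁻¹ by group]
  exact mul_mem (mul_mem hv (H_normalizes_U certG2 ht hu)) (inv_mem hv)

theorem sylow_ti {K : Type*} [Field K] [Fintype K] {m : ℕ} (hK : Fintype.card K = 3 ^ (2 * m + 1))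
    (P Q : Sylow 3 ↥(twistedG2 K (3 ^ m))) (hPQ : P ≠ Q) :
    (P : Subgroup ↥(twistedG2 K (3 ^ m))) ⊓ (Q : Subgroup ↥(twistedG2 K (3 ^ m))) = ⊥ := by
  classical
  have : Fact (Nat.Prime 3) := ⟨Nat.prime_three⟩
  set U := (chevG2.posUnipotent K ⊓ (twistedG2 K (3 ^ m))).subgroupOf (twistedG2 K (3 ^ m)) with hU
  have hcU : Nat.card U = (3 ^ (2 * m + 1)) ^ 3 := by
    rw [hU, Nat.card_congr (Subgroup.subgroupOfEquivOfLe inf_le_right).toEquiv]
    exact (U_param hK).2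
  have hUp : IsPGroup 3 U := IsPGroup.of_card (n := (2 * m + 1) * 3) (by rw [hcU, ← pow_mul])
  have hidx : ¬ 3 ∣ U.index := by
    have h := U.card_mul_index
    rw [hcU, card_group hK] at h
    have h' : U.index = (3 ^ (2 * m + 1) - 1) * ((3 ^ (2 * m + 1)) ^ 3 + 1) := by
      refine Nat.eq_of_mul_eq_mul_left (show 0 < (3 ^ (2 * m + 1)) ^ 3 by positivity) ?_
      rw [h]; ring
    have hq : 3 ∣ 3 ^ (2 * m + 1) := dvd_pow_self 3 (by omega)
    have hq3 : 3 ∣ (3 ^ (2 * m + 1)) ^ 3 := dvd_pow hq (by omega)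
    have hpos : 0 < 3 ^ (2 * m + 1) := by positivity
    rw [h', Nat.prime_three.dvd_mul]
    omega
  obtain ⟨S, hS⟩ : ∃ S, S = hUp.toSylow hidx := ⟨_, rfl⟩
  obtain ⟨a, ha⟩ := MulAction.exists_smul_eq ↥(twistedG2 K (3 ^ m)) S P
  obtain ⟨b, hb⟩ := MulAction.exists_smul_eq ↥(twistedG2 K (3 ^ m)) S Q
  subst P Q
  rw [eq_bot_iff]
  intro x hx
  rw [Sylow.coe_subgroup_smul, Sylow.coe_subgroup_smul, hS, IsPGroup.toSylow_coe] at hx
  have h1 : a⁻¹ * x * a ∈ U := by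
    have := Subgroup.mem_pointwise_smul_iff_inv_smul_mem.1 hx.1
    simpa using this
  have h2 : b⁻¹ * x * b ∈ U := by
    have := Subgroup.mem_pointwise_smul_iff_inv_smul_mem.1 hx.2
    simpa using this
  have h3 := inter_eq_one hK (a⁻¹ * b).2 (x := ((a⁻¹ * x * a : ↥(twistedG2 K (3 ^ m))) : GL chevG2.Idx K)) h1 (by
    have h2' : ((b⁻¹ * x * b : ↥(twistedG2 K (3 ^ m))) : GL chevG2.Idx K) ∈ chevG2.posUnipotent K ⊓ (twistedG2 K (3 ^ m)) := h2
    simpa [mul_assoc] using h2')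
  rw [Subgroup.mem_bot]
  rcases h3 with h3 | h3
  · exfalso
    refine hPQ ?_
    have key : ∀ g : ↥(twistedG2 K (3 ^ m)), (g : GL chevG2.Idx K) ∈ chevG2.borelSubgroup K → g • S = S := by
      intro g hg
      refine Sylow.ext ?_
      rw [Sylow.coe_subgroup_smul, hS, IsPGroup.toSylow_coe]
      refine Subgroup.eq_of_le_of_card_ge ?_ ?_
      · intro y hy
        obtain ⟨z, hz, rfl⟩ := hy
        exact ⟨borel_normalizes hg hz.1, (MulAut.conj g z).2⟩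
      · exact le_of_eq (Nat.card_congr (Subgroup.equivSMul (MulAut.conj g) U).toEquiv)
    conv_lhs => rw [← key (a⁻¹ * b) h3]
    rw [smul_smul, mul_inv_cancel_left]
  · have h4 : a⁻¹ * x * a = 1 := Subtype.ext h3
    calc x = a * (a⁻¹ * x * a) * a⁻¹ := by group
      _ = 1 := by rw [h4]; group

end helper


/-- In the small Ree group ²G₂(q), q = 3^(2m+1) with m ≥ 1, realised as G¹ inside the Chevalley group G₂ over the field with q elements (θ the 3^m-th power map): distinct Sylow 3-subgroups of `G¹` meet trivially. -/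
theorem result {K : Type*} [Field K] [Fintype K] {m : ℕ} (hm : 1 ≤ m) (hK : Fintype.card K = 3 ^ (2 * m + 1))
    (P Q : Sylow 3 ↥(Cfsg.Lie.twistedG2 K (3 ^ m))) (hPQ : P ≠ Q) : (P : Subgroup ↥(Cfsg.Lie.twistedG2 K (3 ^ m))) ⊓ (Q : Subgroup ↥(Cfsg.Lie.twistedG2 K (3 ^ m))) = ⊥ := by
  exact sylow_ti hK P Q hPQ

end Cfsg.Agent.S1155
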