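import Cfsg.Statements.S1249
import Mathlib
-- import your own Cfsg.Agent.* helpers here

set_option autoImplicit false
open Cfsg

namespace Cfsg.Agent.S1249

/-- Let P and Q be Sylow p-subgroups of the finite group G both containing the subgroup A. If A is strongly closed in P, then A is strongly closed in Q. -/
theorem result {G : Type*} [Group G] [Finite G] {p : ℕ} [Fact p.Prime] (P Q : Sylow p G) (A : Subgroup G) (hAQ : A ≤ Q) (hA : Cfsg.IsStronglyClosed A (P : Subgroup G)) : Cfsg.IsStronglyClosed A (Q : Subgroup G) := by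
  obtain ⟨h, hh⟩ := MulAction.exists_smul_eq G P Q
  have hmem : ∀ y : G, y ∈ (Q : Subgroup G) ↔ h⁻¹ * y * h ∈ (P : Subgroup G) := by
    intro y
    rw [← hh, Sylow.coe_subgroup_smul, Subgroup.mem_pointwise_smul_iff_inv_smul_mem, ← map_inv]
    simp [MulAut.smul_def]
  have hn : ∀ x ∈ A, h⁻¹ * x * h ∈ A := fun x hx => by
    have := hA.2 x hx h⁻¹ (by rw [inv_inv]; exact (hmem x).1 (hAQ hx))
    rwa [inv_inv] at this
  have hN : h⁻¹ ∈ Subgroup.normalizer (A : Set G) := by
    refine Subgroup.mem_normalizer_fintype ?_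
    intro x hx
    rw [inv_inv]
    exact hn x hx
  refine ⟨hAQ, fun x hx g hg => ?_⟩
  have h1 := hA.2 x hx (h⁻¹ * g) (by
    have := (hmem _).1 hg
    rwa [show h⁻¹ * g * x * (h⁻¹ * g)⁻¹ = h⁻¹ * (g * x * g⁻¹) * h by group])
  have h2 := (Subgroup.mem_normalizer_iff.1 (inv_mem hN) _).1 h1
  rw [inv_inv] at h2
  convert h2 using 1
  group

end Cfsg.Agent.S1249
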