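import Cfsg.Statements.S1250
import Mathlib
import Cfsg.Agent.Lib.Invol.Isolated
-- import your own Cfsg.Agent.* helpers here

set_option autoImplicit false
open Cfsg

namespace Cfsg.Agent.S1250

/-- Let S be a Sylow p-subgroup of the finite group G, A ≤ S strongly closed in S, and N a normal subgroup. Then the image of A in G ⧸ N is strongly closed in the image of S (which is a Sylow p-subgroup of G ⧸ N). -/
theorem result {G : Type*} [Group G] [Finite G] {p : ℕ} [Fact p.Prime] (S : Sylow p G) (A : Subgroup G) (hA : Cfsg.IsStronglyClosed A (S : Subgroup G)) (N : Subgroup G) [N.Normal] : Cfsg.IsStronglyClosed (A.map (QuotientGroup.mk' N)) ((S : Subgroup G).map (QuotientGroup.mk' N)) := by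
  refine ⟨Subgroup.map_mono hA.1, ?_⟩
  rintro _ ⟨x, hx, rfl⟩ q hq
  obtain ⟨g, rfl⟩ := QuotientGroup.mk'_surjective N q
  rw [← map_inv, ← map_mul, ← map_mul] at hq ⊢
  set y := g * x * g⁻¹ with hy
  have hymem : y ∈ (S : Subgroup G) ⊔ N := by
    rw [sup_comm, ← QuotientGroup.comap_map_mk' N (S : Subgroup G)]
    exact hq
  set M := (S : Subgroup G) ⊔ N with hM
  let S' : Sylow p M := S.subtype le_sup_left
  have hyp : IsPGroup p ↥((Subgroup.zpowers y).subgroupOf M) := by
    refine IsPGroup.comap_subtype ?_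
    have e : Subgroup.zpowers y = (Subgroup.zpowers x).map (MulAut.conj g).toMonoidHom := by
      rw [MonoidHom.map_zpowers]
      rfl
    rw [e]
    exact (S.isPGroup'.to_le ((Subgroup.zpowers_le).2 (hA.1 hx))).map _
  obtain ⟨⟨c, hcM⟩, hc⟩ := Cfsg.Lib.Invol.exists_conj_mem_sylow hyp S'
  have hcy : c * y * c⁻¹ ∈ (S : Subgroup G) := hc ⟨y, hymem⟩ (Subgroup.mem_zpowers y)
  rw [hM, ← SetLike.mem_coe, Subgroup.mul_normal (S : Subgroup G) N] at hcM
  obtain ⟨s, hs, n, hn, rfl⟩ := hcM
  have hny : n * y * n⁻¹ ∈ (S : Subgroup G) := by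
    convert mul_mem (mul_mem (inv_mem hs) hcy) hs using 1
    group
  have hA' : n * y * n⁻¹ ∈ A := by
    have e : n * g * x * (n * g)⁻¹ = n * y * n⁻¹ := by rw [hy]; group
    rw [← e]
    exact hA.2 x hx (n * g) (by rwa [e])
  refine ⟨n * y * n⁻¹, hA', ?_⟩
  rw [QuotientGroup.mk'_apply, QuotientGroup.mk'_apply, QuotientGroup.mk_mul, QuotientGroup.mk_mul,
    QuotientGroup.mk_inv, (QuotientGroup.eq_one_iff n).2 hn, one_mul, inv_one, mul_one]

end Cfsg.Agent.S1250
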