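import Cfsg.Statements.S1251
import Mathlib
import Cfsg.Agent.Lib.ZStar.RankOne
import Cfsg.Agent.Lib.Solv.Cores
import Cfsg.Agent.Lib.Transfer.Basic
-- import your own Cfsg.Agent.* helpers here

set_option autoImplicit false
open Cfsg

namespace Cfsg.Agent.S1251

open Subgroup Cfsg.Lib
universe u

private theorem core_le_of {K : Type u} [Group K] [Finite K] (H : Subgroup K) [H.Normal] (A : Subgroup K)
    (hA : IsPGroup 2 A) (hK : H ⊔ A = ⊤) : Cfsg.pPrimeCore 2 K ≤ H := by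
  intro x hx
  rw [← QuotientGroup.eq_one_iff, ← orderOf_eq_one_iff]
  have hAq : (A.map (QuotientGroup.mk' H)) = ⊤ := by
    rw [eq_top_iff, ← map_top_of_surjective _ (QuotientGroup.mk'_surjective H), ← hK, Subgroup.map_sup,
      QuotientGroup.map_mk'_self, bot_sup_eq]
  have hp : IsPGroup 2 (K ⧸ H) :=
    (hAq ▸ hA.map (QuotientGroup.mk' H) : IsPGroup 2 (⊤ : Subgroup (K ⧸ H))).of_equiv Subgroup.topEquiv
  haveI := Fact.mk Nat.prime_two
  obtain ⟨k, hk⟩ := IsPGroup.iff_orderOf.1 hp (QuotientGroup.mk x)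
  have h2 : orderOf (QuotientGroup.mk' H x) ∣ Nat.card (Cfsg.pPrimeCore 2 K) :=
    (orderOf_map_dvd _ x).trans (Subgroup.orderOf_dvd_natCard _ hx)
  have h3 : orderOf (QuotientGroup.mk' H x) = 2 ^ k := hk
  rw [h3] at h2
  exact hk.trans (Nat.eq_one_of_dvd_coprimes ((Solv.coprime_pPrimeCore (G := K) 2).pow_right k) h2 dvd_rfl)

private theorem aux : ∀ (n : ℕ) (K : Type u) [Group K] [Finite K] (H A : Subgroup K) (S : Sylow 2 K),
    H.Normal → H ⊔ A = ⊤ → A ≤ S → Cfsg.IsStronglyClosed A (S : Subgroup K) → Cfsg.oddCore ↥H = ⊥ →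
    A ⊓ H = ⊥ → Nat.card A ≤ n → A ≤ centralizer (H : Set K) := by
  intro n
  induction n with
  | zero =>
    intro K _ _ H A S _ _ _ _ _ _ hn
    exact absurd hn (Nat.not_le.2 Nat.card_pos)
  | succ n ih =>
    intro K _ _ H A S hHn hK hAS hA hO hAH hn
    haveI := hHn
    haveI := Fact.mk Nat.prime_two
    by_cases hA1 : A = ⊥
    · rw [hA1]; exact bot_le
    have hA2 : IsPGroup 2 A := S.isPGroup'.to_le hAS
    have hdec : ∀ g : K, ∃ h ∈ H, ∃ a ∈ A, g = h * a := fun g => by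
      obtain ⟨h, hh, a, ha, e⟩ := mem_sup_of_normal_left.1 (hK.ge (mem_top g))
      exact ⟨h, hh, a, ha, e.symm⟩
    have hT : ∀ a ∈ A, ∀ t ∈ H, t ∈ (S : Subgroup K) → a * t = t * a := by
      intro a ha t ht htS
      have h1 : t * a * t⁻¹ ∈ A := hA.2 a ha t (mul_mem (mul_mem htS (hAS ha)) (inv_mem htS))
      have h2 : t * a * t⁻¹ * a⁻¹ ∈ A ⊓ H := mem_inf.2 ⟨mul_mem h1 (inv_mem ha), by
        rw [mul_assoc, mul_assoc]
        exact mul_mem ht (by simpa [mul_assoc] using hHn.conj_mem _ (inv_mem ht) a)⟩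
      rw [hAH, mem_bot, mul_inv_eq_one, mul_inv_eq_iff_eq_mul] at h2
      exact h2.symm
    haveI : Nontrivial A := (nontrivial_iff_ne_bot A).2 hA1
    haveI := hA2.center_nontrivial
    obtain ⟨m, hm0, hm⟩ := (IsPGroup.nontrivial_iff_card (hA2.to_subgroup (center ↥A))).1 inferInstance
    obtain ⟨z₀, hz₀⟩ := exists_prime_orderOf_dvd_card' (G := ↥(center ↥A)) 2 (by
      rw [hm]; exact dvd_pow_self 2 hm0.ne')
    rw [← Subgroup.orderOf_coe, ← Subgroup.orderOf_coe] at hz₀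
    set z : K := ((z₀ : ↥A) : K) with hzdef
    have hzA : z ∈ A := (z₀ : ↥A).2
    have hzc : ∀ a ∈ A, a * z = z * a := fun a ha =>
      congrArg Subtype.val (mem_center_iff.1 z₀.2 ⟨a, ha⟩)
    have hiso : ∀ g : K, g * z * g⁻¹ ∈ (S : Subgroup K) → g * z * g⁻¹ = z := by
      intro g hg
      have h1 := hA.2 z hzA g hg
      obtain ⟨h, hh, a, ha, rfl⟩ := hdec g
      have h2 : h * a * z * (h * a)⁻¹ = h * z * h⁻¹ := by
        rw [mul_inv_rev, mul_assoc h a z, hzc a ha]; group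
      rw [h2] at h1 ⊢
      have h3 : h * z * h⁻¹ * z⁻¹ ∈ A ⊓ H := mem_inf.2 ⟨mul_mem h1 (inv_mem hzA), by
        rw [mul_assoc, mul_assoc]
        exact mul_mem hh (by simpa [mul_assoc] using hHn.conj_mem _ (inv_mem hh) z)⟩
      rw [hAH, mem_bot, mul_inv_eq_one] at h3
      exact h3
    have hOK : Cfsg.oddCore K = ⊥ := by
      haveI := Transfer.pPrimeCore_normal (G := K) 2
      have hle := core_le_of H A hA2 hK
      rw [eq_bot_iff]
      intro x hx
      have h1 : (⟨x, hle hx⟩ : ↥H) ∈ Cfsg.oddCore ↥H := by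
        refine Transfer.le_pPrimeCore (N := (Cfsg.pPrimeCore 2 K).subgroupOf H) inferInstance ?_ hx
        rw [Nat.card_congr (subgroupOfEquivOfLe hle).toEquiv]
        exact Solv.coprime_pPrimeCore 2
      rw [hO, mem_bot] at h1
      rw [mem_bot]
      exact congrArg Subtype.val h1
    have hzcent : ∀ g : K, g * z = z * g := fun g => by
      have h := ZStar.zstar_sylow S z hz₀ (hAS hzA) hiso g
      rw [hOK, mem_bot, mul_inv_eq_one, mul_inv_eq_iff_eq_mul] at h
      exact h.symm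
    set Z := zpowers z with hZ
    haveI hZn : Z.Normal := ⟨fun y hy g => by
      obtain ⟨k, rfl⟩ := mem_zpowers_iff.1 hy
      rw [((show Commute g z from hzcent g).zpow_right k).eq, mul_inv_cancel_right]
      exact mem_zpowers_iff.2 ⟨k, rfl⟩⟩
    set q := QuotientGroup.mk' Z with hq
    have hqs : Function.Surjective q := QuotientGroup.mk'_surjective Z
    have hZA : Z ≤ A := zpowers_le.2 hzA
    have hcardA : Nat.card ↥(A.map q) ≤ n := by
      have h1 : Z.relIndex A * Nat.card Z = Nat.card A := by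
        rw [← relIndex_bot_left Z, ← relIndex_bot_left A, mul_comm]
        exact relIndex_mul_relIndex ⊥ Z A bot_le hZA
      have h2 : Nat.card ↥(A.map q) = Z.relIndex A := by
        rw [← relIndex_bot_left, ← map_bot q, relIndex_map_map, bot_sup_eq, QuotientGroup.ker_mk',
          sup_eq_left.2 hZA]
      rw [show Nat.card Z = 2 from by rw [hZ, Nat.card_zpowers, hz₀]] at h1
      have h3 := Nat.card_pos (α := ↥(A.map q))
      rw [h2] at h3 ⊢
      omega
    have hHZ : H ⊓ Z = ⊥ := eq_bot_iff.2 ((inf_le_inf_left H hZA).trans (by rw [inf_comm, hAH]))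
    have hHq : Cfsg.oddCore ↥(H.map q) = ⊥ := by
      let e : ↥H →* ↥(H.map q) := q.subgroupMap H
      have he : Function.Bijective e := ⟨(injective_iff_map_eq_one e).2 fun x hx => Subtype.ext
        (mem_bot.1 (hHZ ▸ (⟨x.2, (QuotientGroup.eq_one_iff _).1 (congrArg Subtype.val hx)⟩ :
          (x : K) ∈ H ⊓ Z))), q.subgroupMap_surjective H⟩
      let e' := MulEquiv.ofBijective e he
      haveI := Transfer.pPrimeCore_normal (G := ↥(H.map q)) 2
      rw [eq_bot_iff]
      intro y hy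
      have h1 : e'.symm y ∈ Cfsg.oddCore ↥H :=
        Solv.map_pPrimeCore_le (f := e'.symm.toMonoidHom) 2 e'.symm.surjective ⟨y, hy, rfl⟩
      rw [hO, mem_bot] at h1
      rw [mem_bot]
      exact e'.symm.injective (h1.trans (map_one _).symm)
    have hclosed : Cfsg.IsStronglyClosed (A.map q) ((S.mapSurjective hqs : Sylow 2 (K ⧸ Z)) : Subgroup (K ⧸ Z)) := by
      refine ⟨map_mono hAS, ?_⟩
      rintro _ ⟨x, hx, rfl⟩ g' hg'
      obtain ⟨g, rfl⟩ := hqs g'
      obtain ⟨s, hs, hse⟩ := hg'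
      have h1 : g * x * g⁻¹ ∈ (S : Subgroup K) := by
        have h2 : s⁻¹ * (g * x * g⁻¹) ∈ Z := by
          rw [← QuotientGroup.eq_one_iff]
          change q (s⁻¹ * (g * x * g⁻¹)) = 1
          rw [map_mul, map_inv, map_mul q (g * x), map_mul, map_inv, hse, inv_mul_cancel]
        have h3 := mul_mem hs (hAS (hZA h2))
        rwa [mul_inv_cancel_left] at h3
      exact ⟨g * x * g⁻¹, hA.2 x hx g h1, by rw [map_mul, map_mul, map_inv]⟩
    have hdisj : A.map q ⊓ H.map q = ⊥ := by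
      rw [eq_bot_iff]
      rintro _ ⟨⟨a, ha, rfl⟩, ⟨h, hh, e⟩⟩
      have h1 : a⁻¹ * h ∈ Z := by
        rw [← QuotientGroup.eq_one_iff]
        change q (a⁻¹ * h) = 1
        rw [map_mul, map_inv, e, inv_mul_cancel]
      have h2 : h ∈ A ⊓ H := ⟨by
        have := mul_mem ha (hZA h1)
        rwa [mul_inv_cancel_left] at this, hh⟩
      rw [hAH, mem_bot] at h2
      rw [mem_bot, ← e, h2, map_one]
    have hle := ih (K ⧸ Z) (H.map q) (A.map q) (S.mapSurjective hqs) (Normal.map hHn q hqs)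
      (by rw [← Subgroup.map_sup, hK, map_top_of_surjective q hqs]) (map_mono hAS) hclosed hHq hdisj hcardA
    intro a ha
    refine mem_centralizer_iff.2 fun h hh => ?_
    have h1 := mem_centralizer_iff.1 (hle ⟨a, ha, rfl⟩) (q h) ⟨h, hh, rfl⟩
    rw [← map_mul, ← map_mul] at h1
    have h2 : (h * a)⁻¹ * (a * h) ∈ Z := by
      rw [← QuotientGroup.eq_one_iff]
      change q ((h * a)⁻¹ * (a * h)) = 1
      rw [map_mul, map_inv, ← h1, inv_mul_cancel]
    have h3 : (h * a)⁻¹ * (a * h) ∈ H ⊓ Z := ⟨by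
      rw [mul_inv_rev, show a⁻¹ * h⁻¹ * (a * h) = (a⁻¹ * h⁻¹ * a) * h by group]
      exact mul_mem (by simpa using hHn.conj_mem _ (inv_mem hh) a⁻¹) hh, h2⟩
    rw [hHZ, mem_bot, inv_mul_eq_one] at h3
    exact h3

private theorem main {G : Type*} [Group G] [Finite G] (S : Sylow 2 G) (A : Subgroup G)
    (hA : Cfsg.IsStronglyClosed A (S : Subgroup G)) (H : Subgroup G) (hAH : A ≤ normalizer (H : Set G))
    (hO : Cfsg.oddCore ↥H = ⊥) (hdisj : A ⊓ H = ⊥) : A ≤ centralizer (H : Set G) := by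
  set K := H ⊔ A with hK
  haveI := Fact.mk Nat.prime_two
  haveI : (H.subgroupOf K).Normal :=
    normal_subgroupOf_of_le_normalizer (sup_le le_normalizer hAH)
  have hA2 : IsPGroup 2 A := S.isPGroup'.to_le hA.1
  obtain ⟨P, hP⟩ := (hA2.comap_subtype (K := K)).exists_le_sylow
  obtain ⟨Q, hQ⟩ := (P.isPGroup'.map K.subtype).exists_le_sylow
  obtain ⟨g, hg⟩ := MulAction.exists_smul_eq G Q S
  have hgQ : ∀ x ∈ (Q : Subgroup G), g * x * g⁻¹ ∈ (S : Subgroup G) := fun x hx => by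
    rw [← hg, Sylow.coe_subgroup_smul]; exact ⟨x, hx, rfl⟩
  have hAQ : ∀ x ∈ A, x ∈ (Q : Subgroup G) := fun x hx =>
    hQ ⟨⟨x, mem_sup_right hx⟩, hP hx, rfl⟩
  have hgA : A.map (MulAut.conj g).toMonoidHom = A := by
    refine eq_of_le_of_card_ge ?_ (card_map_of_injective (MulAut.conj g).injective).ge
    rintro _ ⟨x, hx, rfl⟩
    exact hA.2 x hx g (hgQ x (hAQ x hx))
  have hclosed : Cfsg.IsStronglyClosed (A.subgroupOf K) (P : Subgroup ↥K) := by
    refine ⟨hP, fun x hx k hk => ?_⟩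
    have h1 : ((k : G) * x * (k : G)⁻¹) ∈ (Q : Subgroup G) := hQ ⟨_, hk, rfl⟩
    have h2 : g * k * x * (g * k)⁻¹ ∈ A := hA.2 _ hx (g * k) (by
      have := hgQ _ h1; simpa [mul_assoc] using this)
    rw [← hgA] at h2
    obtain ⟨w, hw, hwe⟩ := h2
    have h3 : g * w * g⁻¹ = g * ((k : G) * x * (k : G)⁻¹) * g⁻¹ := by
      rw [show g * w * g⁻¹ = g * (k : G) * x * (g * k)⁻¹ from hwe]; group
    have h4 : w = (k : G) * x * (k : G)⁻¹ := mul_left_cancel (mul_right_cancel h3)
    show (k : G) * x * (k : G)⁻¹ ∈ A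
    exact h4 ▸ hw
  have htop : H.subgroupOf K ⊔ A.subgroupOf K = ⊤ := by
    rw [← subgroupOf_sup le_sup_left le_sup_right, subgroupOf_self]
  have hO' : Cfsg.oddCore ↥(H.subgroupOf K) = ⊥ := by
    let e := subgroupOfEquivOfLe (le_sup_left : H ≤ K)
    rw [eq_bot_iff]
    intro y hy
    have h1 : e y ∈ Cfsg.oddCore ↥H := Solv.map_pPrimeCore_le (f := e.toMonoidHom) 2 e.surjective ⟨y, hy, rfl⟩
    rw [hO, mem_bot] at h1
    rw [mem_bot]
    exact e.injective (h1.trans (map_one _).symm)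
  have hd : A.subgroupOf K ⊓ H.subgroupOf K = ⊥ := by
    rw [eq_bot_iff]
    rintro x ⟨h1, h2⟩
    have h3 : (x : G) ∈ A ⊓ H := ⟨h1, h2⟩
    rw [hdisj, mem_bot] at h3
    exact mem_bot.2 (Subtype.ext h3)
  have h := aux _ ↥K (H.subgroupOf K) (A.subgroupOf K) P inferInstance htop hP hclosed hO' hd le_rfl
  intro a ha
  refine mem_centralizer_iff.2 fun b hb => ?_
  exact congrArg Subtype.val
    (mem_centralizer_iff.1 (h (show (⟨a, mem_sup_right ha⟩ : ↥K) ∈ A.subgroupOf K from ha)) ⟨b, mem_sup_left hb⟩ hb)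


/-- Let S be a Sylow 2-subgroup of the finite group G and A ≤ S strongly closed in S. If H is a subgroup normalized by A with no nontrivial normal subgroup of odd order and A ∩ H = 1, then A ≤ C_G(H). -/
theorem result {G : Type*} [Group G] [Finite G] (S : Sylow 2 G) (A : Subgroup G) (hA : Cfsg.IsStronglyClosed A (S : Subgroup G)) (H : Subgroup G) (hAH : A ≤ Subgroup.normalizer (H : Set G)) (hO : Cfsg.oddCore ↥H = ⊥) (hdisj : A ⊓ H = ⊥) : A ≤ Subgroup.centralizer (H : Set G) := by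
  exact main S A hA H hAH hO hdisj

end Cfsg.Agent.S1251
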