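import Cfsg.Statements.S1323
-- import your own Cfsg.Agent.* helpers here

set_option autoImplicit false
open Cfsg

namespace Cfsg.Agent.S1323

open Equiv Equiv.Perm Subgroup
open scoped Pointwise commutatorElement

variable {α : Type*} [Fintype α] [DecidableEq α]

local notation "𝔸" => alternatingGroup α

/-- The even permutations supported on `T`. -/
abbrev Sup (T : Finset α) : Subgroup (alternatingGroup α) := (alternatingGroup.ofSubtype T).range

theorem mem_Sup {T : Finset α} {g : alternatingGroup α} : g ∈ Sup T ↔ (g : Perm α).support ⊆ T :=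
  alternatingGroup.mem_range_ofSubtype_iff T g

theorem exists_move {T : Finset α} (hT : 3 ≤ T.card) {a : α} (ha : a ∈ T) (b : α) :
    ∃ g ∈ Sup T, (g : Perm α) a ≠ a ∧ (g : Perm α) a ≠ b := by
  obtain ⟨d, hd, hdb⟩ := Finset.exists_mem_ne (s := T.erase a) (by rw [Finset.card_erase_of_mem ha]; omega) b
  obtain ⟨c, hc, hcd⟩ := Finset.exists_mem_ne (s := T.erase a) (by rw [Finset.card_erase_of_mem ha]; omega) d
  have hdc : d ≠ c := hcd.symm
  rw [Finset.mem_erase] at hc hd
  refine ⟨⟨swap a c * swap a d, by simp [mem_alternatingGroup, sign_swap hc.1.symm, sign_swap hd.1.symm]⟩, ?_, ?_, ?_⟩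
  · rw [mem_Sup]
    intro x hx
    by_contra hxT
    rw [mem_support] at hx
    apply hx
    simp [swap_apply_of_ne_of_ne (show x ≠ a from fun e => hxT (e ▸ ha)) (fun e : x = d => hxT (e ▸ hd.2)),
      swap_apply_of_ne_of_ne (show x ≠ a from fun e => hxT (e ▸ ha)) (fun e : x = c => hxT (e ▸ hc.2))]
  · show swap a c (swap a d a) ≠ a
    rw [swap_apply_left, swap_apply_of_ne_of_ne hd.1 hdc]
    exact hd.1
  · show swap a c (swap a d a) ≠ b
    rw [swap_apply_left, swap_apply_of_ne_of_ne hd.1 hdc]
    exact hdb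

theorem Sup_subset {T U : Finset α} (hT : 3 ≤ T.card) (h : Sup T ≤ Sup U) : T ⊆ U := by
  intro a ha
  obtain ⟨g, hg, hga, -⟩ := exists_move hT ha a
  exact mem_Sup.1 (h hg) (mem_support.2 hga)

theorem centralizer_Sup {T : Finset α} (hT : 4 ≤ T.card) :
    centralizer (Sup T : Set 𝔸) = Sup Tᶜ := by
  refine le_antisymm (fun c hc => mem_Sup.2 fun a hca => ?_) (fun c hc => mem_centralizer_iff.2 fun g hg => ?_)
  · rw [Finset.mem_compl]
    intro ha
    rw [mem_support] at hca
    obtain ⟨g, hg, hga, hgb⟩ := exists_move (T := T.erase ((c : Perm α) a))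
      (by have := Finset.pred_card_le_card_erase (a := (c : Perm α) a) (s := T); omega)
      (Finset.mem_erase.2 ⟨fun e => hca e.symm, ha⟩) a
    have h1 : (g : Perm α) ((c : Perm α) a) = (c : Perm α) a := by
      have := mem_Sup.1 hg
      by_contra hne
      exact Finset.notMem_erase _ _ (this (mem_support.2 hne))
    have hgT : g ∈ Sup T := mem_Sup.2 ((mem_Sup.1 hg).trans (Finset.erase_subset _ _))
    have h2 : (g : Perm α) ((c : Perm α) a) = (c : Perm α) ((g : Perm α) a) :=
      congrArg (fun z : 𝔸 => (z : Perm α) a) (mem_centralizer_iff.1 hc g hgT)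
    rw [h1] at h2
    exact hga ((c : Perm α).injective h2).symm
  · refine Subtype.ext (Disjoint.commute (disjoint_iff_disjoint_support.2 ?_)).eq
    rw [Finset.disjoint_left]
    exact fun x hx hx' => Finset.mem_compl.1 (mem_Sup.1 hc hx') (mem_Sup.1 hg hx)

theorem map_Sup (g : 𝔸) (T : Finset α) :
    (Sup T).map (MulAut.conj g).toMonoidHom = Sup (g • T) :=
  alternatingGroup.conj_smul_range_ofSubtype T g

theorem mem_normalizer_Sup {T : Finset α} (hT : 3 ≤ T.card) (g : 𝔸) :
    g ∈ normalizer (Sup T : Set 𝔸) ↔ g • T = T := by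
  rw [mem_normalizer_iff_map_conj_eq]
  constructor
  · intro h
    change (Sup T).map (MulAut.conj g).toMonoidHom = Sup T at h
    rw [map_Sup] at h
    exact le_antisymm (Sup_subset (by rwa [Finset.card_smul_finset]) h.le) (Sup_subset hT h.ge)
  · intro h
    show (Sup T).map (MulAut.conj g).toMonoidHom = Sup T
    rw [map_Sup, h]

theorem odd_card_small {U : Finset α} (hU : U.card ≤ 3) : Odd (Nat.card (Sup U)) := by
  rw [← Nat.card_congr (MonoidHom.ofInjective (alternatingGroup.ofSubtype_injective (s := U))).toEquiv]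
  by_cases h : Subsingleton {x // x ∈ U}
  · haveI := h
    rw [Nat.card_of_subsingleton 1]; exact odd_one
  · rw [not_subsingleton_iff_nontrivial] at h
    haveI := h
    have h1 := two_mul_nat_card_alternatingGroup (α := {x // x ∈ U})
    rw [Nat.card_perm, Nat.card_eq_fintype_card (α := {x // x ∈ U}), Fintype.card_coe] at h1
    have h2 : 1 < U.card := by rw [← Fintype.card_coe]; exact Fintype.one_lt_card
    rcases (show U.card = 2 ∨ U.card = 3 by omega) with hc | hc <;> rw [hc] at h1
    · rw [show Nat.factorial 2 = 2 from rfl] at h1; exact ⟨0, by omega⟩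
    · rw [show Nat.factorial 3 = 6 from rfl] at h1; exact ⟨1, by omega⟩

theorem even_card_four {U : Finset α} (hU : U.card = 4) : Even (Nat.card (Sup U)) := by
  rw [← Nat.card_congr (MonoidHom.ofInjective (alternatingGroup.ofSubtype_injective (s := U))).toEquiv]
  haveI : Nontrivial {x // x ∈ U} := Fintype.one_lt_card_iff_nontrivial.1 (by rw [Fintype.card_coe]; omega)
  have h1 := two_mul_nat_card_alternatingGroup (α := {x // x ∈ U})
  rw [Nat.card_perm, Nat.card_eq_fintype_card (α := {x // x ∈ U}), Fintype.card_coe, hU] at h1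
  rw [show Nat.factorial 4 = 24 from rfl] at h1; exact ⟨6, by omega⟩

theorem isQuasisimple_Sup {T : Finset α} (hT : 5 ≤ T.card) : Cfsg.IsQuasisimple (Sup T) := by
  haveI hs : IsSimpleGroup (alternatingGroup {x // x ∈ T}) :=
    alternatingGroup.isSimpleGroup (by rw [Nat.card_eq_fintype_card, Fintype.card_coe]; exact hT)
  let e : alternatingGroup {x // x ∈ T} ≃* Sup T := MonoidHom.ofInjective alternatingGroup.ofSubtype_injective
  haveI : Nontrivial (Sup T) := e.symm.toEquiv.nontrivial
  haveI : IsSimpleGroup (Sup T) := IsSimpleGroup.isSimpleGroup_of_surjective e.toMonoidHom e.surjective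
  have hnc : ¬ IsMulCommutative (Sup T) := by
    intro h
    have : IsMulCommutative (alternatingGroup {x // x ∈ T}) :=
      ⟨⟨fun a b => e.injective (by rw [map_mul, map_mul]; exact h.is_comm.comm _ _)⟩⟩
    rw [alternatingGroup.isMulCommutative_iff_card_le_three, Nat.card_eq_fintype_card, Fintype.card_coe] at this
    omega
  have hcen : Subgroup.center (Sup T) = ⊥ := by
    refine (Subgroup.Normal.eq_bot_or_eq_top inferInstance).resolve_right fun h => hnc ?_
    exact ⟨⟨fun a b => Subgroup.mem_center_iff.1 (h ▸ Subgroup.mem_top b) a⟩⟩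
  refine ⟨⟨?_⟩, ?_⟩
  · refine (Subgroup.Normal.eq_bot_or_eq_top inferInstance).resolve_left fun h => hnc ?_
    refine ⟨⟨fun a b => ?_⟩⟩
    have : ⁅a, b⁆ ∈ commutator (Sup T) := commutator_mem_commutator (mem_top a) (mem_top b)
    rw [h, mem_bot] at this
    exact commutatorElement_eq_one_iff_mul_comm.1 this
  · haveI : Nontrivial (Sup T ⧸ Subgroup.center (Sup T)) :=
      ((QuotientGroup.quotientMulEquivOfEq hcen).trans QuotientGroup.quotientBot).toEquiv.nontrivial
    exact IsSimpleGroup.isSimpleGroup_of_surjective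
      ((QuotientGroup.quotientMulEquivOfEq hcen).trans QuotientGroup.quotientBot).symm.toMonoidHom
      (MulEquiv.surjective _)

theorem compl_smul (g : 𝔸) (T : Finset α) : g • Tᶜ = (g • T)ᶜ := by
  ext x
  simp [← Finset.inv_smul_mem_iff]

theorem standard_Sup {S : Finset α} (hS : S.card = 4) (hC : 5 ≤ Sᶜ.card) :
    Cfsg.IsStandardSubgroup (Sup Sᶜ) := by
  have hcen : centralizer (Sup Sᶜ : Set 𝔸) = Sup S := by rw [centralizer_Sup (by omega), compl_compl]
  refine ⟨isQuasisimple_Sup hC, ⟨?_, fun g hg => ?_⟩, fun g hg hcomm => ?_, ?_⟩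
  · rw [hcen]; exact even_card_four hS
  · rw [hcen] at hg ⊢
    rw [mem_normalizer_Sup (by omega)] at hg
    rw [map_Sup, show Sup S ⊓ Sup (g • S) = Sup (S ∩ g • S) from ?_]
    · refine odd_card_small ?_
      by_contra h
      have h1 : S ∩ g • S = S := Finset.eq_of_subset_of_card_le Finset.inter_subset_left (by omega)
      exact hg (Finset.eq_of_subset_of_card_le (fun x hx => (Finset.mem_inter.1 (h1.ge hx)).2)
        (by rw [Finset.card_smul_finset])).symm
    · ext x
      rw [mem_inf, mem_Sup, mem_Sup, mem_Sup, Finset.subset_inter_iff]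
  · have h1 := commutator_eq_bot_iff_le_centralizer.1 hcomm
    rw [map_Sup, centralizer_Sup (by rw [Finset.card_smul_finset]; omega)] at h1
    have h2 := Sup_subset (by omega) h1
    have h3 : g • Sᶜ ⊆ S := fun x hx => by
      by_contra hxS
      exact Finset.mem_compl.1 (h2 (Finset.mem_compl.2 hxS)) hx
    have := Finset.card_le_card h3
    rw [Finset.card_smul_finset] at this
    omega
  · rw [hcen]
    ext g
    rw [mem_normalizer_Sup (by omega), mem_normalizer_Sup (by omega)]
    constructor <;> intro h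
    · have := congrArg compl h
      rwa [← compl_smul, compl_compl] at this
    · rw [compl_smul, h]


/-- For n ≥ 9, the subgroup of the alternating group on Fin n fixing each of the points 0, 1, 2, 3 is a standard subgroup. -/
theorem result (n : ℕ) (h4 : 4 ≤ n) (hn : 9 ≤ n) : Cfsg.IsStandardSubgroup (⨅ i : Fin 4, MulAction.stabilizer ↥(alternatingGroup (Fin n)) (Fin.castLE h4 i : Fin n)) := by
  classical
  let S : Finset (Fin n) := Finset.univ.map (Fin.castLEEmb h4)
  have hS : S.card = 4 := by simp [S]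
  have hC : 5 ≤ Sᶜ.card := by rw [Finset.card_compl, hS, Fintype.card_fin]; omega
  suffices h : (⨅ i : Fin 4, MulAction.stabilizer ↥(alternatingGroup (Fin n)) (Fin.castLE h4 i : Fin n)) = Sup Sᶜ by
    rw [h]; exact standard_Sup hS hC
  ext g
  rw [Subgroup.mem_iInf, mem_Sup]
  constructor
  · intro h x hx
    rw [Finset.mem_compl]
    intro hxS
    obtain ⟨i, -, rfl⟩ := Finset.mem_map.1 hxS
    exact Equiv.Perm.mem_support.1 hx (h i)
  · intro h i
    by_contra hne
    exact Finset.mem_compl.1 (h (Equiv.Perm.mem_support.2 hne)) (Finset.mem_map.2 ⟨i, Finset.mem_univ i, rfl⟩)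

end Cfsg.Agent.S1323
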