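import Cfsg.Statements.S1339
import Cfsg.Agent.Lib.LinAlg.TransvCent
import Cfsg.Agent.Lib.Comp.FStar
import Cfsg.Agent.Lib.Solv.SchurZassenhaus

set_option autoImplicit false
open Cfsg

namespace Cfsg.Agent.S1339

theorem fstar_eq_of_self_centralizing {C : Type*} [Group C] [Finite C] (Q : Subgroup C) [Q.Normal]
    (hQ : IsPGroup 2 Q) (hcent : Subgroup.centralizer (Q : Set C) ≤ Q) :
    Cfsg.generalizedFittingSubgroup C = Cfsg.pCore 2 C := by
  have := Fact.mk Nat.prime_two
  have hQ2 : Q ≤ Cfsg.pCore 2 C := Cfsg.Lib.Solv.le_pCore inferInstance hQ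
  have hp : Cfsg.pPrimeCore 2 C = ⊥ := by
    have hcop : (Nat.card (Cfsg.pPrimeCore 2 C)).Coprime 2 := (Cfsg.Lib.Solv.coprime_pPrimeCore 2).symm.symm
    obtain ⟨k, hk⟩ := hQ.exists_card_eq
    have hdis : Disjoint (Cfsg.pPrimeCore 2 C) Q := by
      rw [disjoint_iff]
      exact Cfsg.Lib.Solv.inf_eq_bot_of_coprime_card (hk ▸ hcop.pow_right k)
    have hle : Cfsg.pPrimeCore 2 C ≤ Subgroup.centralizer (Q : Set C) := fun x hx =>
      Subgroup.mem_centralizer_iff.2 fun y hy =>
        (Subgroup.commute_of_normal_of_disjoint _ _ inferInstance inferInstance hdis x y hx hy).eq.symm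
    exact eq_bot_iff.2 (by rw [← disjoint_iff.1 hdis]; exact le_inf le_rfl (hle.trans hcent))
  have hF := Cfsg.Lib.Solv.fitting_eq_pCore 2 hp
  have hl : Cfsg.layer C = ⊥ := Cfsg.Lib.Comp.layer_eq_bot_of_centralizer_fitting_le (by
    rw [hF]
    exact (Subgroup.centralizer_le (SetLike.coe_subset_coe.2 hQ2)).trans (hcent.trans hQ2))
  rw [Cfsg.generalizedFittingSubgroup, hl, bot_sup_eq, hF]

open Cfsg.Agent.LinAlg in
theorem std_cent {F : Type*} [Field F] [Fintype F] (hF : Fintype.card F = 2) (k : ℕ)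
    {C : Type*} [Group C] [Finite C] (φ : C →* Matrix (Transv.Idx k) (Transv.Idx k) F)
    (hinj : Function.Injective φ) (hcomm : ∀ x, Commute (Transv.std F k) (φ x))
    (hsurj : ∀ r c : Fin k → F, ∀ s : F, ∃ x, φ x = Transv.commMat 1 1 r c s) :
    Cfsg.generalizedFittingSubgroup C = Cfsg.pCore 2 C := by
  classical
  have hF2 : ∀ a : F, a ≠ 0 → a = 1 := fun a ha => by
    have := FiniteField.pow_card_sub_one_eq_one a ha
    simpa [hF] using this
  have h2 : (1 : F) + 1 = 0 := by
    have : CharP F 2 := by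
      have hc : (Fintype.card F : F) = 0 := FiniteField.cast_card_eq_zero F
      rw [hF] at hc
      exact CharTwo.of_one_ne_zero_of_two_eq_zero one_ne_zero (by exact_mod_cast hc)
    exact CharTwo.add_self_eq_zero 1
  have hform : ∀ x, ∃ A r c s, φ x = Transv.commMat 1 A r c s := by
    intro x
    obtain ⟨l, A, r, c, s, h⟩ := Transv.exists_commMat_eq (hcomm x)
    have hl : l ≠ 0 := by
      intro h0
      have hd : (φ x).det * (φ x⁻¹).det = 1 := by
        rw [← Matrix.det_mul, ← map_mul, mul_inv_cancel, map_one, Matrix.det_one]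
      rw [← h, Transv.det_commMat, h0, zero_mul, zero_mul] at hd
      exact zero_ne_one hd
    exact ⟨A, r, c, s, by rw [← h, hF2 l hl]⟩
  let mid : Matrix (Transv.Idx k) (Transv.Idx k) F → Matrix (Fin k) (Fin k) F := fun M =>
    Matrix.of fun i j => M (Sum.inr (Sum.inl i)) (Sum.inr (Sum.inl j))
  have hmid : ∀ x y, mid (φ x * φ y) = mid (φ x) * mid (φ y) := by
    intro x y
    obtain ⟨A, r, c, s, hx⟩ := hform x
    obtain ⟨A', r', c', s', hy⟩ := hform y
    ext i j
    simp [mid, hx, hy, Transv.commMat, Matrix.mul_apply, Fintype.sum_sum_type, Matrix.fromBlocks]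
  let ψ : C →* Matrix (Fin k) (Fin k) F :=
    { toFun := fun x => mid (φ x)
      map_one' := by ext i j; simp [mid, Matrix.one_apply]
      map_mul' := fun x y => by rw [map_mul]; exact hmid x y }
  refine fstar_eq_of_self_centralizing ψ.ker ?_ ?_
  · intro x
    refine ⟨2, ?_⟩
    obtain ⟨A, r, c, s, hx⟩ := hform x
    have hA : A = 1 := by
      have h := x.2
      rw [MonoidHom.mem_ker] at h
      rw [← h]
      ext i j
      simp [ψ, mid, hx, Transv.commMat, Matrix.fromBlocks]
    refine Subtype.ext (hinj ?_)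
    subst hA
    have h2' : ∀ a : F, a + a = 0 := fun a => by linear_combination a * h2
    rw [SubmonoidClass.coe_pow, map_pow, hx, OneMemClass.coe_one, map_one, show (2 : ℕ) ^ 2 = 2 * 2 from rfl, pow_mul]
    have e : Transv.commMat 1 (1 : Matrix (Fin k) (Fin k) F) r c s ^ 2 = Transv.commMat 1 1 0 0 (∑ i, r i * c i) := by
      rw [pow_two]
      ext i j
      rcases i with ⟨⟩ | i | ⟨⟩ <;> rcases j with ⟨⟩ | j | ⟨⟩ <;>
        simp [Transv.commMat, Matrix.mul_apply, Fintype.sum_sum_type, Matrix.fromBlocks, Matrix.one_apply, h2',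
          Finset.sum_ite_eq, Finset.sum_ite_eq']
      linear_combination s * h2
    rw [e, pow_two]
    ext i j
    rcases i with ⟨⟩ | i | ⟨⟩ <;> rcases j with ⟨⟩ | j | ⟨⟩ <;>
      simp [Transv.commMat, Matrix.mul_apply, Fintype.sum_sum_type, Matrix.fromBlocks, Matrix.one_apply, h2']
  · intro x hx
    obtain ⟨A, r, c, s, hM⟩ := hform x
    rw [MonoidHom.mem_ker]
    ext j i
    obtain ⟨y, hy⟩ := hsurj (Pi.single j 1) 0 0
    have hyk : y ∈ ψ.ker := by
      rw [MonoidHom.mem_ker]; ext i' j'; simp [ψ, mid, hy, Transv.commMat, Matrix.fromBlocks]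
    have e := congrArg φ (Subgroup.mem_centralizer_iff.1 hx y hyk)
    rw [map_mul, map_mul, hy, hM] at e
    have e' := congrFun (congrFun e (Sum.inl ())) (Sum.inr (Sum.inl i))
    simp [Transv.commMat, Matrix.mul_apply, Fintype.sum_sum_type, Matrix.fromBlocks, Matrix.one_apply,
      Pi.single_apply] at e'
    simp [ψ, mid, hM, Transv.commMat, Matrix.fromBlocks, Matrix.one_apply]
    simp only [eq_comm (a := i) (b := j)] at e'
    linear_combination e'

/-- Let F be a field with 2 elements, n ≥ 3, and t ∈ SL(n, F) a transvection (t = 1 + E_{ij}, i ≠ j). Then the generalized Fitting subgroup of C(t) is O_2(C(t)). -/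
theorem result {F : Type*} [Field F] [Fintype F] [DecidableEq F] (hF : Fintype.card F = 2) (n : ℕ) (hn : 3 ≤ n) (i j : Fin n) (hij : i ≠ j) (t : Matrix.SpecialLinearGroup (Fin n) F) (ht : (t : Matrix (Fin n) (Fin n) F) = Matrix.transvection i j 1) : Cfsg.generalizedFittingSubgroup ↥(Subgroup.centralizer ({t} : Set (Matrix.SpecialLinearGroup (Fin n) F))) = Cfsg.pCore 2 ↥(Subgroup.centralizer ({t} : Set (Matrix.SpecialLinearGroup (Fin n) F))) := by
  classical
  obtain ⟨k, rfl⟩ : ∃ k, n = k + 2 := ⟨n - 2, by omega⟩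
  let e : LinAlg.Transv.Idx k ≃ Fin (k + 2) := Fintype.equivFinOfCardEq (by simp; omega)
  let R := Matrix.reindexAlgEquiv F F e.symm
  obtain ⟨P, hP⟩ := LinAlg.Transv.exists_conj_std (N := R (Matrix.single i j 1)) (k := k) (by
    rw [show R (Matrix.single i j 1) = (Matrix.single i j (1 : F)).submatrix e e from rfl, Matrix.rank_submatrix]
    refine le_antisymm ?_ ?_
    · have : (Matrix.single i j (1 : F)) =
          Matrix.vecMulVec (Pi.single i (1 : F)) (Pi.single j (1 : F)) := by
        ext a b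
        by_cases ha : a = i <;> by_cases hb : b = j <;>
          simp [Matrix.vecMulVec_apply, Matrix.single_apply, Pi.single_apply, ha, hb, Ne.symm, eq_comm]
      rw [this]; exact Matrix.rank_vecMulVec_le _ _
    · rw [Nat.one_le_iff_ne_zero]
      intro h
      have h' : Module.finrank F (LinearMap.range (Matrix.single i j (1 : F)).mulVecLin) = 0 := h
      rw [Submodule.finrank_eq_zero, LinearMap.range_eq_bot] at h'
      have := congrFun (DFunLike.congr_fun h' (Pi.single j 1)) i
      simp [Matrix.mulVecLin_apply] at this)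
    (by rw [← map_mul, Matrix.single_mul_single_of_ne (h := hij.symm), map_zero])
  let φ : ↥(Subgroup.centralizer ({t} : Set (Matrix.SpecialLinearGroup (Fin (k + 2)) F))) →*
      Matrix (LinAlg.Transv.Idx k) (LinAlg.Transv.Idx k) F :=
    { toFun := fun g => ((P⁻¹ : GL (LinAlg.Transv.Idx k) F) : Matrix _ _ F) *
        R ((g : Matrix.SpecialLinearGroup (Fin (k + 2)) F) : Matrix (Fin (k + 2)) (Fin (k + 2)) F) *
        (P : Matrix _ _ F)
      map_one' := by simp
      map_mul' := fun g h => by
        simp only [Subgroup.coe_mul, Matrix.SpecialLinearGroup.coe_mul, map_mul, mul_assoc]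
        simp only [Units.mul_inv_cancel_left] }
  refine std_cent hF k φ (fun g h hgh => ?_) (fun g => ?_) (fun r c s => ?_)
  · refine Subtype.ext (Subtype.ext (R.injective ?_))
    exact (Units.mul_right_inj _).1 ((Units.mul_left_inj _).1 hgh)
  · have hg := congrArg (fun x : Matrix.SpecialLinearGroup (Fin (k + 2)) F => (x : Matrix (Fin (k + 2)) (Fin (k + 2)) F))
      (Subgroup.mem_centralizer_singleton_iff.1 g.2)
    simp only [Matrix.SpecialLinearGroup.coe_mul, ht, Matrix.transvection, mul_add, add_mul, mul_one, one_mul,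
      add_right_inj] at hg
    have hg' := congrArg R hg
    simp only [map_mul] at hg'
    have hstd : LinAlg.Transv.std F k =
        ((P⁻¹ : GL (LinAlg.Transv.Idx k) F) : Matrix _ _ F) * R (Matrix.single i j 1) * (P : Matrix _ _ F) := by
      rw [mul_assoc, hP, Units.inv_mul_cancel_left]
    show _ * _ = _ * _
    rw [hstd]
    simp only [φ, MonoidHom.coe_mk, OneHom.coe_mk, mul_assoc, Units.mul_inv_cancel_left]
    rw [← mul_assoc (R _) (R _) (P : Matrix _ _ F), ← hg', mul_assoc]
  · set M := (P : Matrix _ _ F) * LinAlg.Transv.commMat 1 1 r c s *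
      ((P⁻¹ : GL (LinAlg.Transv.Idx k) F) : Matrix (LinAlg.Transv.Idx k) (LinAlg.Transv.Idx k) F) with hM
    have hMd : (R.symm M).det = 1 := by
      have h1 : (R.symm M).det = M.det := Matrix.det_reindex_self _ _
      have h2 : (P : Matrix (LinAlg.Transv.Idx k) (LinAlg.Transv.Idx k) F).det * ((P⁻¹ : GL (LinAlg.Transv.Idx k) F) : Matrix (LinAlg.Transv.Idx k) (LinAlg.Transv.Idx k) F).det = 1 := by
        rw [← Matrix.det_mul, Units.mul_inv, Matrix.det_one]
      rw [h1, hM, Matrix.det_mul, Matrix.det_mul, LinAlg.Transv.det_commMat, Matrix.det_one]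
      linear_combination h2
    obtain ⟨g, hg⟩ : ∃ g : Matrix.SpecialLinearGroup (Fin (k + 2)) F,
        (g : Matrix (Fin (k + 2)) (Fin (k + 2)) F) = R.symm M := ⟨⟨R.symm M, hMd⟩, rfl⟩
    have hc : g ∈ Subgroup.centralizer ({t} : Set (Matrix.SpecialLinearGroup (Fin (k + 2)) F)) := by
      refine Subgroup.mem_centralizer_singleton_iff.2 (Subtype.ext ?_)
      rw [Matrix.SpecialLinearGroup.coe_mul, Matrix.SpecialLinearGroup.coe_mul, hg]
      simp only [ht, Matrix.transvection, mul_add, add_mul, mul_one, one_mul,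
        add_right_inj]
      refine R.injective ?_
      simp only [map_mul, AlgEquiv.apply_symm_apply, hM]
      have hN : R (Matrix.single i j 1) = (P : Matrix _ _ F) * LinAlg.Transv.std F k *
          ((P⁻¹ : GL (LinAlg.Transv.Idx k) F) : Matrix _ _ F) := by rw [← hP, mul_assoc, Units.mul_inv, mul_one]
      rw [hN]
      simp only [mul_assoc, Units.inv_mul_cancel_left]
      rw [← mul_assoc (LinAlg.Transv.commMat 1 1 r c s),
        ← (LinAlg.Transv.commute_commMat (k := k) (1 : F) 1 r c s).eq, mul_assoc]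
    refine ⟨⟨_, hc⟩, ?_⟩
    simp only [φ, MonoidHom.coe_mk, OneHom.coe_mk, hg, AlgEquiv.apply_symm_apply, hM, mul_assoc, Units.inv_mul_cancel_left,
      Units.inv_mul, mul_one]

end Cfsg.Agent.S1339
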