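import Cfsg.Statements.S1893
import Cfsg.Agent.S0118
import Cfsg.Agent.Lib.Solv.OddStable
import Cfsg.Agent.Lib.Solv.Coprime2
import Cfsg.Agent.Lib.Solv.Hall
import Cfsg.Agent.Lib.Solv.MinNormal
-- import your own Cfsg.Agent.* helpers here

set_option autoImplicit false
open Cfsg

namespace Cfsg.Agent.S1893

open Subgroup
open Cfsg.Lib.Solv

universe v

/-- A finite solvable group is normalizer `p`-stable for every prime `p ≥ 5`. -/
theorem stable_of_solvable {G : Type v} [Group G] [Finite G] [Group.IsSolvable G] {p : ℕ}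
    [Fact p.Prime] (hp : 5 ≤ p) : Cfsg.IsNormalizerPStable p G := by
  refine Cfsg.Lib.PStable.normalizerPStable_of_free (by omega) (S0118.not_involves_qd ?_)
  rintro ⟨X, Y, hn, ⟨e⟩⟩
  haveI := hn
  haveI : Group.IsSolvable (X ⧸ Y.subgroupOf X) :=
    Group.isSolvable_of_surjective (QuotientGroup.mk'_surjective (Y.subgroupOf X))
  haveI : Group.IsSolvable (Matrix.SpecialLinearGroup (Fin 2) (ZMod p)) :=
    Group.isSolvable_of_surjective (f := e.toMonoidHom) e.surjective
  have hne : ∀ m : ℕ, 0 < m → m < p → ((m : ℕ) : ZMod p) ≠ 0 := fun m h0 h1 h =>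
    absurd (Nat.le_of_dvd h0 ((ZMod.natCast_eq_zero_iff m p).1 h)) (by omega)
  have h2 : (2 : ZMod p) ≠ 0 := by exact_mod_cast hne 2 (by norm_num) (by omega)
  have h22 : (2 : ZMod p) ^ 2 ≠ 1 := by
    intro h
    have h3 : (3 : ZMod p) = 0 := by linear_combination h
    exact hne 3 (by norm_num) (by omega) (by exact_mod_cast h3)
  haveI : Group.IsPerfect (Matrix.SpecialLinearGroup (Fin 2) (ZMod p)) :=
    ⟨Matrix.SL2.commutator_eq_top h2 h22⟩
  haveI : Nontrivial (Matrix.SpecialLinearGroup (Fin 2) (ZMod p)) :=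
    ⟨⟨⟨!![1, 1; 0, 1], by simp [Matrix.det_fin_two_of]⟩, 1, fun h => by
      have := congrArg (fun M : Matrix.SpecialLinearGroup (Fin 2) (ZMod p) => (M : Matrix (Fin 2) (Fin 2) (ZMod p)) 0 1) h
      simp at this⟩⟩
  exact Group.IsPerfect.not_isSolvable (Matrix.SpecialLinearGroup (Fin 2) (ZMod p)) inferInstance

theorem mem_of_centralizes {T : Type v} [Group T] [Finite T] [Group.IsSolvable T]
    (π : Set ℕ) (h2 : 2 ∉ π) (h3 : 3 ∉ π) (H : Subgroup T) (hH : Cfsg.IsPiHall π H)
    (A : Subgroup T) (hA : Cfsg.IsSCN ((Cfsg.fittingSubgroup H).map H.subtype) A)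
    (hO : ∀ N : Subgroup T, N.Normal → (∀ q : ℕ, q.Prime → q ∣ Nat.card N → q ∉ π) → N = ⊥)
    (p : ℕ) [Fact p.Prime] (hp : p ∈ π) (c : T) (hc : ∃ k, orderOf c = p ^ k)
    (hcA : c ∈ centralizer (A : Set T)) : c ∈ A := by
  obtain ⟨hAF, hFA, hAeq⟩ := hA
  have hcore : ∀ (q : ℕ) [Fact q.Prime],
      Cfsg.pCore q T ≤ (Cfsg.fittingSubgroup H).map H.subtype := by
    intro q hq
    have hqp := isPGroup_pCore (G := T) q
    by_cases hqπ : q ∈ π
    · have hle : Cfsg.pCore q T ≤ H :=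
        (isPiHall_maximal hH le_sup_left (primes_of_sup H _ hH.1
          fun r hr hd => pi_of_isPGroup (π := π) hqp r hr hd ▸ hqπ)) ▸ le_sup_right
      intro x hx
      exact ⟨⟨x, hle hx⟩, le_fitting_of_isPGroup (p := q) (N := (Cfsg.pCore q T).subgroupOf H)
        (hqp.comap_of_injective H.subtype H.subtype_injective) hx, rfl⟩
    · rw [hO _ inferInstance fun r hr hd => pi_of_isPGroup (π := π) hqp r hr hd ▸ hqπ]
      exact bot_le
  have hcz : ⁅A, zpowers c⁆ = ⊥ := by
    rw [commutator_eq_bot_iff_le_centralizer, le_centralizer_iff]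
    exact zpowers_le.2 hcA
  have hquad : ∀ (q : ℕ) [Fact q.Prime],
      ⁅⁅Cfsg.pCore q T, zpowers c⁆, zpowers c⁆ = ⊥ := by
    intro q hq
    have h1 : ⁅Cfsg.pCore q T, zpowers c⁆ ≤ centralizer (A : Set T) := by
      rw [← commutator_eq_bot_iff_le_centralizer]
      refine commutator_commutator_eq_bot_of_rotate ?_ ?_
      · rw [commutator_comm (zpowers c) A, hcz, commutator_bot_left]
      · have hAQ : ⁅A, Cfsg.pCore q T⁆ ≤ A := commutator_le.2 fun a ha x hx => by
          rw [commutatorElement_def]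
          have := mul_mem ha ((mem_normalizer_iff.1 (hFA (hcore q hx)) a⁻¹).1 (inv_mem ha))
          simpa [mul_assoc] using this
        rw [eq_bot_iff, ← hcz]
        exact commutator_mono hAQ le_rfl
    have h2' : ⁅Cfsg.pCore q T, zpowers c⁆ ≤ (Cfsg.fittingSubgroup H).map H.subtype :=
      (commutator_le_left (Cfsg.pCore q T) (zpowers c)).trans (hcore q)
    rw [eq_bot_iff, ← hcz]
    exact commutator_mono ((le_inf h2' h1).trans hAeq.le) le_rfl
  obtain ⟨j, hj⟩ := hc
  have hother : ∀ q : {q : ℕ // q.Prime ∧ q ≠ p}, c ∈ centralizer (Cfsg.pCore q.1 T : Set T) := by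
    intro q
    haveI := Fact.mk q.2.1
    have hqp := isPGroup_pCore (G := T) q.1
    haveI := hqp.isNilpotent
    obtain ⟨n, hn⟩ := IsPGroup.iff_card.1 hqp
    have h := centralizes_of_commutator_commutator_eq_bot (zpowers c) (Cfsg.pCore q.1 T)
      (by rw [normalizer_eq_top]; exact le_top)
      (by rw [Nat.card_zpowers, hj, hn]
          exact Nat.Coprime.pow _ _ ((Nat.coprime_primes Fact.out q.2.1).2 q.2.2.symm))
      (Or.inr inferInstance) (hquad q.1)
    exact le_centralizer_iff.1 (commutator_eq_bot_iff_le_centralizer.1 h) (mem_zpowers c)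
  have hp5 : 5 ≤ p := by
    have hpp : p.Prime := Fact.out
    have h4 : p ≠ 4 := fun h => absurd (h ▸ hpp) (by norm_num)
    have h2p : p ≠ 2 := fun h => h2 (h ▸ hp)
    have h3p : p ≠ 3 := fun h => h3 (h ▸ hp)
    have := hpp.two_le
    omega
  obtain ⟨M, hMn, hcM, hM⟩ := quadratic_mem_normal (stable_of_solvable hp5) (Cfsg.pCore p T)
    (isPGroup_pCore p) c (hquad p)
  haveI := hMn
  let N : Subgroup T := M ⊓ ⨅ q : {q : ℕ // q.Prime ∧ q ≠ p}, centralizer (Cfsg.pCore q.1 T : Set T)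
  have hcN : c ∈ N := ⟨hcM, mem_iInf.2 hother⟩
  haveI : N.Normal := by
    haveI : (⨅ q : {q : ℕ // q.Prime ∧ q ≠ p}, centralizer (Cfsg.pCore q.1 T : Set T)).Normal :=
      normal_iInf_normal fun q => inferInstance
    exact normal_inf_normal M _
  -- prime to `p` elements of `N` are central in `N`
  have hcentral : ∀ q : ℕ, q.Prime → q ≠ p → ∀ y ∈ N, (∃ n, orderOf y = q ^ n) →
      ∀ m ∈ N, Commute y m := by
    intro q hq hqp y hy hyo m hm
    obtain ⟨n, hn⟩ := hyo
    haveI := Fact.mk hq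
    obtain ⟨k, hk⟩ := hM y hy.1
    have hyP : y ∈ centralizer (Cfsg.pCore p T : Set T) := by
      have hcop : (p ^ k).Coprime (orderOf y) := hn ▸
        Nat.Coprime.pow _ _ ((Nat.coprime_primes Fact.out hq).2 hqp.symm)
      obtain ⟨i, hi⟩ := exists_pow_eq_self_of_coprime hcop
      rw [← hi]; exact pow_mem hk i
    have hyF : y ∈ Cfsg.fittingSubgroup T := by
      refine centralizer_fitting_le (le_centralizer_iff.1 ?_ (mem_zpowers y))
      rw [fitting_eq_iSup_pCore]
      refine iSup_le fun r => le_centralizer_iff.2 (zpowers_le.2 ?_)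
      by_cases hr : (r : ℕ) = p
      · rw [hr]; exact hyP
      · exact mem_iInf.1 hy.2 ⟨r, r.2, hr⟩
    have hyQ : y ∈ Cfsg.pCore q T := le_pCore_of_le_fitting (zpowers_le.2 hyF)
      (IsPGroup.of_card (n := n) (by rw [Nat.card_zpowers, hn])) (mem_zpowers y)
    exact mem_centralizer_iff.1 (mem_iInf.1 hm.2 ⟨q, hq, hqp⟩) y hyQ
  have hNnil : Group.IsNilpotent N := by
    refine (Group.isNilpotent_of_finite_tfae.out 0 3).2 fun r hr P => ?_
    have hcen : ∀ (s : ℕ), s.Prime → s ≠ p → ∀ Q : Sylow s N, (Q : Subgroup N) ≤ center N := by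
      intro s hs hsp Q x hx
      haveI := Fact.mk hs
      obtain ⟨n, hn⟩ := IsPGroup.iff_orderOf.1 Q.isPGroup' ⟨x, hx⟩
      rw [mem_center_iff]
      intro g
      apply Subtype.ext
      have h := hcentral s hs hsp x x.2 ⟨n, by rw [Subgroup.orderOf_coe, ← hn, ← Subgroup.orderOf_coe (⟨x, hx⟩ : (Q : Subgroup N))]⟩ g g.2
      exact h.eq.symm
    by_cases hrp : r = p
    · subst hrp
      refine normalizer_eq_top_iff.1 (eq_top_of_forall_sylow_le fun s hs _ => ?_)
      by_cases hsp : s = r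
      · subst hsp
        exact ⟨P, le_normalizer⟩
      · haveI := Fact.mk hs
        exact ⟨default, (hcen s hs hsp default).trans (center_le_normalizer _)⟩
    · exact ⟨fun x hx g => by
        rw [mem_center_iff.1 (hcen r hr.out hrp P hx) g, mul_inv_cancel_right]; exact hx⟩
  have hcF : c ∈ (Cfsg.fittingSubgroup H).map H.subtype := by
    have h1 := le_fitting (N := N) inferInstance hNnil hcN
    rw [fitting_eq_iSup_pCore] at h1
    refine (iSup_le fun r : Nat.Primes => ?_ : _ ≤ (Cfsg.fittingSubgroup H).map H.subtype) h1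
    haveI := Fact.mk r.2
    exact hcore r
  exact hAeq.le ⟨hcF, hcA⟩


/-- Let S be a finite solvable group, π a set of primes containing neither 2 nor 3, H a Hall π-subgroup of S, and A a self-centralizing normal subgroup of the Fitting subgroup F(H). Then C_S(A) = A × D for a normal subgroup D of C_S(A) whose order has no prime divisor in π. -/
theorem result {S : Type*} [Group S] [Finite S] [Group.IsSolvable S]
    (π : Set ℕ) (h2 : 2 ∉ π) (h3 : 3 ∉ π) (H : Subgroup S) (hH : Cfsg.IsPiHall π H)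
    (A : Subgroup S) (hA : Cfsg.IsSCN ((Cfsg.fittingSubgroup H).map H.subtype) A) :
    ∃ D : Subgroup S, D ≤ Subgroup.centralizer (A : Set S) ∧
      (∀ c ∈ Subgroup.centralizer (A : Set S), ∀ d ∈ D, c * d * c⁻¹ ∈ D) ∧
      A ⊓ D = ⊥ ∧ A ⊔ D = Subgroup.centralizer (A : Set S) ∧
      ∀ q : ℕ, q.Prime → q ∣ Nat.card D → q ∉ π := by
  classical
  obtain ⟨hAF, hFA, hAeq⟩ := hA
  let K := Cfsg.piCore {q | q ∉ π} S
  have hKπ : ∀ q : ℕ, q.Prime → q ∣ Nat.card K → q ∉ π := Cfsg.Lib.Solv.piCore_primes _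
  have hHK : H ⊓ K = ⊥ :=
    inf_eq_bot_of_coprime (Cfsg.Lib.Solv.coprime_of_pi hH.1 hKπ)
  let f := QuotientGroup.mk' K
  have hf : Function.Surjective f := QuotientGroup.mk'_surjective K
  let FF := (Cfsg.fittingSubgroup H).map H.subtype
  have hFFH : FF ≤ H := map_subtype_le _
  have hinj : ∀ x ∈ H, f x = 1 → x = 1 := fun x hx h =>
    mem_bot.1 (hHK ▸ ⟨hx, (QuotientGroup.eq_one_iff x).1 h⟩)
  let e : H ≃* (H.map f) := MulEquiv.ofBijective (f.subgroupMap H)
    ⟨(injective_iff_map_eq_one _).2 fun x h => Subtype.ext (hinj x x.2 (congrArg Subtype.val h)),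
      f.subgroupMap_surjective H⟩
  have hF' : (Cfsg.fittingSubgroup (H.map f)).map (H.map f).subtype = FF.map f := by
    have h1 : Cfsg.fittingSubgroup (H.map f) = (Cfsg.fittingSubgroup H).map e.toMonoidHom := by
      refine le_antisymm (fun y hy => ?_) (map_fitting_le e.surjective)
      exact ⟨e.symm y, map_fitting_le (f := e.symm.toMonoidHom) e.symm.surjective ⟨y, hy, rfl⟩,
        e.apply_symm_apply y⟩
    rw [h1, Subgroup.map_map, Subgroup.map_map]
    rfl
  have hA' : Cfsg.IsSCN ((Cfsg.fittingSubgroup (H.map f)).map (H.map f).subtype) (A.map f) := by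
    rw [hF']
    refine ⟨map_mono hAF, (map_mono hFA).trans (le_normalizer_map f), le_antisymm ?_ ?_⟩
    · rintro _ ⟨⟨x, hx, rfl⟩, hxc⟩
      refine ⟨x, hAeq.le ⟨hx, mem_centralizer_iff.2 fun a ha => ?_⟩, rfl⟩
      have h := mem_centralizer_iff.1 hxc (f a) ⟨a, ha, rfl⟩
      have hm : a * x * (x * a)⁻¹ ∈ H :=
        H.mul_mem (H.mul_mem (hFFH (hAF ha)) (hFFH hx))
          (H.inv_mem (H.mul_mem (hFFH hx) (hFFH (hAF ha))))
      exact mul_inv_eq_one.1 (hinj _ hm (by rw [map_mul, map_inv, map_mul, map_mul, h, mul_inv_cancel]))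
    · refine le_inf (map_mono hAF) ?_
      rintro _ ⟨x, hx, rfl⟩
      rw [mem_centralizer_iff]
      rintro _ ⟨a, ha, rfl⟩
      rw [← map_mul, ← map_mul, mem_centralizer_iff.1 (hAeq.ge hx).2 a ha]
  haveI : Group.IsSolvable (S ⧸ K) := Group.isSolvable_of_surjective hf
  have hO : ∀ N : Subgroup (S ⧸ K), N.Normal → (∀ q : ℕ, q.Prime → q ∣ Nat.card N → q ∉ π) →
      N = ⊥ := by
    intro N hN hNπ
    haveI := hN
    have hle : N.comap f ≤ K := by
      refine Cfsg.Lib.Solv.le_piCore inferInstance fun q hq hd => ?_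
      have h1 : Nat.card ↥(N.comap f) = Nat.card K * Nat.card N := by
        rw [card_eq_mul_relIndex (show K ≤ N.comap f from fun x hx => by
          show f x ∈ N
          rw [show f x = 1 from (QuotientGroup.eq_one_iff x).2 hx]; exact one_mem _)]
        congr 1
        have h := (card_map_eq_relIndex f (N.comap f)).symm
        rwa [map_comap_eq_self_of_surjective hf, QuotientGroup.ker_mk'] at h
      rcases hq.dvd_mul.1 (h1 ▸ hd) with h | h
      · exact hKπ q hq h
      · exact hNπ q hq h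
    rw [eq_bot_iff]
    intro y hy
    obtain ⟨x, rfl⟩ := hf y
    exact mem_bot.2 ((QuotientGroup.eq_one_iff x).2 (hle hy))
  let C := centralizer (A : Set S)
  have hAC : A ≤ C := fun a ha => (hAeq.ge ha).2
  let A0 := A.subgroupOf C
  let K0 := K.subgroupOf C
  have hA0c : A0 ≤ center C := fun a ha => mem_center_iff.2 fun g =>
    Subtype.ext (mem_centralizer_iff.1 g.2 a ha).symm
  haveI : A0.Normal := ⟨fun a ha g => by
    rw [mem_center_iff.1 (hA0c ha) g, mul_inv_cancel_right]; exact ha⟩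
  have hA0π : ∀ q : ℕ, q.Prime → q ∣ Nat.card A0 → q ∈ π := fun q hq hd => by
    rw [card_subgroupOf hAC] at hd
    exact hH.1 q hq (hd.trans (card_dvd_of_le (hAF.trans hFFH)))
  have hidx : ∀ q : ℕ, q.Prime → q ∣ A0.index → q ∉ π := by
    intro p hp hd hpπ
    haveI := Fact.mk hp
    obtain ⟨P⟩ : Nonempty (Sylow p C) := inferInstance
    have hPle : (P : Subgroup C) ≤ A0 ⊔ K0 := by
      intro x hx
      obtain ⟨k, hk⟩ := IsPGroup.iff_orderOf.1 P.isPGroup' ⟨x, hx⟩
      rw [← Subgroup.orderOf_coe, ← Subgroup.orderOf_coe] at hk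
      obtain ⟨j, -, hj⟩ := (Nat.dvd_prime_pow hp).1 (hk ▸ orderOf_map_dvd f (x : S))
      obtain ⟨a, ha, hfa⟩ := mem_of_centralizes π h2 h3 (H.map f)
        (Cfsg.Lib.Solv.isPiHall_map hf hH) (A.map f) hA' hO p hpπ (f (x : S)) ⟨j, hj⟩ (by
          rw [mem_centralizer_iff]
          rintro _ ⟨a, ha, rfl⟩
          rw [← map_mul, ← map_mul, mem_centralizer_iff.1 x.2 a ha])
      have hK0 : (⟨a, hAC ha⟩ : C)⁻¹ * x ∈ K0 := by
        show a⁻¹ * (x : S) ∈ K
        exact QuotientGroup.eq.1 hfa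
      have := mul_mem (mem_sup_left (T := K0) (show (⟨a, hAC ha⟩ : C) ∈ A0 from ha))
        (mem_sup_right (S := A0) hK0)
      rwa [mul_inv_cancel_left] at this
    have h1 : Nat.card P ∣ Nat.card A0 * Nat.card K0 :=
      (card_dvd_of_le hPle).trans (Cfsg.Lib.Solv.card_sup_dvd_mul A0 K0)
    have hcop : (Nat.card P).Coprime (Nat.card K0) := by
      obtain ⟨m, hm⟩ := IsPGroup.iff_card.1 P.isPGroup'
      rw [hm]
      refine Nat.Coprime.pow_left _ ((Nat.Prime.coprime_iff_not_dvd hp).2 fun h => ?_)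
      exact hKπ p hp (h.trans (card_comap_dvd_of_injective K C.subtype C.subtype_injective)) hpπ
    obtain ⟨r, hr⟩ := hcop.dvd_of_dvd_mul_right h1
    have h3' := (P : Subgroup C).card_mul_index
    rw [← A0.card_mul_index, hr, mul_assoc] at h3'
    have h4 := Nat.eq_of_mul_eq_mul_left Nat.card_pos h3'
    exact P.not_dvd_index (h4 ▸ dvd_mul_of_dvd_right hd r)
  obtain ⟨D0, hD0⟩ := exists_right_complement'_of_coprime (N := A0)
    (Cfsg.Lib.Solv.coprime_of_pi hA0π hidx)
  have hD0n : D0.Normal := normalizer_eq_top_iff.1 (eq_top_iff.2 (hD0.sup_eq_top ▸ sup_le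
    (hA0c.trans (center_le_normalizer _)) le_normalizer))
  refine ⟨D0.map C.subtype, map_subtype_le _, ?_, ?_, ?_, ?_⟩
  · rintro c hc _ ⟨d, hd, rfl⟩
    exact ⟨⟨c, hc⟩ * d * ⟨c, hc⟩⁻¹, hD0n.conj_mem d hd _, rfl⟩
  · rw [eq_bot_iff]
    rintro _ ⟨ha, d, hd, rfl⟩
    rw [mem_bot.1 (hD0.disjoint.le_bot ⟨ha, hd⟩)]
    exact one_mem _
  · refine le_antisymm (sup_le hAC (map_subtype_le _)) fun x hx => ?_
    have h : (⟨x, hx⟩ : C) ∈ A0 ⊔ D0 := hD0.sup_eq_top ▸ mem_top _
    obtain ⟨a, ha, d, hd, he⟩ := Subgroup.mem_sup_of_normal_left.1 h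
    have h5 := congrArg Subtype.val he
    have := mul_mem (mem_sup_left (T := D0.map C.subtype) (show (a : S) ∈ A from ha))
      (mem_sup_right (S := A) (mem_map_of_mem C.subtype hd))
    rw [coe_subtype, ← Subgroup.coe_mul, he] at this
    exact this
  · intro q hq hd
    rw [card_map_of_injective C.subtype_injective] at hd
    rw [← hD0.symm.index_eq_card] at hd
    exact hidx q hq hd

end Cfsg.Agent.S1893
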