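import Cfsg.Statements.S1896
import Cfsg.Agent.Lib.TwoFus.Presentations
import Cfsg.Agent.Lib.Solv.PGroupBasic
-- import your own Cfsg.Agent.* helpers here

set_option autoImplicit false
open Cfsg

namespace Cfsg.Agent.S1896

open Subgroup

variable {X : Type*} [Group X]

theorem pow_apply_mulAut (α : MulAut X) : ∀ n : ℕ, (α : X → X)^[n] = ((α ^ n : MulAut X) : X → X) := by
  intro n
  induction n with
  | zero => rfl
  | succ n ih =>
    funext x
    rw [Function.iterate_succ_apply', pow_succ', MulAut.mul_apply, ih]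

/-- Powers of a product when the commutator is central. -/
theorem mul_pow_central {x y d : X} (h : y * x = x * y * d) (hd : d ∈ center X) :
    ∀ n : ℕ, y ^ n * x = x * y ^ n * d ^ n ∧ (x * y) ^ n = x ^ n * y ^ n * d ^ n.choose 2 := by
  intro n
  induction n with
  | zero => simp
  | succ n ih =>
    obtain ⟨h1, h2⟩ := ih
    have hc : ∀ g : X, ∀ k : ℕ, d ^ k * g = g * d ^ k :=
      fun g k => ((mem_center_iff.1 ((center X).pow_mem hd k)) g).symm
    have hc1 : ∀ g : X, d * g = g * d := fun g => ((mem_center_iff.1 hd) g).symm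
    constructor
    · calc y ^ (n + 1) * x = y * (y ^ n * x) := by rw [pow_succ']; group
        _ = (y * x) * y ^ n * d ^ n := by rw [h1]; group
        _ = x * y * (d * y ^ n) * d ^ n := by rw [h]; group
        _ = x * y ^ (n + 1) * d ^ (n + 1) := by rw [hc1, pow_succ' y, pow_succ' d]; group
    · calc (x * y) ^ (n + 1) = (x * y) ^ n * x * y := by rw [pow_succ]; group
        _ = x ^ n * y ^ n * (d ^ n.choose 2 * x) * y := by rw [h2]; group
        _ = x ^ n * (y ^ n * x) * (d ^ n.choose 2 * y) := by rw [hc]; group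
        _ = x ^ n * x * y ^ n * (d ^ n * y) * d ^ n.choose 2 := by rw [h1, hc y (n.choose 2)]; group
        _ = x ^ (n + 1) * y ^ (n + 1) * (d ^ n * d ^ n.choose 2) := by
          rw [hc y n, pow_succ x, pow_succ y]; group
        _ = x ^ (n + 1) * y ^ (n + 1) * d ^ (n + 1).choose 2 := by
          rw [← pow_add, Nat.choose_succ_succ, Nat.choose_one_right]

/-- A subgroup of a cyclic group is generated by the power by its relative index. -/
theorem eq_zpowers_pow [Finite X] (a : X) {H : Subgroup X} (hH : H ≤ zpowers a) :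
    H = zpowers (a ^ H.relIndex (zpowers a)) := by
  have hN : (H.subgroupOf (zpowers a)).Normal := by infer_instance
  have h1 : a ^ H.relIndex (zpowers a) ∈ H :=
    (H.subgroupOf (zpowers a)).pow_index_mem (⟨a, mem_zpowers a⟩ : zpowers a)
  refine (eq_of_le_of_card_ge ((zpowers_le).2 h1) (le_of_eq ?_)).symm
  have h2 := (H.subgroupOf (zpowers a)).card_mul_index
  rw [Nat.card_congr (subgroupOfEquivOfLe hH).toEquiv, Nat.card_zpowers] at h2
  have hr : H.relIndex (zpowers a) ≠ 0 := index_ne_zero_of_finite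
  rw [Nat.card_zpowers, orderOf_pow_of_dvd hr ⟨Nat.card H, by rw [← h2, mul_comm]; rfl⟩]
  exact (Nat.div_eq_of_eq_mul_left (Nat.pos_of_ne_zero hr) h2.symm).symm

/-- A finite metacyclic 2-group whose automorphism group is not a 2-group is isomorphic to the quaternion group of order 8 or to a homocyclic abelian group Z_{2^n} × Z_{2^n}. -/
theorem result {X : Type*} [Group X] [Finite X] (hX : IsPGroup 2 X)
    (hm : Cfsg.IsMetacyclic X) (hA : ¬ IsPGroup 2 (MulAut X)) :
    Nonempty (X ≃* QuaternionGroup 2) ∨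
      ∃ n : ℕ, Nonempty (X ≃* Multiplicative (ZMod (2 ^ n)) × Multiplicative (ZMod (2 ^ n))) := by
  classical
  haveI : Fact (Nat.Prime 2) := ⟨Nat.prime_two⟩
  -- an automorphism of odd prime order
  obtain ⟨r, hr, hr2, α, hα⟩ : ∃ r : ℕ, r.Prime ∧ r ≠ 2 ∧ ∃ α : MulAut X, orderOf α = r := by
    by_contra hne
    refine hA (IsPGroup.iff_card.2 ⟨(Nat.card (MulAut X)).primeFactorsList.length,
      Nat.eq_prime_pow_of_unique_prime_dvd Nat.card_pos.ne' fun {d} hd hdvd => ?_⟩)
    by_contra hd2
    haveI := Fact.mk hd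
    exact hne ⟨d, hd, hd2, exists_prime_orderOf_dvd_card' d hdvd⟩
  haveI := Fact.mk hr
  have hαr : α ^ r = 1 := hα ▸ pow_orderOf_eq_one α
  obtain ⟨r', hr'⟩ := hr.odd_of_ne_two hr2
  have hfix2 : ∀ {Y : Type _} (f : Y → Y) (y : Y), f^[r] y = y → f (f y) = y → f y = y := by
    intro Y f y hfr hff
    have : ∀ k, f^[2 * k] y = y := by
      intro k
      induction k with
      | zero => rfl
      | succ k ih =>
        rw [show 2 * (k + 1) = (2 + 2 * k) by ring, Function.iterate_add_apply, ih]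
        exact hff
    have h2 := hfr
    rw [hr', show 2 * r' + 1 = 1 + 2 * r' by ring, Function.iterate_add_apply, this r'] at h2
    exact h2
  -- the Frattini quotient
  haveI : (frattini X).Characteristic := frattini_characteristic
  let q : X →* X ⧸ frattini X := QuotientGroup.mk' _
  have hqs : ∀ x : X, q x * q x = 1 := by
    intro x
    rw [← map_mul, QuotientGroup.mk'_apply, QuotientGroup.eq_one_iff, ← pow_two]
    exact Cfsg.Lib.Solv.pow_mem_frattini hX x
  have hqc : ∀ x y : X, q x * q y = q y * q x := by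
    intro x y
    have h := hqs (x * y)
    rw [map_mul] at h
    have hx := hqs x
    have hy := hqs y
    have e : ∀ z : X, (q z)⁻¹ = q z := fun z => inv_eq_of_mul_eq_one_right (hqs z)
    calc q x * q y = (q x * q y)⁻¹ := (inv_eq_of_mul_eq_one_right h).symm
      _ = q y * q x := by rw [mul_inv_rev, e, e]
  have hαΦ : ∀ x, α x ∈ frattini X ↔ x ∈ frattini X := fun x => by
    have h := characteristic_iff_comap_eq.1 (inferInstance : (frattini X).Characteristic) α
    exact SetLike.ext_iff.1 h x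
  have hqeq : ∀ {x y : X}, q x = q y → q (α x) = q (α y) := by
    intro x y h
    rw [QuotientGroup.mk'_apply, QuotientGroup.mk'_apply, QuotientGroup.eq] at h ⊢
    rw [← map_inv, ← map_mul]
    exact (hαΦ _).2 h
  let β : X ⧸ frattini X → X ⧸ frattini X := fun z => q (α z.out)
  have hβ : ∀ x, β (q x) = q (α x) := fun x => hqeq (QuotientGroup.out_eq' (q x))
  clear_value β
  have hβm : ∀ u v, β (u * v) = β u * β v := by
    intro u v
    induction u using QuotientGroup.induction_on with
    | _ x =>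
      induction v using QuotientGroup.induction_on with
      | _ y =>
        show β (q x * q y) = β (q x) * β (q y)
        rw [← map_mul, hβ, hβ, hβ, map_mul, map_mul]
  have hβr : ∀ x, β^[r] (q x) = q x := by
    have : ∀ n x, β^[n] (q x) = q ((α ^ n : MulAut X) x) := by
      intro n
      induction n with
      | zero => intro x; rfl
      | succ n ih => intro x; rw [Function.iterate_succ_apply', ih, hβ, pow_succ', MulAut.mul_apply]
    intro x
    rw [this, hαr]; rfl
  -- `α` is not trivial on the Frattini quotient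
  obtain ⟨x0, hx0⟩ : ∃ x, q (α x) ≠ q x := by
    by_contra hall
    have hall : ∀ x, q (α x) = q x := by simpa using hall
    have h1 : (α : X →* X).eqLocus (MonoidHom.id X) = ⊤ := by
      refine frattini_nongenerating (eq_top_iff.2 fun x _ => ?_)
      have hαZ : IsPGroup r ↥(zpowers α) := IsPGroup.of_card (n := 1) (by rw [Nat.card_zpowers, hα, pow_one])
      -- the coset of `x` has a fixed point
      have hstep : ∀ (γ : zpowers α) (c : X), q c = q x → q ((γ : MulAut X) c) = q x := by
        rintro ⟨γ, hγ⟩ c hc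
        obtain ⟨k, rfl⟩ := (mem_powers_iff_mem_zpowers).2 hγ
        induction k with
        | zero => simpa using hc
        | succ k ih =>
          show q ((α ^ (k + 1) : MulAut X) c) = q x
          rw [pow_succ', MulAut.mul_apply, hall]
          exact ih ⟨k, zpow_natCast α k⟩
      letI : MulAction (zpowers α) {c : X // q c = q x} :=
        { smul := fun γ c => ⟨(γ : MulAut X) c.1, hstep γ c.1 c.2⟩
          one_smul := fun c => Subtype.ext rfl
          mul_smul := fun γ δ c => Subtype.ext rfl }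
      have hcard : Nat.card {c : X // q c = q x} = Nat.card (frattini X) := by
        refine Nat.card_congr
          { toFun := fun c => ⟨x⁻¹ * c.1, QuotientGroup.eq.1 c.2.symm⟩
            invFun := fun f => ⟨x * f.1, by rw [map_mul, QuotientGroup.mk'_apply, QuotientGroup.mk'_apply,
              (QuotientGroup.eq_one_iff _).2 f.2, mul_one]⟩
            left_inv := fun c => Subtype.ext (mul_inv_cancel_left x c.1)
            right_inv := fun f => Subtype.ext (inv_mul_cancel_left x f.1) }
      obtain ⟨k, hk⟩ := IsPGroup.iff_card.1 (hX.to_subgroup (frattini X))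
      obtain ⟨⟨c, hc⟩, hcfix⟩ := hαZ.nonempty_fixed_point_of_prime_not_dvd_card {c : X // q c = q x}
        (by
          rw [hcard, hk]
          intro hd
          exact hr2 ((Nat.prime_dvd_prime_iff_eq hr Nat.prime_two).1 (hr.dvd_of_dvd_pow hd)))
      have hcα : α c = c := congrArg Subtype.val (hcfix ⟨α, mem_zpowers α⟩)
      have hx : x = c * (c⁻¹ * x) := by group
      rw [hx]
      exact mul_mem (mem_sup_left hcα) (mem_sup_right (QuotientGroup.eq.1 hc))
    have : α = 1 := MulEquiv.ext fun x => h1.ge (mem_top x)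
    rw [this, orderOf_one] at hα
    exact hr.one_lt.ne hα
  -- the metacyclic structure
  obtain ⟨N, hNn, hNc, hQc⟩ := hm
  haveI := hNn
  obtain ⟨⟨a, haN⟩, ha⟩ := hNc.exists_generator
  have hNa : N = zpowers a := by
    refine le_antisymm (fun x hx => ?_) (zpowers_le.2 haN)
    obtain ⟨k, hk⟩ := ha ⟨x, hx⟩
    exact ⟨k, congrArg Subtype.val hk⟩
  obtain ⟨bq, hbq⟩ := hQc.exists_generator
  obtain ⟨b, rfl⟩ := QuotientGroup.mk'_surjective N bq
  have hgen : ∀ x : X, ∃ i j : ℤ, x = b ^ i * a ^ j := by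
    intro x
    obtain ⟨i, hi⟩ := hbq (QuotientGroup.mk' N x)
    have h : (b ^ i)⁻¹ * x ∈ N := QuotientGroup.eq.1 (by simpa using hi)
    rw [hNa] at h
    obtain ⟨j, hj⟩ := h
    have hj : a ^ j = (b ^ i)⁻¹ * x := hj
    exact ⟨i, j, by rw [hj, mul_inv_cancel_left]⟩
  have hzp : ∀ (g : X) (i : ℤ), q (g ^ i) = 1 ∨ q (g ^ i) = q g := by
    intro g i
    have h2 : q g ^ (2 : ℤ) = 1 := by rw [zpow_two]; exact hqs g
    rcases Int.even_or_odd i with ⟨k, hk⟩ | ⟨k, hk⟩
    · left; rw [map_zpow, hk, ← two_mul, zpow_mul, h2, one_zpow]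
    · right; rw [map_zpow, hk, zpow_add, zpow_mul, h2, one_zpow, one_mul, zpow_one]
  have hQ : ∀ x : X, q x = 1 ∨ q x = q a ∨ q x = q b ∨ q x = q b * q a := by
    intro x
    obtain ⟨i, j, rfl⟩ := hgen x
    rw [map_mul]
    rcases hzp b i with h | h <;> rcases hzp a j with h' | h' <;> rw [h, h'] <;> simp
  have hβ1 : β 1 = 1 := by
    have h := hβ 1
    rw [map_one, map_one, map_one] at h
    exact h
  have hβinj : ∀ {x y : X}, q (α x) = q (α y) → q x = q y := by
    intro x y h
    rw [QuotientGroup.mk'_apply, QuotientGroup.mk'_apply, QuotientGroup.eq] at h ⊢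
    rw [← map_inv, ← map_mul] at h
    exact (hαΦ _).1 h
  have hsq : ∀ x : X, q (α (α x)) = q x → q (α x) = q x := by
    intro x h
    have h2 := hfix2 β (q x) (hβr x) (by rw [hβ, hβ]; exact h)
    rwa [hβ] at h2
  have hA1 : q a ≠ 1 ∧ q (α a) ≠ q a := by
    by_contra hcon
    have hafix : q (α a) = q a := by
      by_contra h
      refine hcon ⟨fun h1 => h ?_, h⟩
      rw [← hβ, h1, hβ1]
    have hbfix : q (α b) = q b := by
      rcases hQ (α b) with h | h | h | h
      · have hb1 : q b = 1 := by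
          have h' : q (α b) = q (α 1) := by rw [h, map_one, map_one]
          exact (hβinj h').trans (map_one q)
        rw [h, hb1]
      · have := hβinj (h.trans hafix.symm)
        rw [h, this]
      · exact h
      · refine hsq b ?_
        rw [← hβ, h, hβm, hβ, hβ, hafix, h, mul_assoc, hqs, mul_one]
    refine hx0 ?_
    rcases hQ x0 with h | h | h | h
    · rw [← hβ, h, hβ1]
    · rw [← hβ, h, hβ, hafix]
    · rw [← hβ, h, hβ, hbfix]
    · rw [← hβ, h, hβm, hβ, hβ, hafix, hbfix]
  obtain ⟨hA0, hA1⟩ := hA1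
  set a1 := α a with ha1
  set a2 := α a1 with ha2
  have hA10 : q a1 ≠ 1 := by
    intro h
    refine hA0 ?_
    have h' : q (α a) = q (α 1) := by rw [map_one α, map_one q]; exact h
    exact (hβinj h').trans (map_one q)
  have hA20 : q a2 ≠ 1 := by
    intro h
    refine hA10 ?_
    have h' : q (α a1) = q (α 1) := by rw [map_one α, map_one q]; exact h
    exact (hβinj h').trans (map_one q)
  have hA21 : q a2 ≠ q a1 := fun h => hA1 (hβinj h)
  have hA2a : q a2 ≠ q a := fun h => hA1 (hsq a h)
  -- the four cosets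
  have hQ' : ∀ x : X, q x = 1 ∨ q x = q a ∨ q x = q a1 ∨ q x = q a1 * q a := by
    intro x
    rcases hQ a1 with h | h | h | h
    · exact absurd h hA10
    · exact absurd h hA1
    · rcases hQ x with h' | h' | h' | h' <;> rw [h] <;> tauto
    · have h'' : q b = q a1 * q a := by rw [h, mul_assoc, hqs, mul_one]
      rcases hQ x with h' | h' | h' | h'
      · exact Or.inl h'
      · exact Or.inr (Or.inl h')
      · exact Or.inr (Or.inr (Or.inr (h'.trans h'')))
      · exact Or.inr (Or.inr (Or.inl (h'.trans h.symm)))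
  have hA2eq : q a2 = q a1 * q a := by
    rcases hQ' a2 with h | h | h | h
    · exact absurd h hA20
    · exact absurd h hA2a
    · exact absurd h hA21
    · exact h
  set N1 := N.map (α : X →* X) with hN1
  set N2 := N1.map (α : X →* X) with hN2
  haveI : N1.Normal := hNn.map _ α.surjective
  haveI : N2.Normal := Subgroup.Normal.map inferInstance _ α.surjective
  have hN1a : N1 = zpowers a1 := by rw [hN1, hNa, MonoidHom.map_zpowers]; rfl
  have hN2a : N2 = zpowers a2 := by rw [hN2, hN1a, MonoidHom.map_zpowers]; rfl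
  have hspan : ∀ M : Subgroup X, a ∈ M → (∃ g ∈ M, q g = q a1) → M = ⊤ := by
    rintro M haM ⟨g, hgM, hg⟩
    refine frattini_nongenerating (eq_top_iff.2 fun x _ => ?_)
    obtain ⟨y, hyM, hy⟩ : ∃ y ∈ M, q y = q x := by
      rcases hQ' x with h | h | h | h
      · exact ⟨1, M.one_mem, by rw [h, map_one]⟩
      · exact ⟨a, haM, h.symm⟩
      · exact ⟨g, hgM, hg.trans h.symm⟩
      · exact ⟨g * a, M.mul_mem hgM haM, by rw [h, map_mul, hg]⟩
    have hx : x = y * (y⁻¹ * x) := by group
    rw [hx]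
    exact mul_mem (mem_sup_left hyM) (mem_sup_right (QuotientGroup.eq.1 hy))
  have haN1 : a1 ∈ N1 := ⟨a, haN, rfl⟩
  have hsup1 : N ⊔ N1 = ⊤ := hspan _ (mem_sup_left haN) ⟨a1, mem_sup_right haN1, rfl⟩
  have hsup2 : N ⊔ N2 = ⊤ := by
    refine hspan _ (mem_sup_left haN) ⟨a2 * a, mul_mem (mem_sup_right ⟨a1, haN1, rfl⟩) (mem_sup_left haN), ?_⟩
    rw [map_mul, hA2eq, mul_assoc, hqs, mul_one]
  have hcard1 : Nat.card N1 = Nat.card N := card_map_of_injective α.injective
  have hcard2 : Nat.card N2 = Nat.card N := (card_map_of_injective α.injective).trans hcard1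
  have hrel : ∀ M : Subgroup X, M.Normal → N ⊔ M = ⊤ → M.relIndex N = M.index := by
    intro M _ h
    rw [← Subgroup.relIndex_sup_right N M, h, relIndex_top_right]
  have hmidx : ∀ M : Subgroup X, Nat.card M = Nat.card N → M.index = N.index := fun M h =>
    Nat.eq_of_mul_eq_mul_left (Nat.card_pos (α := N)) (by rw [N.card_mul_index, ← h, M.card_mul_index])
  set m := N.index with hmdef
  set w := a ^ m with hw
  have hW1 : N1 ⊓ N = zpowers w := by
    rw [hw, ← hmidx N1 hcard1, ← hrel N1 inferInstance hsup1, ← inf_relIndex_right N1 N]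
    have := eq_zpowers_pow a (H := N1 ⊓ N) (hNa ▸ inf_le_right)
    rwa [← hNa] at this
  have hW2 : N2 ⊓ N = zpowers w := by
    rw [hw, ← hmidx N2 hcard2, ← hrel N2 inferInstance hsup2, ← inf_relIndex_right N2 N]
    have := eq_zpowers_pow a (H := N2 ⊓ N) (hNa ▸ inf_le_right)
    rwa [← hNa] at this
  have hW1' : N1 ⊓ N = zpowers (a1 ^ m) := by
    have h1 : N.relIndex N1 = m := by
      rw [hmdef, ← Subgroup.relIndex_sup_right N1 N, sup_comm, hsup1, relIndex_top_right]
    rw [← h1, ← inf_relIndex_right N N1]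
    have := eq_zpowers_pow a1 (H := N ⊓ N1) (hN1a ▸ inf_le_right)
    rw [← hN1a] at this
    rwa [inf_comm]
  have hαw : α w = a1 ^ m := map_pow α a m
  -- `α` fixes `w`
  have hαwe : α w = w := by
    have hmap : (zpowers w).map (α : X →* X) = zpowers w := by
      rw [MonoidHom.map_zpowers]
      show zpowers (α w) = zpowers w
      rw [hαw, ← hW1', hW1]
    let γ : MulAut (zpowers w) := (α.subgroupMap (zpowers w)).trans (MulEquiv.subgroupCongr hmap)
    have hγ : ∀ (n : ℕ) (y : zpowers w), ((γ ^ n) y : X) = (α ^ n) (y : X) := by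
      intro n
      induction n with
      | zero => intro y; rfl
      | succ n ih =>
        intro y
        rw [pow_succ', pow_succ', MulAut.mul_apply, MulAut.mul_apply, ← ih]
        rfl
    have hγr : γ ^ r = 1 := MulEquiv.ext fun y => Subtype.ext (by rw [hγ, hαr]; rfl)
    have h1 : orderOf γ = 1 := by
      obtain ⟨k, hk⟩ := IsPGroup.iff_card.1 (hX.to_subgroup (zpowers w))
      have h2 : orderOf γ ∣ Nat.card (MulAut (zpowers w)) := orderOf_dvd_natCard γ
      rw [IsCyclic.card_mulAut, hk] at h2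
      rcases k with _ | k
      · simpa using h2
      · rw [Nat.totient_prime_pow_succ Nat.prime_two, Nat.add_one_sub_one, mul_one] at h2
        exact Nat.eq_one_of_dvd_coprimes
          (Nat.Coprime.pow_left k ((Nat.coprime_primes Nat.prime_two hr).2 (Ne.symm hr2))) h2
          (orderOf_dvd_of_pow_eq_one hγr)
    have h3 := hγ 1 ⟨w, mem_zpowers w⟩
    rw [pow_one, pow_one, orderOf_eq_one_iff.1 h1] at h3
    exact h3.symm
  have ha1m : a1 ^ m = w := by rw [← hαw, hαwe]
  have ha2m : a2 ^ m = w := by rw [ha2, ← map_pow, ha1m, hαwe]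
  -- the centre contains the intersection
  have hclo : closure ({a, a1} : Set X) = ⊤ :=
    hspan _ (subset_closure (by simp)) ⟨a1, subset_closure (by simp), rfl⟩
  have hWZ : N1 ⊓ N ≤ center X := by
    intro y hy
    rw [← centralizer_univ, ← coe_top, ← hclo, centralizer_closure, mem_centralizer_iff]
    rintro g (rfl | rfl)
    · obtain ⟨k, hk⟩ := mem_zpowers_iff.1 (hNa ▸ hy.2)
      rw [← hk]; exact (Commute.refl g).zpow_right k
    · obtain ⟨k, hk⟩ := mem_zpowers_iff.1 (hN1a ▸ hy.1)
      rw [← hk]; exact (Commute.refl _).zpow_right k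
  set c := a1⁻¹ * a⁻¹ * a1 * a with hc
  have hcW : c ∈ N1 ⊓ N := by
    constructor
    · rw [hc, show a1⁻¹ * a⁻¹ * a1 * a = a1⁻¹ * (a⁻¹ * a1 * a⁻¹⁻¹) by group]
      exact N1.mul_mem (N1.inv_mem haN1) (Subgroup.Normal.conj_mem inferInstance a1 haN1 a⁻¹)
    · rw [hc, show a1⁻¹ * a⁻¹ * a1 * a = (a1⁻¹ * a⁻¹ * a1⁻¹⁻¹) * a by group]
      exact N.mul_mem (hNn.conj_mem a⁻¹ (N.inv_mem haN) a1⁻¹) haN
  have hcz := hWZ hcW
  have hba : a1 * a = a * a1 * c := by rw [hc]; group
  have hcm : c ^ m = 1 := by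
    have h := (mul_pow_central hba hcz m).1
    rw [ha1m, ← (mem_center_iff.1 (hWZ (hW1.ge (mem_zpowers w))) a)] at h
    simpa using h
  obtain ⟨s, hs⟩ := hX.index N
  have hs : m = 2 ^ s := hs
  -- `a2 = a ^ i * a1 ^ l`
  obtain ⟨y, hy, z, hz, hyz⟩ := mem_sup_of_normal_right.1 (hsup1.ge (mem_top a2))
  rw [hNa, ← mem_powers_iff_mem_zpowers] at hy
  rw [hN1a, ← mem_powers_iff_mem_zpowers] at hz
  obtain ⟨i, rfl⟩ := hy
  obtain ⟨l, rfl⟩ := hz
  dsimp only at hyz
  have hi : Odd i := by
    by_contra h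
    obtain ⟨k, hk⟩ := Nat.not_odd_iff_even.1 h
    have h2 : q a2 = q (a1 ^ (l : ℤ)) := by
      rw [zpow_natCast, ← hyz, hk, map_mul, ← two_mul, pow_mul, map_pow, map_pow, pow_two, hqs, one_pow, one_mul]
    rcases hzp a1 l with h' | h' <;> rw [h'] at h2
    · exact hA20 h2
    · exact hA21 h2
  have hl : Odd l := by
    by_contra h
    obtain ⟨k, hk⟩ := Nat.not_odd_iff_even.1 h
    have h2 : q a2 = q (a ^ (i : ℤ)) := by
      rw [zpow_natCast, ← hyz, hk, map_mul, ← two_mul, pow_mul a1, map_pow, map_pow q (a1 ^ 2), map_pow, pow_two, hqs, one_pow, mul_one]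
    rcases hzp a i with h' | h' <;> rw [h'] at h2
    · exact hA20 h2
    · exact hA2a h2
  have hd : a1 ^ l * a ^ i = a ^ i * a1 ^ l * c ^ (l * i) := by
    have h1 := (mul_pow_central hba hcz l).1
    have hcl : c ^ l ∈ center X := (center X).pow_mem hcz l
    have h2 : a * a1 ^ l = a1 ^ l * a * (c ^ l)⁻¹ := by rw [h1, mul_inv_cancel_right]
    have h3 := (mul_pow_central h2 ((center X).inv_mem hcl) i).1
    rw [h3, inv_pow, ← pow_mul, inv_mul_cancel_right]
  have hexp := (mul_pow_central hd ((center X).pow_mem hcz _) m).2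
  rw [hyz, ha2m, pow_right_comm a i m, pow_right_comm a1 l m, ha1m] at hexp
  rw [show (a ^ m) ^ i = w ^ i from rfl, ← pow_mul c (l * i), ← pow_add w i l] at hexp
  have hs0 : s ≠ 0 := by
    rintro rfl
    have hNtop : N = ⊤ := index_eq_one.1 (by show m = 1; rw [hs, pow_zero])
    obtain ⟨k, hk⟩ := mem_zpowers_iff.1 (hNa ▸ hNtop ▸ mem_top a1 : a1 ∈ zpowers a)
    rcases hzp a k with h | h <;> rw [hk] at h
    · exact hA10 h
    · exact hA1 h
  have hrelm : Nat.card ↥(N1 ⊓ N) * m = Nat.card N := by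
    rw [← hmidx N1 hcard1, ← hrel N1 inferInstance hsup1, ← inf_relIndex_right N1 N,
      ← Nat.card_congr (subgroupOfEquivOfLe (inf_le_right : N1 ⊓ N ≤ N)).toEquiv]
    exact card_mul_index _
  by_cases hw1 : w = 1
  · -- the abelian case
    right
    have hbot : N1 ⊓ N = ⊥ := by rw [hW1, hw1, zpowers_one_eq_bot]
    have hc1 : c = 1 := mem_bot.1 (hbot ▸ hcW)
    rw [hbot, card_bot, one_mul] at hrelm
    refine ⟨s, ?_⟩
    rw [hc1, mul_one] at hba
    have hcomm : ∀ (u : N) (v : N1), Commute (u : X) (v : X) := by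
      rintro ⟨u, hu⟩ ⟨v, hv⟩
      obtain ⟨k, rfl⟩ := mem_zpowers_iff.1 (hNa ▸ hu)
      obtain ⟨k', rfl⟩ := mem_zpowers_iff.1 (hN1a ▸ hv)
      exact (Commute.zpow_zpow (hba.symm : Commute a a1) k k')
    let f := MonoidHom.noncommCoprod N.subtype N1.subtype hcomm
    have hf : Function.Injective f := by
      refine (injective_iff_map_eq_one f).2 ?_
      rintro ⟨u, v⟩ h
      have h' : (u : X) * v = 1 := h
      have hu : (u : X) ∈ N1 ⊓ N := ⟨by rw [eq_inv_of_mul_eq_one_left h']; exact N1.inv_mem v.2, u.2⟩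
      rw [hbot, mem_bot] at hu
      rw [hu, one_mul] at h'
      exact Prod.ext (Subtype.ext hu) (Subtype.ext h')
    have hbij := hf.bijective_of_nat_card_le (by
      rw [Nat.card_prod, hcard1, ← N.card_mul_index, ← hmdef, hrelm])
    haveI : IsCyclic N := hNc
    haveI : IsCyclic N1 := by rw [hN1a]; infer_instance
    have e1 : Multiplicative (ZMod (2 ^ s)) ≃* N := zmodMulEquivOfGenerator (g := ⟨a, haN⟩) ha (by rw [← hrelm, hs])
    exact ⟨(MulEquiv.ofBijective f hbij).symm.trans ((MulEquiv.prodCongr e1 (e1.trans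
      (mulEquivOfCyclicCardEq hcard1.symm))).symm)⟩
  · left
    obtain ⟨j, hj⟩ := hX.exists_orderOf_eq_pow w
    have hj0 : j ≠ 0 := by rintro rfl; exact hw1 (orderOf_eq_one_iff.1 (by simpa using hj))
    have hcw : c ∈ zpowers w := hW1 ▸ hcW
    obtain ⟨e, he⟩ := mem_powers_iff_mem_zpowers.2 hcw
    have he : w ^ e = c := he
    have hmod : (i + l + e * (l * i * m.choose 2)) ≡ 1 [MOD 2 ^ j] := by
      rw [← hj, ← pow_eq_pow_iff_modEq, pow_one, pow_add, pow_mul, he]
      exact hexp.symm
    have hodd : Odd (i + l + e * (l * i * m.choose 2)) := by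
      rw [Nat.odd_iff]
      exact Nat.ModEq.of_dvd (dvd_pow_self 2 hj0) hmod
    have hE : Odd (e * (l * i * m.choose 2)) := by
      rw [Nat.odd_add] at hodd
      by_contra h
      exact Nat.not_odd_iff_even.2 (hi.add_odd hl) (hodd.2 (Nat.not_odd_iff_even.1 h))
    obtain ⟨heo, hC⟩ := Nat.odd_mul.1 hE
    have hC := (Nat.odd_mul.1 hC).2
    obtain rfl : s = 1 := by
      by_contra h
      obtain ⟨t, rfl⟩ : ∃ t, s = t + 2 := ⟨s - 2, by omega⟩
      rw [hs, Nat.choose_two_right, pow_succ 2 (t + 1), mul_comm (2 ^ (t + 1)) 2, mul_assoc,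
        Nat.mul_div_cancel_left _ (by norm_num)] at hC
      exact Nat.not_odd_iff_even.2 ((Nat.even_pow.2 ⟨even_two, by omega⟩).mul_right _) hC
    rw [pow_one] at hs
    have hjj : orderOf w = 2 := by
      have h1 : 2 ^ j ∣ e * 2 := hj ▸ orderOf_dvd_of_pow_eq_one (by rw [pow_mul, he, ← hs, hcm])
      have h2 := Nat.le_of_dvd two_pos
        ((Nat.Coprime.pow_left j (Nat.coprime_two_left.2 heo)).dvd_of_dvd_mul_left h1)
      rw [hj]
      exact le_antisymm h2 (Nat.le_self_pow hj0 2)
    have hcw1 : c = w := by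
      obtain ⟨k, rfl⟩ := heo
      rw [← he, pow_succ, pow_mul, ← hjj, pow_orderOf_eq_one, one_pow, one_mul]
    have hao : orderOf a = 2 * 2 := by
      rw [← Nat.card_zpowers, ← hNa, ← hrelm, hW1, Nat.card_zpowers, hjj, hs]
    have hinv : a1 * a * a1⁻¹ = a⁻¹ := by
      have h4 : a ^ 4 = 1 := by
        rw [show (4 : ℕ) = 2 * 2 by rfl, ← hao, pow_orderOf_eq_one]
      rw [eq_inv_iff_mul_eq_one, hba, mul_assoc a, mem_center_iff.1 hcz a1, hcw1]
      calc a * (w * a1) * a1⁻¹ * a = a * w * a := by group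
        _ = a * a ^ 2 * a := by rw [hw, hs]
        _ = 1 := by rw [← h4]; group
    have hnot : a1 ∉ zpowers a := fun h => by
      obtain ⟨k, hk⟩ := mem_zpowers_iff.1 h
      rcases hzp a k with h' | h' <;> rw [hk] at h'
      · exact hA10 h'
      · exact hA1 h'
    obtain ⟨E⟩ := Cfsg.Lib.TwoFus.nonempty_quaternion hao (m := 2)
      (by rw [← pow_two, ← hs, ha1m]) hinv hnot
    rw [hclo] at E
    exact ⟨topEquiv.symm.trans E⟩

end Cfsg.Agent.S1896
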