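import Cfsg.Statements.S1910
import Cfsg.Agent.Lib.Solv.PGroupBasic
-- import your own Cfsg.Agent.* helpers here

set_option autoImplicit false
open Cfsg

namespace Cfsg.Agent.S1910

open Subgroup
open scoped commutatorElement

variable {G : Type*} [Group G] [Finite G]

theorem inf_sylow_odd (X P W : Subgroup G) (hPW : P ≤ W) (hXW : X ≤ W) (hXn : W ≤ normalizer (X : Set G))
    (hodd : ¬ 2 ∣ P.relIndex W) : ¬ 2 ∣ (P ⊓ X).relIndex X := by
  intro h
  rw [inf_relIndex_right] at h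
  apply hodd
  haveI : (X.subgroupOf W).Normal := normal_subgroupOf_of_le_normalizer hXn
  have h1 := Cfsg.Lib.Solv.relIndex_sup_left_normal (P.subgroupOf W) (X.subgroupOf W)
  rw [relIndex_subgroupOf hXW] at h1
  rw [← h1] at h
  exact h.trans (Dvd.intro _ (relIndex_mul_index le_sup_left))

theorem exists_invariant_sylow (X B A : Subgroup G) (hB : B ≤ X) (hAX : A ≤ normalizer (X : Set G))
    (h2 : IsPGroup 2 (B ⊔ A : Subgroup G)) :
    ∃ P : Subgroup G, IsPGroup 2 P ∧ B ≤ P ∧ P ≤ X ∧ A ≤ normalizer (P : Set G) ∧ ¬ 2 ∣ P.relIndex X ∧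
      IsPGroup 2 (P ⊔ A : Subgroup G) := by
  haveI := Fact.mk Nat.prime_two
  have hBW : B ⊔ A ≤ X ⊔ A := sup_le_sup_right hB A
  obtain ⟨P, hP⟩ := (h2.comap_subtype (K := X ⊔ A)).exists_le_sylow
  let P' := (P : Subgroup ↥(X ⊔ A)).map (X ⊔ A).subtype
  have hP' : IsPGroup 2 P' := P.isPGroup'.map _
  have hle : B ⊔ A ≤ P' := fun x hx => ⟨⟨x, hBW hx⟩, hP hx, rfl⟩
  have hXn : X ⊔ A ≤ normalizer (X : Set G) := sup_le le_normalizer hAX
  refine ⟨P' ⊓ X, hP'.to_inf_left, le_inf (le_sup_left.trans hle) hB, inf_le_right, ?_, ?_, ?_⟩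
  · exact (le_inf ((le_sup_right.trans hle).trans le_normalizer) hAX).trans (inf_normalizer_le_normalizer_inf (H := P') (K := X))
  · refine inf_sylow_odd X P' (X ⊔ A) (map_subtype_le _) le_sup_left hXn ?_
    rw [relIndex, subgroupOf, comap_map_eq_self_of_injective (X ⊔ A).subtype_injective]
    exact P.not_dvd_index
  · exact hP'.to_le (sup_le inf_le_left (le_sup_right.trans hle))

/-- One side of the symmetric argument. -/
theorem half (Q Q' T R P : Subgroup G) (hTP : T ≤ P) (hPQ' : P ≤ Q') (hRQ : R ≤ Q)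
    (hRP : R ≤ normalizer (P : Set G)) (h2 : IsPGroup 2 (P ⊔ R : Subgroup G))
    (hPN : P ⊓ normalizer (Q : Set G) = T) (hRQ' : R ⊓ Q' = ⊥) (hcomm : ∀ t ∈ T, ∀ r ∈ R, t * r = r * t)
    (htight : ∀ s, s ∉ normalizer (Q : Set G) → Odd (Nat.card ↥(Q ⊓ Q.map (MulAut.conj s).toMonoidHom)))
    (hlt : T < P) : ∃ f : R →* T, Function.Injective f := by
  classical
  haveI := Fact.mk Nat.prime_two
  let W := T ⊔ R
  have hW : W < P ⊔ R := by
    refine lt_of_le_of_ne (sup_le_sup_right hTP R) fun h => ?_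
    obtain ⟨x, hxP, hxT⟩ := SetLike.exists_of_lt hlt
    have hx : x ∈ T ⊔ R := by rw [show T ⊔ R = P ⊔ R from h]; exact mem_sup_left hxP
    have hRn : R ≤ normalizer (T : Set G) := fun r hr => centralizer_le_normalizer _
      (mem_centralizer_iff.2 fun t ht => hcomm t ht r hr)
    have hx' : x ∈ (↑(T ⊔ R) : Set G) := hx
    rw [coe_mul_of_right_le_normalizer_left T R hRn] at hx'
    obtain ⟨t, ht, r, hr, rfl⟩ := Set.mem_mul.1 hx'
    have hr' : r ∈ R ⊓ Q' := ⟨hr, by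
      have := Q'.mul_mem (Q'.inv_mem (hPQ' (hTP ht))) (hPQ' hxP)
      rwa [inv_mul_cancel_left] at this⟩
    rw [hRQ', mem_bot] at hr'
    rw [hr', mul_one] at hxT
    exact hxT ht
  haveI := h2.isNilpotent
  obtain ⟨⟨y, hy⟩, hyn, hyW⟩ := SetLike.exists_of_lt (Group.normalizerCondition_of_isNilpotent
    (W.subgroupOf (P ⊔ R)) (lt_top_iff_ne_top.2 fun h => hW.not_ge (subgroupOf_eq_top.1 h)))
  have hy' : y ∈ (↑(P ⊔ R) : Set G) := hy
  rw [coe_mul_of_right_le_normalizer_left P R hRP] at hy'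
  obtain ⟨s, hs, r0, hr0, rfl⟩ := Set.mem_mul.1 hy'
  have hsT : s ∉ T := fun h => hyW (mem_subgroupOf.2 (mul_mem (mem_sup_left h) (mem_sup_right hr0)))
  have hsN : s ∉ normalizer (Q : Set G) := fun h => hsT (hPN ▸ ⟨hs, h⟩)
  have hsW : ∀ w ∈ W, s * w * s⁻¹ ∈ W := by
    intro w hw
    have hwW : (s * r0) * (r0⁻¹ * w * r0) * (s * r0)⁻¹ ∈ W := by
      have h1 : r0⁻¹ * w * r0 ∈ W := mul_mem (mul_mem (inv_mem (mem_sup_right hr0)) hw) (mem_sup_right hr0)
      exact (mem_normalizer_iff.1 hyn ⟨_, sup_le_sup_right hTP R h1⟩).1 h1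
    simpa [mul_assoc] using hwW
  have hRn : R ≤ normalizer (T : Set G) := fun r hr => centralizer_le_normalizer _
    (mem_centralizer_iff.2 fun t ht => hcomm t ht r hr)
  have hdec : ∀ r : R, ∃ t : T, ∃ r' : R, s * (r : G) * s⁻¹ = (t : G) * r' := by
    intro r
    have hx : s * (r : G) * s⁻¹ ∈ T ⊔ R := hsW _ (mem_sup_right r.2)
    have hx' : s * (r : G) * s⁻¹ ∈ (↑(T ⊔ R) : Set G) := hx
    rw [coe_mul_of_right_le_normalizer_left T R hRn] at hx'
    obtain ⟨t, ht, r', hr', he⟩ := Set.mem_mul.1 hx'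
    exact ⟨⟨t, ht⟩, ⟨r', hr'⟩, he.symm⟩
  choose f f' hf using hdec
  have huniq : ∀ (t₁ t₂ : T) (r₁ r₂ : R), (t₁ : G) * r₁ = t₂ * r₂ → t₁ = t₂ := by
    intro t₁ t₂ r₁ r₂ h
    have h1 : ((t₂⁻¹ * t₁ : T) : G) = ((r₂ * r₁⁻¹ : R) : G) := by
      simp only [Subgroup.coe_mul, InvMemClass.coe_inv]
      rw [inv_mul_eq_iff_eq_mul, ← mul_assoc, ← h, mul_inv_cancel_right]
    have h2 : ((t₂⁻¹ * t₁ : T) : G) ∈ R ⊓ Q' := ⟨h1 ▸ (r₂ * r₁⁻¹).2, hPQ' (hTP (t₂⁻¹ * t₁).2)⟩
    rw [hRQ', mem_bot] at h2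
    exact (inv_mul_eq_one.1 (Subtype.ext h2)).symm
  refine ⟨MonoidHom.mk' f fun a b => ?_, (injective_iff_map_eq_one _).2 fun a ha => ?_⟩
  · refine huniq _ _ (f' (a * b)) (f' a * f' b) ?_
    rw [← hf]
    push_cast
    calc s * ((a : G) * b) * s⁻¹ = (s * a * s⁻¹) * (s * b * s⁻¹) := by group
      _ = (f a : G) * ((f' a : G) * f b) * f' b := by rw [hf, hf]; group
      _ = _ := by rw [← hcomm _ (f b).2 _ (f' a).2]; group
  · change f a = 1 at ha
    have h1 : s * (a : G) * s⁻¹ ∈ R := by rw [hf, ha, Subgroup.coe_one, one_mul]; exact (f' a).2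
    by_contra hne
    have hp : IsPGroup 2 R := h2.to_le le_sup_right
    obtain ⟨k, hk⟩ := IsPGroup.iff_orderOf.1 hp ⟨_, h1⟩
    rw [Subgroup.orderOf_mk] at hk
    have hd := Subgroup.orderOf_dvd_natCard (Q ⊓ Q.map (MulAut.conj s).toMonoidHom)
      (show s * (a : G) * s⁻¹ ∈ Q ⊓ Q.map (MulAut.conj s).toMonoidHom from ⟨hRQ h1, ⟨a, hRQ a.2, rfl⟩⟩)
    rw [hk] at hd
    have := Nat.eq_one_of_dvd_coprimes (Nat.Coprime.pow_left k ((Nat.coprime_two_left).2 (htight s hsN))) dvd_rfl hd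
    rw [this, orderOf_eq_one_iff, conj_eq_one_iff] at hk
    exact hne (Subtype.ext hk)

theorem eq_of_le_of_not_dvd {A B : Subgroup G} (hB : IsPGroup 2 B) (hodd : ¬ 2 ∣ A.relIndex B) (h : A ≤ B) :
    A = B := by
  haveI := Fact.mk Nat.prime_two
  refine le_antisymm h (relIndex_eq_one.1 ?_)
  obtain ⟨n, hn⟩ := IsPGroup.iff_card.1 hB
  obtain ⟨i, -, hi⟩ := (Nat.dvd_prime_pow Nat.prime_two).1 (hn ▸ relIndex_dvd_card A B)
  rcases i with _ | i
  · simpa using hi
  · exact absurd (hi ▸ dvd_pow_self 2 i.succ_ne_zero) hodd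


/-- Let Q be a tightly embedded subgroup of a finite group G, g an element outside N_G(Q), T a nontrivial Sylow 2-subgroup of Q^g ∩ N_G(Q), and S a Sylow 2-subgroup of QT containing T. Then T ∩ Q = 1, and N_S(T) is the direct product of T and N_S(T) ∩ Q, with N_S(T) ∩ Q isomorphic to T. -/
theorem result {G : Type*} [Group G] [Finite G] (Q : Subgroup G) (hQ : Cfsg.IsTightlyEmbedded Q)
    (g : G) (hg : g ∉ Subgroup.normalizer (Q : Set G))
    (T : Subgroup G) (hT1 : T ≠ ⊥) (hT : T ≤ Q.map (MulAut.conj g).toMonoidHom ⊓ Subgroup.normalizer (Q : Set G))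
    (hTsyl : IsPGroup 2 T ∧ ¬ 2 ∣ T.relIndex (Q.map (MulAut.conj g).toMonoidHom ⊓ Subgroup.normalizer (Q : Set G)))
    (S : Subgroup G) (hTS : T ≤ S) (hS : S ≤ Q ⊔ T) (hSsyl : IsPGroup 2 S ∧ ¬ 2 ∣ S.relIndex (Q ⊔ T)) :
    T ⊓ Q = ⊥ ∧
      T ⊓ (S ⊓ Subgroup.normalizer (T : Set G) ⊓ Q) = ⊥ ∧
      ⁅T, S ⊓ Subgroup.normalizer (T : Set G) ⊓ Q⁆ = ⊥ ∧
      T ⊔ (S ⊓ Subgroup.normalizer (T : Set G) ⊓ Q) = S ⊓ Subgroup.normalizer (T : Set G) ∧
      Nonempty (↥(S ⊓ Subgroup.normalizer (T : Set G) ⊓ Q) ≃* T) := by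
  classical
  haveI := Fact.mk Nat.prime_two
  obtain ⟨hTp, hTodd⟩ := hTsyl
  obtain ⟨hSp, hSodd⟩ := hSsyl
  let Q' := Q.map (MulAut.conj g).toMonoidHom
  let SQ := S ⊓ Q
  have hTQ' : T ≤ Q' := hT.trans inf_le_left
  have hTN : T ≤ Subgroup.normalizer (Q : Set G) := hT.trans inf_le_right
  have hoddQ : Odd (Nat.card ↥(Q ⊓ Q')) := hQ.2 g hg
  have htriv : ∀ x : G, x ∈ Q → x ∈ Q' → (∃ k, x ^ 2 ^ k = 1) → x = 1 := by
    intro x hxQ hxQ' ⟨k, hk⟩
    exact orderOf_eq_one_iff.1 (Nat.eq_one_of_dvd_coprimes (Nat.Coprime.pow_left k ((Nat.coprime_two_left).2 hoddQ))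
      (orderOf_dvd_of_pow_eq_one hk) (Subgroup.orderOf_dvd_natCard _ ⟨hxQ, hxQ'⟩))
  have hS2 : ∀ x ∈ S, ∃ k, x ^ 2 ^ k = 1 := fun x hx => by
    obtain ⟨k, hk⟩ := hSp ⟨x, hx⟩
    exact ⟨k, congrArg Subtype.val hk⟩
  have hTQ : T ⊓ Q = ⊥ := eq_bot_iff.2 fun x hx =>
    Subgroup.mem_bot.2 (htriv x hx.2 (hTQ' hx.1) (hS2 x (hTS hx.1)))
  let R := S ⊓ Subgroup.normalizer (T : Set G) ⊓ Q
  have hRcomm : ∀ t ∈ T, ∀ r ∈ R, t * r = r * t := by
    rintro t ht r ⟨⟨hrS, hrN⟩, hrQ⟩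
    have h1 : t * r * t⁻¹ * r⁻¹ ∈ T := by
      have := T.mul_mem ht ((Subgroup.mem_normalizer_iff.1 hrN t⁻¹).1 (T.inv_mem ht))
      simpa [mul_assoc] using this
    have h2 : t * r * t⁻¹ * r⁻¹ ∈ Q := Q.mul_mem ((Subgroup.mem_normalizer_iff.1 (hTN ht) r).1 hrQ) (Q.inv_mem hrQ)
    have h3 : t * r * t⁻¹ * r⁻¹ ∈ T ⊓ Q := ⟨h1, h2⟩
    rw [hTQ, Subgroup.mem_bot, mul_inv_eq_one, mul_inv_eq_iff_eq_mul] at h3
    exact h3
  have hTR : T ⊓ R = ⊥ := eq_bot_iff.2 fun x hx => hTQ.le ⟨hx.1, hx.2.2⟩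
  have hTn : ∀ x ∈ T, x ∈ Subgroup.normalizer (T : Set G) := fun x hx => Subgroup.le_normalizer hx
  have hprod : T ⊔ R = S ⊓ Subgroup.normalizer (T : Set G) := by
    refine le_antisymm (sup_le (le_inf hTS Subgroup.le_normalizer) inf_le_left) fun x hx => ?_
    have hx' : x ∈ Q ⊔ T := hS hx.1
    have hx'' : x ∈ (↑(Q ⊔ T) : Set G) := hx'
    rw [Subgroup.coe_mul_of_right_le_normalizer_left Q T hTN] at hx''
    obtain ⟨q, hq, t, ht, rfl⟩ := Set.mem_mul.1 hx''
    refine Subgroup.mul_mem _ (Subgroup.mem_sup_right ⟨⟨?_, ?_⟩, hq⟩) (Subgroup.mem_sup_left ht)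
    · have := S.mul_mem hx.1 (S.inv_mem (hTS ht))
      rwa [mul_inv_cancel_right] at this
    · have := (Subgroup.normalizer (T : Set G)).mul_mem hx.2 (Subgroup.inv_mem _ (hTn t ht))
      rwa [mul_inv_cancel_right] at this
  refine ⟨hTQ, hTR, ?_, hprod, ?_⟩
  · rw [Subgroup.commutator_eq_bot_iff_le_centralizer]
    exact fun t ht => Subgroup.mem_centralizer_iff.2 fun r hr => (hRcomm t ht r hr).symm
  have hRp : IsPGroup 2 R := hSp.to_le (inf_le_left.trans inf_le_left)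
  by_cases hR1 : R = ⊥
  · -- this does not occur: the centre of `S` meets `Q`
    exfalso
    have hSQ : SQ ≠ ⊥ := by
      intro h
      have h1 := inf_sylow_odd Q S (Q ⊔ T) hS le_sup_left (sup_le Subgroup.le_normalizer hTN) hSodd
      rw [show S ⊓ Q = ⊥ from h, Subgroup.relIndex_bot_left] at h1
      exact h1 (even_iff_two_dvd.1 hQ.1)
    have hn : T ≤ Subgroup.normalizer (SQ : Set G) :=
      (le_inf (hTS.trans Subgroup.le_normalizer) hTN).trans (Subgroup.inf_normalizer_le_normalizer_inf (H := S) (K := Q))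
    have hp : IsPGroup 2 SQ := hSp.to_le inf_le_left
    let act : T →* MulAut SQ :=
      MonoidHom.mk' (fun t =>
        { toFun := fun x => ⟨(t : G) * x * (t : G)⁻¹, (Subgroup.mem_normalizer_iff.1 (hn t.2) x).1 x.2⟩
          invFun := fun x => ⟨(t : G)⁻¹ * x * t, (Subgroup.mem_normalizer_iff.1 (hn t.2) _).2 (by simp [mul_assoc])⟩
          left_inv := fun x => Subtype.ext (by simp [mul_assoc])
          right_inv := fun x => Subtype.ext (by simp [mul_assoc])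
          map_mul' := fun a b => Subtype.ext (by simp [mul_assoc]) })
        (fun a b => by ext x; simp [mul_assoc])
    letI : MulAction T SQ := MulAction.compHom _ act
    obtain ⟨n, hn2⟩ := IsPGroup.iff_card.1 hp
    have hd : 2 ∣ Nat.card SQ := by
      rw [hn2]
      rcases n with _ | n
      · exact absurd (Subgroup.eq_bot_of_card_eq SQ (by simpa using hn2)) hSQ
      · exact dvd_pow_self 2 n.succ_ne_zero
    have hfix : (1 : SQ) ∈ MulAction.fixedPoints T SQ := fun t => map_one (act t)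
    obtain ⟨b, hb, hb1⟩ := hTp.exists_fixed_point_of_prime_dvd_card_of_fixed_point SQ hd hfix
    have hbR : (b : G) ∈ R := by
      refine ⟨⟨b.2.1, Subgroup.centralizer_le_normalizer _ (Subgroup.mem_centralizer_iff.2 fun t ht => ?_)⟩, b.2.2⟩
      exact mul_inv_eq_iff_eq_mul.1 (congrArg Subtype.val (hb ⟨t, ht⟩))
    rw [hR1, Subgroup.mem_bot] at hbR
    exact hb1 (Subtype.ext hbR.symm)
  have hinvol : ∀ (H : Subgroup G), IsPGroup 2 H → H ≠ ⊥ → ∃ i ∈ H, orderOf i = 2 := by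
    intro H hH hne
    obtain ⟨n, hn⟩ := IsPGroup.iff_card.1 hH
    obtain ⟨i, hi⟩ := exists_prime_orderOf_dvd_card' (G := H) 2 (by
      rw [hn]
      rcases n with _ | n
      · exact absurd (Subgroup.eq_bot_of_card_eq H (by simpa using hn)) hne
      · exact dvd_pow_self 2 n.succ_ne_zero)
    exact ⟨i, i.2, by rwa [Subgroup.orderOf_coe]⟩
  have hconjmem : ∀ (s : G) (X : Subgroup G) (x : G), x ∈ X.map (MulAut.conj s).toMonoidHom ↔ s⁻¹ * x * s ∈ X := by
    intro s X x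
    constructor
    · rintro ⟨y, hy, rfl⟩; simpa [mul_assoc] using hy
    · exact fun h => ⟨_, h, by simp [mul_assoc]⟩
  have htight' : ∀ s, s ∉ Subgroup.normalizer (Q' : Set G) →
      Odd (Nat.card ↥(Q' ⊓ Q'.map (MulAut.conj s).toMonoidHom)) := by
    intro s hs
    have hn : g⁻¹ * s * g ∉ Subgroup.normalizer (Q : Set G) := by
      intro h
      apply hs
      refine Subgroup.mem_normalizer_iff.2 fun x => ?_
      rw [hconjmem, hconjmem]
      have := Subgroup.mem_normalizer_iff.1 h (g⁻¹ * x * g)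
      simpa [mul_assoc] using this
    have h1 := hQ.2 _ hn
    rw [← Subgroup.card_map_of_injective (f := (MulAut.conj g).toMonoidHom) (MulAut.conj g).injective] at h1
    have e : Q' ⊓ Q'.map (MulAut.conj s).toMonoidHom =
        (Q ⊓ Q.map (MulAut.conj (g⁻¹ * s * g)).toMonoidHom).map (MulAut.conj g).toMonoidHom := by
      ext x
      rw [Subgroup.mem_inf, hconjmem g, hconjmem s, hconjmem g, hconjmem g, Subgroup.mem_inf, hconjmem]
      simp [mul_assoc]
    rw [e]; exact h1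
  -- `R = S ∩ Q ∩ N(Q')`
  have hRN : R ≤ Subgroup.normalizer (Q' : Set G) := by
    intro r hr
    by_contra h
    obtain ⟨i, hi, hi2⟩ := hinvol T hTp hT1
    have h1 : i ∈ Q' ⊓ Q'.map (MulAut.conj r).toMonoidHom := ⟨hTQ' hi, by
      refine (hconjmem r Q' i).2 ?_; rw [mul_assoc, hRcomm i hi r hr, inv_mul_cancel_left]; exact hTQ' hi⟩
    exact Nat.not_odd_iff_even.2 (even_iff_two_dvd.2 (hi2 ▸ Subgroup.orderOf_dvd_natCard _ h1)) (htight' r h)
  have hR_eq : SQ ⊓ Subgroup.normalizer (Q' : Set G) = R := by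
    refine le_antisymm ?_ (le_inf (le_inf (inf_le_left.trans inf_le_left) inf_le_right) hRN)
    rintro r ⟨⟨hrS, hrQ⟩, hrN⟩
    refine ⟨⟨hrS, Subgroup.centralizer_le_normalizer _ (Subgroup.mem_centralizer_iff.2 fun t ht => ?_)⟩, hrQ⟩
    have h1 : t * r * t⁻¹ * r⁻¹ = 1 := by
      refine htriv _ (Q.mul_mem ((Subgroup.mem_normalizer_iff.1 (hTN ht) r).1 hrQ) (Q.inv_mem hrQ)) ?_
        (hS2 _ (S.mul_mem (S.mul_mem (S.mul_mem (hTS ht) hrS) (S.inv_mem (hTS ht))) (S.inv_mem hrS)))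
      have := Q'.mul_mem (hTQ' ht) ((Subgroup.mem_normalizer_iff.1 hrN t⁻¹).1 (Q'.inv_mem (hTQ' ht)))
      simpa [mul_assoc] using this
    rw [mul_inv_eq_one, mul_inv_eq_iff_eq_mul] at h1
    exact h1
  have hTR2 : IsPGroup 2 (T ⊔ R : Subgroup G) := hSp.to_le (hprod.le.trans inf_le_left)
  obtain ⟨P, hPp, hTP, hPQ', hRP, hPodd, hPR⟩ := exists_invariant_sylow Q' T R hTQ' hRN hTR2
  have hP_eq : P ⊓ Subgroup.normalizer (Q : Set G) = T := by
    refine (eq_of_le_of_not_dvd ?_ ?_ (le_inf hTP hTN)).symm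
    · exact hPp.to_le inf_le_left
    · intro h
      exact hTodd (h.trans (Dvd.intro _ (Subgroup.relIndex_mul_relIndex _ _ _ (le_inf hTP hTN) (inf_le_inf_right _ hPQ'))))
  have hSQodd : ¬ 2 ∣ SQ.relIndex Q :=
    inf_sylow_odd Q S (Q ⊔ T) hS le_sup_left (sup_le Subgroup.le_normalizer hTN) hSodd
  have hcard : Nat.card SQ = Nat.card P := by
    have key : ∀ (A X : Subgroup G), IsPGroup 2 A → A ≤ X → ¬ 2 ∣ A.relIndex X →
        Nat.card A = 2 ^ (Nat.card X).factorization 2 := by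
      intro A X hA hAX hodd
      obtain ⟨n, hn⟩ := IsPGroup.iff_card.1 hA
      have h1 := (A.subgroupOf X).card_mul_index
      rw [Nat.card_congr (Subgroup.subgroupOfEquivOfLe hAX).toEquiv] at h1
      have hi0 : (A.subgroupOf X).index ≠ 0 := Subgroup.index_ne_zero_of_finite
      rw [← h1, Nat.factorization_mul Nat.card_pos.ne' hi0, Finsupp.add_apply,
        Nat.factorization_eq_zero_of_not_dvd (n := (A.subgroupOf X).index) hodd, hn,
        Nat.prime_two.factorization_pow, Finsupp.single_eq_same, add_zero]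
    rw [key SQ Q (hSp.to_le inf_le_left) inf_le_right hSQodd, key P Q' hPp hPQ' hPodd,
      Subgroup.card_map_of_injective (MulAut.conj g).injective]
  have hRQ' : R ⊓ Q' = ⊥ := eq_bot_iff.2 fun x hx =>
    Subgroup.mem_bot.2 (htriv x hx.1.2 hx.2 (hS2 x hx.1.1.1))
  have hSQn : T ≤ Subgroup.normalizer (SQ : Set G) :=
    (le_inf (hTS.trans Subgroup.le_normalizer) hTN).trans (Subgroup.inf_normalizer_le_normalizer_inf (H := S) (K := Q))
  have hA : T < P → ∃ f : R →* T, Function.Injective f :=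
    half Q Q' T R P hTP hPQ' inf_le_right hRP hPR hP_eq hRQ' hRcomm hQ.2
  have hB : R < SQ → ∃ f : T →* R, Function.Injective f :=
    half Q' Q R T SQ (le_inf (inf_le_left.trans inf_le_left) inf_le_right) inf_le_right hTQ' hSQn
      (hSp.to_le (sup_le inf_le_left hTS)) hR_eq hTQ (fun r hr t ht => (hRcomm t ht r hr).symm) htight'
  have hle1 : R ≤ SQ := le_inf (inf_le_left.trans inf_le_left) inf_le_right
  rcases eq_or_lt_of_le hTP with hTeq | hTlt <;> rcases eq_or_lt_of_le hle1 with hReq | hRlt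
  · -- both are Sylow subgroups of conjugate groups
    let W := P.map (MulAut.conj g⁻¹).toMonoidHom
    have hWQ : W ≤ Q := by
      rintro x hx
      rw [hconjmem, inv_inv] at hx
      have := hPQ' hx
      rw [hconjmem] at this
      simpa [mul_assoc] using this
    have key : ∀ A : Subgroup G, IsPGroup 2 A → A ≤ Q → Nat.card A = Nat.card SQ →
        ∃ Y : Sylow 2 Q, (Y : Subgroup Q) = A.subgroupOf Q := by
      intro A hA hAQ hc
      obtain ⟨Y, hY⟩ := (hA.comap_subtype (K := Q)).exists_le_sylow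
      refine ⟨Y, (Subgroup.eq_of_le_of_card_ge hY ?_).symm⟩
      have h1 : Nat.card (Y : Subgroup Q) = Nat.card ↥((Y : Subgroup Q).map Q.subtype) :=
        (Subgroup.card_map_of_injective Q.subtype_injective).symm
      have h2 : A ≤ (Y : Subgroup Q).map Q.subtype := fun a ha => ⟨⟨a, hAQ ha⟩, hY ha, rfl⟩
      show Nat.card (Y : Subgroup Q) ≤ Nat.card (A.subgroupOf Q)
      rw [Nat.card_congr (Subgroup.subgroupOfEquivOfLe hAQ).toEquiv, hc, Y.card_eq_multiplicity]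
      obtain ⟨n, hn⟩ := IsPGroup.iff_card.1 (show IsPGroup 2 SQ from hSp.to_le inf_le_left)
      have h3 := (SQ.subgroupOf Q).card_mul_index
      rw [Nat.card_congr (Subgroup.subgroupOfEquivOfLe (inf_le_right : SQ ≤ Q)).toEquiv] at h3
      have hi0 : (SQ.subgroupOf Q).index ≠ 0 := Subgroup.index_ne_zero_of_finite
      rw [← h3, Nat.factorization_mul Nat.card_pos.ne' hi0, Finsupp.add_apply,
        Nat.factorization_eq_zero_of_not_dvd (n := (SQ.subgroupOf Q).index) hSQodd, hn,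
        Nat.prime_two.factorization_pow, Finsupp.single_eq_same, add_zero]
    obtain ⟨Y1, hY1⟩ := key SQ (hSp.to_le inf_le_left) inf_le_right rfl
    obtain ⟨Y2, hY2⟩ := key W (hPp.map _) hWQ (by
      rw [Subgroup.card_map_of_injective (MulAut.conj g⁻¹).injective, hcard])
    have e : (SQ.subgroupOf Q : Subgroup Q) ≃* (W.subgroupOf Q : Subgroup Q) :=
      ((MulEquiv.subgroupCongr hY1.symm).trans (Sylow.equiv Y1 Y2)).trans (MulEquiv.subgroupCongr hY2)
    exact ⟨(MulEquiv.subgroupCongr hReq).trans (((Subgroup.subgroupOfEquivOfLe (inf_le_right : SQ ≤ Q)).symm.trans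
      (e.trans (Subgroup.subgroupOfEquivOfLe hWQ))).trans
        ((P.equivMapOfInjective _ (MulAut.conj g⁻¹).injective).symm.trans (MulEquiv.subgroupCongr hTeq.symm)))⟩
  · exfalso
    obtain ⟨f, hf⟩ := hB hRlt
    have h1 := Nat.card_le_card_of_injective f hf
    have h2 : Nat.card R < Nat.card SQ :=
      lt_of_le_of_ne (Subgroup.card_le_of_le hRlt.le) fun e => hRlt.ne (Subgroup.eq_of_le_of_card_ge hRlt.le e.ge)
    rw [hcard, ← hTeq] at h2
    omega
  · exfalso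
    obtain ⟨f, hf⟩ := hA hTlt
    have h1 := Nat.card_le_card_of_injective f hf
    have h2 : Nat.card T < Nat.card P :=
      lt_of_le_of_ne (Subgroup.card_le_of_le hTlt.le) fun e => hTlt.ne (Subgroup.eq_of_le_of_card_ge hTlt.le e.ge)
    have h3 : Nat.card R = Nat.card SQ := by rw [hReq]
    rw [hcard] at h3
    omega
  · obtain ⟨f, hf⟩ := hA hTlt
    obtain ⟨f', hf'⟩ := hB hRlt
    exact ⟨MulEquiv.ofBijective f (hf.bijective_of_nat_card_le (Nat.card_le_card_of_injective f' hf'))⟩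

end Cfsg.Agent.S1910
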