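import Cfsg.Statements.S1921
import Mathlib
import Cfsg.Agent.Lib.Comp.Component
-- import your own Cfsg.Agent.* helpers here

set_option autoImplicit false
open Cfsg

namespace Cfsg.Agent.S1921

/-- Let a be an involution of a finite group H and L a component of H with a L a⁻¹ ≠ L; put M = ⟨L, aLa⁻¹⟩ and let J be the subgroup generated by the elements x · a x a⁻¹ with x ∈ L (the diagonal). Then every element of M outside J·Z(M) generates M together with J. -/
theorem result {H : Type*} [Group H] [Finite H] (a : H) (ha : orderOf a = 2) (L : Subgroup H) (hL : Cfsg.IsComponent L)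
    (hLa : L.map (MulAut.conj a).toMonoidHom ≠ L) (x : H) (hxM : x ∈ L ⊔ L.map (MulAut.conj a).toMonoidHom)
    (hxJ : x ∉ Subgroup.closure {y : H | ∃ l ∈ L, y = l * (a * l * a⁻¹)} ⊔
      ((L ⊔ L.map (MulAut.conj a).toMonoidHom) ⊓ Subgroup.centralizer ((L ⊔ L.map (MulAut.conj a).toMonoidHom : Subgroup H) : Set H))) :
    Subgroup.closure {y : H | ∃ l ∈ L, y = l * (a * l * a⁻¹)} ⊔ Subgroup.zpowers x = L ⊔ L.map (MulAut.conj a).toMonoidHom := by
  set La := L.map (MulAut.conj a).toMonoidHom with hLa'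
  set M := L ⊔ La with hM
  set J := Subgroup.closure {y : H | ∃ l ∈ L, y = l * (a * l * a⁻¹)} with hJ
  have hcomm : ∀ u ∈ L, ∀ v ∈ La, u * v = v * u := fun u hu v hv =>
    (Subgroup.mem_centralizer_iff.1 (Subgroup.commutator_eq_bot_iff_le_centralizer.1
      (Cfsg.Lib.Comp.component_commute hL (Cfsg.Lib.Comp.component_conj a hL) (Ne.symm hLa)) hu) v hv).symm
  have hma : ∀ l ∈ L, a * l * a⁻¹ ∈ La := fun l hl => ⟨l, hl, rfl⟩
  have hJM : J ≤ M := by
    rw [hJ, Subgroup.closure_le]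
    rintro _ ⟨l, hl, rfl⟩
    exact mul_mem (Subgroup.mem_sup_left hl) (Subgroup.mem_sup_right (hma l hl))
  set H' := J ⊔ Subgroup.zpowers x with hH'
  refine le_antisymm (sup_le hJM (Subgroup.zpowers_le.2 hxM)) ?_
  have hdiag : ∀ l ∈ L, l * (a * l * a⁻¹) ∈ H' := fun l hl =>
    Subgroup.mem_sup_left (Subgroup.subset_closure ⟨l, hl, rfl⟩)
  -- write `x` as a product
  have hdec : ∃ l ∈ L, ∃ m ∈ L, x = l * (a * m * a⁻¹) := by
    have hn : La ≤ Subgroup.normalizer (L : Set H) := fun v hv => Subgroup.mem_normalizer_iff.2 fun u =>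
      ⟨fun hu => by rw [← hcomm u hu v hv, mul_inv_cancel_right]; exact hu, fun hu => by
        have h := hcomm _ hu v hv
        rw [inv_mul_cancel_right] at h
        rwa [← mul_left_cancel h] at hu⟩
    have hx' : x ∈ ((L ⊔ La : Subgroup H) : Set H) := hxM
    rw [Subgroup.coe_mul_of_right_le_normalizer_left L La hn] at hx'
    obtain ⟨l, hl, _, ⟨m, hm, rfl⟩, e⟩ := hx'
    exact ⟨l, hl, m, hm, e.symm⟩
  obtain ⟨l, hl, m, hm, rfl⟩ := hdec
  set y := l * m⁻¹ with hy
  have hyL : y ∈ L := mul_mem hl (inv_mem hm)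
  have hxy : l * (a * m * a⁻¹) = y * (m * (a * m * a⁻¹)) := by rw [hy]; group
  have hyH : y ∈ H' := by
    have h := mul_mem (Subgroup.mem_sup_right (Subgroup.mem_zpowers (l * (a * m * a⁻¹))) : _ ∈ H')
      (inv_mem (hdiag m hm))
    have he : l * (a * m * a⁻¹) * (m * (a * m * a⁻¹))⁻¹ = y := by rw [hy]; group
    rwa [he] at h
  have hyZ : (⟨y, hyL⟩ : ↥L) ∉ Subgroup.center ↥L := by
    intro h
    apply hxJ
    rw [hxy]
    refine mul_mem (Subgroup.mem_sup_right ⟨Subgroup.mem_sup_left hyL, ?_⟩)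
      (Subgroup.mem_sup_left (Subgroup.subset_closure ⟨m, hm, rfl⟩))
    have hle : M ≤ Subgroup.centralizer ({y} : Set H) := sup_le
      (fun u hu => Subgroup.mem_centralizer_iff.2 fun z hz => by
        rw [Set.mem_singleton_iff.1 hz]
        exact (congrArg Subtype.val (Subgroup.mem_center_iff.1 h ⟨u, hu⟩)).symm)
      (fun v hv => Subgroup.mem_centralizer_iff.2 fun z hz => by
        rw [Set.mem_singleton_iff.1 hz]; exact hcomm y hyL v hv)
    exact Subgroup.mem_centralizer_iff.2 fun v hv => (Subgroup.mem_centralizer_iff.1 (hle hv) y rfl).symm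
  haveI : (H'.subgroupOf L).Normal := ⟨fun u hu k => by
    change (k : H) * (u : H) * (k : H)⁻¹ ∈ H'
    have h := mul_mem (mul_mem (hdiag k k.2) hu) (inv_mem (hdiag k k.2))
    have he : (k : H) * (a * k * a⁻¹) * u * ((k : H) * (a * k * a⁻¹))⁻¹ = k * u * (k : H)⁻¹ := by
      calc (k : H) * (a * k * a⁻¹) * u * ((k : H) * (a * k * a⁻¹))⁻¹
          = k * ((a * k * a⁻¹) * u) * (a * k * a⁻¹)⁻¹ * (k : H)⁻¹ := by group
        _ = k * (u * (a * k * a⁻¹)) * (a * k * a⁻¹)⁻¹ * (k : H)⁻¹ := by rw [hcomm u u.2 _ (hma k k.2)]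
        _ = _ := by group
    exact he ▸ h⟩
  rcases Cfsg.Lib.Comp.isQuasisimple_normal hL.2 (H'.subgroupOf L) with h | h
  · rw [Subgroup.subgroupOf_eq_top] at h
    refine sup_le h ?_
    rintro _ ⟨k, hk, rfl⟩
    have h2 := mul_mem (inv_mem (h hk)) (hdiag k hk)
    rwa [inv_mul_cancel_left] at h2
  · exact absurd (h hyH) hyZ

end Cfsg.Agent.S1921
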