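import Cfsg.Statements.S1922
import Mathlib
import Cfsg.Agent.Lib.TwoFus.UniqueFixed
-- import your own Cfsg.Agent.* helpers here

set_option autoImplicit false
open Cfsg

namespace Cfsg.Agent.S1922

/-- Let z be an involution of a finite group G and H a proper subgroup such that z lies in gHg⁻¹ exactly when g ∈ H. Then the following are equivalent: (1) for every conjugate t ≠ z of z commuting with z, the product zt lies in gHg⁻¹ exactly when g ∈ H; (2) z lies in the centre of some Sylow 2-subgroup of G, and for every conjugate t ≠ z of z commuting with z, the centralizer of zt is contained in H. -/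
theorem result {G : Type*} [Group G] [Finite G] (z : G) (hz : orderOf z = 2) (H : Subgroup G) (hH : H ≠ ⊤)
    (h0 : ∀ g : G, z ∈ H.map (MulAut.conj g).toMonoidHom ↔ g ∈ H) :
    (∀ t : G, IsConj z t → t ≠ z → t * z = z * t → ∀ g : G, z * t ∈ H.map (MulAut.conj g).toMonoidHom ↔ g ∈ H) ↔
      ((∃ P : Sylow 2 G, z ∈ (Subgroup.center ↥(P : Subgroup G)).map (P : Subgroup G).subtype) ∧
        ∀ t : G, IsConj z t → t ≠ z → t * z = z * t → Subgroup.centralizer ({z * t} : Set G) ≤ H) := by
  have : Fact (Nat.Prime 2) := ⟨Nat.prime_two⟩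
  have hmap : ∀ (g x : G), x ∈ H.map (MulAut.conj g).toMonoidHom ↔ g⁻¹ * x * g ∈ H := by
    intro g x
    constructor
    · rintro ⟨r, hr, rfl⟩
      simpa [MulAut.conj_apply, mul_assoc] using hr
    · intro hx
      exact ⟨_, hx, by simp [MulAut.conj_apply, mul_assoc]⟩
  have hfix : ∀ g : G, g * z * g⁻¹ ∈ H ↔ g ∈ H := by
    intro g
    have h := (hmap g⁻¹ z).symm.trans (h0 g⁻¹)
    rwa [inv_inv, H.inv_mem_iff] at h
  have hCz : ∀ {g : G}, Commute g z → g ∈ H := fun hg => Cfsg.Lib.TwoFus.uf_commute_mem hfix hg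
  constructor
  · intro hyp
    have hpair : ∀ t : G, IsConj z t → t ≠ z → t * z = z * t → ∀ g : G,
        g * (z * t) * g⁻¹ ∈ H ↔ g ∈ H := by
      intro t h1 h2 h3 g
      have h := (hmap g⁻¹ (z * t)).symm.trans (hyp t h1 h2 h3 g⁻¹)
      rwa [inv_inv, H.inv_mem_iff] at h
    refine ⟨?_, fun t h1 h2 h3 c hc => (hpair t h1 h2 h3 c).1 ?_⟩
    swap
    · rw [show c * (z * t) = z * t * c from Subgroup.mem_centralizer_singleton_iff.1 hc,
        mul_inv_cancel_right]
      exact H.mul_mem (Cfsg.Lib.TwoFus.uf_mem hfix) (hCz h3)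
    have hodd := Cfsg.Lib.TwoFus.uf_odd_class hz hfix hpair hH
    set C := Subgroup.centralizer ({z} : Set G)
    obtain ⟨R⟩ : Nonempty (Sylow 2 ↥C) := inferInstance
    obtain ⟨P, hP⟩ := (R.2.map C.subtype).exists_le_sylow
    have hcls := Cfsg.Lib.Invol.conjClass_ncard_mul z
    have hidx : C.index = Nat.card {s : G // IsConj z s} :=
      Nat.eq_of_mul_eq_mul_left (Nat.card_pos (α := ↥C))
        ((Subgroup.card_mul_index C).trans (hcls.symm.trans (mul_comm _ _)))
    have hRP : (R : Subgroup ↥C).map C.subtype = (P : Subgroup G) := by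
      refine Subgroup.eq_of_le_of_card_ge hP (Nat.le_of_dvd Nat.card_pos ?_)
      have h2 : Nat.card (P : Subgroup G) ∣
          Nat.card ↥((R : Subgroup ↥C).map C.subtype) * ((R : Subgroup ↥C).index * C.index) := by
        rw [Subgroup.card_map_of_injective C.subtype_injective, ← mul_assoc,
          Subgroup.card_mul_index, Subgroup.card_mul_index]
        exact Subgroup.card_subgroup_dvd_card _
      refine Nat.Coprime.dvd_of_dvd_mul_right ?_ h2
      obtain ⟨m, hm⟩ := P.2.exists_card_eq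
      rw [hm]
      refine Nat.Coprime.pow_left _ ?_
      rw [Nat.coprime_mul_iff_right]
      refine ⟨(Nat.Prime.coprime_iff_not_dvd Nat.prime_two).2 R.not_dvd_index, ?_⟩
      rw [hidx]
      exact Nat.coprime_two_left.2 hodd
    have hPC : (P : Subgroup G) ≤ C := hRP ▸ Subgroup.map_subtype_le _
    have hzP : z ∈ (P : Subgroup G) := by
      rw [← hRP]
      refine ⟨⟨z, Subgroup.mem_centralizer_singleton_iff.2 rfl⟩, ?_, rfl⟩
      have hcard : IsPGroup 2 ↥(Subgroup.zpowers (⟨z, Subgroup.mem_centralizer_singleton_iff.2 rfl⟩ : ↥C)) :=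
        IsPGroup.of_card (n := 1) (by rw [Nat.card_zpowers, ← Subgroup.orderOf_coe, hz, pow_one])
      have hn : (Subgroup.zpowers (⟨z, Subgroup.mem_centralizer_singleton_iff.2 rfl⟩ : ↥C)).Normal :=
        ⟨fun a ha b => by
          obtain ⟨i, rfl⟩ := Subgroup.mem_zpowers_iff.1 ha
          rw [← conj_zpow]
          have : b * ⟨z, Subgroup.mem_centralizer_singleton_iff.2 rfl⟩ * b⁻¹ =
              (⟨z, Subgroup.mem_centralizer_singleton_iff.2 rfl⟩ : ↥C) :=
            Subtype.ext (by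
              show (b : G) * z * (b : G)⁻¹ = z
              rw [show (b : G) * z = z * (b : G) from Subgroup.mem_centralizer_singleton_iff.1 b.2,
                mul_inv_cancel_right])
          rw [this]
          exact Subgroup.zpow_mem _ (Subgroup.mem_zpowers _) i⟩
      have hle := R.3 (IsPGroup.to_sup_of_normal_left hcard R.2) le_sup_right
      rw [← hle]
      exact Subgroup.mem_sup_left (Subgroup.mem_zpowers _)
    refine ⟨P, ⟨z, hzP⟩, Subgroup.mem_center_iff.2 fun y => Subtype.ext ?_, rfl⟩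
    exact Subgroup.mem_centralizer_singleton_iff.1 (hPC y.2)
  · rintro ⟨⟨P, zc, hzc, hze⟩, hC⟩ t h1 h2 h3 g
    have hzt : z * t ∈ H := H.mul_mem (Cfsg.Lib.TwoFus.uf_mem hfix) (hCz h3)
    rw [hmap]
    refine ⟨fun hw => ?_, fun hg => H.mul_mem (H.mul_mem (H.inv_mem hg) hzt) hg⟩
    have hzc' : ∀ y ∈ (P : Subgroup G), Commute y z := fun y hy => by
      rw [← hze]
      exact congrArg Subtype.val (Subgroup.mem_center_iff.1 hzc ⟨y, hy⟩)
    have hPH : (P : Subgroup G) ≤ H := fun y hy => hCz (hzc' y hy)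
    set w : ↥H := ⟨g⁻¹ * (z * t) * g, hw⟩
    have hw2 : w ^ 2 = 1 := by
      refine Subtype.ext ?_
      show (g⁻¹ * (z * t) * g) ^ 2 = 1
      have hzt2 : (z * t) ^ 2 = 1 := by
        rw [(show Commute z t from h3.symm).mul_pow, Cfsg.Lib.Invol.sq_eq_one_of_orderTwo hz,
          Cfsg.Lib.Invol.sq_eq_one_of_orderTwo (Cfsg.Lib.Invol.orderTwo_isConj hz h1), one_mul]
      calc (g⁻¹ * (z * t) * g) ^ 2 = g⁻¹ * (z * t) ^ 2 * g := by rw [sq, sq]; group
        _ = 1 := by rw [hzt2, mul_one, inv_mul_cancel]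
    have hwp : IsPGroup 2 ↥(Subgroup.zpowers w) := by
      obtain ⟨k, -, hk⟩ := (Nat.dvd_prime_pow Nat.prime_two).1
        (orderOf_dvd_of_pow_eq_one (n := 2 ^ 1) (by simpa using hw2))
      exact IsPGroup.of_card (n := k) (by rw [Nat.card_zpowers, hk])
    obtain ⟨Q, hQ⟩ := hwp.exists_le_sylow
    obtain ⟨h, hh⟩ := MulAction.exists_smul_eq ↥H (P.subtype hPH) Q
    have hmem : w ∈ (Q : Subgroup ↥H) := hQ (Subgroup.mem_zpowers w)
    rw [← hh, Sylow.coe_subgroup_smul] at hmem
    obtain ⟨v, hv, hve⟩ := hmem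
    have hvP : (v : G) ∈ (P : Subgroup G) := hv
    have hveq : (h : G) * (v : G) * (h : G)⁻¹ = g⁻¹ * (z * t) * g := congrArg Subtype.val hve
    have hcm : (g * (h : G)) * z * (g * (h : G))⁻¹ * (z * t) =
        (z * t) * ((g * (h : G)) * z * (g * (h : G))⁻¹) := by
      have e : z * t = (g * (h : G)) * (v : G) * (g * (h : G))⁻¹ := by
        calc z * t = g * (g⁻¹ * (z * t) * g) * g⁻¹ := by group
          _ = g * ((h : G) * (v : G) * (h : G)⁻¹) * g⁻¹ := by rw [hveq]
          _ = _ := by group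
      rw [e]
      generalize g * (h : G) = a
      calc a * z * a⁻¹ * (a * (v : G) * a⁻¹) = a * (z * v) * a⁻¹ := by group
        _ = a * (v * z) * a⁻¹ := by rw [(hzc' _ hvP).eq]
        _ = _ := by group
    have hgh := (hfix _).1 (hC t h1 h2 h3 (Subgroup.mem_centralizer_singleton_iff.2 hcm))
    have := H.mul_mem hgh (H.inv_mem h.2)
    rwa [mul_inv_cancel_right] at this

end Cfsg.Agent.S1922
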