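import Cfsg.Statements.S2257
import Mathlib
import Cfsg.Agent.S5893
import Cfsg.Agent.S0810
-- import your own Cfsg.Agent.* helpers here

set_option autoImplicit false
open Cfsg

namespace Cfsg.Agent.S2257

set_option linter.unusedSectionVars false

open Matrix Cfsg.Lib.PStable Cfsg.Lib.Classical.MinIndex Cfsg.Lib.Classical.SplitDih Cfsg.Lib.Classical.NsDih Cfsg.Lib.Classical.SubfieldEven Cfsg.Agent.S5893

variable {F : Type*} [Field F] [Fintype F] [CharP F 2]

local notation "SL2" => Matrix.SpecialLinearGroup (Fin 2) F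

theorem normal_form (z : Matrix.SpecialLinearGroup (Fin 2) F) (hz : z * z ≠ 1) :
    (∃ (u : Fˣ) (s : Matrix.SpecialLinearGroup (Fin 2) F), z * s = s * dg u) ∨
    (∃ ν : F, Irr ν ∧ ∃ X s : Matrix.SpecialLinearGroup (Fin 2) F, X ∈ tor ν ∧ X 1 0 ≠ 0 ∧ z * s = s * X) := by
  classical
  have h2 : (2 : F) = 0 := CharP.cast_eq_zero F 2
  have hdet := det_two z
  set t := z 0 0 + z 1 1 with htd
  have ht : t ≠ 0 := fun e => hz (by
    refine Matrix.SpecialLinearGroup.ext _ _ fun i j => ?_
    rw [htd] at e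
    fin_cases i <;> fin_cases j <;> simp [mul_ap]
    · linear_combination (z 0 0) * e - hdet - h2
    · linear_combination (z 0 1) * e
    · linear_combination (z 1 0) * e
    · linear_combination (z 1 1) * e - hdet - h2)
  by_cases hroot : ∃ r, r * r + t * r + 1 = 0
  · obtain ⟨r, hr, hrz⟩ : ∃ r, r * r + t * r + 1 = 0 ∧ (z 1 0 = 0 → r = z 0 0) := by
      by_cases h10 : z 1 0 = 0
      · exact ⟨z 0 0, by linear_combination (z 0 0) * htd + (z 0 0 * z 0 0) * h2 + hdet + (z 0 1) * h10 + h2, fun _ => rfl⟩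
      · exact hroot.imp fun r hr => ⟨hr, fun h => absurd h h10⟩
    have hr0 : r ≠ 0 := fun e => by rw [e] at hr; simp at hr
    have hr1 : r + r⁻¹ = t := by
      field_simp
      linear_combination hr - t * r * h2
    obtain ⟨s, hs⟩ : ∃ s : Matrix.SpecialLinearGroup (Fin 2) F, z * s = s * dg (Units.mk0 r hr0) := by
      by_cases h10 : z 1 0 = 0
      · have hzd : z 0 0 * z 1 1 = 1 := by linear_combination hdet + z 0 1 * h10
        obtain rfl := hrz h10
        have h11 : (z 0 0)⁻¹ = z 1 1 := (eq_inv_of_mul_eq_one_right hzd).symm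
        refine ⟨upperU (z 0 1 / t), ?_⟩
        refine Matrix.SpecialLinearGroup.ext _ _ fun i j => ?_
        fin_cases i <;> fin_cases j <;> simp [mul_ap, upperU_entries, dg_coe, h10, h11]
        field_simp
        linear_combination (-(z 0 1)) * htd + (z 0 1 * z 0 0) * h2 + (z 0 1) * htd - (z 0 1) * htd
      · obtain ⟨l, hl⟩ := exists_sqrt ((z 1 0 * t)⁻¹ : F)
        refine ⟨⟨!![l * (r + z 1 1), l * (r⁻¹ + z 1 1); l * z 1 0, l * z 1 0], by
          simp [det_fin_two]
          have : l * l * (z 1 0 * t) = 1 := by rw [hl, inv_mul_cancel₀ (mul_ne_zero h10 ht)]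
          linear_combination this + (l * l * z 1 0) * hr1 - (l * l * z 1 0 * r⁻¹) * h2⟩, ?_⟩
        have hr2 : r⁻¹ = t + r := by linear_combination hr1 - r * h2
        have hri : (t + r) * r = 1 := by rw [← hr2, inv_mul_cancel₀ hr0]
        refine Subtype.ext ?_
        change (z : Matrix (Fin 2) (Fin 2) F) * _ = _ * (dg (Units.mk0 r hr0) : Matrix (Fin 2) (Fin 2) F)
        ext i j
        fin_cases i <;> fin_cases j <;> simp [Matrix.mul_apply, Fin.sum_univ_two, dg_coe, hr2]
        · linear_combination l * hri + (-l) * hdet + (-(l * r)) * htd + (l * (z 0 0 * z 1 1 + r * z 0 0 - r * r - r * z 1 1 - 1)) * h2 + (l * r * r) * h2 + (l * r * z 1 1) * h2 - (l * r * r) * h2 + (l * (1 - r * z 0 0 - r * z 1 1)) * h2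
        · linear_combination l * hri + (-l) * hdet + (-(l * (t + r))) * htd - (l * (z 0 0 * r + 2 * z 1 1 * r + z 1 1 * z 1 1 + r * r)) * h2
        · linear_combination (l * z 1 0 * z 1 1) * h2
        · linear_combination (l * z 1 0 * z 1 1) * h2
    exact Or.inl ⟨_, s, hs⟩
  push Not at hroot
  have h10 : z 1 0 ≠ 0 := fun e => hroot (z 0 0) (by linear_combination (z 0 0) * htd + (z 0 0 * z 0 0) * h2 + hdet + (z 0 1) * e + h2)
  have hν : Irr ((t * t)⁻¹ : F) := fun x e => hroot (x * t) (by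
    field_simp at e
    linear_combination e + (x * t * t + 1) * h2)
  let X : Matrix.SpecialLinearGroup (Fin 2) F := ⟨!![0, t⁻¹; t, t], by simp [det_fin_two]; field_simp; exact CharTwo.neg_eq 1⟩
  have hX : X ∈ tor ((t * t)⁻¹ : F) := ⟨by simp [X]; field_simp, by simp [X]⟩
  obtain ⟨l, hl⟩ := exists_sqrt (t / z 1 0 : F)
  have hll : l * l * z 1 0 = t := by rw [hl, div_mul_cancel₀ _ h10]
  let s : Matrix.SpecialLinearGroup (Fin 2) F := ⟨!![l, l * z 0 0 / t; 0, l * z 1 0 / t], by
    simp [det_fin_two]; field_simp; linear_combination hll⟩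
  have hs : z * s = s * X := by
    refine Subtype.ext (Matrix.ext fun i j => ?_)
    rw [Matrix.SpecialLinearGroup.coe_mul, Matrix.SpecialLinearGroup.coe_mul]
    fin_cases i <;> fin_cases j <;> simp [Matrix.mul_apply, Fin.sum_univ_two, s, X] <;> field_simp
    · linear_combination (-(l * z 0 0)) * htd + hdet * l + (l * (z 0 1 * z 1 0 - z 0 0 * z 1 1)) * h2
    · linear_combination (-(l * z 1 0)) * htd
  exact Or.inr ⟨_, hν, X, s, hX, by simpa [X] using ht, hs⟩

theorem dihedral_rot {k : ℕ} {G : Type*} [Group G] (i : G ≃* DihedralGroup k) (x : G) (hx : x * x ≠ 1) (y : G) :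
    y * x * y⁻¹ = x ∨ y * x * y⁻¹ = x⁻¹ := by
  have key : ∀ a b : DihedralGroup k, a * a ≠ 1 → b * a * b⁻¹ = a ∨ b * a * b⁻¹ = a⁻¹ := by
    rintro (j | j) (l | l) h <;> simp at h ⊢
  rcases key (i x) (i y) (fun e => hx (i.injective (by rw [map_mul, e, map_one]))) with e | e
  · exact Or.inl (i.injective (by simpa using e))
  · exact Or.inr (i.injective (by simpa using e))

theorem dihedral_inv {k : ℕ} (hk : Odd k) {G : Type*} [Group G] (i : G ≃* DihedralGroup k) (x : G) (hx : x * x = 1) (hx1 : x ≠ 1) (y : G) :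
    y * y = 1 ∨ (x * y) * (x * y) = 1 := by
  have key : ∀ a b : DihedralGroup k, a * a = 1 → a ≠ 1 → b * b = 1 ∨ (a * b) * (a * b) = 1 := by
    rintro (j | j) (l | l) h h'
    · exfalso
      rw [DihedralGroup.r_mul_r, DihedralGroup.one_def, DihedralGroup.r.injEq] at h
      obtain ⟨m, hm⟩ := hk
      have h2k : ((2 : ℕ) : ZMod k) * ((m + 1 : ℕ) : ZMod k) = 1 := by
        rw [← Nat.cast_mul, show 2 * (m + 1) = k + 1 by omega, Nat.cast_add, ZMod.natCast_self, zero_add, Nat.cast_one]
      refine h' ?_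
      rw [DihedralGroup.one_def, DihedralGroup.r.injEq]
      calc j = (((2 : ℕ) : ZMod k) * ((m + 1 : ℕ) : ZMod k)) * j := by rw [h2k, one_mul]
        _ = (j + j) * ((m + 1 : ℕ) : ZMod k) := by push_cast; ring
        _ = 0 := by rw [h, zero_mul]
    · exfalso
      rw [DihedralGroup.r_mul_r, DihedralGroup.one_def, DihedralGroup.r.injEq] at h
      obtain ⟨m, hm⟩ := hk
      have h2k : ((2 : ℕ) : ZMod k) * ((m + 1 : ℕ) : ZMod k) = 1 := by
        rw [← Nat.cast_mul, show 2 * (m + 1) = k + 1 by omega, Nat.cast_add, ZMod.natCast_self, zero_add, Nat.cast_one]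
      refine h' ?_
      rw [DihedralGroup.one_def, DihedralGroup.r.injEq]
      calc j = (((2 : ℕ) : ZMod k) * ((m + 1 : ℕ) : ZMod k)) * j := by rw [h2k, one_mul]
        _ = (j + j) * ((m + 1 : ℕ) : ZMod k) := by push_cast; ring
        _ = 0 := by rw [h, zero_mul]
    · right; simp
    · left; simp
  rcases key (i x) (i y) (by rw [← map_mul, hx, map_one]) (fun e => hx1 (i.injective (by rw [e, map_one]))) with e | e
  · exact Or.inl (i.injective (by rw [map_mul, e, map_one]))
  · exact Or.inr (i.injective (by rw [map_mul, map_mul, e, map_one]))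

theorem dihedral_solvable (k : ℕ) : Group.IsSolvable (DihedralGroup k) := by
  let C := Subgroup.zpowers (DihedralGroup.r (1 : ZMod k))
  have hsq : ∀ g : DihedralGroup k, g * g ∈ C := by
    rintro (i | i)
    · obtain ⟨z, hz⟩ := ZMod.intCast_surjective (i + i)
      exact ⟨z, by simp [DihedralGroup.r_one_zpow, hz]⟩
    · simp only [DihedralGroup.sr_mul_self]; exact C.one_mem
  haveI := Cfsg.Agent.S0810.normal_of_sq C hsq
  exact Cfsg.Agent.S0810.solvable_of_abelian_normal C (fun x hx y hy => by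
    obtain ⟨a, rfl⟩ := hx; obtain ⟨b, rfl⟩ := hy; exact (Commute.refl _).zpow_zpow a b) hsq

theorem solvable_of_le {G : Type*} [Group G] {A B : Subgroup G} (h : A ≤ B) (hB : Group.IsSolvable B) : Group.IsSolvable A :=
  solvable_of_solvable_injective (f := Subgroup.inclusion h) (Subgroup.inclusion_injective h)

theorem solvable_gen (hq : 4 ≤ Fintype.card F) (x y : Matrix.SpecialLinearGroup (Fin 2) F) (hx : x * x = 1)
    (h : y * y = 1 ∨ (x * y) * (x * y) = 1) :
    Group.IsSolvable (Subgroup.closure ({x, y} : Set (Matrix.SpecialLinearGroup (Fin 2) F))) := by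
  have hxi : x⁻¹ = x := inv_eq_of_mul_eq_one_right hx
  obtain ⟨z, hz, hyz⟩ : ∃ z, x * z * x⁻¹ = z⁻¹ ∧ (y = z ∨ y = x * z) := by
    rcases h with h | h
    · exact ⟨x * y, by rw [_root_.mul_inv_rev, hxi, inv_eq_of_mul_eq_one_right h, ← mul_assoc, hx, one_mul], Or.inr (by rw [← mul_assoc, hx, one_mul])⟩
    · exact ⟨y, by rw [hxi]; exact eq_inv_of_mul_eq_one_left (by rw [mul_assoc (x * y)]; exact h), Or.inl rfl⟩
  by_cases hz2 : z * z = 1
  · have hc : x * z = z * x := by
      have := mul_inv_eq_iff_eq_mul.1 hz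
      rwa [inv_eq_of_mul_eq_one_right hz2] at this
    refine solvable_of_le (B := Subgroup.closure {x, z}) ((Subgroup.closure_le _).2 ?_) ?_
    · rintro g (rfl | rfl)
      · exact Subgroup.subset_closure (Or.inl rfl)
      · rcases hyz with rfl | rfl
        · exact Subgroup.subset_closure (Or.inr rfl)
        · exact mul_mem (Subgroup.subset_closure (Or.inl rfl)) (Subgroup.subset_closure (Or.inr rfl))
    · exact Group.isSolvable_of_comm fun a b => by
        refine Subtype.ext ?_
        refine Subgroup.closure_induction₂ (p := fun u v _ _ => Commute u v) ?_ (fun _ _ => Commute.one_left _) (fun _ _ => Commute.one_right _)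
          (fun _ _ _ _ _ _ h1 h2 => h1.mul_left h2) (fun _ _ _ _ _ _ h1 h2 => h1.mul_right h2) (fun _ _ _ _ h => h.inv_left) (fun _ _ _ _ h => h.inv_right) a.2 b.2
        rintro u v (rfl | rfl) (rfl | rfl)
        exacts [Commute.refl _, hc, hc.symm, Commute.refl _]
  obtain ⟨D, -, -, hiso, hD⟩ := exists_dihedral hq z hz2
  have hxD : x ∈ D := hD x (Or.inr hz)
  have hzD : z ∈ D := hD z (Or.inl (by group))
  refine solvable_of_le (B := D) ((Subgroup.closure_le _).2 ?_) ?_
  · rintro g (rfl | rfl)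
    · exact hxD
    · rcases hyz with rfl | rfl
      · exact hzD
      · exact D.mul_mem hxD hzD
  · rcases hiso with h | h
    all_goals
      obtain ⟨i⟩ := h
      haveI := dihedral_solvable (Fintype.card F - 1)
      haveI := dihedral_solvable (Fintype.card F + 1)
      exact solvable_of_solvable_injective (f := i.toMonoidHom) i.injective

/-- The upper triangular group. -/
def borelG (F : Type*) [Field F] : Subgroup (Matrix.SpecialLinearGroup (Fin 2) F) where
  carrier := {g | g 1 0 = 0}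
  one_mem' := by simp
  mul_mem' := fun {a b} ha hb => by simp only [Set.mem_setOf_eq] at ha hb ⊢; rw [mul_entry, ha, hb]; ring
  inv_mem' := fun {a} ha => by simp only [Set.mem_setOf_eq] at ha ⊢; rw [(inv_entries a).2.2.1, ha, neg_zero]

/-- The maximal subgroups. -/
theorem maximal_cases {p : ℕ} (hp : p.Prime) (hF : Fintype.card F = 2 ^ p) {N : Subgroup (Matrix.SpecialLinearGroup (Fin 2) F)} (hN : IsCoatom N) :
    (∃ s, ∀ g, g ∈ N → (s⁻¹ * g * s) 1 0 = 0) ∨ Nonempty (N ≃* DihedralGroup (Fintype.card F - 1)) ∨ Nonempty (N ≃* DihedralGroup (Fintype.card F + 1)) := by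
  have hev : Even (Fintype.card F) := by rw [hF]; exact Nat.even_pow.2 ⟨even_two, hp.ne_zero⟩
  have h4 : 4 ≤ Fintype.card F := by rw [hF]; exact (show 4 = 2 ^ 2 by norm_num) ▸ Nat.pow_le_pow_right two_pos hp.two_le
  let e := MulEquiv.ofBijective _ (psl_bij F)
  have i : N.map e.toMonoidHom ≃* N := (e.subgroupMap N).symm
  rcases Cfsg.Agent.S5893.result hev h4 _ ((OrderIso.isCoatom_iff e.mapSubgroup N).2 hN) with hB | ⟨⟨j⟩⟩ | ⟨⟨j⟩⟩ | ⟨F₀, _, _, r', hr', hne, hcard, -⟩
  rotate_left
  · exact Or.inr (Or.inl ⟨i.symm.trans j⟩)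
  · exact Or.inr (Or.inr ⟨i.symm.trans j⟩)
  · exfalso
    rw [hF] at hcard
    obtain ⟨j, -, hj⟩ := (Nat.dvd_prime_pow Nat.prime_two).1 (show Fintype.card F₀ ∣ 2 ^ p from hcard ▸ dvd_pow_self _ hr'.ne_zero)
    rw [hj, ← pow_mul] at hcard
    have := Nat.pow_right_injective le_rfl hcard
    rcases hp.eq_one_or_self_of_dvd j (Dvd.intro _ this.symm) with e | e
    · exact hne (by rw [hj, e]; rfl)
    · rw [e] at this
      exact hr'.one_lt.ne (Nat.eq_of_mul_eq_mul_left hp.pos ((mul_one p).trans this))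
  left
  replace hB : Nat.card N = Fintype.card F * (Fintype.card F - 1) := (Nat.card_congr i.toEquiv).symm.trans hB
  set q := Fintype.card F with hqd
  obtain ⟨x, hx⟩ := exists_prime_orderOf_dvd_card' 2 (show 2 ∣ Nat.card N by rw [hB]; exact Dvd.dvd.mul_right hev.two_dvd _)
  obtain ⟨s, a0, ha0, hsa⟩ := exists_conj_upper (p := 2) (x : Matrix.SpecialLinearGroup (Fin 2) F)
    (by rw [← SubmonoidClass.coe_pow]; exact congrArg Subtype.val (orderOf_dvd_iff_pow_eq_one.1 (dvd_of_eq hx))) (fun e => by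
      rw [show x = 1 from Subtype.ext e, orderOf_one] at hx
      exact absurd hx (by norm_num))
  refine ⟨s, fun g hg => ?_⟩
  set N' := N.map (MulAut.conj s⁻¹).toMonoidHom
  have i' : N ≃* N' := (MulAut.conj s⁻¹).subgroupMap N
  have hU : a0 ∈ aGrp N' := ⟨x, x.2, by rw [← hsa]; simp⟩
  by_contra hg10
  have hgN : s⁻¹ * g * s ∈ N' := ⟨g, hg, by simp⟩
  have hc : Nat.card N' = Nat.card (aGrp N') * Nat.card (chi N').range * (borel N').index := by
    rw [← card_borel_eq, Subgroup.card_mul_index]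
  rw [← Nat.card_congr i'.toEquiv, hB] at hc
  rcases dickson_even ha0 hU (g0 := ⟨_, hgN⟩) hg10 with ⟨hA, z, hz, hcard, -⟩ | ⟨ha4, hd, hO, -⟩
  · rw [← Nat.card_congr i'.toEquiv, hB] at hcard
    have hodd : ¬ 2 ∣ Nat.card (cenE z) := fun h2 => by
      obtain ⟨w, hw⟩ := exists_prime_orderOf_dvd_card' 2 h2
      have hw' : w.1 * w.1 = 1 := by
        have := congrArg Subtype.val (orderOf_dvd_iff_pow_eq_one.1 (dvd_of_eq hw))
        simpa [pow_two] using this
      have hw1 : w.1 ≠ 1 := fun e => by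
        rw [show w = 1 from Subtype.ext e, orderOf_one] at hw
        exact absurd hw (by norm_num)
      exact (cenE_eq hz w.2 hw1).1 hw'
    obtain ⟨b, hb⟩ : 4 ∣ q := hF ▸ (show 4 = 2 ^ 2 by norm_num) ▸ Nat.pow_dvd_pow 2 hp.two_le
    rw [hb, mul_assoc] at hcard
    refine hodd ⟨b * (4 * b - 1), ?_⟩
    omega
  · obtain ⟨j, -, hj⟩ := (Nat.dvd_prime_pow Nat.prime_two).1 (show Nat.card (aGrp N') ∣ 2 ^ p by
      rw [← hF, hqd, ← Nat.card_eq_fintype_card]; exact (aGrp N').card_addSubgroup_dvd_card)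
    rw [hj] at hd hO ha4
    rw [hj, hO, show Nat.card (chi N').range = 2 ^ j - 1 by omega, hF] at hc
    have hjp : j ≤ p := by
      have hle : 2 ^ j ≤ 2 ^ p := by
        rw [← hj, ← hF, hqd, ← Nat.card_eq_fintype_card]; exact Nat.card_le_card_of_injective _ Subtype.val_injective
      exact (Nat.pow_le_pow_iff_right (by norm_num)).1 hle
    rcases eq_or_lt_of_le hjp with rfl | hlt
    · have := Nat.mul_lt_mul_of_pos_left (show 1 < 2 ^ j + 1 by omega) (show 0 < 2 ^ j * (2 ^ j - 1) by exact Nat.mul_pos (by omega) (by omega))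
      omega
    · obtain ⟨b, hb⟩ : ∃ b, 2 ^ p = 2 ^ j * (2 * b) := ⟨2 ^ (p - j - 1), by rw [← pow_succ', ← pow_add]; congr 1; omega⟩
      rw [hb] at hc
      simp only [mul_assoc] at hc
      have h3 := Nat.eq_of_mul_eq_mul_left (Nat.two_pow_pos j) hc
      have hoddl : Even (2 * (b * (2 ^ j * (2 * b) - 1))) := even_two_mul _
      rw [h3, Nat.even_mul] at hoddl
      have he : Even (2 ^ j) := Nat.even_pow.2 ⟨even_two, fun h0 => by rw [h0, pow_zero] at ha4; omega⟩
      obtain ⟨v, hv⟩ := he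
      rcases hoddl with ⟨w, hw⟩ | ⟨w, hw⟩ <;> omega

abbrev Sol (x : Matrix.SpecialLinearGroup (Fin 2) F) : Type _ :=
  {y : Matrix.SpecialLinearGroup (Fin 2) F // Group.IsSolvable (Subgroup.closure ({x, y} : Set (Matrix.SpecialLinearGroup (Fin 2) F)))}

theorem card_sol_map {G H : Type*} [Group G] [Group H] (e : G ≃* H) (x : G) :
    Nat.card {y : G // Group.IsSolvable (Subgroup.closure ({x, y} : Set G))} =
      Nat.card {y : H // Group.IsSolvable (Subgroup.closure ({e x, y} : Set H))} := by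
  refine Nat.card_congr (Equiv.subtypeEquiv e.toEquiv fun y => ?_)
  have h : (Subgroup.closure ({x, y} : Set G)).map e.toMonoidHom = Subgroup.closure {e x, e y} := by
    rw [MonoidHom.map_closure, Set.image_pair]; rfl
  have j : Subgroup.closure ({x, y} : Set G) ≃* Subgroup.closure ({e x, e y} : Set H) :=
    (e.subgroupMap _).trans (MulEquiv.subgroupCongr h)
  exact ⟨fun hs => by haveI := hs; exact solvable_of_surjective (f := j.toMonoidHom) j.surjective,
    fun hs => by haveI := hs; exact solvable_of_solvable_injective (f := j.toMonoidHom) j.injective⟩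

theorem card_inf_borel : Nat.card {g : SL2 // g 1 0 = 0} = Fintype.card F * (Fintype.card F - 1) := by
  classical
  let f : {g : SL2 // g 1 0 = 0} → F × Fˣ := fun g => (g.1 0 1, Units.mkOfMulEqOne (g.1 0 0) (g.1 1 1) (by
    have := det_eq (g := g.1); rw [g.2] at this; linear_combination this))
  have hf : Function.Bijective f := by
    refine ⟨fun a b h => ?_, fun ⟨b, u⟩ => ⟨⟨⟨!![(u : F), b; 0, ((u⁻¹ : Fˣ) : F)], by simp [det_fin_two]⟩, rfl⟩, Prod.ext rfl (Units.ext rfl)⟩⟩
    simp only [f, Prod.mk.injEq] at h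
    obtain ⟨h01, h00⟩ := h
    have h11 : a.1 1 1 = b.1 1 1 := congrArg (fun u : Fˣ => ((u⁻¹ : Fˣ) : F)) h00
    have h00' : a.1 0 0 = b.1 0 0 := congrArg Units.val h00
    refine Subtype.ext (Matrix.SpecialLinearGroup.ext _ _ fun i j => ?_)
    fin_cases i <;> fin_cases j <;> simp [h01, h00', h11, a.2, b.2]
  rw [Nat.card_eq_of_bijective f hf, Nat.card_prod, Nat.card_units, Nat.card_eq_fintype_card]

theorem card_line (l k : F) (hl : l * l = k) :
    Nat.card {g : SL2 // g 1 0 ≠ 0 ∧ g 0 0 + g 1 1 = k * g 1 0} = Fintype.card F * (Fintype.card F - 1) := by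
  classical
  let f : {g : SL2 // g 1 0 ≠ 0 ∧ g 0 0 + g 1 1 = k * g 1 0} → F × Fˣ := fun g => (g.1 0 0, Units.mk0 (g.1 1 0) g.2.1)
  have hf : Function.Bijective f := by
    constructor
    · intro a b h
      simp only [f, Prod.mk.injEq, Units.ext_iff, Units.val_mk0] at h
      obtain ⟨h00, h10⟩ := h
      have h11 : a.1 1 1 = b.1 1 1 := by
        have e1 := a.2.2; have e2 := b.2.2
        rw [h00, h10] at e1
        linear_combination e1 - e2
      have hd := det_eq (g := a.1)
      have hd' := det_eq (g := b.1)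
      rw [h00, h11, h10] at hd
      have h01 : a.1 0 1 = b.1 0 1 := mul_right_cancel₀ b.2.1 (by linear_combination hd' - hd)
      refine Subtype.ext (Matrix.SpecialLinearGroup.ext _ _ fun i j => ?_)
      fin_cases i <;> fin_cases j <;> simp [h00, h10, h11, h01]
    · rintro ⟨a, c⟩
      refine ⟨⟨⟨!![a, (a * (k * c - a) - 1) / c; c, k * c - a], ?_⟩, ?_, ?_⟩, ?_⟩
      · simp [det_fin_two]
      · simp
      · simp
      · exact Prod.ext rfl (Units.ext rfl)
  rw [Nat.card_eq_of_bijective f hf, Nat.card_prod, Nat.card_units, Nat.card_eq_fintype_card]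

theorem card_or3 {α : Type*} [Finite α] (P Q R : α → Prop) (h1 : ∀ a, P a → Q a → False) (h2 : ∀ a, P a → R a → False)
    (h3 : ∀ a, Q a → R a → False) :
    Nat.card {a // P a ∨ Q a ∨ R a} = Nat.card {a // P a} + Nat.card {a // Q a} + Nat.card {a // R a} := by
  show Nat.card ↥{a | P a ∨ Q a ∨ R a} = Nat.card ↥{a | P a} + Nat.card ↥{a | Q a} + Nat.card ↥{a | R a}
  rw [Nat.card_coe_set_eq, Nat.card_coe_set_eq, Nat.card_coe_set_eq, Nat.card_coe_set_eq,
    show {a | P a ∨ Q a ∨ R a} = {a | P a} ∪ {a | Q a} ∪ {a | R a} by ext a; simp [or_assoc],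
    Set.ncard_union_eq ?_, Set.ncard_union_eq ?_]
  · exact Set.disjoint_left.2 fun a => h1 a
  · exact Set.disjoint_left.2 fun a ha hr => ha.elim (fun h => h2 a h hr) (fun h => h3 a h hr)

theorem upper_count {p : ℕ} (hp : p.Prime) (hF : Fintype.card F = 2 ^ p) (a0 : F) (ha0 : a0 ≠ 0) :
    Nat.card (Sol (upperU a0)) = 3 * Fintype.card F * (Fintype.card F - 1) := by
  classical
  have h4 : 4 ≤ Fintype.card F := by rw [hF]; exact (show 4 = 2 ^ 2 by norm_num) ▸ Nat.pow_le_pow_right two_pos hp.two_le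
  have h2 : (2 : F) = 0 := CharP.cast_eq_zero F 2
  set x := upperU a0
  have hxx : x * x = 1 := by rw [← upperU_add, CharTwo.add_self_eq_zero, upperU_zero]
  have hx1 : x ≠ 1 := fun e => ha0 (by
    have := congrArg (fun v : SL2 => v 0 1) e
    simpa [x, upperU] using this)
  have htr : ∀ g : SL2, g 0 0 + g 1 1 = 0 → g * g = 1 := fun g e => by
    have hd := det_eq (g := g)
    refine Matrix.SpecialLinearGroup.ext _ _ fun i j => ?_
    fin_cases i <;> fin_cases j <;> simp [mul_entry]
    · linear_combination (g 0 0) * e - hd - h2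
    · linear_combination (g 0 1) * e
    · linear_combination (g 1 0) * e
    · linear_combination (g 1 1) * e - hd - h2
  have htr' : ∀ g : SL2, g * g = 1 → g 0 0 + g 1 1 = 0 := fun g e => by
    have := congrArg (fun v : SL2 => v 0 0) (inv_eq_of_mul_eq_one_right e)
    simp only [(inv_entries g).1] at this
    rw [this]; exact CharTwo.add_self_eq_zero _
  have hxy : ∀ g : SL2, (x * g) 0 0 + (x * g) 1 1 = g 0 0 + g 1 1 + a0 * g 1 0 := fun g => by
    simp [x, mul_entry, upperU_entries]; ring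
  have key : ∀ y : SL2, Group.IsSolvable (Subgroup.closure ({x, y} : Set SL2)) ↔
      y 1 0 = 0 ∨ (y 1 0 ≠ 0 ∧ y 0 0 + y 1 1 = 0 * y 1 0) ∨ (y 1 0 ≠ 0 ∧ y 0 0 + y 1 1 = a0 * y 1 0) := by
    intro y
    have hiff : (y * y = 1 ∨ (x * y) * (x * y) = 1) → y 1 0 = 0 ∨ (y 1 0 ≠ 0 ∧ y 0 0 + y 1 1 = 0 * y 1 0) ∨ (y 1 0 ≠ 0 ∧ y 0 0 + y 1 1 = a0 * y 1 0) := by
      intro h
      by_cases h10 : y 1 0 = 0
      · exact Or.inl h10
      rcases h with h | h
      · exact Or.inr (Or.inl ⟨h10, by rw [zero_mul]; exact htr' y h⟩)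
      · have := htr' _ h
        rw [hxy] at this
        exact Or.inr (Or.inr ⟨h10, by linear_combination this - (a0 * y 1 0) * h2⟩)
    constructor
    · intro hs
      have hne : Subgroup.closure ({x, y} : Set SL2) ≠ ⊤ := fun e => by
        rw [e] at hs
        haveI := hs
        exact Cfsg.Agent.S0810.not_solvable_image h4 (MonoidHom.id SL2) (fun g hg => by rw [show g = 1 from hg]; exact one_mem _) (by rw [MonoidHom.range_eq_top.2 Function.surjective_id]; exact hs)
      obtain ⟨N, hN, hle⟩ := (eq_top_or_exists_le_coatom _).resolve_left hne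
      have hxN : x ∈ N := hle (Subgroup.subset_closure (Or.inl rfl))
      have hyN : y ∈ N := hle (Subgroup.subset_closure (Or.inr rfl))
      rcases maximal_cases hp hF hN with ⟨s, hB⟩ | hD
      · left
        have hs10 : s⁻¹ 1 0 = 0 := by
          have := hB x hxN
          rw [show s⁻¹ * x * s = s⁻¹ * upperU a0 * (s⁻¹)⁻¹ by rw [inv_inv], conj_upperU_entry] at this
          exact pow_eq_zero_iff two_ne_zero |>.1 ((mul_eq_zero.1 this).resolve_left (neg_ne_zero.2 ha0))
        have hsB : s ∈ borelG F := by simpa using (borelG F).inv_mem (show s⁻¹ ∈ borelG F from hs10)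
        have : s * (s⁻¹ * y * s) * s⁻¹ ∈ borelG F := (borelG F).mul_mem ((borelG F).mul_mem hsB (hB y hyN)) ((borelG F).inv_mem hsB)
        rwa [show s * (s⁻¹ * y * s) * s⁻¹ = y by group] at this
      · refine hiff ?_
        have hcast : ∀ k, Odd k → Nonempty (N ≃* DihedralGroup k) → y * y = 1 ∨ (x * y) * (x * y) = 1 := fun k hk ⟨i⟩ =>
          (dihedral_inv hk i ⟨x, hxN⟩ (Subtype.ext hxx) (fun e => hx1 (congrArg Subtype.val e)) ⟨y, hyN⟩).imp
            (congrArg Subtype.val) (congrArg Subtype.val)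
        have hev : Even (Fintype.card F) := by rw [hF]; exact Nat.even_pow.2 ⟨even_two, hp.ne_zero⟩
        exact hD.elim (hcast _ (Nat.Even.sub_odd (by omega) hev odd_one)) (hcast _ hev.add_one)
    · rintro (h | ⟨-, h⟩ | ⟨-, h⟩)
      · refine solvable_of_le (B := borelG F) ((Subgroup.closure_le _).2 ?_) (Cfsg.Agent.S0810.solvable_borel _ fun g hg => hg)
        rintro g (rfl | rfl)
        · exact (upperU_entries a0).2.2.1
        · exact h
      · exact solvable_gen h4 x y hxx (Or.inl (htr y (by rw [h, zero_mul])))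
      · refine solvable_gen h4 x y hxx (Or.inr (htr _ ?_))
        rw [hxy, h]; exact CharTwo.add_self_eq_zero _
  obtain ⟨l, hl⟩ := exists_sqrt a0
  rw [Nat.card_congr (Equiv.subtypeEquivRight key), card_or3, card_inf_borel, card_line 0 0 (by simp), card_line l a0 hl]
  · ring
  · exact fun g h h' => h'.1 h
  · exact fun g h h' => h'.1 h
  · intro g h h'
    exact ha0 ((mul_eq_zero.1 (show a0 * g 1 0 = 0 by linear_combination h.2 - h'.2)).resolve_right h.1)

theorem split_count {p : ℕ} (hp : p.Prime) (hF : Fintype.card F = 2 ^ p) (u : Fˣ) (hu : dg u * dg u ≠ 1) :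
    Nat.card (Sol (dg u)) = 2 * Fintype.card F * (Fintype.card F - 1) := by
  classical
  have h4 : 4 ≤ Fintype.card F := by rw [hF]; exact (show 4 = 2 ^ 2 by norm_num) ▸ Nat.pow_le_pow_right two_pos hp.two_le
  have hd0 : (u : F) - ((u⁻¹ : Fˣ) : F) ≠ 0 := fun e => hu (by
    rw [sub_eq_zero] at e
    have h1 : (u : F) * u = 1 := by nth_rewrite 2 [e]; exact Units.mul_inv u
    refine Matrix.SpecialLinearGroup.ext _ _ fun i j => ?_
    fin_cases i <;> fin_cases j <;> simp [mul_ap, dg_coe] <;> first | exact h1 | (simp only [Units.val_inv_eq_inv_val] at e; rw [← e]; exact h1))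
  have key : ∀ y : SL2, Group.IsSolvable (Subgroup.closure ({dg u, y} : Set SL2)) ↔
      y 1 0 = 0 ∨ (y 1 0 ≠ 0 ∧ y 0 1 = 0) ∨ (y 1 0 ≠ 0 ∧ y 0 1 ≠ 0 ∧ y 0 0 = 0 ∧ y 1 1 = 0) := by
    intro y
    constructor
    · intro hs
      have hne : Subgroup.closure ({dg u, y} : Set SL2) ≠ ⊤ := fun e => by
        rw [e] at hs
        exact Cfsg.Agent.S0810.not_solvable_image h4 (MonoidHom.id SL2) (fun g hg => by rw [show g = 1 from hg]; exact one_mem _) (by rw [MonoidHom.range_eq_top.2 Function.surjective_id]; exact hs)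
      obtain ⟨N, hN, hle⟩ := (eq_top_or_exists_le_coatom _).resolve_left hne
      have hxN : dg u ∈ N := hle (Subgroup.subset_closure (Or.inl rfl))
      have hyN : y ∈ N := hle (Subgroup.subset_closure (Or.inr rfl))
      by_cases h10 : y 1 0 = 0
      · exact Or.inl h10
      right
      rcases maximal_cases hp hF hN with ⟨s, hB⟩ | hD
      · left
        refine ⟨h10, ?_⟩
        have hx := hB _ hxN
        have hy := hB y hyN
        simp only [mul_ap, (inv_ap s).2.2.1, (inv_ap s).2.2.2, dg_coe] at hx hy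
        simp at hx
        have hx' : s 1 0 * s 0 0 = 0 := (mul_eq_zero.1 (show s 1 0 * s 0 0 * ((u : F) - ((u⁻¹ : Fˣ) : F)) = 0 by
          simp only [Units.val_inv_eq_inv_val]; linear_combination -hx)).resolve_right hd0
        have hds := det_two s
        rcases mul_eq_zero.1 hx' with h | h
        · exfalso
          rw [h, mul_zero, sub_zero] at hds
          rw [h] at hy
          exact h10 ((mul_eq_zero.1 (show y 1 0 * (s 0 0 * s 0 0) = 0 by linear_combination hy)).resolve_right (mul_ne_zero (left_ne_zero_of_mul_eq_one hds) (left_ne_zero_of_mul_eq_one hds)))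
        · rw [h] at hy hds
          have hne : s 1 0 ≠ 0 := fun e => by rw [e] at hds; simp at hds
          exact (mul_eq_zero.1 (show y 0 1 * (s 1 0 * s 1 0) = 0 by linear_combination -hy)).resolve_right (mul_ne_zero hne hne)
      · have hr : y * dg u * y⁻¹ = dg u ∨ y * dg u * y⁻¹ = (dg u)⁻¹ := by
          have hcast : ∀ k, Nonempty (N ≃* DihedralGroup k) → y * dg u * y⁻¹ = dg u ∨ y * dg u * y⁻¹ = (dg u)⁻¹ := fun k ⟨i⟩ =>
            (dihedral_rot i ⟨dg u, hxN⟩ (fun e => hu (congrArg Subtype.val e)) ⟨y, hyN⟩).imp (congrArg Subtype.val) (congrArg Subtype.val)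
          exact hD.elim (hcast _) (hcast _)
        simp only [mul_inv_eq_iff_eq_mul] at hr
        rcases hr with e | e
        · exfalso
          have e10 := congrArg (fun v : SL2 => v 1 0) e
          simp [mul_ap, dg_coe] at e10
          exact h10 ((mul_eq_zero.1 (show y 1 0 * ((u : F) - ((u⁻¹ : Fˣ) : F)) = 0 by simp only [Units.val_inv_eq_inv_val]; linear_combination e10)).resolve_right hd0)
        · have e00 := congrArg (fun v : SL2 => v 0 0) e
          have e11 := congrArg (fun v : SL2 => v 1 1) e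
          simp [mul_ap, inv_ap, dg_coe] at e00 e11
          have h00 : y 0 0 = 0 := (mul_eq_zero.1 (show y 0 0 * ((u : F) - ((u⁻¹ : Fˣ) : F)) = 0 by simp only [Units.val_inv_eq_inv_val]; linear_combination e00)).resolve_right hd0
          have h11 : y 1 1 = 0 := (mul_eq_zero.1 (show y 1 1 * ((u : F) - ((u⁻¹ : Fˣ) : F)) = 0 by simp only [Units.val_inv_eq_inv_val]; linear_combination -e11)).resolve_right hd0
          by_cases h01 : y 0 1 = 0
          · exact Or.inl ⟨h10, h01⟩
          · exact Or.inr ⟨h10, h01, h00, h11⟩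
    · rintro (h | ⟨-, h⟩ | ⟨-, -, h⟩)
      · refine solvable_of_le (B := borelG F) ((Subgroup.closure_le _).2 ?_) (Cfsg.Agent.S0810.solvable_borel _ fun g hg => hg)
        rintro g (rfl | rfl)
        · rfl
        · exact h
      · refine solvable_of_le (B := (borelG F).map (MulAut.conj (wy : SL2)).toMonoidHom) ((Subgroup.closure_le _).2 ?_) ?_
        · rintro g (rfl | rfl) <;> rw [SetLike.mem_coe, Subgroup.mem_map_equiv, MulAut.conj_symm_apply]
          · show ((wy (F := F))⁻¹ * dg u * wy (F := F) : SL2) 1 0 = 0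
            simp [mul_ap, inv_ap, wy_coe, dg_coe]
          · show ((wy (F := F))⁻¹ * g * wy (F := F) : SL2) 1 0 = 0
            simp [mul_ap, inv_ap, wy_coe, h]
        · haveI := Cfsg.Agent.S0810.solvable_borel (borelG F) fun g hg => hg
          exact solvable_of_solvable_injective (f := ((MulAut.conj (wy : SL2)).subgroupMap (borelG F)).symm.toMonoidHom) (MulEquiv.injective _)
      · refine solvable_of_le (B := mono F) ((Subgroup.closure_le _).2 ?_) ?_
        · rintro g (rfl | rfl)
          · exact dg_mem u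
          · exact Or.inr h
        · obtain ⟨i⟩ := mono_iso (F := F)
          haveI := dihedral_solvable (Fintype.card F - 1)
          exact solvable_of_solvable_injective (f := i.toMonoidHom) i.injective
  have c2 : Nat.card {g : SL2 // g 1 0 ≠ 0 ∧ g 0 1 = 0} = (Fintype.card F - 1) * (Fintype.card F - 1) := by
    let f : {g : SL2 // g 1 0 ≠ 0 ∧ g 0 1 = 0} → Fˣ × Fˣ := fun g => (Units.mk0 (g.1 1 0) g.2.1, Units.mkOfMulEqOne (g.1 0 0) (g.1 1 1) (by
      have := det_eq (g := g.1); rw [g.2.2] at this; linear_combination this))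
    have hf : Function.Bijective f := by
      refine ⟨fun a b h => ?_, fun ⟨c, v⟩ => ⟨⟨⟨!![(v : F), 0; (c : F), ((v⁻¹ : Fˣ) : F)], by simp [det_fin_two]⟩, c.ne_zero, rfl⟩, Prod.ext (Units.ext rfl) (Units.ext rfl)⟩⟩
      simp only [f, Prod.mk.injEq] at h
      obtain ⟨h10, h00⟩ := h
      have h11 : a.1 1 1 = b.1 1 1 := congrArg (fun u : Fˣ => ((u⁻¹ : Fˣ) : F)) h00
      have h00' : a.1 0 0 = b.1 0 0 := congrArg Units.val h00
      have h10' : a.1 1 0 = b.1 1 0 := congrArg Units.val h10
      refine Subtype.ext (Matrix.SpecialLinearGroup.ext _ _ fun i j => ?_)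
      fin_cases i <;> fin_cases j <;> simp [h10', h00', h11, a.2.2, b.2.2]
    rw [Nat.card_eq_of_bijective f hf, Nat.card_prod, Nat.card_units, Nat.card_eq_fintype_card]
  have c3 : Nat.card {g : SL2 // g 1 0 ≠ 0 ∧ g 0 1 ≠ 0 ∧ g 0 0 = 0 ∧ g 1 1 = 0} = Fintype.card F - 1 := by
    let f : {g : SL2 // g 1 0 ≠ 0 ∧ g 0 1 ≠ 0 ∧ g 0 0 = 0 ∧ g 1 1 = 0} → Fˣ := fun g => Units.mk0 (g.1 1 0) g.2.1
    have hf : Function.Bijective f := by
      refine ⟨fun a b h => ?_, fun c => ⟨⟨⟨!![0, -((c⁻¹ : Fˣ) : F); (c : F), 0], by simp [det_fin_two]⟩, c.ne_zero, neg_ne_zero.2 (Units.ne_zero _), rfl, rfl⟩, Units.ext rfl⟩⟩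
      have h10 : a.1 1 0 = b.1 1 0 := congrArg Units.val h
      have hd := det_eq (g := a.1)
      have hd' := det_eq (g := b.1)
      rw [a.2.2.2.1, h10] at hd
      rw [b.2.2.2.1] at hd'
      have h01 : a.1 0 1 = b.1 0 1 := mul_right_cancel₀ b.2.1 (by linear_combination hd' - hd)
      refine Subtype.ext (Matrix.SpecialLinearGroup.ext _ _ fun i j => ?_)
      fin_cases i <;> fin_cases j <;> simp [h10, h01, a.2.2.2.1, b.2.2.2.1, a.2.2.2.2, b.2.2.2.2]
    rw [Nat.card_eq_of_bijective f hf, Nat.card_units, Nat.card_eq_fintype_card]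
  rw [Nat.card_congr (Equiv.subtypeEquivRight key), card_or3, card_inf_borel, c2, c3]
  · obtain ⟨r, hr⟩ : ∃ r, Fintype.card F = r + 1 := ⟨Fintype.card F - 1, by omega⟩
    rw [hr, Nat.add_sub_cancel]; ring
  · exact fun g h h' => h'.1 h
  · exact fun g h h' => h'.1 h
  · exact fun g h h' => h'.2.1 h.2

theorem nonsplit_count {p : ℕ} (hp : p.Prime) (hF : Fintype.card F = 2 ^ p) {ν : F} (hν : Irr ν) (X : Matrix.SpecialLinearGroup (Fin 2) F)
    (hX : X ∈ tor ν) (hX0 : X 1 0 ≠ 0) (hXX : X * X ≠ 1) (hord : orderOf X ∣ Fintype.card F + 1) :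
    Nat.card (Sol X) = 2 * (Fintype.card F + 1) := by
  classical
  have h4 : 4 ≤ Fintype.card F := by rw [hF]; exact (show 4 = 2 ^ 2 by norm_num) ▸ Nat.pow_le_pow_right two_pos hp.two_le
  rw [← card_nor hν]
  refine Nat.card_congr (Equiv.subtypeEquivRight fun y => ⟨fun hs => ?_, fun hy => ?_⟩)
  · have hne : Subgroup.closure ({X, y} : Set SL2) ≠ ⊤ := fun e => by
      rw [e] at hs
      exact Cfsg.Agent.S0810.not_solvable_image h4 (MonoidHom.id SL2) (fun g hg => by rw [show g = 1 from hg]; exact one_mem _) (by rw [MonoidHom.range_eq_top.2 Function.surjective_id]; exact hs)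
    obtain ⟨N, hN, hle⟩ := (eq_top_or_exists_le_coatom _).resolve_left hne
    have hxN : X ∈ N := hle (Subgroup.subset_closure (Or.inl rfl))
    have hyN : y ∈ N := hle (Subgroup.subset_closure (Or.inr rfl))
    rcases maximal_cases hp hF hN with ⟨s, hB⟩ | hD
    · exfalso
      have hmem : s⁻¹ * X * s ∈ borelG F := hB X hxN
      have hd := Subgroup.orderOf_dvd_natCard (borelG F) hmem
      have ho : orderOf (s⁻¹ * X * s) = orderOf X := by
        have := MulEquiv.orderOf_eq (MulAut.conj s⁻¹) X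
        simpa [MulAut.conj_apply] using this
      rw [ho, show Nat.card (borelG F) = _ from card_inf_borel] at hd
      have hco : Nat.Coprime (Fintype.card F + 1) (Fintype.card F * (Fintype.card F - 1)) := by
        refine Nat.Coprime.mul_right (by simp) ?_
        rw [show Fintype.card F + 1 = (Fintype.card F - 1) + 2 by omega, Nat.coprime_self_add_left]
        exact Nat.coprime_two_left.2 (Nat.Even.sub_odd (by omega) (by rw [hF]; exact Nat.even_pow.2 ⟨even_two, hp.ne_zero⟩) odd_one)
      have := Nat.eq_one_of_dvd_coprimes hco hord hd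
      rw [orderOf_eq_one_iff] at this
      exact hXX (by rw [this, one_mul])
    · have hcast : ∀ k, Nonempty (N ≃* DihedralGroup k) → y ∈ nor ν := fun k ⟨i⟩ => by
        refine mem_nor_of_conj hν hX hX0 ?_
        rcases (dihedral_rot i ⟨X, hxN⟩ (fun e => hXX (congrArg Subtype.val e)) ⟨y, hyN⟩).imp (congrArg Subtype.val) (congrArg Subtype.val) with e | e
        · rw [show y * X * y⁻¹ = X from e]; exact hX
        · rw [show y * X * y⁻¹ = X⁻¹ from e]; exact (tor ν).inv_mem hX
      exact hD.elim (hcast _) (hcast _)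
  · refine solvable_of_le (B := nor ν) ((Subgroup.closure_le _).2 ?_) ?_
    · rintro g (rfl | rfl)
      · exact tor_le hX
      · exact hy
    · obtain ⟨i⟩ := nor_iso hν
      haveI := dihedral_solvable (Fintype.card F + 1)
      exact solvable_of_solvable_injective (f := i.toMonoidHom) i.injective


/-- Let G = PSL_2(F) with F a field of order q = 2^p, p prime, and for x ∈ G call the solubilizer of x the set of y ∈ G such that x and y generate a solvable subgroup. Then the solubilizer of an involution has 3q(q − 1) elements; that of a non-identity element of order dividing q − 1 has 2q(q − 1) elements; and that of a non-identity element of order dividing q + 1 has 2(q + 1) elements. -/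
theorem result (p : ℕ) (hp : p.Prime) {F : Type*} [Field F] [Fintype F]
    (hF : Fintype.card F = 2 ^ p) (x : Matrix.ProjectiveSpecialLinearGroup (Fin 2) F) :
    (orderOf x = 2 → Nat.card {y : Matrix.ProjectiveSpecialLinearGroup (Fin 2) F // Group.IsSolvable ↥(Subgroup.closure ({x, y} : Set (Matrix.ProjectiveSpecialLinearGroup (Fin 2) F)))} = 3 * 2 ^ p * (2 ^ p - 1)) ∧
    (x ≠ 1 → orderOf x ∣ 2 ^ p - 1 → Nat.card {y : Matrix.ProjectiveSpecialLinearGroup (Fin 2) F // Group.IsSolvable ↥(Subgroup.closure ({x, y} : Set (Matrix.ProjectiveSpecialLinearGroup (Fin 2) F)))} = 2 * 2 ^ p * (2 ^ p - 1)) ∧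
    (x ≠ 1 → orderOf x ∣ 2 ^ p + 1 → Nat.card {y : Matrix.ProjectiveSpecialLinearGroup (Fin 2) F // Group.IsSolvable ↥(Subgroup.closure ({x, y} : Set (Matrix.ProjectiveSpecialLinearGroup (Fin 2) F)))} = 2 * (2 ^ p + 1)) := by
  classical
  haveI hp2 : CharP F 2 := by
    obtain ⟨q, hq⟩ := CharP.exists F
    obtain ⟨e, hqq, he⟩ := FiniteField.card F q
    obtain rfl : 2 = q := (Nat.prime_dvd_prime_iff_eq Nat.prime_two hqq).1 (Nat.prime_two.dvd_of_dvd_pow (he ▸ hF ▸ dvd_pow_self 2 hp.ne_zero))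
    exact hq
  let e := MulEquiv.ofBijective _ (Cfsg.Agent.S5893.psl_bij F)
  obtain ⟨g, rfl⟩ := e.surjective x
  rw [MulEquiv.orderOf_eq, ← card_sol_map e g]
  have hne1 : e g ≠ 1 → g ≠ 1 := fun h h' => h (by rw [h', map_one])
  have hconj : ∀ s X : Matrix.SpecialLinearGroup (Fin 2) F, g * s = s * X → (MulAut.conj s) X = g := fun s X h => by
    rw [MulAut.conj_apply, ← h, mul_inv_cancel_right]
  have hq2 : ∀ z : Matrix.SpecialLinearGroup (Fin 2) F, z ≠ 1 → ∀ m, orderOf z ∣ m → Odd m → z * z ≠ 1 := fun z hz m hm hodd h => by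
    have h2 : orderOf z = 2 := by
      rcases (Nat.dvd_prime Nat.prime_two).1 (orderOf_dvd_of_pow_eq_one ((pow_two z).trans h)) with e | e
      · exact absurd (orderOf_eq_one_iff.1 e) hz
      · exact e
    rw [h2] at hm
    exact Nat.not_even_iff_odd.2 hodd (even_iff_two_dvd.2 hm)
  have hev : Even (2 ^ p) := Nat.even_pow.2 ⟨even_two, hp.ne_zero⟩
  refine ⟨fun h => ?_, fun h1 h => ?_, fun h1 h => ?_⟩
  · obtain ⟨s, a0, ha0, hsa⟩ := Cfsg.Lib.Classical.MinIndex.exists_conj_upper (p := 2) g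
      (orderOf_dvd_iff_pow_eq_one.1 (dvd_of_eq h)) (fun e' => by rw [e', orderOf_one] at h; exact absurd h (by norm_num))
    have hg : (MulAut.conj s) (Cfsg.Lib.PStable.upperU a0) = g := by rw [MulAut.conj_apply, ← hsa]; group
    rw [← hg, ← card_sol_map, upper_count hp hF a0 ha0, hF]
  · have hg1 := hne1 h1
    have hgg := hq2 g hg1 _ h (Nat.Even.sub_odd (Nat.one_le_two_pow) hev odd_one)
    rcases normal_form g hgg with ⟨u, s, hs⟩ | ⟨ν, hν, X, s, hX, -, hs⟩
    · rw [← hconj s _ hs, ← card_sol_map, split_count hp hF u, hF]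
      intro h'
      exact hgg (by rw [← hconj s _ hs, ← map_mul, h', map_one])
    · exfalso
      have ho : orderOf g = orderOf X := by rw [← hconj s X hs, MulEquiv.orderOf_eq]
      have hd := Subgroup.orderOf_dvd_natCard _ hX
      rw [Cfsg.Lib.Classical.NsDih.card_tor hν, hF, ← ho] at hd
      have hco : Nat.Coprime (2 ^ p - 1) (2 ^ p + 1) := by
        rw [show 2 ^ p + 1 = 2 + (2 ^ p - 1) by have := Nat.one_le_two_pow (n := p); omega, Nat.coprime_add_self_right]
        exact Nat.coprime_two_right.2 (Nat.Even.sub_odd (Nat.one_le_two_pow) hev odd_one)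
      exact hg1 (orderOf_eq_one_iff.1 (Nat.eq_one_of_dvd_coprimes hco h hd))
  · have hg1 := hne1 h1
    have hgg := hq2 g hg1 _ h hev.add_one
    rcases normal_form g hgg with ⟨u, s, hs⟩ | ⟨ν, hν, X, s, hX, hX0, hs⟩
    · exfalso
      have ho : orderOf g = orderOf (Cfsg.Lib.Classical.SplitDih.dg u) := by rw [← hconj s _ hs, MulEquiv.orderOf_eq]
      have hd := (orderOf_map_dvd Cfsg.Lib.Classical.SplitDih.dg u).trans (orderOf_dvd_natCard u)
      rw [← ho, Nat.card_units, Nat.card_eq_fintype_card, hF] at hd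
      have hco : Nat.Coprime (2 ^ p - 1) (2 ^ p + 1) := by
        rw [show 2 ^ p + 1 = 2 + (2 ^ p - 1) by have := Nat.one_le_two_pow (n := p); omega, Nat.coprime_add_self_right]
        exact Nat.coprime_two_right.2 (Nat.Even.sub_odd (Nat.one_le_two_pow) hev odd_one)
      exact hg1 (orderOf_eq_one_iff.1 (Nat.eq_one_of_dvd_coprimes hco hd h))
    · have hg := hconj s X hs
      rw [← hg, ← card_sol_map, nonsplit_count hp hF hν X hX hX0, hF]
      · intro h'
        exact hgg (by rw [← hg, ← map_mul, h', map_one])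
      · rw [hF, ← MulEquiv.orderOf_eq (MulAut.conj s) X, hg]; exact h

end Cfsg.Agent.S2257
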