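import Cfsg.Statements.S2258
import Mathlib
import Cfsg.Agent.Lib.Classical.PSLTwoOdd
import Cfsg.Agent.Lib.PStable.DicksonSetup
-- import your own Cfsg.Agent.* helpers here

set_option autoImplicit false
open Cfsg

namespace Cfsg.Agent.S2258

open Matrix Cfsg.Lib.PStable Cfsg.Lib.PSLTwoOdd Cfsg.Lib.Fusion.PSLTwo

set_option linter.unusedSectionVars false

variable {F : Type*} [Field F] [Fintype F]

local notation "SL2" => Matrix.SpecialLinearGroup (Fin 2) F
local notation "π" => QuotientGroup.mk' (Subgroup.center (Matrix.SpecialLinearGroup (Fin 2) F))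

/-- Standing hypotheses. -/
structure Hyp (F : Type*) [Field F] : Prop where
  three : (3 : F) = 0
  ns : ∀ x : F, x * x ≠ -1

def Solv (X Y : Matrix.SpecialLinearGroup (Fin 2) F) : Prop :=
  Group.IsSolvable (Subgroup.closure ({π X, π Y} : Set (Matrix.ProjectiveSpecialLinearGroup (Fin 2) F)))

def E (x y : Matrix.SpecialLinearGroup (Fin 2) F) : Prop := x = y ∨ x = -y

def six (a b s : Matrix.SpecialLinearGroup (Fin 2) F) : Prop := E s a ∨ E s b ∨ E s (a * b)

theorem h2 (h : Hyp F) : (2 : F) ≠ 0 := fun e => one_ne_zero (α := F) (by linear_combination h.three - e)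

theorem trc_neg (g : Matrix.SpecialLinearGroup (Fin 2) F) : trc (-g) = -trc g := by simp [trc, neg_entry]; ring

theorem trc_anti (h : Hyp F) {a b : Matrix.SpecialLinearGroup (Fin 2) F} (e : a * b = -(b * a)) : trc b = 0 := by
  have := trc_conj a b
  rw [e, neg_mul, mul_inv_cancel_right, trc_neg] at this
  exact (mul_eq_zero.1 (show (2 : F) * trc b = 0 by linear_combination -this)).resolve_left (h2 h)

theorem anti_symm {a b : Matrix.SpecialLinearGroup (Fin 2) F} (e : a * b = -(b * a)) : b * a = -(a * b) := by rw [e, neg_neg]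

theorem not_scalar_anti (h : Hyp F) {a b : Matrix.SpecialLinearGroup (Fin 2) F} (e : a * b = -(b * a)) : ¬ IsScalar2 b := fun hb => by
  have := trc_anti h e
  rcases (isScalar2_iff b).1 hb with rfl | rfl <;>
  · simp [trc, neg_entry] at this
    exact h2 h (by first | linear_combination this | linear_combination -this)

theorem pm_trc (h : Hyp F) {g : Matrix.SpecialLinearGroup (Fin 2) F} (hg : IsScalar2 g) : trc g = 1 ∨ trc g = -1 := by
  rcases (isScalar2_iff g).1 hg with rfl | rfl
  · exact Or.inr (by simp [trc]; linear_combination h.three)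
  · exact Or.inl (by simp [trc, neg_entry]; linear_combination -h.three)

theorem eq_pm_of_comm (h : Hyp F) {a b : Matrix.SpecialLinearGroup (Fin 2) F} (ha : ¬ IsScalar2 a) (ta : trc a = 0) (tb : trc b = 0)
    (e : b * a = a * b) : E b a := by
  have ha' : a⁻¹ = -a := by
    obtain ⟨i1, i2, i3, i4⟩ := inv_entries a
    simp only [trc] at ta
    refine Matrix.SpecialLinearGroup.ext _ _ fun i j => ?_
    fin_cases i <;> fin_cases j <;> simp only [Fin.zero_eta, Fin.mk_one, neg_entry, i1, i2, i3, i4]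
    · linear_combination ta
    · linear_combination ta
  have := Cfsg.Lib.PStable.eq_or_eq_inv (h2 h) ha (by
    simp only [trc] at ta; rw [ta]; intro e4; exact one_ne_zero (α := F) (by linear_combination -e4 - h.three)) e (by simp only [trc] at ta tb; rw [ta, tb])
  exact this.imp id fun e' => by rw [e', ha']

theorem E_conj {x y : Matrix.SpecialLinearGroup (Fin 2) F} (e : E x y) (g : Matrix.SpecialLinearGroup (Fin 2) F) : E (g * x * g⁻¹) (g * y * g⁻¹) :=
  e.imp (fun e => by rw [e]) (fun e => by rw [e, mul_neg, neg_mul])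

theorem E_trans {x y z : Matrix.SpecialLinearGroup (Fin 2) F} (e : E x y) (e' : E y z) : E x z := by
  rcases e with rfl | rfl <;> rcases e' with rfl | rfl <;> simp [E]

theorem E_symm {x y : Matrix.SpecialLinearGroup (Fin 2) F} (e : E x y) : E y x := by
  rcases e with rfl | rfl <;> simp [E]

theorem E_mul {x y x' y' : Matrix.SpecialLinearGroup (Fin 2) F} (e : E x y) (e' : E x' y') : E (x * x') (y * y') := by
  rcases e with rfl | rfl <;> rcases e' with rfl | rfl <;> simp [E]

theorem sq_of_trc_zero {a : Matrix.SpecialLinearGroup (Fin 2) F} (ta : trc a = 0) : a * a = -1 := by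
  simp only [trc] at ta
  have hd := det_eq (g := a)
  refine Matrix.SpecialLinearGroup.ext _ _ fun i j => ?_
  fin_cases i <;> fin_cases j <;> simp [mul_entry]
  · linear_combination (a 0 0) * ta - hd
  · linear_combination (a 0 1) * ta
  · linear_combination (a 1 0) * ta
  · linear_combination (a 1 1) * ta - hd

theorem trc_sq (g : Matrix.SpecialLinearGroup (Fin 2) F) : trc (g * g) = trc g * trc g - 2 := by
  simp only [trc, mul_entry]; linear_combination -2 * det_eq (g := g)

theorem trc_cube (g : Matrix.SpecialLinearGroup (Fin 2) F) : trc (g * g * g) = trc g ^ 3 - 3 * trc g := by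
  simp only [trc, mul_entry]; linear_combination (-3 * (g 0 0 + g 1 1)) * det_eq (g := g)

/-- An element fixing one axis. -/
theorem fix_trc (h : Hyp F) {e f g : Matrix.SpecialLinearGroup (Fin 2) F} (hef : e * f = -(f * e))
    (he : E (g * e * g⁻¹) e) (hf : E (g * f * g⁻¹) f ∨ E (g * f * g⁻¹) (e * f)) : trc g = 0 ∨ trc g = 1 ∨ trc g = -1 := by
  have hte : trc e = 0 := trc_anti h (anti_symm hef)
  rcases he with he | he
  swap
  · exact Or.inl (trc_anti h (anti_symm (mul_inv_eq_iff_eq_mul.1 he |>.trans (neg_mul e g))))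
  have hge : g * e = e * g := mul_inv_eq_iff_eq_mul.1 he
  rcases hf with hf | hf
  · rcases hf with hf | hf
    · refine Or.inr (pm_trc h ?_)
      by_contra hg
      have := Cfsg.Lib.PStable.commute_trans hg hge.symm (mul_inv_eq_iff_eq_mul.1 hf).symm
      have h0 := congrArg (fun m : SL2 => m.1) (this.symm.trans hef)
      have : ∀ i j, (f * e) i j = 0 := fun i j => by
        have e' := congrFun (congrFun h0 i) j
        simp only [Matrix.SpecialLinearGroup.coe_neg, Matrix.neg_apply] at e'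
        exact (mul_eq_zero.1 (show (2 : F) * (f * e) i j = 0 by linear_combination e')).resolve_left (h2 h)
      have hd := det_eq (g := f * e)
      rw [this 0 0, this 0 1] at hd
      simp at hd
    · exact Or.inl (trc_anti h (anti_symm (mul_inv_eq_iff_eq_mul.1 hf |>.trans (neg_mul f g))))
  · exfalso
    have h1 : (g * g) * f * (g * g)⁻¹ = -f := by
      rw [show (g * g) * f * (g * g)⁻¹ = g * (g * f * g⁻¹) * g⁻¹ by group]
      have hx : g * (e * f) * g⁻¹ = e * (g * f * g⁻¹) := by rw [← mul_assoc g e f, hge]; group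
      rcases hf with hf | hf
      · rw [hf, hx, hf, ← mul_assoc, sq_of_trc_zero hte, neg_one_mul]
      · rw [hf, mul_neg, neg_mul, hx, hf, mul_neg, neg_neg, ← mul_assoc, sq_of_trc_zero hte, neg_one_mul]
    have := trc_anti h (anti_symm (mul_inv_eq_iff_eq_mul.1 h1 |>.trans (neg_mul f (g * g))))
    rw [trc_sq] at this
    exact h.ns (trc g) (by linear_combination this + h.three)

theorem six_trc (h : Hyp F) {a b g : Matrix.SpecialLinearGroup (Fin 2) F} (hab : a * b = -(b * a))
    (ha : six a b (g * a * g⁻¹)) (hb : six a b (g * b * g⁻¹)) : trc g = 0 ∨ trc g = 1 ∨ trc g = -1 := by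
  have hta : trc a = 0 := trc_anti h (anti_symm hab)
  have htb : trc b = 0 := trc_anti h hab
  have hba : E (b * a) (a * b) := Or.inr (anti_symm hab)
  have hc : a * b * a = b := by rw [hab, neg_mul, mul_assoc, sq_of_trc_zero hta, mul_neg_one, neg_neg]
  have hac : a * b * a = -(a * (a * b)) := by rw [hc, ← mul_assoc, sq_of_trc_zero hta, neg_one_mul, neg_neg]
  have hEinj : ∀ {x y : SL2}, E (g * x * g⁻¹) (g * y * g⁻¹) → E x y := fun {x y} e => by
    have := E_conj e g⁻¹
    simpa [mul_assoc] using this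
  have hnot : ∀ {x y : SL2}, x * y = -(y * x) → ¬ E x y := fun {x y} e e' => by
    rcases e' with e' | e' <;>
    · rw [e'] at e
      try simp only [neg_mul, mul_neg, neg_neg] at e
      have h0 := congrArg (fun m : SL2 => m 0 0) e
      have h1 := congrArg (fun m : SL2 => m 0 1) e
      simp only [neg_entry] at h0 h1
      have d := det_eq (g := y * y)
      have e0 : (y * y) 0 0 = 0 := (mul_eq_zero.1 (show (2 : F) * (y * y) 0 0 = 0 by first | linear_combination h0 | linear_combination -h0)).resolve_left (h2 h)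
      have e1 : (y * y) 0 1 = 0 := (mul_eq_zero.1 (show (2 : F) * (y * y) 0 1 = 0 by first | linear_combination h1 | linear_combination -h1)).resolve_left (h2 h)
      rw [e0, e1] at d
      simp at d
  have hcg : g * (a * b) * g⁻¹ = (g * a * g⁻¹) * (g * b * g⁻¹) := by group
  rcases ha with ha | ha | ha
  · exact fix_trc h hab ha (hb.elim (fun e => absurd (hEinj (E_trans e (E_symm ha))) (fun e => hnot hab (E_symm e))) id)
  · rcases hb with hb | hb | hb
    · refine fix_trc (e := a * b) (f := a) h hac (by rw [hcg]; exact E_trans (E_mul ha hb) hba) (Or.inr (E_trans ha (Or.inl hc.symm)))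
    · exact absurd (hEinj (E_trans ha (E_symm hb))) (hnot hab)
    · have hcc : E (g * (a * b) * g⁻¹) a := by
        rw [hcg]; refine E_trans (E_mul ha hb) (Or.inl ?_)
        rw [← mul_assoc, ← neg_eq_iff_eq_neg.2 hab, neg_mul, mul_assoc, sq_of_trc_zero htb, mul_neg_one, neg_neg]
      have k1 : E ((g * g * g) * a * (g * g * g)⁻¹) a := by
        rw [show (g * g * g) * a * (g * g * g)⁻¹ = g * (g * (g * a * g⁻¹) * g⁻¹) * g⁻¹ by group]
        exact E_trans (E_conj (E_trans (E_conj ha g) hb) g) hcc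
      have k2 : E ((g * g * g) * b * (g * g * g)⁻¹) b := by
        rw [show (g * g * g) * b * (g * g * g)⁻¹ = g * (g * (g * b * g⁻¹) * g⁻¹) * g⁻¹ by group]
        exact E_trans (E_conj (E_trans (E_conj hb g) hcc) g) ha
      have := fix_trc h hab k1 (Or.inl k2)
      rw [trc_cube, h.three, zero_mul, sub_zero] at this
      rcases this with e | e | e
      · exact Or.inl (eq_zero_of_pow_eq_zero e)
      · exact Or.inr (Or.inl (sub_eq_zero.1 (eq_zero_of_pow_eq_zero (show (trc g - 1) ^ 3 = 0 by linear_combination e + (trc g - trc g ^ 2) * h.three))))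
      · exact Or.inr (Or.inr (add_eq_zero_iff_eq_neg.1 (eq_zero_of_pow_eq_zero (show (trc g + 1) ^ 3 = 0 by linear_combination e + (trc g + trc g ^ 2) * h.three))))
  · rcases hb with hb | hb | hb
    · have hcc : E (g * (a * b) * g⁻¹) b := by
        rw [hcg]; exact E_trans (E_mul ha hb) (Or.inl hc)
      have k1 : E ((g * g * g) * a * (g * g * g)⁻¹) a := by
        rw [show (g * g * g) * a * (g * g * g)⁻¹ = g * (g * (g * a * g⁻¹) * g⁻¹) * g⁻¹ by group]
        exact E_trans (E_conj (E_trans (E_conj ha g) hcc) g) hb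
      have k2 : E ((g * g * g) * b * (g * g * g)⁻¹) b := by
        rw [show (g * g * g) * b * (g * g * g)⁻¹ = g * (g * (g * b * g⁻¹) * g⁻¹) * g⁻¹ by group]
        exact E_trans (E_conj (E_trans (E_conj hb g) ha) g) hcc
      have := fix_trc h hab k1 (Or.inl k2)
      rw [trc_cube, h.three, zero_mul, sub_zero] at this
      rcases this with e | e | e
      · exact Or.inl (eq_zero_of_pow_eq_zero e)
      · exact Or.inr (Or.inl (sub_eq_zero.1 (eq_zero_of_pow_eq_zero (show (trc g - 1) ^ 3 = 0 by linear_combination e + (trc g - trc g ^ 2) * h.three))))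
      · exact Or.inr (Or.inr (add_eq_zero_iff_eq_neg.1 (eq_zero_of_pow_eq_zero (show (trc g + 1) ^ 3 = 0 by linear_combination e + (trc g + trc g ^ 2) * h.three))))
    · refine fix_trc (e := b) (f := a) h (anti_symm hab) hb (Or.inr (E_trans ha (E_symm hba)))
    · exact absurd (hEinj (E_trans ha (E_symm hb))) (hnot hab)

/-- Conjugation behaviour at a semisimple element. -/
def CI (a g : Matrix.SpecialLinearGroup (Fin 2) F) : Prop := g * a = a * g ∨ g * a * g⁻¹ = a⁻¹

theorem key (h : Hyp F) {X Y : Matrix.SpecialLinearGroup (Fin 2) F} (hs : Solv X Y) (hX : ¬ IsScalar2 X) :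
    (∃ a : SL2, ¬ IsScalar2 a ∧ trc a * trc a ≠ 1 ∧ CI a X ∧ CI a Y) ∨
    (∃ w0 w1 : F, (w0 ≠ 0 ∨ w1 ≠ 0) ∧ ∀ g : SL2, g = X ∨ g = Y → (g 0 0 * w0 + g 0 1 * w1) * w1 = (g 1 0 * w0 + g 1 1 * w1) * w0) ∨
    (∀ g : SL2, g = X ∨ g = Y ∨ g = X * Y → trc g = 0 ∨ trc g = 1 ∨ trc g = -1) := by
  classical
  set K := Subgroup.closure ({π X, π Y} : Set (Matrix.ProjectiveSpecialLinearGroup (Fin 2) F))
  have hsc : ∀ g : SL2, π g = 1 → IsScalar2 g := fun g hg => by
    rw [← map_one π] at hg
    exact (isScalar2_iff g).2 ((mk_eq_mk_iff _ _).1 hg)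
  obtain ⟨n, hn⟩ := Group.IsSolvable.solvable (G := K) (self := hs)
  have hex : ∃ n, derivedSeries K n = ⊥ := ⟨n, hn⟩
  have hm0 : Nat.find hex ≠ 0 := fun e => by
    have h0 := Nat.find_spec hex
    rw [e, derivedSeries_zero] at h0
    have := Subgroup.mem_bot.1 (h0 ▸ Subgroup.mem_top (⟨π X, Subgroup.subset_closure (Or.inl rfl)⟩ : K))
    exact hX (hsc X (congrArg Subtype.val this))
  obtain ⟨m, hm⟩ := Nat.exists_eq_succ_of_ne_zero hm0
  have hne : derivedSeries K m ≠ ⊥ := Nat.find_min hex (by omega)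
  have hcm : ⁅derivedSeries K m, derivedSeries K m⁆ = ⊥ := by rw [← derivedSeries_succ, ← Nat.succ_eq_add_one, ← hm]; exact Nat.find_spec hex
  let S : Set SL2 := {s | ∃ z ∈ derivedSeries K m, (z : Matrix.ProjectiveSpecialLinearGroup (Fin 2) F) = π s}
  have hPC : ∀ s ∈ S, ∀ t ∈ S, s * t = t * s ∨ s * t = -(t * s) := by
    rintro s ⟨z, hz, ez⟩ t ⟨w, hw, ew⟩
    rw [← mk_eq_mk_iff, map_mul, map_mul, ← ez, ← ew]
    have := Subgroup.mem_bot.1 (hcm ▸ Subgroup.commutator_mem_commutator hz hw)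
    exact congrArg Subtype.val (commutatorElement_eq_one_iff_mul_comm.1 this)
  have hconj : ∀ g : SL2, g = X ∨ g = Y → ∀ s ∈ S, g * s * g⁻¹ ∈ S := by
    rintro g hg s ⟨z, hz, ez⟩
    have hgK : π g ∈ K := by rcases hg with rfl | rfl <;> exact Subgroup.subset_closure (by simp)
    refine ⟨⟨π g, hgK⟩ * z * ⟨π g, hgK⟩⁻¹, (derivedSeries_normal K m).conj_mem z hz _, ?_⟩
    simp [ez]
  have hscconj : ∀ g s : SL2, ¬ IsScalar2 s → ¬ IsScalar2 (g * s * g⁻¹) := fun g s hs' e => hs' ((isScalar2_iff s).2 (by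
    rcases (isScalar2_iff _).1 e with e | e
    · exact Or.inl (conj_eq_one_iff.1 e)
    · right; calc s = g⁻¹ * (g * s * g⁻¹) * g := by group
        _ = -1 := by rw [e]; simp))
  obtain ⟨a, haS, ha⟩ : ∃ a ∈ S, ¬ IsScalar2 a := by
    obtain ⟨z, hz, hz1⟩ := (Subgroup.ne_bot_iff_exists_ne_one (H := derivedSeries K m)).1 hne |> fun ⟨z, hz1⟩ => (⟨z.1, z.2, fun e => hz1 (Subtype.ext e)⟩ : ∃ z, z ∈ derivedSeries K m ∧ z ≠ 1)
    obtain ⟨a, ha⟩ := QuotientGroup.mk'_surjective _ (z : Matrix.ProjectiveSpecialLinearGroup (Fin 2) F)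
    refine ⟨a, ⟨z, hz, ha.symm⟩, fun hs' => hz1 (Subtype.ext ?_)⟩
    rw [← ha]
    rcases (isScalar2_iff a).1 hs' with rfl | rfl
    · exact map_one _
    · exact ((mk_eq_mk_iff _ _).2 (Or.inr rfl)).trans (map_one _)
  by_cases hnz : ∃ a ∈ S, ¬ IsScalar2 a ∧ trc a ≠ 0
  · obtain ⟨a, haS, ha, ht⟩ := hnz
    have hcomm : ∀ g : SL2, g = X ∨ g = Y → g * a * g⁻¹ * a = a * (g * a * g⁻¹) := fun g hg => by
      rcases hPC _ (hconj g hg a haS) a haS with e | e
      · exact e
      · exact absurd (trc_anti h e) ht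
    by_cases h4 : trc a * trc a = 1
    swap
    · left
      have key2 : ∀ g : SL2, g = X ∨ g = Y → CI a g := fun g hg => by
        rcases Cfsg.Lib.PStable.eq_or_eq_inv (h2 h) ha (fun e => h4 (by simp only [trc]; linear_combination e + h.three)) (hcomm g hg)
          (trc_conj g a) with e | e
        · exact Or.inl (mul_inv_eq_iff_eq_mul.1 e)
        · exact Or.inr e
      exact ⟨a, ha, h4, key2 X (Or.inl rfl), key2 Y (Or.inr rfl)⟩
    · right; left
      have hd := det_eq (g := a)
      simp only [trc] at h4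
      have hN : (a 0 0 - a 1 1) * (a 0 0 - a 1 1) + 4 * (a 0 1 * a 1 0) = 0 := by linear_combination h4 - 4 * hd - h.three
      by_cases hk : a 1 0 = 0
      · refine ⟨1, 0, Or.inl one_ne_zero, fun g hg => ?_⟩
        have h00 : a 0 0 = a 1 1 := sub_eq_zero.1 (mul_self_eq_zero.1 (by rw [hk] at hN; linear_combination hN))
        have h01 : a 0 1 ≠ 0 := fun e => ha ⟨e, hk, h00⟩
        obtain ⟨u, v, b1, b2, b3, b4⟩ := exists_linear_of_commute ha (hcomm g hg)
        have e' : g * a = g * a * g⁻¹ * g := by group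
        have e11 := congrArg (fun m : SL2 => m 1 1) e'
        simp only [mul_entry, b3, b4] at e11
        have tr := trc_conj g a
        simp only [trc, b1, b4] at tr
        have e00 : g 1 0 = 0 := (mul_eq_zero.1 (show g 1 0 * a 0 1 = 0 by
          rw [hk, ← h00] at e11
          rw [← h00] at tr
          have hv : v = a 0 0 * (1 - u) := mul_left_cancel₀ (h2 h) (by linear_combination tr)
          rw [hv] at e11
          linear_combination e11)).resolve_right h01
        simp [e00]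
      · refine ⟨-(a 0 0 - a 1 1), a 1 0, Or.inr hk, fun g hg => ?_⟩
        obtain ⟨u, v, b1, b2, b3, b4⟩ := exists_linear_of_commute ha (hcomm g hg)
        have e' : g * a = g * a * g⁻¹ * g := by group
        have e00 := congrArg (fun m : SL2 => m 0 0) e'
        have e10 := congrArg (fun m : SL2 => m 1 0) e'
        simp only [mul_entry, b1, b2, b3, b4] at e00 e10
        have tr := trc_conj g a
        simp only [trc, b1, b4] at tr
        have hv : v = -(a 0 0 + a 1 1) * (1 - u) := by linear_combination -tr + v * h.three + (a 0 0 + a 1 1) * (1 - u) * 0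
        subst hv
        linear_combination (a 1 0) * e00 + (a 0 0 - a 1 1) * e10 + (u * g 1 0) * hN + (-(g 0 0 * a 0 0 * a 1 0) + g 0 0 * a 0 0 * a 1 0 * u + a 0 0 * a 1 1 * u * g 1 0 + a 0 0 * a 1 1 * g 1 0 - a 0 0 ^ 2 * g 1 0 - a 1 1 ^ 2 * u * g 1 0 - a 1 0 * u * a 0 1 * g 1 0) * h.three
  push Not at hnz
  by_cases hfix : E (X * a * X⁻¹) a ∧ E (Y * a * Y⁻¹) a
  · left
    have ta := hnz a haS ha
    have hinv : a⁻¹ = -a := inv_eq_of_mul_eq_one_right (by rw [mul_neg, sq_of_trc_zero ta, neg_neg])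
    refine ⟨a, ha, by rw [ta]; simp, ?_, ?_⟩
    · exact hfix.1.imp mul_inv_eq_iff_eq_mul.1 (fun e => by rw [e, hinv])
    · exact hfix.2.imp mul_inv_eq_iff_eq_mul.1 (fun e => by rw [e, hinv])
  right; right
  obtain ⟨b, hbS, hb, hba⟩ : ∃ b ∈ S, ¬ IsScalar2 b ∧ ¬ E b a := by
    rcases not_and_or.1 hfix with e | e
    · exact ⟨_, hconj X (Or.inl rfl) a haS, hscconj X a ha, e⟩
    · exact ⟨_, hconj Y (Or.inr rfl) a haS, hscconj Y a ha, e⟩
  have hab : a * b = -(b * a) := (hPC a haS b hbS).resolve_left fun e => hba (eq_pm_of_comm h ha (hnz a haS ha) (hnz b hbS hb) e.symm)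
  have hsix : ∀ s ∈ S, ¬ IsScalar2 s → six a b s := fun s hsS hss => by
    have ts := hnz s hsS hss
    rcases hPC s hsS a haS with e | e
    · exact Or.inl (eq_pm_of_comm h ha (hnz a haS ha) ts e)
    rcases hPC s hsS b hbS with e' | e'
    · exact Or.inr (Or.inl (eq_pm_of_comm h hb (hnz b hbS hb) ts e'))
    have hanti : a * (a * b) = -(a * b * a) := by rw [hab, mul_neg, neg_mul, neg_neg, ← mul_assoc, hab, neg_mul, neg_neg]
    refine Or.inr (Or.inr (eq_pm_of_comm h (not_scalar_anti h hanti) (trc_anti h hanti) ts ?_))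
    rw [← mul_assoc, e, neg_mul, mul_assoc, e', mul_neg, neg_neg, mul_assoc]
  have hg : ∀ g : SL2, g = X ∨ g = Y → six a b (g * a * g⁻¹) ∧ six a b (g * b * g⁻¹) := fun g hg' =>
    ⟨hsix _ (hconj g hg' a haS) (hscconj g a ha), hsix _ (hconj g hg' b hbS) (hscconj g b hb)⟩
  rintro g (rfl | rfl | rfl)
  · exact six_trc h hab (hg _ (Or.inl rfl)).1 (hg _ (Or.inl rfl)).2
  · exact six_trc h hab (hg _ (Or.inr rfl)).1 (hg _ (Or.inr rfl)).2
  · have hXS : ∀ s ∈ S, ¬ IsScalar2 s → six a b (X * Y * s * (X * Y)⁻¹) := fun s hs' hss => by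
      rw [show X * Y * s * (X * Y)⁻¹ = X * (Y * s * Y⁻¹) * X⁻¹ by group]
      exact hsix _ (hconj X (Or.inl rfl) _ (hconj Y (Or.inr rfl) s hs')) (hscconj _ _ (hscconj _ _ hss))
    exact six_trc h hab (hXS a haS ha) (hXS b hbS hb)

/-- An element inverting a semisimple element has trace zero. -/
theorem inv_trc (h : Hyp F) {a g : Matrix.SpecialLinearGroup (Fin 2) F} (ha : trc a * trc a ≠ 1) (e : g * a * g⁻¹ = a⁻¹) :
    trc g = 0 ∧ g 0 0 * a 0 0 + g 0 1 * a 1 0 = a 1 1 * g 0 0 - a 0 1 * g 1 0 ∧ trc (g * a) = 0 := by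
  obtain ⟨i1, i2, i3, i4⟩ := inv_entries a
  have e' : g * a = a⁻¹ * g := mul_inv_eq_iff_eq_mul.1 e
  have e00 := congrArg (fun m : SL2 => m 0 0) e'
  have e11 := congrArg (fun m : SL2 => m 1 1) e'
  have e01 := congrArg (fun m : SL2 => m 0 1) e'
  have e10 := congrArg (fun m : SL2 => m 1 0) e'
  simp only [mul_entry, i1, i2, i3, i4] at e00 e01 e10 e11
  have hd := det_eq (g := a)
  have t0 : trc g = 0 := (mul_eq_zero.1 (show (trc a * trc a - 1) * trc g = 0 by
    simp only [trc]
    linear_combination (2 * a 0 0 - (a 0 0 + a 1 1)) * e00 + (2 * a 1 1 - (a 0 0 + a 1 1)) * e11 + (2 * a 1 0) * e01 + (2 * a 0 1) * e10 + (4 * (g 0 0 + g 1 1)) * hd + (g 0 0 + g 1 1) * h.three)).resolve_left (sub_ne_zero.2 ha)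
  refine ⟨t0, by linear_combination e00, ?_⟩
  simp only [trc] at t0 ⊢
  simp only [mul_entry]
  exact (mul_eq_zero.1 (show (2 : F) * (g 0 0 * a 0 0 + g 0 1 * a 1 0 + (g 1 0 * a 0 1 + g 1 1 * a 1 1)) = 0 by
    linear_combination e00 + e11 + (a 0 0 + a 1 1) * t0)).resolve_left (h2 h)

theorem pi_sq (g : Matrix.SpecialLinearGroup (Fin 2) F) (hg : trc g = 0) : π g * π g = 1 := by
  rw [← map_mul, sq_of_trc_zero hg, ← map_one π]; exact (mk_eq_mk_iff _ _).2 (Or.inr rfl)

theorem pi_cube (h : Hyp F) (g : Matrix.SpecialLinearGroup (Fin 2) F) (hg : trc g = 1 ∨ trc g = -1) : π g ^ 3 = 1 := by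
  haveI : CharP F 3 := (CharP.charP_iff_prime_eq_zero Nat.prime_three).2 (by exact_mod_cast h.three)
  rcases hg with e | e
  · have : π g = π (-g) := (mk_eq_mk_iff _ _).2 (Or.inr (neg_neg g).symm)
    rw [this, ← map_pow, pow_char_of_trc_two (p := 3) (by rw [trc_neg, e]; linear_combination -h.three), map_one]
  · rw [← map_pow, pow_char_of_trc_two (p := 3) (by rw [e]; linear_combination -h.three), map_one]

theorem solv_ext {G : Type*} [Group G] (N : Subgroup G) (hN : ∀ x ∈ N, ∀ y ∈ N, x * y = y * x) (g : G) (hg : g ∈ Subgroup.normalizer (N : Set G))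
    {x y : G} (hx : x ∈ N ⊔ Subgroup.zpowers g) (hy : y ∈ N ⊔ Subgroup.zpowers g) : Group.IsSolvable (Subgroup.closure ({x, y} : Set G)) := by
  set K := N ⊔ Subgroup.zpowers g with hK
  have hKn : K ≤ Subgroup.normalizer (N : Set G) := sup_le Subgroup.le_normalizer (Subgroup.zpowers_le.2 hg)
  haveI := Subgroup.normal_subgroupOf_of_le_normalizer hKn
  haveI : Group.IsSolvable (N.subgroupOf K) := Group.isSolvable_of_comm fun a b => Subtype.ext (Subtype.ext (hN _ a.2 _ b.2))
  let φ := QuotientGroup.mk' (N.subgroupOf K)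
  let g' : K := ⟨g, Subgroup.mem_sup_right (Subgroup.mem_zpowers g)⟩
  have hq : ∀ z : K, φ z ∈ Subgroup.zpowers (φ g') := fun z => by
    have hz : (z : G) ∈ ((N ⊔ Subgroup.zpowers g : Subgroup G) : Set G) := z.2
    rw [Subgroup.coe_mul_of_right_le_normalizer_left N _ (Subgroup.zpowers_le.2 hg)] at hz
    obtain ⟨n, hn, _, ⟨k, rfl⟩, hz⟩ := hz
    refine ⟨k, ?_⟩
    have : z = ⟨n, Subgroup.mem_sup_left hn⟩ * g' ^ k := Subtype.ext (by simpa [g'] using hz.symm)
    rw [this, map_mul, show φ ⟨n, _⟩ = 1 from (QuotientGroup.eq_one_iff _).2 hn, one_mul, map_zpow]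
  haveI : Group.IsSolvable (K ⧸ N.subgroupOf K) := Group.isSolvable_of_comm fun a b => by
    obtain ⟨a, rfl⟩ := QuotientGroup.mk'_surjective _ a
    obtain ⟨b, rfl⟩ := QuotientGroup.mk'_surjective _ b
    obtain ⟨i, hi⟩ := hq a
    obtain ⟨j, hj⟩ := hq b
    show φ a * φ b = φ b * φ a
    rw [← hi, ← hj]
    exact (Commute.refl _).zpow_zpow i j
  haveI : Group.IsSolvable K := solvable_of_ker_le_range (N.subgroupOf K).subtype φ (by rw [QuotientGroup.ker_mk', Subgroup.range_subtype])
  exact solvable_of_solvable_injective (f := Subgroup.inclusion ((Subgroup.closure_le _).2 (by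
    rintro z (rfl | rfl) <;> assumption) : Subgroup.closure ({x, y} : Set G) ≤ K)) (Subgroup.inclusion_injective _)

theorem mem_normalizer_of_map {G : Type*} [Group G] {N : Subgroup G} {g : G} (hmap : N.map (MulAut.conj g).toMonoidHom = N) :
    g ∈ Subgroup.normalizer (N : Set G) := by
  refine Subgroup.mem_normalizer_iff.2 fun u => ⟨fun hu => hmap ▸ ⟨u, hu, rfl⟩, fun hu => ?_⟩
  rw [← hmap] at hu
  obtain ⟨u', hu', e⟩ := hu
  exact (MulAut.conj g).injective e ▸ hu'

theorem solv_dih {G : Type*} [Group G] [Finite G] (g z : G) (e : g * z * g⁻¹ = z ∨ g * z * g⁻¹ = z⁻¹) {x y : G}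
    (hx : x ∈ Subgroup.zpowers z ⊔ Subgroup.zpowers g) (hy : y ∈ Subgroup.zpowers z ⊔ Subgroup.zpowers g) :
    Group.IsSolvable (Subgroup.closure ({x, y} : Set G)) := by
  refine solv_ext _ (fun a ha b hb => by
    obtain ⟨i, rfl⟩ := ha
    obtain ⟨j, rfl⟩ := hb
    exact (Commute.refl z).zpow_zpow i j) g ?_ hx hy
  have hmap : (Subgroup.zpowers z).map (MulAut.conj g).toMonoidHom = Subgroup.zpowers z := by
    refine Subgroup.eq_of_le_of_card_ge ?_ (Subgroup.card_map_of_injective (MulAut.conj g).injective).ge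
    rw [MonoidHom.map_zpowers, Subgroup.zpowers_le]
    rcases e with e | e
    · show g * z * g⁻¹ ∈ _; rw [e]; exact Subgroup.mem_zpowers z
    · show g * z * g⁻¹ ∈ _; rw [e]; exact inv_mem (Subgroup.mem_zpowers z)
  exact mem_normalizer_of_map hmap

theorem solv_A4 {G : Type*} [Group G] [Finite G] (v g : G) (hv : v * v = 1) (hg : g ^ 3 = 1) (hvg : (v * g) ^ 3 = 1)
    {x y : G} (hx : x ∈ Subgroup.closure ({v, g} : Set G)) (hy : y ∈ Subgroup.closure ({v, g} : Set G)) :
    Group.IsSolvable (Subgroup.closure ({x, y} : Set G)) := by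
  set w := g * v * g⁻¹ with hw
  have hgi : g⁻¹ = g * g := inv_eq_of_mul_eq_one_right (by rw [← hg, pow_succ, pow_two]; group)
  have hvi : v⁻¹ = v := inv_eq_of_mul_eq_one_right hv
  have hwi : w⁻¹ = w := by rw [hw, _root_.mul_inv_rev, _root_.mul_inv_rev, inv_inv, hvi, mul_assoc]
  have hz : g * w * g⁻¹ = w * v := by
    have e : v * w * (g * w * g⁻¹) = 1 := by
      calc v * w * (g * w * g⁻¹) = (v * g) * (v * g) * (v * (g⁻¹ * g⁻¹)) := by rw [hw]; group
        _ = (v * g) ^ 3 := by rw [hgi, show g * g * (g * g) = g ^ 3 * g by simp [pow_succ, mul_assoc], hg, one_mul, pow_succ, pow_two]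
        _ = 1 := hvg
    rw [eq_inv_of_mul_eq_one_right e, _root_.mul_inv_rev, hwi, hvi]
  have hcomm : v * w = w * v := by
    have h1 : (g * w * g⁻¹) * (g * w * g⁻¹) = 1 := by
      rw [show g * w * g⁻¹ * (g * w * g⁻¹) = g * (g * (v * v) * g⁻¹) * g⁻¹ by rw [hw]; group, hv]; group
    rw [hz] at h1
    have h2 := eq_inv_of_mul_eq_one_right h1
    rw [_root_.mul_inv_rev, hvi, hwi] at h2
    exact h2.symm
  set N := Subgroup.closure ({v, w} : Set G)
  have hvN : v ∈ N := Subgroup.subset_closure (Or.inl rfl)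
  have hwN : w ∈ N := Subgroup.subset_closure (Or.inr rfl)
  have hab : ∀ a ∈ N, ∀ b ∈ N, a * b = b * a := fun a ha b hb => by
    refine Subgroup.closure_induction₂ (p := fun u v _ _ => Commute u v) ?_ (fun _ _ => Commute.one_left _) (fun _ _ => Commute.one_right _)
      (fun _ _ _ _ _ _ h1 h2 => h1.mul_left h2) (fun _ _ _ _ _ _ h1 h2 => h1.mul_right h2) (fun _ _ _ _ h => h.inv_left) (fun _ _ _ _ h => h.inv_right) ha hb
    rintro s t (rfl | rfl) (rfl | rfl)
    exacts [Commute.refl _, hcomm, hcomm.symm, Commute.refl _]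
  have hn : g ∈ Subgroup.normalizer (N : Set G) := by
    have hmap : N.map (MulAut.conj g).toMonoidHom = N := by
      refine Subgroup.eq_of_le_of_card_ge ?_ (Subgroup.card_map_of_injective (MulAut.conj g).injective).ge
      rw [MonoidHom.map_closure, Subgroup.closure_le]
      rintro _ ⟨u, rfl | rfl, rfl⟩
      · exact hwN
      · show g * w * g⁻¹ ∈ N
        rw [hz]; exact N.mul_mem hwN hvN
    exact mem_normalizer_of_map hmap
  have hle : Subgroup.closure ({v, g} : Set G) ≤ N ⊔ Subgroup.zpowers g := (Subgroup.closure_le _).2 (by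
    rintro z (rfl | rfl)
    · exact Subgroup.mem_sup_left hvN
    · exact Subgroup.mem_sup_right (Subgroup.mem_zpowers _))
  exact solv_ext N hab g hn (hle hx) (hle hy)

theorem solv_iff (X Y : Matrix.SpecialLinearGroup (Fin 2) F) :
    Solv X Y ↔ Group.IsSolvable (Subgroup.closure ({X, Y} : Set SL2)) := by
  have hm : (Subgroup.closure ({X, Y} : Set SL2)).map π = Subgroup.closure {π X, π Y} := by
    rw [MonoidHom.map_closure, Set.image_insert_eq, Set.image_singleton]
  constructor
  · intro hs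
    haveI : Group.IsSolvable ((Subgroup.closure ({X, Y} : Set SL2)).map π) := by rw [hm]; exact hs
    let f := (π).subgroupMap (Subgroup.closure ({X, Y} : Set SL2))
    haveI : Group.IsSolvable f.ker := Group.isSolvable_of_comm fun a b => Subtype.ext (Subtype.ext (by
      have ha : (a.1 : SL2) ∈ Subgroup.center SL2 := (QuotientGroup.eq_one_iff _).1 (congrArg Subtype.val a.2)
      exact (Subgroup.mem_center_iff.1 ha _).symm))
    exact solvable_of_ker_le_range f.ker.subtype f (by rw [Subgroup.range_subtype])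
  · intro hs
    unfold Solv
    rw [← hm]
    exact solvable_of_surjective ((π).subgroupMap_surjective _)

theorem solv_neg (X Y : Matrix.SpecialLinearGroup (Fin 2) F) : Solv (-X) Y ↔ Solv X Y := by
  unfold Solv
  rw [(mk_eq_mk_iff (-X) X).2 (Or.inr rfl)]

noncomputable abbrev Cnt (X : Matrix.SpecialLinearGroup (Fin 2) F) : ℕ := Nat.card {Y : Matrix.SpecialLinearGroup (Fin 2) F // Solv X Y}

theorem solvable_iff_map {G : Type*} [Group G] (e : G ≃* G) (K : Subgroup G) : Group.IsSolvable K ↔ Group.IsSolvable (K.map e.toMonoidHom) := by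
  let f : K →* K.map e.toMonoidHom := e.toMonoidHom.subgroupMap K
  constructor
  · intro hK
    haveI := hK
    exact solvable_of_surjective (f := f) (e.toMonoidHom.subgroupMap_surjective K)
  · intro hK
    haveI := hK
    exact solvable_of_solvable_injective (f := f) (fun a b hab => Subtype.ext (e.injective (congrArg Subtype.val hab)))

theorem cnt_map (e : Matrix.SpecialLinearGroup (Fin 2) F ≃* Matrix.SpecialLinearGroup (Fin 2) F) (X : Matrix.SpecialLinearGroup (Fin 2) F) :
    Cnt X = Cnt (e X) := by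
  refine Nat.card_congr (e.toEquiv.subtypeEquiv fun Y => ?_)
  rw [solv_iff, solv_iff]
  have hm : (Subgroup.closure ({X, Y} : Set SL2)).map e.toMonoidHom = Subgroup.closure {e X, e Y} := by
    rw [MonoidHom.map_closure, Set.image_insert_eq, Set.image_singleton]; rfl
  show _ ↔ Group.IsSolvable (Subgroup.closure ({e X, e Y} : Set SL2))
  rw [← hm]
  exact solvable_iff_map e _

/-- Conjugation by an invertible matrix. -/
def glConj (P : Matrix.GeneralLinearGroup (Fin 2) F) : Matrix.SpecialLinearGroup (Fin 2) F ≃* Matrix.SpecialLinearGroup (Fin 2) F where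
  toFun g := ⟨(P : Matrix (Fin 2) (Fin 2) F) * g * ((P⁻¹ : _) : Matrix (Fin 2) (Fin 2) F), by rw [Matrix.det_units_conj, g.2]⟩
  invFun g := ⟨((P⁻¹ : _) : Matrix (Fin 2) (Fin 2) F) * g * (P : Matrix (Fin 2) (Fin 2) F), by rw [Matrix.det_units_conj', g.2]⟩
  left_inv g := Subtype.ext (by simp [Matrix.mul_assoc])
  right_inv g := Subtype.ext (by simp [Matrix.mul_assoc])
  map_mul' g k := Subtype.ext (by
    show (P : Matrix (Fin 2) (Fin 2) F) * ((g : Matrix (Fin 2) (Fin 2) F) * k) * ((P⁻¹ : _) : Matrix (Fin 2) (Fin 2) F) =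
      ((P : Matrix (Fin 2) (Fin 2) F) * g * ((P⁻¹ : _) : Matrix (Fin 2) (Fin 2) F)) * ((P : Matrix (Fin 2) (Fin 2) F) * k * ((P⁻¹ : _) : Matrix (Fin 2) (Fin 2) F))
    simp [Matrix.mul_assoc])

theorem to_comp (X : Matrix.SpecialLinearGroup (Fin 2) F) (hX : ¬ IsScalar2 X) :
    ∃ e : SL2 ≃* SL2, e (⟨!![0, -1; 1, trc X], by simp [det_fin_two]⟩) = X := by
  have hd := det_eq (g := X)
  obtain ⟨P, hP, hdet⟩ : ∃ P : Matrix (Fin 2) (Fin 2) F, P * !![0, -1; 1, trc X] = X.1 * P ∧ P.det ≠ 0 := by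
    by_cases h10 : X 1 0 = 0
    · by_cases h01 : X 0 1 = 0
      · refine ⟨!![1, X 0 0; 1, X 1 1], ?_, by simp [det_fin_two]; exact sub_ne_zero.2 fun e => hX ⟨h01, h10, e.symm⟩⟩
        rw [h10, h01] at hd
        ext i j; fin_cases i <;> fin_cases j <;> simp [Matrix.mul_apply, Fin.sum_univ_two, trc, h10, h01] <;> linear_combination hd
      · refine ⟨!![0, X 0 1; 1, X 1 1], ?_, by simpa [det_fin_two] using h01⟩
        ext i j; fin_cases i <;> fin_cases j <;> simp [Matrix.mul_apply, Fin.sum_univ_two, trc, h10]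
        · ring
        · rw [h10] at hd; linear_combination hd
    · refine ⟨!![1, X 0 0; 0, X 1 0], ?_, by simpa [det_fin_two] using h10⟩
      ext i j; fin_cases i <;> fin_cases j <;> simp [Matrix.mul_apply, Fin.sum_univ_two, trc]
      · linear_combination hd
      · ring
  let U := Matrix.GeneralLinearGroup.mkOfDetNeZero P hdet
  refine ⟨glConj U, Subtype.ext ?_⟩
  show (U : Matrix (Fin 2) (Fin 2) F) * !![0, -1; 1, trc X] * ((U⁻¹ : _) : Matrix (Fin 2) (Fin 2) F) = X.1
  rw [show (U : Matrix (Fin 2) (Fin 2) F) = P from rfl, hP, Matrix.mul_assoc, show P = (U : Matrix (Fin 2) (Fin 2) F) from rfl, Units.mul_inv, mul_one]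

theorem conj_of_trc {X X' : Matrix.SpecialLinearGroup (Fin 2) F} (hX : ¬ IsScalar2 X) (hX' : ¬ IsScalar2 X') (e : trc X = trc X') :
    ∃ φ : SL2 ≃* SL2, φ X = X' := by
  obtain ⟨a, ha⟩ := to_comp X hX
  obtain ⟨b, hb⟩ := to_comp X' hX'
  refine ⟨a.symm.trans b, ?_⟩
  rw [MulEquiv.trans_apply, a.symm_apply_eq.2 ha.symm, ← hb]
  refine congrArg b (Subtype.ext ?_)
  simp only [e]

theorem jE : (jay : SL2) 0 0 = 0 ∧ (jay : SL2) 0 1 = -1 ∧ (jay : SL2) 1 0 = 1 ∧ (jay : SL2) 1 1 = 0 := by simp [jay]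

theorem uE : upperU (1 : F) 0 0 = 1 ∧ upperU (1 : F) 0 1 = 1 ∧ upperU (1 : F) 1 0 = 0 ∧ upperU (1 : F) 1 1 = 1 := by simp [upperU]

theorem sol_jay (h : Hyp F) (Y : Matrix.SpecialLinearGroup (Fin 2) F) :
    Solv jay Y ↔ trc Y = 0 ∨ Y 0 1 - Y 1 0 = 0 ∨ trc Y ^ 2 + (Y 0 1 - Y 1 0) ^ 2 = 1 ∨
      ((trc Y = 1 ∨ trc Y = -1) ∧ (Y 0 1 - Y 1 0 = 1 ∨ Y 0 1 - Y 1 0 = -1)) := by
  have hj : ¬ IsScalar2 (jay : SL2) := fun e => by simpa [jE] using e.2.1
  have tj : trc (jay : SL2) = 0 := by simp [trc, jE]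
  have tu : trc (jay * Y) = Y 0 1 - Y 1 0 := by simp [trc, mul_entry, jE]; ring
  have hns2 : ∀ x y : F, x * x + y * y = 0 → x = 0 ∧ y = 0 := fun x y e => by
    have hy : y = 0 := by
      by_contra hy
      exact h.ns (x / y) (by field_simp; linear_combination e)
    subst hy
    exact ⟨mul_self_eq_zero.1 (by linear_combination e), rfl⟩
  constructor
  · intro hs
    rcases key h hs hj with ⟨a, ha, hta, hJ, hY⟩ | ⟨w0, w1, hw, hg⟩ | hg
    · have hYt : ∀ e : Y * a * Y⁻¹ = a⁻¹, trc Y = 0 := fun e => (inv_trc h hta e).1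
      rcases hY with hY | hY
      swap
      · exact Or.inl (hYt hY)
      rcases hJ with hJ | hJ
      · have hc := Cfsg.Lib.PStable.commute_trans ha hY hJ
        have e00 := congrArg (fun m : SL2 => m 0 0) hc
        have e01 := congrArg (fun m : SL2 => m 0 1) hc
        simp [mul_entry, jE] at e00 e01
        have hd := det_eq (g := Y)
        refine Or.inr (Or.inr (Or.inl ?_))
        have hda : Y 1 1 = Y 0 0 := by first | linear_combination e01 | linear_combination -e01
        have hcb : Y 1 0 = -Y 0 1 := by first | linear_combination e00 | linear_combination -e00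
        rw [hda, hcb] at hd
        simp only [trc, hda, hcb]
        linear_combination 4 * hd + h.three
      · obtain ⟨u, v, b1, b2, b3, b4⟩ := exists_linear_of_commute ha hY
        have := (inv_trc h hta hJ).2.2
        simp [trc, mul_entry, jE] at this
        refine Or.inr (Or.inl ?_)
        rw [b2, b3]
        linear_combination u * this
    · exfalso
      have := hg jay (Or.inl rfl)
      simp [jE] at this
      obtain ⟨e0, e1⟩ := hns2 w0 w1 (by linear_combination -this)
      exact hw.elim (fun h' => h' e0) (fun h' => h' e1)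
    · have h1 := hg Y (Or.inr (Or.inl rfl))
      have h2' := hg (jay * Y) (Or.inr (Or.inr rfl))
      rw [tu] at h2'
      rcases h1 with h1 | h1
      · exact Or.inl h1
      rcases h2' with h2' | h2'
      · exact Or.inr (Or.inl h2')
      exact Or.inr (Or.inr (Or.inr ⟨h1, h2'⟩))
  · intro hc
    have hx2 := pi_sq (jay : SL2) tj
    have hxi : (π (jay : SL2))⁻¹ = π jay := inv_eq_of_mul_eq_one_right hx2
    rcases hc with ht | hu | hn | ⟨ht, hu⟩
    · have hy2 := pi_sq Y ht
      refine solv_dih (π jay) (π jay * π Y) (Or.inr ?_) (Subgroup.mem_sup_right (Subgroup.mem_zpowers _)) ?_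
      · rw [_root_.mul_inv_rev, hxi, inv_eq_of_mul_eq_one_right hy2, ← mul_assoc, hx2, one_mul]
      · have := mul_mem (Subgroup.mem_sup_right (S := Subgroup.zpowers (π jay * π Y)) (Subgroup.mem_zpowers (π (jay : SL2))))
          (Subgroup.mem_sup_left (T := Subgroup.zpowers (π (jay : SL2))) (Subgroup.mem_zpowers (π jay * π Y)))
        rwa [← mul_assoc, hx2, one_mul] at this
    · have hxy := pi_sq (jay * Y) (tu.trans hu)
      rw [map_mul] at hxy
      refine solv_dih (π jay) (π Y) (Or.inr ?_) (Subgroup.mem_sup_right (Subgroup.mem_zpowers _)) (Subgroup.mem_sup_left (Subgroup.mem_zpowers _))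
      rw [hxi]
      exact eq_inv_of_mul_eq_one_left (by rw [mul_assoc (π jay * π Y)]; exact hxy)
    · have hd := det_eq (g := Y)
      obtain ⟨hs, hr⟩ := hns2 (Y 0 0 - Y 1 1) (Y 0 1 + Y 1 0) (by simp only [trc] at hn; linear_combination hn - 4 * hd - h.three)
      have hcomm : (jay : SL2) * Y = Y * jay := by
        refine Matrix.SpecialLinearGroup.ext _ _ fun i j => ?_
        fin_cases i <;> fin_cases j <;> simp [mul_entry, jE]
        all_goals first | linear_combination hr | linear_combination -hr | linear_combination hs | linear_combination -hs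
      refine solv_dih (π jay) (π Y) (Or.inl ?_) (Subgroup.mem_sup_right (Subgroup.mem_zpowers _)) (Subgroup.mem_sup_left (Subgroup.mem_zpowers _))
      rw [← map_inv, ← map_mul, ← map_mul, hcomm, mul_inv_cancel_right]
    · refine solv_A4 (π jay) (π Y) hx2 (pi_cube h Y ht) (by rw [← map_mul]; exact pi_cube h _ (tu ▸ hu))
        (Subgroup.subset_closure (Or.inl rfl)) (Subgroup.subset_closure (Or.inr rfl))

/-- The upper triangular matrices. -/
def borelG (F : Type*) [Field F] : Subgroup (Matrix.SpecialLinearGroup (Fin 2) F) where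
  carrier := {g | g 1 0 = 0}
  one_mem' := by simp
  mul_mem' := fun {a b} ha hb => by simp only [Set.mem_setOf_eq] at ha hb ⊢; rw [mul_entry, ha, hb]; ring
  inv_mem' := fun {a} ha => by simp only [Set.mem_setOf_eq] at ha ⊢; rw [(inv_entries a).2.2.1, ha, neg_zero]

theorem borel_solv {X Y : Matrix.SpecialLinearGroup (Fin 2) F} (hX : X 1 0 = 0) (hY : Y 1 0 = 0) : Solv X Y := by
  rw [solv_iff]
  let ρ : borelG F →* F :=
    { toFun := fun g => g.1 0 0
      map_one' := by simp
      map_mul' := fun a b => by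
        have hb : b.1 1 0 = 0 := b.2
        simp [mul_entry, hb] }
  haveI : Group.IsSolvable ρ.ker := Group.isSolvable_of_comm fun a b => by
    have ha : a.1.1 0 0 = 1 := a.2
    have hb : b.1.1 0 0 = 1 := b.2
    have ha0 : a.1.1 1 0 = 0 := a.1.2
    have hb0 : b.1.1 1 0 = 0 := b.1.2
    have da := det_eq (g := a.1.1)
    have db := det_eq (g := b.1.1)
    rw [ha, ha0] at da
    rw [hb, hb0] at db
    refine Subtype.ext (Subtype.ext (Matrix.SpecialLinearGroup.ext _ _ fun i j => ?_))
    show (a.1.1 * b.1.1) i j = (b.1.1 * a.1.1) i j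
    fin_cases i <;> fin_cases j <;> simp [mul_entry, ha, hb, ha0, hb0]
    · linear_combination (a.1.1 0 1) * db - (b.1.1 0 1) * da
    · linear_combination (a.1.1 1 1) * (0 : F)
  haveI : Group.IsSolvable (borelG F) := solvable_of_ker_le_range (G'' := Fˣ) ρ.ker.subtype ρ.toHomUnits
    (fun g hg => ⟨⟨g, congrArg Units.val (MonoidHom.mem_ker.1 hg)⟩, rfl⟩)
  exact solvable_of_solvable_injective (f := Subgroup.inclusion ((Subgroup.closure_le _).2 (by
    rintro z (rfl | rfl) <;> assumption) : Subgroup.closure ({X, Y} : Set SL2) ≤ borelG F)) (Subgroup.inclusion_injective _)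

theorem sol_upper (h : Hyp F) (Y : Matrix.SpecialLinearGroup (Fin 2) F) :
    Solv (upperU (1 : F)) Y ↔ Y 1 0 = 0 ∨ ((Y 1 0 = 1 ∨ Y 1 0 = -1) ∧ (trc Y = 0 ∨ trc Y = 1 ∨ trc Y = -1)) := by
  set X := upperU (1 : F) with hXd
  have hX : ¬ IsScalar2 X := fun e => by simpa [X, uE] using e.1
  have tX : trc X = 2 := by simp [X, trc, uE]; norm_num
  have hX10 : X 1 0 = 0 := by simp [X, uE]
  have tXY : trc (X * Y) = trc Y + Y 1 0 := by simp [trc, mul_entry, X, uE]; ring
  constructor
  · intro hs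
    rcases key h hs hX with ⟨a, ha, hta, hXa, -⟩ | ⟨w0, w1, hw, hg⟩ | hg
    · exfalso
      rcases hXa with hXa | hXa
      · obtain ⟨u, v, b1, b2, b3, b4⟩ := exists_linear_of_commute hX hXa.symm
        simp [X, uE] at b1 b3 b4
        have hd := det_eq (g := a)
        rw [b3, b1, b4] at hd
        simp only [trc, b1, b4] at hta
        exact hta (by linear_combination 4 * hd + h.three)
      · have := (inv_trc h hta hXa).1
        rw [tX] at this
        exact h2 h this
    · left
      have hx := hg X (Or.inl rfl)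
      simp [X, uE] at hx
      have hw1 : w1 = 0 := mul_self_eq_zero.1 (by linear_combination hx)
      have hy := hg Y (Or.inr rfl)
      subst hw1
      simp at hy
      exact hy.resolve_right (hw.resolve_right (fun h' => h' rfl))
    · have h1 := hg Y (Or.inr (Or.inl rfl))
      have h3 := hg (X * Y) (Or.inr (Or.inr rfl))
      rw [tXY] at h3
      have t3 := h.three
      have hc : Y 1 0 = 0 ∨ Y 1 0 = 1 ∨ Y 1 0 = -1 := by
        rcases h1 with e | e | e <;> rw [e] at h3 <;> rcases h3 with e' | e' | e' <;>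
          first
          | exact Or.inl (by linear_combination e')
          | exact Or.inr (Or.inl (by linear_combination e'))
          | exact Or.inr (Or.inr (by linear_combination e'))
          | exact Or.inr (Or.inl (by linear_combination e' - t3))
          | exact Or.inr (Or.inr (by linear_combination e' + t3))
      exact hc.imp id fun e => ⟨e, h1⟩
  · rintro (hc | ⟨hc, ht⟩)
    · exact borel_solv hX10 hc
    have hx3 : (π X) ^ 3 = 1 := pi_cube h X (Or.inr (by rw [tX]; linear_combination h.three))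
    have base : ∀ z : SL2, trc z = 0 → (trc (X * z) = 1 ∨ trc (X * z) = -1) →
        π Y ∈ Subgroup.closure ({π z, π X} : Set (Matrix.ProjectiveSpecialLinearGroup (Fin 2) F)) → Solv X Y := fun z hz hxz hmem => by
      refine solv_A4 (π z) (π X) (pi_sq z hz) hx3 ?_ (Subgroup.subset_closure (Or.inr rfl)) hmem
      rw [← map_mul]
      refine pi_cube h _ ?_
      have : trc (z * X) = trc (X * z) := by simp [trc, mul_entry]; ring
      rwa [this]
    have t3 := h.three
    rcases ht with ht | ht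
    · exact base Y ht (by rw [tXY, ht, zero_add]; exact hc) (Subgroup.subset_closure (Or.inl rfl))
    by_cases hs : trc Y + Y 1 0 = 0
    · refine base (X * Y) (tXY.trans hs) ?_ ?_
      · have hz : (X * Y) 1 0 = Y 1 0 := by simp [mul_entry, X, uE]
        have : trc (X * (X * Y)) = trc (X * Y) + (X * Y) 1 0 := by simp [trc, mul_entry, X, uE]; ring
        rw [this, tXY, hs, zero_add, hz]; exact hc
      · have := mul_mem (inv_mem (Subgroup.subset_closure (Or.inr rfl) : π X ∈ Subgroup.closure ({π (X * Y), π X} : Set _)))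
          (Subgroup.subset_closure (Or.inl rfl) : π (X * Y) ∈ Subgroup.closure ({π (X * Y), π X} : Set _))
        rwa [map_mul, inv_mul_cancel_left] at this
    · have htc : trc Y - Y 1 0 = 0 := by
        rcases ht with e | e <;> rcases hc with e' | e' <;> rw [e, e'] at hs ⊢ <;>
          first
          | exact sub_self _
          | exact absurd (by ring) hs
      refine base (X⁻¹ * Y) ?_ ?_ ?_
      · simp [trc, mul_entry, X, uE, inv_entries] at htc ⊢; linear_combination htc
      · rw [mul_inv_cancel_left]; exact ht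
      · have := mul_mem (Subgroup.subset_closure (Or.inr rfl) : π X ∈ Subgroup.closure ({π (X⁻¹ * Y), π X} : Set _))
          (Subgroup.subset_closure (Or.inl rfl) : π (X⁻¹ * Y) ∈ Subgroup.closure ({π (X⁻¹ * Y), π X} : Set _))
        rwa [← map_mul, mul_inv_cancel_left] at this

theorem anti_solv {X Y : Matrix.SpecialLinearGroup (Fin 2) F} (hY : trc Y = 0) (hXY : trc (X * Y) = 0) : Solv X Y := by
  have h2' := pi_sq Y hY
  have h1 := pi_sq (X * Y) hXY
  rw [map_mul] at h1
  refine solv_dih (π Y) (π X) (Or.inr ?_) (Subgroup.mem_sup_left (Subgroup.mem_zpowers _)) (Subgroup.mem_sup_right (Subgroup.mem_zpowers _))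
  rw [inv_eq_of_mul_eq_one_right h2']
  exact (inv_eq_of_mul_eq_one_right (by rw [← h1]; group)).symm

theorem comm_solv {X Y : Matrix.SpecialLinearGroup (Fin 2) F} (e : X * Y = Y * X) : Solv X Y := by
  refine solv_dih (π Y) (π X) (Or.inl ?_) (Subgroup.mem_sup_left (Subgroup.mem_zpowers _)) (Subgroup.mem_sup_right (Subgroup.mem_zpowers _))
  rw [← map_mul, ← e, map_mul, mul_inv_cancel_right]

theorem sol_diag (h : Hyp F) (X : Matrix.SpecialLinearGroup (Fin 2) F) (h01 : X 0 1 = 0) (h10 : X 1 0 = 0) (hne : X 0 0 ≠ X 1 1)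
    (ht : trc X ≠ 0) (Y : Matrix.SpecialLinearGroup (Fin 2) F) :
    Solv X Y ↔ Y 1 0 = 0 ∨ Y 0 1 = 0 ∨ (Y 0 0 = 0 ∧ Y 1 1 = 0) := by
  have hX : ¬ IsScalar2 X := fun e => hne e.2.2
  constructor
  · intro hs
    rcases key h hs hX with ⟨a, ha, hta, hXa, hY⟩ | ⟨w0, w1, hw, hg⟩ | hg
    · rcases hXa with hXa | hXa
      swap
      · exact absurd (inv_trc h hta hXa).1 ht
      rcases hY with hY | hY
      · have hc := Cfsg.Lib.PStable.commute_trans ha hY hXa
        obtain ⟨u, v, b1, b2, b3, b4⟩ := exists_linear_of_commute hX hc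
        exact Or.inl (by rw [b3, h10, mul_zero])
      · obtain ⟨u, v, b1, b2, b3, b4⟩ := exists_linear_of_commute hX hXa.symm
        obtain ⟨t0, e00, -⟩ := inv_trc h hta hY
        rw [b2, b3, h01, h10] at e00
        have hda : a 0 0 - a 1 1 ≠ 0 := sub_ne_zero.2 fun e => ha ⟨by rw [b2, h01, mul_zero], by rw [b3, h10, mul_zero], e⟩
        have y0 : Y 0 0 = 0 := (mul_eq_zero.1 (show (a 0 0 - a 1 1) * Y 0 0 = 0 by linear_combination e00)).resolve_left hda
        simp only [trc, y0, zero_add] at t0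
        exact Or.inr (Or.inr ⟨y0, t0⟩)
    · have hx := hg X (Or.inl rfl)
      rw [h01, h10] at hx
      have hy := hg Y (Or.inr rfl)
      rcases mul_eq_zero.1 (show (X 0 0 - X 1 1) * (w0 * w1) = 0 by linear_combination hx) with e | e
      · exact absurd e (sub_ne_zero.2 hne)
      rcases mul_eq_zero.1 e with e | e <;> subst e
      · simp at hy; exact Or.inr (Or.inl (hy.resolve_right (hw.resolve_left (fun h' => h' rfl))))
      · simp at hy; exact Or.inl (hy.resolve_right (hw.resolve_right (fun h' => h' rfl)))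
    · exfalso
      have hd := det_eq (g := X)
      rw [h01, h10] at hd
      rcases (hg X (Or.inl rfl)).resolve_left ht with e | e <;>
      · simp only [trc] at e
        exact hne (sub_eq_zero.1 (mul_self_eq_zero.1 (show (X 0 0 - X 1 1) * (X 0 0 - X 1 1) = 0 by
          linear_combination (X 0 0 + X 1 1) * e + e * 0 - 4 * hd - h.three + (if True then (1:F) else 1) * 0 +
            (mul_self_eq_one_iff.2 (by first | exact Or.inl e | exact Or.inr e) : (X 0 0 + X 1 1) * (X 0 0 + X 1 1) = 1) - (X 0 0 + X 1 1) * e)))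
  · rintro (hc | hb | ⟨ha, hd⟩)
    · exact borel_solv h10 hc
    · have hm : ∀ g : SL2, (g 0 1 = 0) → ((MulAut.conj (jay : SL2)) g) 1 0 = 0 := fun g hg => by
        rw [MulAut.conj_apply, jay_inv]
        simp [mul_entry, neg_entry, jE, hg]
      have := (solv_iff _ _).1 (borel_solv (hm X h01) (hm Y hb))
      rw [solv_iff]
      have hcl : (Subgroup.closure ({X, Y} : Set SL2)).map (MulAut.conj (jay : SL2)).toMonoidHom = Subgroup.closure {MulAut.conj (jay : SL2) X, MulAut.conj (jay : SL2) Y} := by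
        rw [MonoidHom.map_closure, Set.image_insert_eq, Set.image_singleton]; rfl
      rw [← hcl] at this
      exact (solvable_iff_map _ _).2 this
    · exact anti_solv (by simp [trc, ha, hd]) (by simp [trc, mul_entry, ha, hd, h01, h10])

theorem sol_rot (h : Hyp F) (X : Matrix.SpecialLinearGroup (Fin 2) F) (h01 : X 0 1 = -X 1 0) (h00 : X 1 1 = X 0 0) (hb : X 1 0 ≠ 0)
    (ha0 : X 0 0 ≠ 0) (Y : Matrix.SpecialLinearGroup (Fin 2) F) :
    Solv X Y ↔ (Y 1 1 = Y 0 0 ∧ Y 0 1 = -Y 1 0) ∨ (Y 1 1 = -Y 0 0 ∧ Y 0 1 = Y 1 0) := by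
  have hX : ¬ IsScalar2 X := fun e => hb e.2.1
  have ht : trc X ≠ 0 := by simp only [trc, h00]; rw [← two_mul]; exact mul_ne_zero (h2 h) ha0
  constructor
  · intro hs
    rcases key h hs hX with ⟨a, ha, hta, hXa, hY⟩ | ⟨w0, w1, hw, hg⟩ | hg
    · rcases hXa with hXa | hXa
      swap
      · exact absurd (inv_trc h hta hXa).1 ht
      rcases hY with hY | hY
      · obtain ⟨u, v, b1, b2, b3, b4⟩ := exists_linear_of_commute hX (Cfsg.Lib.PStable.commute_trans ha hY hXa)
        exact Or.inl ⟨by rw [b4, b1, h00], by rw [b2, b3, h01, mul_neg]⟩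
      · obtain ⟨u, v, b1, b2, b3, b4⟩ := exists_linear_of_commute hX hXa.symm
        obtain ⟨t0, e00, -⟩ := inv_trc h hta hY
        rw [b1, b2, b3, b4, h01, h00] at e00
        have hu : u ≠ 0 := fun e => ha ⟨by rw [b2, e, zero_mul], by rw [b3, e, zero_mul], by rw [b1, b4, h00]⟩
        simp only [trc] at t0
        refine Or.inr ⟨by linear_combination t0, sub_eq_zero.1 ((mul_eq_zero.1 (show (u * X 1 0) * (Y 0 1 - Y 1 0) = 0 by linear_combination e00)).resolve_left (mul_ne_zero hu hb))⟩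
    · exfalso
      have hx := hg X (Or.inl rfl)
      rw [h01, h00] at hx
      have e := (mul_eq_zero.1 (show X 1 0 * (w0 * w0 + w1 * w1) = 0 by linear_combination -hx)).resolve_left hb
      rcases eq_or_ne w1 0 with e1 | e1
      · subst e1; exact (hw.resolve_right (fun h' => h' rfl)) (mul_self_eq_zero.1 (by linear_combination e))
      · exact h.ns (w0 / w1) (by field_simp; linear_combination e)
    · exfalso
      have hd := det_eq (g := X)
      rw [h01, h00] at hd
      have e' : (X 0 0 + X 0 0) * (X 0 0 + X 0 0) = 1 := mul_self_eq_one_iff.2 (by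
        have := (hg X (Or.inl rfl)).resolve_left ht
        simpa [trc, h00] using this)
      exact hb (mul_self_eq_zero.1 (show X 1 0 * X 1 0 = 0 by linear_combination hd - e' + (X 0 0 * X 0 0) * h.three))
  · rintro (⟨e1, e2⟩ | ⟨e1, e2⟩)
    · exact comm_solv (Matrix.SpecialLinearGroup.ext _ _ fun i j => by fin_cases i <;> fin_cases j <;> simp [mul_entry, e1, e2, h01, h00] <;> ring)
    · exact anti_solv (by simp [trc, e1]) (by simp [trc, mul_entry, e1, e2, h01, h00] <;> ring)

theorem card_or {α : Type*} [Finite α] (p q : α → Prop) (hpq : ∀ a, p a → ¬ q a) :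
    Nat.card {a // p a ∨ q a} = Nat.card {a // p a} + Nat.card {a // q a} := by
  classical
  rw [← Nat.card_sum]
  exact Nat.card_congr (subtypeOrEquiv p q (Pi.disjoint_iff.2 fun a => Prop.disjoint_iff.2 fun h' => hpq a h'.1 h'.2))

theorem card_pair (x y : F) (hxy : x ≠ y) : Nat.card {a : F // a = x ∨ a = y} = 2 := by
  rw [Nat.card_congr (Equiv.subtypeEquivRight (fun a => (show (a = x ∨ a = y) ↔ a ∈ ({x, y} : Set F) by simp))), Nat.card_coe_set_eq, Set.ncard_pair hxy]

theorem circ_card (h : Hyp F) (hq : Fintype.card F % 4 = 3) (n : F) (hn : n ≠ 0) :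
    Nat.card (Circ F n) = Fintype.card F + 1 := by
  classical
  haveI : NeZero (2 : F) := ⟨h2 h⟩
  have scale : ∀ e r : F, r ≠ 0 → Nat.card (Circ F (e * (r * r))) = Nat.card (Circ F e) := fun e r hr => by
    let eq : Circ F e ≃ Circ F (e * (r * r)) :=
      { toFun := fun p => ⟨(p.1.1 * r, p.1.2 * r), by linear_combination (r * r) * p.2⟩
        invFun := fun p => ⟨(p.1.1 / r, p.1.2 / r), by field_simp; linear_combination p.2⟩
        left_inv := fun p => by ext <;> simp [hr]
        right_inv := fun p => by ext <;> simp [hr] }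
    exact (Nat.card_congr eq).symm
  by_cases hs : IsSquare n
  · obtain ⟨r, rfl⟩ := hs
    have hr : r ≠ 0 := fun e => hn (by rw [e, mul_zero])
    rw [← one_mul (r * r), scale 1 r hr, card_circ.2 hq]
  · obtain ⟨r, hr⟩ : IsSquare (-n) := by
      rw [← quadraticChar_one_iff_isSquare (neg_ne_zero.2 hn)]
      have hF : ringChar F ≠ 2 := fun e => h2 h (by
        have := ringChar.Nat.cast_ringChar (R := F); rw [e] at this; exact_mod_cast this)
      rw [show -n = (-1) * n by ring, map_mul, quadraticChar_neg_one_iff_not_isSquare.2 hs]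
      have : quadraticChar F (-1) = -1 := quadraticChar_neg_one_iff_not_isSquare.2 (fun ⟨x, hx⟩ => h.ns x hx.symm)
      rw [this]; norm_num
    have hr0 : r ≠ 0 := fun e => hn (by rw [e, mul_zero] at hr; exact neg_eq_zero.1 hr)
    rw [show n = (-1) * (r * r) by rw [← hr]; ring, scale (-1) r hr0, card_circ_neg, card_circ.2 hq]

theorem card_borel_set : Nat.card {g : SL2 // g 1 0 = 0} = Fintype.card F * (Fintype.card F - 1) := by
  classical
  let f : {g : SL2 // g 1 0 = 0} → F × Fˣ := fun g => (g.1 0 1, Units.mkOfMulEqOne (g.1 0 0) (g.1 1 1) (by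
    have := det_eq (g := g.1); rw [g.2] at this; linear_combination this))
  have hf : Function.Bijective f := by
    refine ⟨fun a b e => ?_, fun ⟨c, v⟩ => ⟨⟨⟨!![(v : F), c; 0, ((v⁻¹ : Fˣ) : F)], by simp [det_fin_two]⟩, rfl⟩, Prod.ext rfl (Units.ext rfl)⟩⟩
    simp only [f, Prod.mk.injEq] at e
    obtain ⟨h01, h00⟩ := e
    have h11 : a.1 1 1 = b.1 1 1 := congrArg (fun u : Fˣ => ((u⁻¹ : Fˣ) : F)) h00
    have h00' : a.1 0 0 = b.1 0 0 := congrArg Units.val h00
    refine Subtype.ext (Matrix.SpecialLinearGroup.ext _ _ fun i j => ?_)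
    fin_cases i <;> fin_cases j <;> simp [h01, h00', h11, a.2, b.2]
  rw [Nat.card_eq_of_bijective f hf, Nat.card_prod, Nat.card_units, Nat.card_eq_fintype_card]

theorem diag_count (h : Hyp F) (X : Matrix.SpecialLinearGroup (Fin 2) F) (h01 : X 0 1 = 0) (h10 : X 1 0 = 0) (hne : X 0 0 ≠ X 1 1)
    (ht : trc X ≠ 0) : Cnt X = 2 * (Fintype.card F * (Fintype.card F - 1)) := by
  classical
  have e : ∀ Y : SL2, Solv X Y ↔ Y 1 0 = 0 ∨ ((Y 1 0 ≠ 0 ∧ Y 0 1 = 0) ∨ (Y 1 0 ≠ 0 ∧ Y 0 1 ≠ 0 ∧ Y 0 0 = 0 ∧ Y 1 1 = 0)) := fun Y => by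
    rw [sol_diag h X h01 h10 hne ht]; tauto
  have c2 : Nat.card {g : SL2 // g 1 0 ≠ 0 ∧ g 0 1 = 0} = (Fintype.card F - 1) * (Fintype.card F - 1) := by
    let f : {g : SL2 // g 1 0 ≠ 0 ∧ g 0 1 = 0} → Fˣ × Fˣ := fun g => (Units.mk0 (g.1 1 0) g.2.1, Units.mkOfMulEqOne (g.1 0 0) (g.1 1 1) (by
      have := det_eq (g := g.1); rw [g.2.2] at this; linear_combination this))
    have hf : Function.Bijective f := by
      refine ⟨fun a b h => ?_, fun ⟨c, v⟩ => ⟨⟨⟨!![(v : F), 0; (c : F), ((v⁻¹ : Fˣ) : F)], by simp [det_fin_two]⟩, c.ne_zero, rfl⟩, Prod.ext (Units.ext rfl) (Units.ext rfl)⟩⟩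
      simp only [f, Prod.mk.injEq] at h
      obtain ⟨h10, h00⟩ := h
      have h11 : a.1 1 1 = b.1 1 1 := congrArg (fun u : Fˣ => ((u⁻¹ : Fˣ) : F)) h00
      have h00' : a.1 0 0 = b.1 0 0 := congrArg Units.val h00
      have h10' : a.1 1 0 = b.1 1 0 := congrArg Units.val h10
      refine Subtype.ext (Matrix.SpecialLinearGroup.ext _ _ fun i j => ?_)
      fin_cases i <;> fin_cases j <;> simp [h10', h00', h11, a.2.2, b.2.2]
    rw [Nat.card_eq_of_bijective f hf, Nat.card_prod, Nat.card_units, Nat.card_eq_fintype_card]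
  have c3 : Nat.card {g : SL2 // g 1 0 ≠ 0 ∧ g 0 1 ≠ 0 ∧ g 0 0 = 0 ∧ g 1 1 = 0} = Fintype.card F - 1 := by
    let f : {g : SL2 // g 1 0 ≠ 0 ∧ g 0 1 ≠ 0 ∧ g 0 0 = 0 ∧ g 1 1 = 0} → Fˣ := fun g => Units.mk0 (g.1 1 0) g.2.1
    have hf : Function.Bijective f := by
      refine ⟨fun a b h => ?_, fun c => ⟨⟨⟨!![0, -((c⁻¹ : Fˣ) : F); (c : F), 0], by simp [det_fin_two]⟩, c.ne_zero, neg_ne_zero.2 (Units.ne_zero _), rfl, rfl⟩, Units.ext rfl⟩⟩
      have h10 : a.1 1 0 = b.1 1 0 := congrArg Units.val h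
      have hd := det_eq (g := a.1)
      have hd' := det_eq (g := b.1)
      rw [a.2.2.2.1, h10] at hd
      rw [b.2.2.2.1] at hd'
      have h01 : a.1 0 1 = b.1 0 1 := mul_right_cancel₀ b.2.1 (by linear_combination hd' - hd)
      refine Subtype.ext (Matrix.SpecialLinearGroup.ext _ _ fun i j => ?_)
      fin_cases i <;> fin_cases j <;> simp [h10, h01, a.2.2.2.1, b.2.2.2.1, a.2.2.2.2, b.2.2.2.2]
    rw [Nat.card_eq_of_bijective f hf, Nat.card_units, Nat.card_eq_fintype_card]
  rw [Cnt, Nat.card_congr (Equiv.subtypeEquivRight e), card_or, card_or, card_borel_set, c2, c3]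
  · obtain ⟨r, hr⟩ : ∃ r, Fintype.card F = r + 1 := ⟨Fintype.card F - 1, by have := Fintype.card_pos (α := F); omega⟩
    rw [hr, Nat.add_sub_cancel]; ring
  · exact fun g h h' => h'.2.1 h.2
  · exact fun g h h' => h'.elim (fun h' => h'.1 h) (fun h' => h'.1 h)

theorem rot_count (h : Hyp F) (hq : Fintype.card F % 4 = 3) (X : Matrix.SpecialLinearGroup (Fin 2) F) (h01 : X 0 1 = -X 1 0) (h00 : X 1 1 = X 0 0)
    (hb : X 1 0 ≠ 0) (ha0 : X 0 0 ≠ 0) : Cnt X = 2 * (Fintype.card F + 1) := by
  classical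
  have hh := h2 h
  rw [Cnt, Nat.card_congr (Equiv.subtypeEquivRight (sol_rot h X h01 h00 hb ha0)), card_or]
  · let e1 : {g : SL2 // g 1 1 = g 0 0 ∧ g 0 1 = -g 1 0} ≃ Circ F 1 :=
      { toFun := fun g => ⟨(g.1 0 0, g.1 1 0), by have := det_eq (g := g.1); rw [g.2.1, g.2.2] at this; linear_combination this⟩
        invFun := fun p => ⟨⟨!![p.1.1, -p.1.2; p.1.2, p.1.1], by simp [det_fin_two]; linear_combination p.2⟩, by simp, by simp⟩
        left_inv := fun g => Subtype.ext (Matrix.SpecialLinearGroup.ext _ _ fun i j => by fin_cases i <;> fin_cases j <;> simp [g.2.1, g.2.2])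
        right_inv := fun p => by ext <;> simp }
    let e2 : {g : SL2 // g 1 1 = -g 0 0 ∧ g 0 1 = g 1 0} ≃ Circ F (-1) :=
      { toFun := fun g => ⟨(g.1 0 0, g.1 1 0), by have := det_eq (g := g.1); rw [g.2.1, g.2.2] at this; linear_combination -this⟩
        invFun := fun p => ⟨⟨!![p.1.1, p.1.2; p.1.2, -p.1.1], by simp [det_fin_two]; linear_combination -p.2⟩, by simp, by simp⟩
        left_inv := fun g => Subtype.ext (Matrix.SpecialLinearGroup.ext _ _ fun i j => by fin_cases i <;> fin_cases j <;> simp [g.2.1, g.2.2])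
        right_inv := fun p => by ext <;> simp }
    rw [Nat.card_congr e1, Nat.card_congr e2, circ_card h hq 1 one_ne_zero, circ_card h hq (-1) (neg_ne_zero.2 one_ne_zero), two_mul]
  · rintro g ⟨a1, a2⟩ ⟨b1, b2⟩
    have d := det_eq (g := g)
    have x0 : g 0 0 = 0 := (mul_eq_zero.1 (show (2 : F) * g 0 0 = 0 by linear_combination b1 - a1)).resolve_left hh
    have x1 : g 1 0 = 0 := (mul_eq_zero.1 (show (2 : F) * g 1 0 = 0 by linear_combination a2 - b2)).resolve_left hh
    rw [x0, x1] at d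
    simp at d

theorem upper_count (h : Hyp F) : Cnt (upperU (1 : F)) = Fintype.card F * (Fintype.card F - 1) + 6 * Fintype.card F := by
  classical
  have h10 : (1 : F) ≠ -1 := fun e => h2 h (by linear_combination e)
  rw [Cnt, Nat.card_congr (Equiv.subtypeEquivRight (sol_upper h)), card_or, card_borel_set]
  · let e : {g : SL2 // (g 1 0 = 1 ∨ g 1 0 = -1) ∧ (trc g = 0 ∨ trc g = 1 ∨ trc g = -1)} ≃
        ({c : F // c = 1 ∨ c = -1} × {t : F // t = 0 ∨ (t = 1 ∨ t = -1)}) × F :=
      { toFun := fun g => ((⟨g.1 1 0, g.2.1⟩, ⟨trc g.1, g.2.2⟩), g.1 0 0)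
        invFun := fun p => ⟨⟨!![p.2, (p.2 * (p.1.2.1 - p.2) - 1) * p.1.1.1; p.1.1.1, p.1.2.1 - p.2], by
            simp [det_fin_two]
            rcases p.1.1.2 with e | e <;> rw [e] <;> ring⟩, by simpa using p.1.1.2, by simpa [trc] using p.1.2.2⟩
        left_inv := fun g => Subtype.ext (Matrix.SpecialLinearGroup.ext _ _ fun i j => by
          have d := det_eq (g := g.1)
          fin_cases i <;> fin_cases j <;> simp [trc]
          rcases g.2.1 with e | e <;> rw [e] at d ⊢ <;> first | linear_combination d | linear_combination -d)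
        right_inv := fun p => by ext <;> simp [trc] }
    rw [Nat.card_congr e, Nat.card_prod, Nat.card_prod, card_pair _ _ h10, card_or (fun t : F => t = 0) (fun t => t = 1 ∨ t = -1), card_pair _ _ h10,
      Nat.card_eq_fintype_card (α := F)]
    · simp <;> ring
    · rintro t rfl (e | e)
      · exact one_ne_zero e.symm
      · exact one_ne_zero (neg_eq_zero.1 e.symm)
  · rintro g e0 ⟨e | e, -⟩ <;> rw [e0] at e
    · exact one_ne_zero e.symm
    · exact one_ne_zero (neg_eq_zero.1 e.symm)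

theorem sol_jay' (h : Hyp F) (Y : Matrix.SpecialLinearGroup (Fin 2) F) (t u : F) (e1 : trc Y = t) (e2 : Y 0 1 - Y 1 0 = u)
    (hR : t = 0 ∨ u = 0 ∨ t ^ 2 + u ^ 2 = 1 ∨ ((t = 1 ∨ t = -1) ∧ (u = 1 ∨ u = -1))) : Solv jay Y := by
  subst e1 e2; exact (sol_jay h Y).2 hR

theorem jay_count (h : Hyp F) (hq : Fintype.card F % 4 = 3) (hq5 : 5 ≤ Fintype.card F) :
    Cnt (jay : SL2) = 2 * (Fintype.card F * (Fintype.card F + 1)) := by
  classical
  have h10 : (1 : F) ≠ -1 := fun e => h2 h (by linear_combination e)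
  have hh := h2 h
  set q := Fintype.card F with hqd
  let R : F × F → Prop := fun p => p.1 = 0 ∨ p.2 = 0 ∨ p.1 ^ 2 + p.2 ^ 2 = 1 ∨ ((p.1 = 1 ∨ p.1 = -1) ∧ (p.2 = 1 ∨ p.2 = -1))
  let eqv : {Y : SL2 // Solv jay Y} ≃ Σ p : {p : F × F // R p}, Circ F (p.1.1 ^ 2 + p.1.2 ^ 2 - 1) :=
    { toFun := fun Y => ⟨⟨(trc Y.1, Y.1 0 1 - Y.1 1 0), (sol_jay h Y.1).1 Y.2⟩, ⟨(Y.1 0 0 - Y.1 1 1, Y.1 0 1 + Y.1 1 0), by
          simp only [trc]; linear_combination (-4) * det_eq (g := Y.1) - h.three⟩⟩
      invFun := fun x => ⟨⟨!![-(x.1.1.1 + x.2.1.1), -(x.2.1.2 + x.1.1.2); -(x.2.1.2 - x.1.1.2), -(x.1.1.1 - x.2.1.1)], by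
          simp [det_fin_two]
          linear_combination -x.2.2⟩, sol_jay' h _ x.1.1.1 x.1.1.2 (by simp [trc]; linear_combination -x.1.1.1 * h.three) (by simp; linear_combination -x.1.1.2 * h.three) x.1.2⟩
      left_inv := fun Y => Subtype.ext (Matrix.SpecialLinearGroup.ext _ _ fun i j => by
        fin_cases i <;> fin_cases j <;> simp [trc]
        · linear_combination -Y.1 0 0 * h.three
        · linear_combination -Y.1 0 1 * h.three
        · linear_combination -Y.1 1 0 * h.three
        · linear_combination -Y.1 1 1 * h.three)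
      right_inv := fun x => by
        obtain ⟨⟨⟨t, u⟩, hp⟩, ⟨⟨s, r⟩, hsr⟩⟩ := x
        refine Sigma.subtype_ext (Subtype.ext (Prod.ext ?_ ?_)) (Prod.ext ?_ ?_) <;> simp [trc]
        · linear_combination -t * h.three
        · linear_combination -u * h.three
        · linear_combination -s * h.three
        · linear_combination -r * h.three }
  rw [Cnt, Nat.card_congr eqv, Nat.card_sigma]
  have hfib : ∀ p : {p : F × F // R p}, Nat.card (Circ F (p.1.1 ^ 2 + p.1.2 ^ 2 - 1)) = if p.1.1 ^ 2 + p.1.2 ^ 2 = 1 then 1 else q + 1 := fun p => by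
    split_ifs with e
    · rw [e, sub_self, Nat.card_eq_one_iff_unique]
      refine ⟨⟨fun a b => ?_⟩, ⟨⟨(0, 0), by ring⟩⟩⟩
      have key : ∀ c : Circ F 0, c.1 = (0, 0) := fun c => by
        have hy : c.1.2 = 0 := by
          by_contra hy
          exact h.ns (c.1.1 / c.1.2) (by field_simp; linear_combination c.2)
        have := c.2
        rw [hy] at this
        exact Prod.ext (mul_self_eq_zero.1 (by linear_combination this)) hy
      exact Subtype.ext ((key a).trans (key b).symm)
    · exact circ_card h hq _ (sub_ne_zero.2 e)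
  rw [Finset.sum_congr rfl (fun p _ => hfib p), Finset.sum_ite, Finset.sum_const, Finset.sum_const, smul_eq_mul, smul_eq_mul, mul_one]
  have hA : (Finset.univ.filter fun p : {p : F × F // R p} => p.1.1 ^ 2 + p.1.2 ^ 2 = 1).card = q + 1 := by
    rw [← Fintype.card_subtype, ← Nat.card_eq_fintype_card, ← circ_card h hq 1 one_ne_zero]
    exact Nat.card_congr
      { toFun := fun p => ⟨p.1.1, p.2⟩
        invFun := fun p => ⟨⟨p.1, Or.inr (Or.inr (Or.inl p.2))⟩, p.2⟩
        left_inv := fun p => rfl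
        right_inv := fun p => rfl }
  have hB : (Finset.univ.filter fun p : {p : F × F // R p} => ¬ p.1.1 ^ 2 + p.1.2 ^ 2 = 1).card = 2 * q - 1 := by
    let A1 : Finset (F × F) := {(0 : F)} ×ˢ (Finset.univ \ {1, -1})
    let A2 : Finset (F × F) := (Finset.univ \ {0, 1, -1}) ×ˢ {(0 : F)}
    let A3 : Finset (F × F) := ({1, -1} : Finset F) ×ˢ ({1, -1} : Finset F)
    have hsq : ∀ x : F, x ^ 2 = 1 ↔ x = 1 ∨ x = -1 := fun x => sq_eq_one_iff
    have e : (Finset.univ.filter fun p : {p : F × F // R p} => ¬ p.1.1 ^ 2 + p.1.2 ^ 2 = 1).map ⟨Subtype.val, Subtype.val_injective⟩ = (A1 ∪ A2) ∪ A3 := by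
      ext ⟨t, u⟩
      simp only [Finset.mem_map, Finset.mem_filter, Finset.mem_univ, true_and, Function.Embedding.coeFn_mk, Subtype.exists, exists_and_right, exists_eq_right,
        Finset.mem_union, A1, A2, A3, Finset.mem_product, Finset.mem_singleton, Finset.mem_sdiff, Finset.mem_insert]
      constructor
      · rintro ⟨hR, hn⟩
        rcases hR with rfl | rfl | hR | hR
        · exact Or.inl (Or.inl ⟨rfl, fun e => hn (by simpa [hsq] using e)⟩)
        · by_cases ht : t = 0
          · subst ht; exact Or.inl (Or.inl ⟨rfl, fun e => by rcases e with e | e <;> simp at e⟩)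
          · exact Or.inl (Or.inr ⟨fun e => (e.resolve_left ht).elim (fun e => hn (by simp [e])) (fun e => hn (by simp [e])), rfl⟩)
        · exact absurd hR hn
        · exact Or.inr hR
      · rintro ((⟨rfl, hu⟩ | ⟨ht, rfl⟩) | ⟨ht, hu⟩)
        · exact ⟨Or.inl rfl, fun e => hu (by simpa [hsq] using e)⟩
        · exact ⟨Or.inr (Or.inl rfl), fun e => ht (Or.inr (by simpa [hsq] using e))⟩
        · refine ⟨Or.inr (Or.inr (Or.inr ⟨ht, hu⟩)), fun e => ?_⟩
          rw [(hsq t).2 ht, (hsq u).2 hu] at e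
          exact one_ne_zero (α := F) (by linear_combination e)
    have hc := congrArg Finset.card e
    rw [Finset.card_map] at hc
    rw [hc, Finset.card_union_of_disjoint, Finset.card_union_of_disjoint]
    · have c2 : ({1, -1} : Finset F).card = 2 := Finset.card_pair h10
      have c3 : ({0, 1, -1} : Finset F).card = 3 := by rw [Finset.card_insert_of_notMem (by simp), c2]
      simp only [A1, A2, A3, Finset.card_product, Finset.card_singleton, one_mul, mul_one, c2]
      rw [Finset.card_sdiff_of_subset (Finset.subset_univ _), Finset.card_sdiff_of_subset (Finset.subset_univ _), c2, c3, Finset.card_univ, ← hqd]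
      omega
    · rw [Finset.disjoint_left]; rintro ⟨t, u⟩ h1 h2'; simp [A1, A2] at h1 h2'; tauto
    · rw [Finset.disjoint_left]; rintro ⟨t, u⟩ h1 h2'; simp [A1, A2, A3] at h1 h2'
      rcases h2' with ⟨e1 | e1, e2 | e2⟩ <;> subst e1 e2 <;> simp at h1
  rw [hA, hB]
  obtain ⟨r, hr⟩ : ∃ r, q = r + 1 := ⟨q - 1, by omega⟩
  rw [hr, show 2 * (r + 1) - 1 = 2 * r + 1 by omega]
  ring

theorem dvd_split {X : Matrix.SpecialLinearGroup (Fin 2) F} (h01 : X 0 1 = 0) (h10 : X 1 0 = 0) :
    orderOf X ∣ Fintype.card F - 1 := by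
  classical
  have key : ∀ n : ℕ, (X ^ n) 0 0 = X 0 0 ^ n ∧ (X ^ n) 0 1 = 0 ∧ (X ^ n) 1 0 = 0 ∧ (X ^ n) 1 1 = X 1 1 ^ n := by
    intro n
    induction n with
    | zero => simp
    | succ n ih => simp [pow_succ, mul_entry, ih.1, ih.2.1, ih.2.2.1, ih.2.2.2, h01, h10]
  have hd := det_eq (g := X)
  rw [h01, h10] at hd
  refine orderOf_dvd_of_pow_eq_one ?_
  obtain ⟨k1, k2, k3, k4⟩ := key (Fintype.card F - 1)
  have e0 : X 0 0 ≠ 0 := fun e => by rw [e] at hd; simp at hd
  have e1 : X 1 1 ≠ 0 := fun e => by rw [e] at hd; simp at hd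
  rw [FiniteField.pow_card_sub_one_eq_one _ e0] at k1
  rw [FiniteField.pow_card_sub_one_eq_one _ e1] at k4
  refine Matrix.SpecialLinearGroup.ext _ _ fun i j => ?_
  fin_cases i <;> fin_cases j <;> simp [k1, k2, k3, k4]

theorem dvd_rot (h : Hyp F) (hq : Fintype.card F % 4 = 3) {X : Matrix.SpecialLinearGroup (Fin 2) F} (h01 : X 0 1 = -X 1 0) (h00 : X 1 1 = X 0 0) :
    orderOf X ∣ Fintype.card F + 1 := by
  haveI : NeZero (2 : F) := ⟨h2 h⟩
  let C := Subgroup.centralizer ({jay} : Set SL2)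
  have hX : X ∈ C := Subgroup.mem_centralizer_singleton_iff.2 (Matrix.SpecialLinearGroup.ext _ _ fun i j => by
    fin_cases i <;> fin_cases j <;> simp [mul_entry, jE, h01, h00])
  have hc : Nat.card C = Fintype.card F + 1 := by
    rw [← circ_card h hq 1 one_ne_zero]
    refine (Nat.card_eq_of_bijective (fun p : Circ F 1 => (⟨norJay (Sum.inl p), Subgroup.mem_centralizer_singleton_iff.2 ((comm_iff _).2 ⟨p, rfl⟩)⟩ : C)) ⟨?_, ?_⟩).symm
    · intro a b e; exact Sum.inl_injective (norJay_injective (congrArg Subtype.val e))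
    · rintro ⟨g, hg⟩
      obtain ⟨p, hp⟩ := (comm_iff g).1 (Subgroup.mem_centralizer_singleton_iff.1 hg)
      exact ⟨p, Subtype.ext hp⟩
  exact hc ▸ Subgroup.orderOf_dvd_natCard C hX

/-- Normal forms of semisimple elements. -/
theorem semisimple_cases (h : Hyp F) (hq : Fintype.card F % 4 = 3) (X : Matrix.SpecialLinearGroup (Fin 2) F) (hX : ¬ IsScalar2 X) (t0 : trc X ≠ 0)
    (t1 : trc X * trc X ≠ 1) :
    (orderOf X ∣ Fintype.card F - 1 ∧ Cnt X = 2 * (Fintype.card F * (Fintype.card F - 1))) ∨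
    (orderOf X ∣ Fintype.card F + 1 ∧ Cnt X = 2 * (Fintype.card F + 1)) := by
  classical
  set t := trc X with htd
  have hn : t * t - 1 ≠ 0 := sub_ne_zero.2 t1
  by_cases hs : IsSquare (t * t - 1)
  · obtain ⟨r, hr⟩ := hs
    let X' : SL2 := ⟨!![-(t + r), 0; 0, -(t - r)], by simp [det_fin_two]; linear_combination hr⟩
    have hne : X' 0 0 ≠ X' 1 1 := fun e => hn (by
      simp [X'] at e
      have : (2 : F) * r = 0 := by first | linear_combination e | linear_combination -e
      rw [hr, (mul_eq_zero.1 this).resolve_left (h2 h), mul_zero])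
    have htr : trc X' = t := by simp [X', trc]; linear_combination -t * h.three
    obtain ⟨φ, hφ⟩ := conj_of_trc (X := X') (fun e => hne e.2.2) hX htr
    left
    refine ⟨?_, ?_⟩
    · rw [← hφ, MulEquiv.orderOf_eq]; exact dvd_split (by simp [X']) (by simp [X'])
    · rw [← hφ, ← cnt_map]; exact diag_count h X' (by simp [X']) (by simp [X']) hne (htr ▸ t0)
  · obtain ⟨r, hr⟩ : IsSquare (-(t * t - 1)) := by
      rw [← quadraticChar_one_iff_isSquare (neg_ne_zero.2 hn), show -(t * t - 1) = (-1) * (t * t - 1) by ring, map_mul, quadraticChar_neg_one_iff_not_isSquare.2 hs,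
        quadraticChar_neg_one_iff_not_isSquare.2 (fun ⟨x, hx⟩ => h.ns x hx.symm)]
      norm_num
    have hr0 : r ≠ 0 := fun e => hn (neg_eq_zero.1 (by rw [hr, e, mul_zero]))
    let X' : SL2 := ⟨!![-t, -r; r, -t], by simp [det_fin_two]; linear_combination -hr⟩
    have htr : trc X' = t := by simp [X', trc]; linear_combination -t * h.three
    obtain ⟨φ, hφ⟩ := conj_of_trc (X := X') (fun e => hr0 (by simpa [X'] using e.2.1)) hX htr
    right
    refine ⟨?_, ?_⟩
    · rw [← hφ, MulEquiv.orderOf_eq]; exact dvd_rot h hq (by simp [X']) (by simp [X'])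
    · rw [← hφ, ← cnt_map]; exact rot_count h hq X' (by simp [X']) (by simp [X']) (by simpa [X'] using hr0) (by simpa [X'] using t0)

set_option maxHeartbeats 1000000 in
/-- Let G = PSL_2(F) with F a field of order q = 3^p, p an odd prime, and for x ∈ G call the solubilizer of x the set of y ∈ G such that x and y generate a solvable subgroup. Then the solubilizer of an involution has q(q + 1) elements; that of an element of order 3 has q(q + 5)/2 elements; that of an element of order neither 1 nor 2 dividing q − 1 has q(q − 1) elements; and that of an element of order neither 1 nor 2 dividing q + 1 has q + 1 elements. -/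
theorem result (p : ℕ) (hp : p.Prime) (hodd : Odd p) {F : Type*} [Field F] [Fintype F]
    (hF : Fintype.card F = 3 ^ p) (x : Matrix.ProjectiveSpecialLinearGroup (Fin 2) F) :
    (orderOf x = 2 → Nat.card {y : Matrix.ProjectiveSpecialLinearGroup (Fin 2) F // Group.IsSolvable ↥(Subgroup.closure ({x, y} : Set (Matrix.ProjectiveSpecialLinearGroup (Fin 2) F)))} = 3 ^ p * (3 ^ p + 1)) ∧
    (orderOf x = 3 → 2 * Nat.card {y : Matrix.ProjectiveSpecialLinearGroup (Fin 2) F // Group.IsSolvable ↥(Subgroup.closure ({x, y} : Set (Matrix.ProjectiveSpecialLinearGroup (Fin 2) F)))} = 3 ^ p * (3 ^ p + 5)) ∧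
    (x ≠ 1 → orderOf x ≠ 2 → orderOf x ∣ 3 ^ p - 1 → Nat.card {y : Matrix.ProjectiveSpecialLinearGroup (Fin 2) F // Group.IsSolvable ↥(Subgroup.closure ({x, y} : Set (Matrix.ProjectiveSpecialLinearGroup (Fin 2) F)))} = 3 ^ p * (3 ^ p - 1)) ∧
    (x ≠ 1 → orderOf x ≠ 2 → orderOf x ∣ 3 ^ p + 1 → Nat.card {y : Matrix.ProjectiveSpecialLinearGroup (Fin 2) F // Group.IsSolvable ↥(Subgroup.closure ({x, y} : Set (Matrix.ProjectiveSpecialLinearGroup (Fin 2) F)))} = 3 ^ p + 1) := by
  classical
  have hq3 : Fintype.card F % 4 = 3 := by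
    rw [hF, Nat.pow_mod]
    obtain ⟨k, rfl⟩ := hodd
    rw [pow_succ, pow_mul]
    simp [Nat.mul_mod, Nat.pow_mod]
  have hq5 : 27 ≤ Fintype.card F := by
    rw [hF]
    have : 3 ≤ p := by
      rcases hp.eq_two_or_odd with rfl | _
      · exact absurd hodd (by decide)
      · have := hp.two_le; omega
    exact (show 27 = 3 ^ 3 by norm_num) ▸ Nat.pow_le_pow_right (by norm_num) this
  have h3 : (3 : F) = 0 := by
    have : ((3 ^ p : ℕ) : F) = 0 := by rw [← hF]; exact FiniteField.cast_card_eq_zero F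
    rw [Nat.cast_pow] at this
    exact_mod_cast eq_zero_of_pow_eq_zero this
  have h : Hyp F := ⟨h3, fun x hx => (FiniteField.isSquare_neg_one_iff.1 ⟨x, hx.symm⟩) hq3⟩
  haveI : NeZero (2 : F) := ⟨h2 h⟩
  obtain ⟨X, rfl⟩ := QuotientGroup.mk'_surjective _ x
  have hC : Cnt X = 2 * Nat.card {y : Matrix.ProjectiveSpecialLinearGroup (Fin 2) F // Group.IsSolvable ↥(Subgroup.closure ({(QuotientGroup.mk' (Subgroup.center (Matrix.SpecialLinearGroup (Fin 2) F))) X, y} : Set (Matrix.ProjectiveSpecialLinearGroup (Fin 2) F)))} :=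
    card_preimage {y : Matrix.ProjectiveSpecialLinearGroup (Fin 2) F | Group.IsSolvable ↥(Subgroup.closure ({(QuotientGroup.mk' (Subgroup.center (Matrix.SpecialLinearGroup (Fin 2) F))) X, y} : Set (Matrix.ProjectiveSpecialLinearGroup (Fin 2) F)))}
  rw [← hF]
  set q := Fintype.card F with hqd
  have hpi1 : (QuotientGroup.mk' (Subgroup.center (Matrix.SpecialLinearGroup (Fin 2) F))) X = 1 ↔ IsScalar2 X := by rw [← map_one (QuotientGroup.mk' (Subgroup.center (Matrix.SpecialLinearGroup (Fin 2) F))), mk_eq_mk_iff, isScalar2_iff]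
  have hinv : orderOf ((QuotientGroup.mk' (Subgroup.center (Matrix.SpecialLinearGroup (Fin 2) F))) X) = 2 → trc X = 0 := fun ho => by
    have e := congrArg trc ((orderOf_mk_eq_two X).1 ho)
    rw [pow_two, trc_sq, trc_neg] at e
    simp [trc] at e
    exact mul_self_eq_zero.1 (by simp only [trc]; linear_combination e)
  have hunip : trc X * trc X = 1 → orderOf ((QuotientGroup.mk' (Subgroup.center (Matrix.SpecialLinearGroup (Fin 2) F))) X) ∣ 3 := fun e => orderOf_dvd_of_pow_eq_one (pi_cube h X (mul_self_eq_one_iff.1 e))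
  have hzero : trc X = 0 → orderOf ((QuotientGroup.mk' (Subgroup.center (Matrix.SpecialLinearGroup (Fin 2) F))) X) ∣ 2 := fun e => orderOf_dvd_of_pow_eq_one (by rw [pow_two]; exact pi_sq X e)
  have hne3 : ¬ 3 ∣ q - 1 ∧ ¬ 3 ∣ q + 1 := by
    have : 3 ∣ q := by rw [hF]; exact dvd_pow_self 3 hp.ne_zero
    omega
  have hmain : (QuotientGroup.mk' (Subgroup.center (Matrix.SpecialLinearGroup (Fin 2) F))) X ≠ 1 → orderOf ((QuotientGroup.mk' (Subgroup.center (Matrix.SpecialLinearGroup (Fin 2) F))) X) ≠ 2 → (orderOf ((QuotientGroup.mk' (Subgroup.center (Matrix.SpecialLinearGroup (Fin 2) F))) X) ∣ q - 1 ∨ orderOf ((QuotientGroup.mk' (Subgroup.center (Matrix.SpecialLinearGroup (Fin 2) F))) X) ∣ q + 1) →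
      trc X ≠ 0 ∧ trc X * trc X ≠ 1 := fun h1 h2' hd => by
    have ho1 : orderOf ((QuotientGroup.mk' (Subgroup.center (Matrix.SpecialLinearGroup (Fin 2) F))) X) ≠ 1 := fun e => h1 (orderOf_eq_one_iff.1 e)
    refine ⟨fun e => ?_, fun e => ?_⟩
    · exact ((Nat.dvd_prime Nat.prime_two).1 (hzero e)).elim ho1 h2'
    · rcases (Nat.dvd_prime Nat.prime_three).1 (hunip e) with e' | e'
      · exact ho1 e'
      · rw [e'] at hd; exact hd.elim hne3.1 hne3.2
  have hboth : (QuotientGroup.mk' (Subgroup.center (Matrix.SpecialLinearGroup (Fin 2) F))) X ≠ 1 → orderOf ((QuotientGroup.mk' (Subgroup.center (Matrix.SpecialLinearGroup (Fin 2) F))) X) ≠ 2 → orderOf ((QuotientGroup.mk' (Subgroup.center (Matrix.SpecialLinearGroup (Fin 2) F))) X) ∣ q - 1 → orderOf ((QuotientGroup.mk' (Subgroup.center (Matrix.SpecialLinearGroup (Fin 2) F))) X) ∣ q + 1 → False := fun h1 h2' hd hd' => by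
    have := Nat.dvd_sub hd' hd
    rw [show q + 1 - (q - 1) = 2 by omega] at this
    exact ((Nat.dvd_prime Nat.prime_two).1 this).elim (fun e => h1 (orderOf_eq_one_iff.1 e)) h2'
  refine ⟨fun ho => ?_, fun ho => ?_, fun h1 h2' hd => ?_, fun h1 h2' hd => ?_⟩
  · have hX : ¬ IsScalar2 X := fun e => by rw [hpi1.2 e, orderOf_one] at ho; omega
    obtain ⟨φ, hφ⟩ := conj_of_trc (X := (jay : (Matrix.SpecialLinearGroup (Fin 2) F))) (fun e => by simpa [jE] using e.2.1) hX (by rw [hinv ho]; simp [trc, jE])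
    rw [← hφ, ← cnt_map, jay_count h hq3 (by omega), hφ] at hC
    exact (Nat.eq_of_mul_eq_mul_left two_pos hC).symm
  · have hX : ¬ IsScalar2 X := fun e => by rw [hpi1.2 e, orderOf_one] at ho; omega
    have e3 : (QuotientGroup.mk' (Subgroup.center (Matrix.SpecialLinearGroup (Fin 2) F))) (X * X * X) = 1 := by
      rw [map_mul, map_mul]
      have := pow_orderOf_eq_one ((QuotientGroup.mk' (Subgroup.center (Matrix.SpecialLinearGroup (Fin 2) F))) X)
      rwa [ho, pow_succ, pow_two] at this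
    rw [← map_one (QuotientGroup.mk' (Subgroup.center (Matrix.SpecialLinearGroup (Fin 2) F))), mk_eq_mk_iff, ← isScalar2_iff] at e3
    have t3 := pm_trc h e3
    rw [trc_cube, h.three, zero_mul, sub_zero] at t3
    have ht : trc X = 1 ∨ trc X = -1 := t3.imp
      (fun e => sub_eq_zero.1 (eq_zero_of_pow_eq_zero (show (trc X - 1) ^ 3 = 0 by linear_combination e + (trc X - trc X ^ 2) * h.three)))
      (fun e => add_eq_zero_iff_eq_neg.1 (eq_zero_of_pow_eq_zero (show (trc X + 1) ^ 3 = 0 by linear_combination e + (trc X + trc X ^ 2) * h.three)))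
    have tU : trc (upperU (1 : F)) = -1 := by simp [trc, uE]; linear_combination h.three
    have hU : ¬ IsScalar2 (upperU (1 : F)) := fun e => by simpa [uE] using e.1
    have hcnt : Cnt X = Cnt (upperU (1 : F)) := by
      rcases ht with e | e
      · have hX' : ¬ IsScalar2 (-X) := fun e' => hX ((isScalar2_iff X).2 (by
          rcases (isScalar2_iff (-X)).1 e' with e' | e'
          · exact Or.inr (by rw [← e', neg_neg])
          · exact Or.inl (neg_injective e')))
        obtain ⟨φ, hφ⟩ := conj_of_trc hX' hU (by rw [trc_neg, e, tU])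
        rw [← hφ, ← cnt_map]
        exact Nat.card_congr (Equiv.subtypeEquivRight fun Y => (solv_neg X Y).symm)
      · obtain ⟨φ, hφ⟩ := conj_of_trc hX hU (by rw [e, tU])
        rw [← hφ, ← cnt_map]
    rw [upper_count h, hC] at hcnt
    rw [hcnt, show q + 5 = (q - 1) + 6 by omega]
    ring
  · obtain ⟨t0, t1⟩ := hmain h1 h2' (Or.inl hd)
    rcases semisimple_cases h hq3 X (fun e => h1 (hpi1.2 e)) t0 t1 with ⟨-, e⟩ | ⟨d, -⟩
    · rw [e] at hC; exact (Nat.eq_of_mul_eq_mul_left two_pos hC).symm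
    · exact (hboth h1 h2' hd ((orderOf_map_dvd (QuotientGroup.mk' (Subgroup.center (Matrix.SpecialLinearGroup (Fin 2) F))) X).trans d)).elim
  · obtain ⟨t0, t1⟩ := hmain h1 h2' (Or.inr hd)
    rcases semisimple_cases h hq3 X (fun e => h1 (hpi1.2 e)) t0 t1 with ⟨d, -⟩ | ⟨-, e⟩
    · exact (hboth h1 h2' ((orderOf_map_dvd (QuotientGroup.mk' (Subgroup.center (Matrix.SpecialLinearGroup (Fin 2) F))) X).trans d) hd).elim
    · rw [e] at hC; exact (Nat.eq_of_mul_eq_mul_left two_pos hC).symm

end Cfsg.Agent.S2258
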