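import Cfsg.Statements.S2277
import Cfsg.Agent.Lib.Solv.PairwiseFixed
import Cfsg.Agent.Lib.Solv.Coprime
import Cfsg.Agent.Lib.Solv.PGroupBasic
import Cfsg.Agent.S0029

set_option autoImplicit false
open Cfsg
open scoped Pointwise commutatorElement

namespace Cfsg.Agent.S2277

/-- Let p ≥ 3 be prime and G a finite group with a Sylow p-subgroup P and a normal p-complement N (N normal, of order prime to p, with NP = G). Suppose P is generated by a subset C and also by a subset D, and that ⟨x c x⁻¹, d⟩ is a p-group for all x ∈ N, c ∈ C, d ∈ D. Then P centralizes N, so that G = N × P. -/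
theorem result {G : Type*} [Group G] [Finite G] (p : ℕ) [Fact p.Prime] (hp3 : 3 ≤ p) (P : Sylow p G)
    (N : Subgroup G) [N.Normal] (hN : (Nat.card N).Coprime p) (hNP : N ⊔ (P : Subgroup G) = ⊤)
    (C D : Set G) (hC : Subgroup.closure C = (P : Subgroup G)) (hD : Subgroup.closure D = (P : Subgroup G))
    (h : ∀ x ∈ N, ∀ c ∈ C, ∀ d ∈ D, IsPGroup p ↥(Subgroup.closure ({x * c * x⁻¹, d} : Set G))) :
    ⁅(P : Subgroup G), N⁆ = ⊥ := by
  have hp2 : p ≠ 2 := by omega
  have hPN : (P : Subgroup G) ≤ Subgroup.normalizer (N : Set G) := Subgroup.le_normalizer_of_normal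
  have hcard : ∀ K : Subgroup G, IsPGroup p K → (Nat.card K).Coprime (Nat.card N) := fun K hK => by
    obtain ⟨k, hk⟩ := IsPGroup.iff_card.1 hK
    rw [hk]
    exact Nat.Coprime.pow_left k hN.symm
  have hsolv : Group.IsSolvable (P : Subgroup G) := by
    have := P.isPGroup'.isNilpotent
    infer_instance
  rw [Subgroup.commutator_eq_bot_iff_le_centralizer, Subgroup.le_centralizer_iff]
  set M := (Subgroup.centralizer ((P : Subgroup G) : Set G)).subgroupOf N
  suffices hM : M = ⊤ from Subgroup.subgroupOf_eq_top.1 hM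
  rw [← Subgroup.index_eq_one]
  by_contra hidx
  obtain ⟨r, hr, hrd⟩ := Nat.exists_prime_and_dvd hidx
  haveI := Fact.mk hr
  obtain ⟨R, hR⟩ := Cfsg.Lib.Solv.exists_invariant_sylow (P : Subgroup G) N hPN
    (hcard _ P.isPGroup') (Or.inl hsolv) r
  suffices hRC : (R : Subgroup N) ≤ M from
    R.not_dvd_index (hrd.trans (Subgroup.index_dvd_of_le hRC))
  set K := (R : Subgroup N).map N.subtype with hKdef
  suffices hK : (P : Subgroup G) ≤ Subgroup.centralizer (K : Set G) by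
    intro x hx
    exact Subgroup.le_centralizer_iff.1 hK ⟨x, hx, rfl⟩
  have hKN : K ≤ N := Subgroup.map_subtype_le _
  have hKr : IsPGroup r K := R.isPGroup'.map _
  have hKcop : (Nat.card K).Coprime p :=
    hN.coprime_dvd_left (Subgroup.card_dvd_of_le hKN)
  have hdisj : ∀ x ∈ K, x ∈ (P : Subgroup G) → x = 1 := fun x hxK hxP => by
    have h1 : orderOf x ∣ 1 := (hcard _ P.isPGroup') ▸ Nat.dvd_gcd
      (Subgroup.orderOf_dvd_natCard _ hxP) (Subgroup.orderOf_dvd_natCard _ (hKN hxK))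
    exact orderOf_eq_one_iff.1 (Nat.dvd_one.1 h1)
  have hCP : C ⊆ (P : Subgroup G) := hC ▸ Subgroup.subset_closure
  have hDP : D ⊆ (P : Subgroup G) := hD ▸ Subgroup.subset_closure
  have hnorm : ∀ a ∈ (P : Subgroup G), ∀ x ∈ K, a * x * a⁻¹ ∈ K := fun a ha x hx =>
    (Subgroup.mem_normalizer_iff.1 (hR ha) x).1 hx
  -- each element of `K` splits
  have hsplit : ∀ v ∈ K, ∀ c ∈ C, ∀ d ∈ D,
      ∃ y ∈ K, d * y * d⁻¹ = y ∧ c * (y⁻¹ * v) * c⁻¹ = y⁻¹ * v := by
    intro v hv c hc d hd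
    set H := K ⊔ (P : Subgroup G) with hH
    set T := Subgroup.closure ({v * c * v⁻¹, d} : Set G)
    have hTH : T ≤ H := by
      rw [Subgroup.closure_le]
      rintro x (rfl | rfl)
      · exact mul_mem (mul_mem (Subgroup.mem_sup_left hv) (Subgroup.mem_sup_right (hCP hc)))
          (inv_mem (Subgroup.mem_sup_left hv))
      · exact Subgroup.mem_sup_right (hDP hd)
    have hPH : (P : Subgroup G) ≤ H := le_sup_right
    have hTp : IsPGroup p ↥(T.subgroupOf H) := (h v (hKN hv) c hc d hd).comap_subtype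
    obtain ⟨Q, hQ⟩ := hTp.exists_le_sylow
    obtain ⟨g, hg⟩ := MulAction.exists_smul_eq H (P.subtype hPH) Q
    have hg2 : (g : G) ∈ (K : Set G) * ((P : Subgroup G) : Set G) := by
      rw [← Subgroup.coe_mul_of_right_le_normalizer_left K _ hR]
      exact g.2
    obtain ⟨y, hy, π, hπ, hgy⟩ := hg2
    have hT : ∀ t ∈ T, y⁻¹ * t * y ∈ (P : Subgroup G) := by
      intro t ht
      have h1 : (⟨t, hTH ht⟩ : H) ∈ Q := hQ ht
      rw [← hg] at h1
      have h1' : (⟨t, hTH ht⟩ : H) ∈ ((g • P.subtype hPH : Sylow p H) : Subgroup H) := h1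
      rw [Sylow.coe_subgroup_smul] at h1'
      obtain ⟨q, hq, hqt⟩ := h1'
      have h2 : (g : G) * (q : G) * (g : G)⁻¹ = t := congrArg Subtype.val hqt
      have h3 : (q : G) ∈ (P : Subgroup G) := hq
      rw [show y⁻¹ * t * y = π * q * π⁻¹ by rw [← h2, ← hgy]; group]
      exact mul_mem (mul_mem hπ h3) (inv_mem hπ)
    refine ⟨y, hy, ?_, ?_⟩
    · have h1 : y⁻¹ * (d * y * d⁻¹) = 1 := hdisj _
        (mul_mem (inv_mem hy) (hnorm d (hDP hd) y hy)) (by
          rw [show y⁻¹ * (d * y * d⁻¹) = y⁻¹ * d * y * d⁻¹ by group]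
          exact mul_mem (hT d (Subgroup.subset_closure (Set.mem_insert_of_mem _ rfl)))
            (inv_mem (hDP hd)))
      exact (inv_mul_eq_one.1 h1).symm
    · have hz : y⁻¹ * v ∈ K := mul_mem (inv_mem hy) hv
      have h1 : y⁻¹ * v * (c * (y⁻¹ * v)⁻¹ * c⁻¹) = 1 := hdisj _
        (mul_mem hz (hnorm c (hCP hc) _ (inv_mem hz))) (by
          rw [show y⁻¹ * v * (c * (y⁻¹ * v)⁻¹ * c⁻¹) = y⁻¹ * (v * c * v⁻¹) * y * c⁻¹ by group]
          exact mul_mem (hT _ (Subgroup.subset_closure (Set.mem_insert _ _))) (inv_mem (hCP hc)))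
      exact ((eq_inv_of_mul_eq_one_left h1).trans (by group)).symm
  -- the Frattini quotient
  set Φ := frattini K
  let iCG : CommGroup (K ⧸ Φ) :=
    { (inferInstance : Group (K ⧸ Φ)) with
      mul_comm := by
        rintro ⟨a⟩ ⟨b⟩
        refine QuotientGroup.eq.2 (Cfsg.Lib.Solv.commutator_le_frattini hKr ?_)
        rw [show (a * b)⁻¹ * (b * a) = ⁅b⁻¹, a⁻¹⁆ by rw [commutatorElement_def]; group]
        exact Subgroup.commutator_mem_commutator (Subgroup.mem_top _) (Subgroup.mem_top _) }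
  let θ : (P : Subgroup G) →* MulAut K :=
    K.normalizerMonoidHom.comp (Subgroup.inclusion hR)
  have hθ : ∀ (a : (P : Subgroup G)) (x : K), ((θ a x : K) : G) = (a : G) * x * (a : G)⁻¹ :=
    fun a x => rfl
  let ψ : MulAut K →* MulAut (K ⧸ Φ) :=
    MonoidHom.mk' (fun e => QuotientGroup.congr Φ Φ e (Subgroup.characteristic_iff_map_eq.1
      inferInstance e)) fun e f => MulEquiv.ext fun q => by
        induction q using QuotientGroup.induction_on with
        | _ x => rfl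
  let φ : (P : Subgroup G) →* MulAut (K ⧸ Φ) := ψ.comp θ
  have hpre : ∀ X : Set G, Subgroup.closure X = (P : Subgroup G) →
      Subgroup.closure ((Subtype.val : ↥(P : Subgroup G) → G) ⁻¹' X) = ⊤ := fun X hX => by
    refine Subgroup.map_injective (P : Subgroup G).subtype_injective ?_
    rw [MonoidHom.map_closure, ← MonoidHom.range_eq_map, Subgroup.range_subtype]
    refine (congrArg Subgroup.closure ?_).trans hX
    exact Set.image_preimage_eq_of_subset (fun x hx =>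
      ⟨⟨x, hX ▸ Subgroup.subset_closure hx⟩, rfl⟩)
  have hpair : Cfsg.Lib.Solv.PairwiseFixed.Pairwise φ
      ((Subtype.val : ↥(P : Subgroup G) → G) ⁻¹' C) ((Subtype.val : ↥(P : Subgroup G) → G) ⁻¹' D) := by
    intro q c hc d hd
    induction q using QuotientGroup.induction_on with
    | _ v =>
      obtain ⟨y, hy, hdy, hcy⟩ := hsplit v v.2 c hc d hd
      refine ⟨((⟨y, hy⟩ : K) : K ⧸ Φ), (((⟨y, hy⟩ : K)⁻¹ * v : K) : K ⧸ Φ), ?_, ?_, ?_⟩
      · exact congrArg (QuotientGroup.mk (s := Φ)) (Subtype.ext hdy : θ d ⟨y, hy⟩ = ⟨y, hy⟩)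
      · exact congrArg (QuotientGroup.mk (s := Φ))
          (Subtype.ext hcy : θ c ((⟨y, hy⟩ : K)⁻¹ * v) = (⟨y, hy⟩ : K)⁻¹ * v)
      · rw [← QuotientGroup.mk_mul, mul_inv_cancel_left]
  have hqcop : (Nat.card (K ⧸ Φ)).Coprime p :=
    hKcop.coprime_dvd_left (Subgroup.card_quotient_dvd_card Φ)
  have htriv := Cfsg.Lib.Solv.PairwiseFixed.trivial_of_pairwise hp2 P.isPGroup' _ _
    (hpre C hC) (hpre D hD) _ (K ⧸ Φ) rfl hqcop φ hpair
  refine Cfsg.Agent.S0029.result (P : Subgroup G) K hR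
    (((hcard _ P.isPGroup').coprime_dvd_right (Subgroup.card_dvd_of_le hKN)).coprime_dvd_right
      (Subgroup.card_subgroup_dvd_card Φ)) fun a ha k hk => ?_
  refine ⟨θ ⟨a, ha⟩ ⟨k, hk⟩ * (⟨k, hk⟩ : K)⁻¹, ?_, rfl⟩
  show θ ⟨a, ha⟩ ⟨k, hk⟩ * (⟨k, hk⟩ : K)⁻¹ ∈ Φ
  rw [← QuotientGroup.eq_one_iff, QuotientGroup.mk_mul, QuotientGroup.mk_inv]
  rw [show ((θ ⟨a, ha⟩ ⟨k, hk⟩ : K) : K ⧸ Φ) = ((⟨k, hk⟩ : K) : K ⧸ Φ) from
    htriv ⟨a, ha⟩ ((⟨k, hk⟩ : K) : K ⧸ Φ), mul_inv_cancel]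

end Cfsg.Agent.S2277
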