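import Cfsg.Statements.S2364
import Mathlib

set_option autoImplicit false
open Cfsg

namespace Cfsg.Agent.S2364

open Matrix

variable {F : Type*} [Field F] [Fintype F]

theorem card_GL_eq (m : ℕ) (hm : 1 ≤ m) :
    Nat.card (SpecialLinearGroup (Fin m) F) * (Fintype.card F - 1) = Nat.card (GL (Fin m) F) := by
  classical
  haveI : Nonempty (Fin m) := ⟨⟨0, hm⟩⟩
  have hsurj : Function.Surjective (Matrix.GeneralLinearGroup.det : GL (Fin m) F →* Fˣ) := by
    intro u
    refine ⟨Matrix.GeneralLinearGroup.mk'' (diagonal (Function.update 1 ⟨0, hm⟩ (u : F))) ?_, Units.ext ?_⟩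
    · rw [det_diagonal, Finset.prod_update_of_mem (Finset.mem_univ _)]
      simp
    · show (diagonal (Function.update (1 : Fin m → F) ⟨0, hm⟩ (u : F))).det = u
      rw [det_diagonal, Finset.prod_update_of_mem (Finset.mem_univ _)]
      simp
  have h := Subgroup.card_mul_index (Matrix.GeneralLinearGroup.det : GL (Fin m) F →* Fˣ).ker
  rw [Subgroup.index_ker, MonoidHom.range_eq_top.mpr hsurj, Subgroup.card_top, Nat.card_units, Nat.card_eq_fintype_card (α := F)] at h
  rw [← h]
  congr 1
  let e : SpecialLinearGroup (Fin m) F ≃ (Matrix.GeneralLinearGroup.det : GL (Fin m) F →* Fˣ).ker :=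
    { toFun := fun g => ⟨Matrix.SpecialLinearGroup.toGL g, MonoidHom.mem_ker.mpr (Units.ext g.2)⟩
      invFun := fun g => ⟨((g : GL (Fin m) F) : Matrix (Fin m) (Fin m) F), congrArg Units.val g.2⟩
      left_inv := fun g => rfl
      right_inv := fun g => Subtype.ext (Units.ext rfl) }
  exact Nat.card_congr e

theorem not_dvd_small {r m j : ℕ} (hr : r.Prime) (hm : 2 ≤ m) (hj : j ≤ m)
    (h : ¬ r ∣ Nat.card (SpecialLinearGroup (Fin m) F)) : ¬ r ∣ Nat.card (GL (Fin j) F) := by
  classical
  haveI := Fact.mk hr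
  set q := Fintype.card F with hq
  have hq2 : 2 ≤ q := Fintype.one_lt_card
  have hSq := card_GL_eq (F := F) m (by omega)
  have hGm : ∀ x : ℕ, (∃ i : Fin m, x ∣ q ^ m - q ^ (i : ℕ)) → x ∣ Nat.card (GL (Fin m) F) := by
    rintro x ⟨i, hx⟩
    rw [Matrix.card_GL_field]
    exact hx.trans (Finset.dvd_prod_of_mem _ (Finset.mem_univ i))
  have hq1 : ∀ i : ℕ, q - 1 ∣ q ^ i - 1 := fun i => by simpa using Nat.sub_dvd_pow_sub_pow q 1 i
  have hfac : ∀ i, i ≤ m → q ^ m - q ^ (m - i) = q ^ (m - i) * (q ^ i - 1) := fun i hi => by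
    rw [Nat.mul_sub, mul_one, ← pow_add, Nat.sub_add_cancel hi]
  have hq1S : q - 1 ∣ Nat.card (SpecialLinearGroup (Fin m) F) := by
    have h2 : (q - 1) * (q - 1) ∣ Nat.card (GL (Fin m) F) := by
      rw [Matrix.card_GL_field, ← Finset.mul_prod_erase _ _ (Finset.mem_univ (⟨0, by omega⟩ : Fin m))]
      refine Nat.mul_dvd_mul ?_ ((?_ : q - 1 ∣ q ^ m - q ^ ((⟨1, by omega⟩ : Fin m) : ℕ)).trans
        (Finset.dvd_prod_of_mem _ (Finset.mem_erase.mpr ⟨fun e => by simpa using congrArg Fin.val e, Finset.mem_univ _⟩)))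
      · simpa using hq1 m
      · have := hfac (m - 1) (by omega)
        rw [show m - (m - 1) = 1 by omega] at this
        show q - 1 ∣ q ^ m - q ^ 1
        rw [this]
        exact (hq1 _).mul_left _
    rw [← hSq] at h2
    exact Nat.dvd_of_mul_dvd_mul_right (by omega) h2
  intro hd
  have hGLm : r ∣ Nat.card (GL (Fin m) F) := by
    rw [Matrix.card_GL_field] at hd
    obtain ⟨i, -, hi⟩ := (hr.prime.dvd_finsetProd_iff _).mp hd
    rw [show q ^ j - q ^ (i : ℕ) = q ^ (i : ℕ) * (q ^ (j - i) - 1) by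
      rw [Nat.mul_sub, mul_one, ← pow_add, Nat.add_sub_cancel' i.2.le]] at hi
    rcases hr.dvd_mul.mp hi with h1 | h1
    · refine hGm r ⟨⟨1, by omega⟩, ?_⟩
      have := hfac (m - 1) (by omega)
      rw [show m - (m - 1) = 1 by omega] at this
      show r ∣ q ^ m - q ^ 1
      rw [this, pow_one]
      exact (hr.dvd_of_dvd_pow h1).mul_right _
    · refine hGm r ⟨⟨m - (j - i), by omega⟩, ?_⟩
      show r ∣ q ^ m - q ^ (m - (j - i))
      rw [hfac _ (by omega)]
      exact h1.mul_left _
  rw [← hSq] at hGLm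
  rcases hr.dvd_mul.mp hGLm with h1 | h1
  · exact h h1
  · exact h (h1.trans hq1S)

/-- An endomorphism of order `r` moves an invariant subspace inside every invariant subspace of small codimension. -/
theorem step {V : Type*} [AddCommGroup V] [Module F V] [FiniteDimensional F V] {r k : ℕ} (hr : r.Prime)
    (hk : ∀ j, j ≤ k → ¬ r ∣ Nat.card (GL (Fin j) F)) (s : V →ₗ[F] V) (hs : s ^ r = 1) (W W' : Submodule F V)
    (hW : W ≤ W') (hd : Module.finrank F W' ≤ Module.finrank F W + k) (hsW : ∀ x ∈ W, s x ∈ W) (hsW' : ∀ x ∈ W', s x ∈ W') :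
    ∀ x ∈ W', s x - x ∈ W := by
  classical
  let Q := W' ⧸ W.comap W'.subtype
  let t : Q →ₗ[F] Q := Submodule.mapQ _ _ (s.restrict hsW') (fun x hx => hsW x hx)
  have hiter : ∀ (i : ℕ) (x : W'), (t ^ i) (Submodule.Quotient.mk x) = Submodule.Quotient.mk (((s.restrict hsW') ^ i) x) := by
    intro i
    induction i with
    | zero => intro x; rfl
    | succ i ih => intro x; rw [pow_succ', Module.End.mul_apply, ih, pow_succ', Module.End.mul_apply]; rfl
  have hres : ∀ (i : ℕ) (x : W'), ((((s.restrict hsW') ^ i) x : W') : V) = (s ^ i) x := by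
    intro i
    induction i with
    | zero => intro x; rfl
    | succ i ih =>
      intro x
      rw [pow_succ', Module.End.mul_apply, pow_succ', Module.End.mul_apply, ← ih]
      rfl
  have ht : t ^ r = 1 := by
    refine LinearMap.ext fun q => ?_
    obtain ⟨x, rfl⟩ := Submodule.Quotient.mk_surjective _ q
    rw [hiter, Module.End.one_apply]
    congr 1
    exact Subtype.ext (by rw [hres, hs, Module.End.one_apply])
  have hQ : Module.finrank F Q ≤ k := by
    have h1 : Module.finrank F Q + Module.finrank F (W.comap W'.subtype) = Module.finrank F W' :=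
      Submodule.finrank_quotient_add_finrank _
    have h2 : Module.finrank F (W.comap W'.subtype) = Module.finrank F W := (Submodule.comapSubtypeEquivOfLe hW).finrank_eq
    omega
  let b := Module.finBasis F Q
  let A := LinearMap.toMatrixAlgEquiv b t
  have hA : A ^ r = 1 := by rw [← map_pow, ht, map_one]
  let u : GL (Fin (Module.finrank F Q)) F := Units.ofPowEqOne A r hA hr.ne_zero
  have hu : u = 1 := by
    have h1 : orderOf u ∣ r := orderOf_dvd_of_pow_eq_one (Units.ext (by rw [Units.val_pow_eq_pow_val]; exact hA))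
    rcases (Nat.dvd_prime hr).mp h1 with h | h
    · exact orderOf_eq_one_iff.mp h
    · exact absurd (h ▸ orderOf_dvd_natCard u) (hk _ hQ)
  have ht1 : t = 1 := (LinearMap.toMatrixAlgEquiv b).injective (by rw [map_one]; exact congrArg Units.val hu)
  intro x hx
  have h1 : Submodule.Quotient.mk ((s.restrict hsW') ⟨x, hx⟩) = (Submodule.Quotient.mk ⟨x, hx⟩ : Q) :=
    LinearMap.congr_fun ht1 (Submodule.Quotient.mk ⟨x, hx⟩)
  exact (Submodule.Quotient.eq (W.comap W'.subtype)).mp h1

/-- An element of order `r` commuting with a nontrivial unipotent is trivial. -/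
theorem eq_one {V : Type*} [AddCommGroup V] [Module F V] [FiniteDimensional F V] {r n : ℕ} (hr : r.Prime) (hrF : (r : F) ≠ 0)
    (hn : 4 ≤ n) (hV : Module.finrank F V = n) (hk : ∀ j, j ≤ n - 2 → ¬ r ∣ Nat.card (GL (Fin j) F)) (u s : V →ₗ[F] V)
    (hu : IsNilpotent (u - 1)) (hu1 : u ≠ 1) (hc : s * u = u * s) (hs : s ^ r = 1) : s = 1 := by
  classical
  set N := u - 1 with hN
  have hN0 : N ≠ 0 := fun h => hu1 (sub_eq_zero.mp h)
  have hsN : ∀ x, s (N x) = N (s x) := fun x => by
    have := LinearMap.congr_fun hc x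
    simp only [Module.End.mul_apply] at this
    simp [hN, this]
  set K := LinearMap.ker N
  set R := LinearMap.range N
  have hsK : ∀ x ∈ K, s x ∈ K := fun x hx => by
    rw [LinearMap.mem_ker] at hx ⊢; rw [← hsN, hx, map_zero]
  have hsR : ∀ x ∈ R, s x ∈ R := by
    rintro _ ⟨y, rfl⟩; exact ⟨s y, (hsN y).symm⟩
  have hsKR : ∀ x ∈ K ⊔ R, s x ∈ K ⊔ R := by
    intro x hx
    obtain ⟨a, ha, b, hb, rfl⟩ := Submodule.mem_sup.mp hx
    rw [map_add]
    exact Submodule.add_mem_sup (hsK a ha) (hsR b hb)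
  have hkr : Module.finrank F R + Module.finrank F K = n := (LinearMap.finrank_range_add_finrank_ker N).trans hV
  have haK : Module.finrank F ↥(K ⊓ R) ≤ Module.finrank F K := Submodule.finrank_mono inf_le_left
  have haR : Module.finrank F ↥(K ⊓ R) ≤ Module.finrank F R := Submodule.finrank_mono inf_le_right
  have hsi := Submodule.finrank_sup_add_finrank_inf_eq K R
  -- the kernel meets the range
  obtain ⟨x0, hx0⟩ : ∃ x, N x ≠ 0 := by
    by_contra h
    push Not at h
    exact hN0 (LinearMap.ext h)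
  have hpos : 1 ≤ Module.finrank F ↥(K ⊓ R) := by
    obtain ⟨m, hm⟩ := hu
    have hex : ∃ i, (N ^ i) x0 = 0 := ⟨m, by rw [hm]; rfl⟩
    have h2 : 2 ≤ Nat.find hex := by
      by_contra h
      have h0 := Nat.find_spec hex
      interval_cases hi : Nat.find hex
      · exact hx0 (by simp at h0; rw [h0, map_zero])
      · exact hx0 (by simpa using h0)
    obtain ⟨i, hi⟩ := Nat.exists_eq_add_of_le h2
    have h0 := Nat.find_spec hex
    rw [hi, show 2 + i = i + 1 + 1 by omega, pow_succ', Module.End.mul_apply] at h0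
    have hne : (N ^ (i + 1)) x0 ≠ 0 := Nat.find_min hex (by omega)
    refine Submodule.one_le_finrank_iff.mpr fun hb => hne ?_
    have hmem : (N ^ (i + 1)) x0 ∈ K ⊓ R := ⟨h0, (N ^ i) x0, by rw [pow_succ', Module.End.mul_apply]⟩
    rw [hb] at hmem
    simpa using hmem
  have h1 := step hr hk s hs ⊥ (K ⊓ R) bot_le (by rw [finrank_bot]; omega) (fun x hx => by simp at hx; simp [hx])
    (fun x hx => ⟨hsK x hx.1, hsR x hx.2⟩)
  have h2 := step hr hk s hs (K ⊓ R) K inf_le_left (by omega) (fun x hx => ⟨hsK x hx.1, hsR x hx.2⟩) hsK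
  have h3 := step hr hk s hs K (K ⊔ R) le_sup_left (by omega) hsK hsKR
  have hnil : K ⊔ R ≠ ⊤ := by
    intro h
    have hall : ∀ i, R ≤ LinearMap.range (N ^ i) := by
      intro i
      induction i with
      | zero => rw [pow_zero]; intro x _; exact ⟨x, rfl⟩
      | succ i ih =>
        rintro _ ⟨y, rfl⟩
        obtain ⟨a, ha, b, hb, rfl⟩ := Submodule.mem_sup.mp (show y ∈ K ⊔ R by rw [h]; trivial)
        rw [map_add, LinearMap.mem_ker.mp ha, zero_add]
        obtain ⟨c, rfl⟩ := ih hb
        exact ⟨c, by rw [pow_succ', Module.End.mul_apply]⟩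
    obtain ⟨m, hm⟩ := hu
    obtain ⟨c, hc⟩ := hall m ⟨x0, rfl⟩
    rw [hm] at hc
    exact hx0 hc.symm
  have hlt := Submodule.finrank_lt hnil
  have h4 := step hr hk s hs (K ⊔ R) ⊤ le_top (by rw [finrank_top]; omega) hsKR (fun x _ => trivial)
  have hnil4 : (s - 1) ^ 4 = 0 := by
    refine LinearMap.ext fun x => ?_
    have e : ∀ y, (s - 1) y = s y - y := fun y => by simp
    show ((s - 1 : V →ₗ[F] V) ^ 4) x = 0
    simp only [pow_succ', pow_zero, mul_one, Module.End.mul_apply]
    rw [e x, e, e, e]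
    simpa using h1 _ (h2 _ (h3 _ (h4 x trivial)))
  -- a unipotent element of order prime to the characteristic is trivial
  by_contra hs1
  have hne : ∃ y, (s - 1) y ≠ 0 := by
    by_contra h
    push Not at h
    exact hs1 (sub_eq_zero.mp (LinearMap.ext h))
  obtain ⟨y, hy⟩ := hne
  obtain ⟨z, hz, hz2⟩ : ∃ z, (s - 1) z ≠ 0 ∧ (s - 1) ((s - 1) z) = 0 := by
    by_contra h
    push Not at h
    have a1 := h _ hy
    have a2 := h _ a1
    have a3 := h _ a2
    apply a3
    have := LinearMap.congr_fun hnil4 y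
    simpa [pow_succ', Module.End.mul_apply] using this
  have hfix : s (s z - z) = s z - z := by
    simpa [sub_eq_zero] using hz2
  have hpow : ∀ i : ℕ, (s ^ i) z = z + (i : F) • (s z - z) := by
    intro i
    induction i with
    | zero => simp
    | succ i ih =>
      rw [pow_succ', Module.End.mul_apply, ih, map_add, map_smul, hfix, Nat.cast_succ, add_smul, one_smul]
      abel
  have := hpow r
  rw [hs, Module.End.one_apply, left_eq_add] at this
  exact hz (by simpa using (smul_eq_zero.mp this).resolve_left hrF)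

/-- Let F be a finite field of characteristic p, n ≥ 4, and let a, b be commuting elements of PSL(n, F) with a of order p. Then every prime divisor of the order of b divides the order of SL(n − 2, F). -/
theorem result {F : Type*} [Field F] [Fintype F] (p : ℕ) [Fact p.Prime] [CharP F p] (n : ℕ) (hn : 4 ≤ n)
    (a b : Matrix.ProjectiveSpecialLinearGroup (Fin n) F) (ha : orderOf a = p) (hab : Commute a b) :
    (orderOf b).primeFactors ⊆ (Nat.card (Matrix.SpecialLinearGroup (Fin (n - 2)) F)).primeFactors := by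
  classical
  intro r hr
  rw [Nat.mem_primeFactors] at hr ⊢
  obtain ⟨hrp, hrb, -⟩ := hr
  refine ⟨hrp, ?_, Nat.card_pos.ne'⟩
  by_contra hnd
  haveI := Fact.mk hrp
  have hk : ∀ j, j ≤ n - 2 → ¬ r ∣ Nat.card (GL (Fin j) F) := fun j hj => not_dvd_small hrp (by omega) hj hnd
  have hrF : (r : F) ≠ 0 := by
    intro h
    rw [CharP.cast_eq_zero_iff F p, Nat.prime_dvd_prime_iff_eq Fact.out hrp] at h
    subst h
    apply hk 2 (by omega)
    rw [Matrix.card_GL_field, Fin.prod_univ_two]
    refine Dvd.dvd.mul_left ?_ _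
    obtain ⟨e, -, he⟩ := FiniteField.card F p
    rw [he]
    simp only [Fin.val_one, pow_one]
    exact Nat.dvd_sub (dvd_pow (dvd_pow_self p e.ne_zero) two_ne_zero) (dvd_pow_self p e.ne_zero)
  have hrq : ¬ r ∣ Fintype.card F - 1 := fun h => hk 1 (by omega) (by
    rw [Matrix.card_GL_field, Fin.prod_univ_one]; simpa using h)
  let Z := Subgroup.center (Matrix.SpecialLinearGroup (Fin n) F)
  have hcexp : ∀ z ∈ Z, z ^ (Fintype.card F - 1) = 1 := by
    intro z hz
    obtain ⟨c, hc0, hc⟩ := Matrix.SpecialLinearGroup.mem_center_iff.mp hz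
    have hc' : c ≠ 0 := fun h => by rw [h, zero_pow (by simp; omega)] at hc0; exact zero_ne_one hc0
    apply Subtype.ext
    rw [Matrix.SpecialLinearGroup.coe_pow, ← hc, ← map_pow, FiniteField.pow_card_sub_one_eq_one c hc',
      map_one, Matrix.SpecialLinearGroup.coe_one]
  have hlift : ∀ (x : Matrix.ProjectiveSpecialLinearGroup (Fin n) F) (l : ℕ), l.Prime → ¬ l ∣ Fintype.card F - 1 → x ^ l = 1 →
      ∃ y : Matrix.SpecialLinearGroup (Fin n) F, y ^ l = 1 ∧ QuotientGroup.mk y = x := by
    intro x l hl hnd' hx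
    obtain ⟨y, rfl⟩ := QuotientGroup.mk_surjective x
    obtain ⟨i, -, hi⟩ := Nat.exists_mul_mod_eq_one_of_coprime ((hl.coprime_iff_not_dvd.mpr hnd').symm) hl.one_lt
    refine ⟨y ^ ((Fintype.card F - 1) * i), ?_, ?_⟩
    · have hyl : y ^ l ∈ Z := by rw [← QuotientGroup.eq_one_iff, QuotientGroup.mk_pow]; exact hx
      rw [← pow_mul, mul_comm, pow_mul, pow_mul, hcexp _ hyl, one_pow]
    · rw [QuotientGroup.mk_pow, ← Nat.mod_add_div ((Fintype.card F - 1) * i) l, hi, pow_add, pow_mul, hx, one_pow, pow_one, mul_one]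
  obtain ⟨e, -, he⟩ := FiniteField.card F p
  have hpq : ¬ p ∣ Fintype.card F - 1 := fun h => by
    have h1 : p ∣ Fintype.card F := he ▸ dvd_pow_self p e.ne_zero
    have h2 := Nat.dvd_sub h1 h
    rw [Nat.sub_sub_self Fintype.card_pos] at h2
    exact (Fact.out : p.Prime).not_dvd_one h2
  obtain ⟨u, hu, hua⟩ := hlift a p Fact.out hpq (ha ▸ pow_orderOf_eq_one a)
  set b0 := b ^ (orderOf b / r) with hb0
  have hb0r : b0 ^ r = 1 := by rw [← pow_mul, Nat.div_mul_cancel hrb, pow_orderOf_eq_one]
  obtain ⟨s, hs, hsb⟩ := hlift b0 r hrp hrq hb0r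
  obtain ⟨c, hc⟩ : ∃ c : F, ((s * u : Matrix.SpecialLinearGroup (Fin n) F) : Matrix (Fin n) (Fin n) F) =
      c • ((u * s : Matrix.SpecialLinearGroup (Fin n) F) : Matrix (Fin n) (Fin n) F) := by
    have h1 : s * u * (u * s)⁻¹ ∈ Z := by
      rw [← QuotientGroup.eq_one_iff, QuotientGroup.mk_mul, QuotientGroup.mk_mul, QuotientGroup.mk_inv, QuotientGroup.mk_mul,
        hua, hsb, (hab.pow_right _).eq, mul_inv_cancel]
    obtain ⟨c, -, hc⟩ := Matrix.SpecialLinearGroup.mem_center_iff.mp h1
    refine ⟨c, ?_⟩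
    conv_lhs => rw [show s * u = s * u * (u * s)⁻¹ * (u * s) by rw [inv_mul_cancel_right]]
    rw [Matrix.SpecialLinearGroup.coe_mul, ← hc, Matrix.scalar_apply, ← Matrix.smul_one_eq_diagonal, smul_mul_assoc, one_mul]
  let f : Matrix.SpecialLinearGroup (Fin n) F →* ((Fin n → F) →ₗ[F] (Fin n → F)) :=
    { toFun := fun g => Matrix.toLinAlgEquiv' (g : Matrix (Fin n) (Fin n) F)
      map_one' := by simp
      map_mul' := fun g h => by simp }
  have hfinj : Function.Injective f := fun g h e => Subtype.ext ((Matrix.toLinAlgEquiv' (R := F) (n := Fin n)).injective e)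
  have hsu : f (s * u) = c • f (u * s) := by
    show Matrix.toLinAlgEquiv' ((s * u : Matrix.SpecialLinearGroup (Fin n) F) : Matrix (Fin n) (Fin n) F) = _
    rw [hc, map_smul]
    rfl
  haveI : CharP ((Fin n → F) →ₗ[F] (Fin n → F)) p := by
    haveI : Nontrivial (Fin n → F) := by
      haveI : Nonempty (Fin n) := ⟨⟨0, by omega⟩⟩
      infer_instance
    exact charP_of_injective_algebraMap (algebraMap F ((Fin n → F) →ₗ[F] (Fin n → F))).injective p
  have hfu : f u ^ p = 1 := by rw [← map_pow, hu, map_one]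
  have hcmul : ∀ x, f s (f u x) = c • f u (f s x) := fun x => by
    have := LinearMap.congr_fun hsu x
    simpa [map_mul] using this
  have hcone : c = 1 := by
    have hconj : ∀ (i : ℕ) x, f s ((f u ^ i) x) = c ^ i • (f u ^ i) (f s x) := by
      intro i
      induction i with
      | zero => intro x; simp
      | succ i ih =>
        intro x
        rw [pow_succ', Module.End.mul_apply, hcmul, ih, map_smul, smul_smul, Module.End.mul_apply, ← pow_succ']
    have h1 : ∀ x, f s x = c ^ p • f s x := fun x => by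
      have := hconj p x
      rwa [hfu, Module.End.one_apply, Module.End.one_apply] at this
    obtain ⟨x, hx⟩ : ∃ x, f s x ≠ 0 := by
      refine ⟨f s⁻¹ (Pi.single ⟨0, by omega⟩ 1), ?_⟩
      rw [← Module.End.mul_apply, ← map_mul, mul_inv_cancel, map_one, Module.End.one_apply]
      simp
    have hcp : c ^ p = 1 := by
      have := h1 x
      rw [eq_comm, ← sub_eq_zero, ← one_smul F (f s x), smul_smul, ← sub_smul, smul_eq_zero] at this
      simpa [sub_eq_zero, hx] using this
    have : (c - 1) ^ p = 0 := by rw [sub_pow_char, hcp, one_pow, sub_self]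
    exact sub_eq_zero.mp (pow_eq_zero_iff (Fact.out : p.Prime).ne_zero |>.mp this)
  have hfin : f s = 1 := by
    refine eq_one hrp hrF hn (Module.finrank_fin_fun F) hk (f u) (f s) ⟨p, ?_⟩ ?_ ?_ (by rw [← map_pow, hs, map_one])
    · rw [sub_pow_char_of_commute p (Commute.one_right _), hfu, one_pow, sub_self]
    · intro h
      have : u = 1 := hfinj (h.trans (map_one f).symm)
      rw [this, QuotientGroup.mk_one] at hua
      rw [← hua, orderOf_one] at ha
      exact (Fact.out : p.Prime).one_lt.ne ha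
    · exact LinearMap.ext fun x => by rw [Module.End.mul_apply, Module.End.mul_apply, hcmul, hcone, one_smul]
  have hs1 : s = 1 := hfinj (hfin.trans (map_one f).symm)
  rw [hs1, QuotientGroup.mk_one] at hsb
  have hpos : 0 < orderOf b := orderOf_pos b
  have h1 : orderOf b ∣ orderOf b / r := orderOf_dvd_of_pow_eq_one hsb.symm
  have h2 : orderOf b / r < orderOf b := Nat.div_lt_self hpos hrp.one_lt
  have h3 : 0 < orderOf b / r := Nat.div_pos (Nat.le_of_dvd hpos hrb) hrp.pos
  exact absurd (Nat.le_of_dvd h3 h1) (by omega)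

end Cfsg.Agent.S2364
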