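import Mathlib
import Cfsg.Statements.S2381
import Cfsg.Agent.Lib.Classical.SylowLargePrime
import Cfsg.Agent.Lib.Classical.ClassicalOrders
import Cfsg.Agent.Lib.Classical.SympEmbed

set_option autoImplicit false
set_option maxHeartbeats 800000
open Cfsg

namespace Cfsg.Agent.S2381

open Cfsg.Lib.SylowLargePrime

universe u
variable {F : Type u} [Field F]

/-- a power of a group acting on a symplectic block -/
lemma blocks {C W : Type*} [Group C] [AddCommGroup W] [Module F W] [FiniteDimensional F W] (w k n : ℕ)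
    (hW : Module.finrank F W = 2 * w) (hle : k * w ≤ n)
    (B : LinearMap.BilinForm F W) (hA : B.IsAlt) (hB : ∀ x : W, x ≠ 0 → ∃ y, B x y ≠ 0)
    (ρ : C →* (W →ₗ[F] W)) (hρ : Function.Injective ρ) (hiso : ∀ g x y, B (ρ g x) (ρ g y) = B x y) :
    ∃ φ : (Fin k → C) →* ↥(Matrix.symplecticGroup (Fin n) F), Function.Injective φ := by
  classical
  let P : (F × F) →ₗ[F] (F × F) →ₗ[F] F :=
    LinearMap.mk₂ F (fun x y => x.1 * y.2 - x.2 * y.1)
      (fun a b c => by simp; ring) (fun a b c => by simp; ring) (fun a b c => by simp; ring) (fun a b c => by simp; ring)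
  let m := n - k * w
  let Bt : LinearMap.BilinForm F ((Fin k → W) × (Fin m → F × F)) :=
    LinearMap.mk₂ F (fun x y => (∑ i, B (x.1 i) (y.1 i)) + ∑ j, P (x.2 j) (y.2 j))
      (fun a b c => by simp [Finset.sum_add_distrib]; ring)
      (fun a b c => by simp [Finset.mul_sum, mul_add])
      (fun a b c => by simp [Finset.sum_add_distrib]; ring)
      (fun a b c => by simp [Finset.mul_sum, mul_add])
  refine Cfsg.Agent.SympEmbed.exists_embed n ?_ Bt (fun x => ?_) ?_
    { toFun := fun g : Fin k → C => (LinearMap.pi fun i => (ρ (g i)).comp (LinearMap.proj i)).prodMap LinearMap.id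
      map_one' := LinearMap.ext fun x => Prod.ext (funext fun i => by simp) rfl
      map_mul' := fun g h => LinearMap.ext fun x => Prod.ext (funext fun i => by simp) rfl } ?_ ?_
  · rw [Module.finrank_prod, Module.finrank_pi_fintype, Module.finrank_pi_fintype]
    simp only [hW, Module.finrank_prod, Module.finrank_self, Finset.sum_const, Finset.card_univ, Fintype.card_fin,
      smul_eq_mul, m]
    obtain ⟨d, hd⟩ := Nat.le.dest hle
    rw [← hd, Nat.add_sub_cancel_left]; ring
  · show (∑ i, B (x.1 i) (x.1 i)) + ∑ j, P (x.2 j) (x.2 j) = 0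
    have h2 : ∀ j, P (x.2 j) (x.2 j) = 0 := fun j => by simp [P, mul_comm]
    simp [fun i => hA (x.1 i), h2]
  · intro x hx
    by_cases h1 : x.1 = 0
    · obtain ⟨j, hj⟩ := Function.ne_iff.mp (show x.2 ≠ 0 from fun h => hx (Prod.ext h1 h))
      have : ∃ y : F × F, P (x.2 j) y ≠ 0 := by
        by_cases ha : (x.2 j).1 = 0
        · refine ⟨(1, 0), ?_⟩
          have : (x.2 j).2 ≠ 0 := fun hb => hj (Prod.ext ha hb)
          simpa [P, ha] using this
        · exact ⟨(0, 1), by simpa [P] using ha⟩
      obtain ⟨y, hy⟩ := this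
      refine ⟨(0, Pi.single j y), ?_⟩
      show (∑ i, B (x.1 i) 0) + ∑ l, P (x.2 l) ((Pi.single j y : Fin m → F × F) l) ≠ 0
      rw [Finset.sum_eq_single j (fun l _ hl => by rw [Pi.single_eq_of_ne hl, map_zero]) (by simp), Pi.single_eq_same]
      simpa using hy
    · obtain ⟨i, hi⟩ := Function.ne_iff.mp h1
      obtain ⟨y, hy⟩ := hB _ hi
      refine ⟨(Pi.single i y, 0), ?_⟩
      show (∑ l, B (x.1 l) ((Pi.single i y : Fin k → W) l)) + ∑ j, P (x.2 j) 0 ≠ 0
      rw [Finset.sum_eq_single i (fun l _ hl => by rw [Pi.single_eq_of_ne hl, map_zero]) (by simp), Pi.single_eq_same]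
      simpa using hy
  · intro g h he
    funext i
    refine hρ (LinearMap.ext fun v => ?_)
    have := congrArg (fun f : _ →ₗ[F] _ => (f (Pi.single i v, 0)).1 i) he
    simpa using this
  · intro g x y
    show (∑ i, B (ρ (g i) (x.1 i)) (ρ (g i) (y.1 i))) + ∑ j, P (x.2 j) (y.2 j) = _
    simp [hiso, Bt]

variable [Fintype F] {q : ℕ}

lemma exists_hom (hF : Fintype.card F = q) (n r : ℕ) [Fact r.Prime] (hr2 : r ≠ 2) (hrq : ¬ r ∣ q) :
    ∃ φ : (Fin ((Finset.Icc 1 n).filter (fun i => orderOf (q : ZMod r) ∣ 2 * i)).card → Multiplicative (ZMod (r ^ ap q r))) →*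
      ↥(Matrix.symplecticGroup (Fin n) F), Function.Injective φ := by
  classical
  have hq : 2 ≤ q := hF ▸ Fintype.one_lt_card
  set e := orderOf (q : ZMod r) with he
  have he0 : 0 < e := ord_pos hrq
  haveI : NeZero e := ⟨he0.ne'⟩
  obtain ⟨p, hcp⟩ := CharP.exists F
  haveI : Fact p.Prime := ⟨CharP.char_is_prime F p⟩
  set K := FiniteField.Extension F p e
  haveI : Fintype K := Fintype.ofFinite K
  haveI : Module.Finite F K := Module.Finite.of_finite
  have hfr : Module.finrank F K = e := FiniteField.finrank_extension F p e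
  have hcard : Nat.card Kˣ = q ^ e - 1 := by
    rw [Nat.card_units, Nat.card_eq_fintype_card, Module.card_eq_pow_finrank (K := F) (V := K), hfr, hF]
  obtain ⟨θ, hθ⟩ := exists_zmod_hom (M := Kˣ) (R := r ^ ap q r) (hcard ▸ ap_dvd hq hrq)
  have hIcc : Finset.Icc 1 n = Finset.Ioc 0 n := by ext x; simp; omega
  have hne : ∀ y : K, y ≠ 0 → ∃ z, Algebra.trace F K (y * z) ≠ 0 := by
    intro y hy
    obtain ⟨w, hw⟩ := Algebra.trace_surjective F K 1
    exact ⟨y⁻¹ * w, by rw [← mul_assoc, mul_inv_cancel₀ hy, one_mul, hw]; exact one_ne_zero⟩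
  rcases Nat.even_or_odd e with hev | hodd
  · obtain ⟨f, hf⟩ := hev
    have hf0 : 0 < f := by omega
    have hcnt : ((Finset.Icc 1 n).filter (fun i => e ∣ 2 * i)).card = n / f := by
      rw [hIcc, ← Nat.Ioc_filter_dvd_card_eq_div]
      congr 1
      apply Finset.filter_congr
      intro i _
      rw [hf, ← two_mul, Nat.mul_dvd_mul_iff_left (by norm_num)]
    rw [hcnt]
    let σ : K ≃ₐ[F] K := (FiniteField.frobeniusAlgEquivOfAlgebraic F K) ^ f
    have hσ : ∀ x : K, σ x = x ^ (q ^ f) := by
      intro x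
      have := congrFun (FiniteField.coe_frobeniusAlgEquivOfAlgebraic_iterate (K := F) (L := K) f) x
      rw [hF] at this
      rw [show σ x = (⇑(FiniteField.frobeniusAlgEquivOfAlgebraic F K))^[f] x from congrFun (AlgEquiv.coe_pow _ _) x]
      exact this
    have hσσ : ∀ x : K, σ (σ x) = x := by
      intro x
      have hc : Fintype.card K = q ^ f * q ^ f := by
        rw [Module.card_eq_pow_finrank (K := F) (V := K), hfr, hF, hf, pow_add]
      rw [hσ, hσ, ← pow_mul, ← hc, FiniteField.pow_card]
    obtain ⟨γ, hγ⟩ := IsCyclic.exists_ofOrder_eq_natCard (α := Kˣ)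
    have hσne : σ (γ : K) ≠ γ := by
      intro h
      rw [hσ] at h
      have h2 : 2 ≤ q ^ f := hq.trans (Nat.le_self_pow hf0.ne' q)
      have h1 : γ ^ (q ^ f - 1) = 1 := by
        apply Units.ext
        apply mul_right_cancel₀ γ.ne_zero
        rw [Units.val_pow_eq_pow_val, ← pow_succ, Units.val_one, one_mul, show q ^ f - 1 + 1 = q ^ f by omega, h]
      have := Nat.le_of_dvd (by omega) (orderOf_dvd_of_pow_eq_one h1)
      rw [hγ, hcard, hf, pow_add] at this
      have h3 : q ^ f * 2 ≤ q ^ f * q ^ f := Nat.mul_le_mul_left _ h2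
      omega
    set c : K := (γ : K) - σ γ with hc
    have hc0 : c ≠ 0 := sub_ne_zero.mpr (Ne.symm hσne)
    let B : LinearMap.BilinForm F K :=
      LinearMap.mk₂ F (fun a b => Algebra.trace F K (c * (a * σ b)))
        (fun a b d => by simp [add_mul, mul_add]) (fun a b d => by simp)
        (fun a b d => by simp [mul_add]) (fun a b d => by simp)
    refine blocks f (n / f) n (by rw [hfr, hf, two_mul]) (Nat.div_mul_le_self n f) B ?_ ?_
      ((Algebra.lmul F K : K →ₐ[F] Module.End F K).toMonoidHom.comp ((Units.coeHom K).comp θ)) ?_ ?_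
    · intro a
      show Algebra.trace F K (c * (a * σ a)) = 0
      have : c * (a * σ a) = (γ : K) * (a * σ a) - σ ((γ : K) * (a * σ a)) := by
        rw [map_mul, map_mul, hσσ, hc]; ring
      rw [this, map_sub, Algebra.trace_eq_of_algEquiv, sub_self]
    · intro a ha
      obtain ⟨z, hz⟩ := hne (c * a) (mul_ne_zero hc0 ha)
      refine ⟨σ z, ?_⟩
      show Algebra.trace F K (c * (a * σ (σ z))) ≠ 0
      rwa [hσσ, ← mul_assoc]
    · intro u v h
      apply hθ
      apply Units.ext
      have := congrArg (fun g : K →ₗ[F] K => g 1) h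
      simpa using this
    · intro g a b
      show Algebra.trace F K (c * (((θ g : Kˣ) : K) * a * σ (((θ g : Kˣ) : K) * b))) = Algebra.trace F K (c * (a * σ b))
      congr 2
      set x : K := ((θ g : Kˣ) : K)
      have hx : x * σ x = 1 := by
        rw [hσ, ← pow_succ', ← Units.val_pow_eq_pow_val]
        have hord : orderOf (θ g) ∣ q ^ f + 1 := by
          have h1 : orderOf (θ g) ∣ r ^ ap q r :=
            (orderOf_map_dvd θ g).trans (by simpa [Nat.card_zmod] using orderOf_dvd_natCard g)
          have h2 : Nat.Coprime (r ^ ap q r) (q ^ f - 1) := by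
            refine Nat.Coprime.pow_left _ ((Fact.out : r.Prime).coprime_iff_not_dvd.mpr fun h => ?_)
            have := Nat.le_of_dvd hf0 ((dvd_pow_sub_one_iff (by omega) f).mp h)
            omega
          have h3 : r ^ ap q r ∣ (q ^ f - 1) * (q ^ f + 1) := by
            have h := ap_dvd (r := r) hq hrq
            rw [← he, hf] at h
            convert h using 1
            have e2 := Nat.sq_sub_sq (q ^ f) 1
            rw [one_pow, sq, ← pow_add] at e2
            rw [e2, mul_comm]
          exact h1.trans (h2.dvd_of_dvd_mul_left h3)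
        rw [orderOf_dvd_iff_pow_eq_one.mp hord, Units.val_one]
      rw [map_mul]
      linear_combination (a * σ b) * hx
  · have hcnt : ((Finset.Icc 1 n).filter (fun i => e ∣ 2 * i)).card = n / e := by
      rw [hIcc, ← Nat.Ioc_filter_dvd_card_eq_div]
      congr 1
      apply Finset.filter_congr
      intro i _
      exact ⟨fun h => (Nat.Coprime.dvd_of_dvd_mul_left (Nat.coprime_two_right.mpr hodd) h), fun h => h.mul_left 2⟩
    rw [hcnt]
    let B : LinearMap.BilinForm F (K × K) :=
      LinearMap.mk₂ F (fun x y => Algebra.trace F K (x.1 * y.2 - x.2 * y.1))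
        (fun a b d => by simp [add_mul]; ring) (fun a b d => by simp [← smul_sub])
        (fun a b d => by simp [mul_add]; ring) (fun a b d => by simp [← smul_sub])
    let L : Kˣ →* (K × K →ₗ[F] K × K) :=
      { toFun := fun x => (Algebra.lmul F K (x : K)).prodMap (Algebra.lmul F K ((x⁻¹ : Kˣ) : K))
        map_one' := LinearMap.ext fun v => Prod.ext (by simp) (by simp)
        map_mul' := fun x y => LinearMap.ext fun v => Prod.ext (by simp [mul_assoc]) (by simp [mul_assoc, mul_comm, mul_left_comm]) }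
    refine blocks e (n / e) n (by rw [Module.finrank_prod, hfr, two_mul]) (Nat.div_mul_le_self n e) B ?_ ?_
      (L.comp θ) ?_ ?_
    · intro a
      show Algebra.trace F K (a.1 * a.2 - a.2 * a.1) = 0
      rw [mul_comm, sub_self, map_zero]
    · intro a ha
      by_cases h1 : a.1 = 0
      · have h2 : a.2 ≠ 0 := fun h => ha (Prod.ext h1 h)
        obtain ⟨z, hz⟩ := hne (-a.2) (neg_ne_zero.mpr h2)
        refine ⟨(z, 0), ?_⟩
        show Algebra.trace F K (a.1 * 0 - a.2 * z) ≠ 0
        rwa [mul_zero, zero_sub, ← neg_mul]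
      · obtain ⟨z, hz⟩ := hne a.1 h1
        refine ⟨(0, z), ?_⟩
        show Algebra.trace F K (a.1 * z - a.2 * 0) ≠ 0
        rwa [mul_zero, sub_zero]
    · intro u v h
      apply hθ
      apply Units.ext
      have := congrArg (fun g : (K × K) →ₗ[F] K × K => (g (1, 0)).1) h
      simpa [L] using this
    · intro g a b
      show Algebra.trace F K (((θ g : Kˣ) : K) * a.1 * ((((θ g)⁻¹ : Kˣ) : K) * b.2) -
        (((θ g)⁻¹ : Kˣ) : K) * a.2 * (((θ g : Kˣ) : K) * b.1)) = Algebra.trace F K (a.1 * b.2 - a.2 * b.1)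
      congr 1
      linear_combination (a.1 * b.2 - a.2 * b.1) * (θ g).mul_inv

/-- Sylow subgroups of `Sp_{2n}(q)` for large primes. Let `F` be a field with `q` elements and `r` an odd prime with `r > n` and `r ∤ q` (so `r` does not divide the order `2^n n!` of the Weyl group). Let `d` be the multiplicative order of `q` modulo `r`, `a` the number of `i` with `1 ≤ i ≤ n` and `d ∣ 2i` (the degrees being `2, 4, …, 2n`), and `m` the `r`-part of the value at `q` of the `d`-th cyclotomic polynomial. Then every Sylow `r`-subgroup of the symplectic group `Sp_{2n}(q)` is a direct product of `a` cyclic groups of order `m`. -/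
theorem result {F : Type*} [Field F] [Fintype F] {q : ℕ} (hq : Fintype.card F = q) (n : ℕ)
    (r : ℕ) [Fact r.Prime] (hr2 : r ≠ 2) (hrn : n < r) (hrq : ¬ r ∣ q) (P : Sylow r ↥(Matrix.symplecticGroup (Fin n) F)) :
    Nonempty (↥(P : Subgroup ↥(Matrix.symplecticGroup (Fin n) F)) ≃*
      (Fin ((Finset.Icc 1 n).filter (fun i => orderOf (q : ZMod r) ∣ 2 * i)).card →
        Multiplicative (ZMod (r ^ padicValNat r ((Polynomial.cyclotomic (orderOf (q : ZMod r)) ℤ).eval (q : ℤ)).natAbs)))) := by
  classical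
  have hq2 : 2 ≤ q := hq ▸ Fintype.one_lt_card
  obtain ⟨φ, hφ⟩ := exists_hom hq n r hr2 hrq
  refine sylow_equiv φ hφ ?_ P
  have hr : r.Prime := Fact.out
  rw [Nat.card_fun, Nat.card_fin, Nat.card_congr Multiplicative.toAdd, Nat.card_zmod, ← pow_mul,
    Cfsg.Lib.Classical.ClassicalOrders.card_sp hq n]
  congr 1
  have hterm : ∀ i ∈ Finset.range n, (q ^ (2 * (i + 1)) - 1).factorization r =
      if orderOf (q : ZMod r) ∣ 2 * (i + 1) then ap q r else 0 := by
    intro i hi
    rw [Finset.mem_range] at hi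
    rw [Nat.factorization_def _ hr]
    exact val_pow hq2 hrq (by omega) (fun h => by
      rcases hr.dvd_mul.mp h with h | h
      · exact hr2 ((Nat.prime_dvd_prime_iff_eq hr Nat.prime_two).mp h)
      · have := Nat.le_of_dvd (by omega) h; omega)
  have hne : ∀ i ∈ Finset.range n, q ^ (2 * (i + 1)) - 1 ≠ 0 := fun i _ => by
    have : 2 ≤ q ^ (2 * (i + 1)) := hq2.trans (Nat.le_self_pow (by omega) q)
    omega
  rw [padicValNat.mul (by positivity) (Finset.prod_ne_zero_iff.mpr hne),
    padicValNat.eq_zero_of_not_dvd (fun h => hrq (hr.dvd_of_dvd_pow h)), zero_add, ← Nat.factorization_def _ hr,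
    Nat.factorization_prod hne, Finsupp.coe_finsetSum, Finset.sum_apply, Finset.sum_congr rfl hterm,
    Finset.sum_ite, Finset.sum_const_zero, add_zero, Finset.sum_const, smul_eq_mul, mul_comm]
  congr 1
  refine Finset.card_bij (fun i _ => i - 1) ?_ ?_ ?_
  · intro i hi
    simp only [Finset.mem_filter, Finset.mem_Icc] at hi
    simp only [Finset.mem_filter, Finset.mem_range]
    exact ⟨by omega, by rw [show i - 1 + 1 = i by omega]; exact hi.2⟩
  · intro a ha b hb h
    simp only [Finset.mem_filter, Finset.mem_Icc] at ha hb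
    omega
  · intro x hx
    simp only [Finset.mem_filter, Finset.mem_range] at hx
    exact ⟨x + 1, by simp only [Finset.mem_filter, Finset.mem_Icc]; exact ⟨by omega, hx.2⟩, by omega⟩

end Cfsg.Agent.S2381
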