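import Cfsg.Statements.S2468
import Mathlib

set_option autoImplicit false
open Cfsg

namespace Cfsg.Agent.S2468

open Matrix

variable {F : Type*} [Field F] [Fintype F] {V : Type*} [AddCommGroup V] [Module F V] [FiniteDimensional F V]

/-- The image of `f - 1` carries no fixed vector when `f` has order prime to the characteristic. -/
theorem eq_zero_of_fixed {r : ℕ} (hrF : (r : F) ≠ 0) (f : Module.End F V) (hf : f ^ r = 1) (x : V)
    (hx : f ((f - 1) x) = (f - 1) x) : (f - 1) x = 0 := by
  have hpow : ∀ i : ℕ, (f ^ i) x = x + (i : F) • (f - 1) x := by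
    intro i
    induction i with
    | zero => simp
    | succ i ih =>
      rw [pow_succ', Module.End.mul_apply, ih, map_add, map_smul, hx, Nat.cast_succ, add_smul, one_smul,
        show f x = x + (f - 1) x by simp]
      abel
  have h := hpow r
  rw [hf, Module.End.one_apply, left_eq_add, smul_eq_zero] at h
  exact h.resolve_left hrF

/-- A subspace on which an element of order `r` has no nonzero fixed vector. -/
theorem dvd_card_sub_one {r : ℕ} [Fact r.Prime] (f : Module.End F V) (hf : f ^ r = 1) (W : Submodule F V)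
    (hW : ∀ x ∈ W, f x ∈ W) (hfix : ∀ x ∈ W, f x = x → x = 0) :
    r ∣ Fintype.card F ^ Module.finrank F W - 1 := by
  classical
  haveI : Finite V := Module.finite_of_finite F
  haveI : Fintype W := Fintype.ofFinite W
  let g : Function.End W := fun x => ⟨f x, hW x x.2⟩
  have hg : ∀ (i : ℕ) (x : W), (((g ^ i) x : W) : V) = (f ^ i) x := by
    intro i
    induction i with
    | zero => intro x; rfl
    | succ i ih =>
      intro x
      rw [pow_succ', pow_succ', Module.End.mul_apply, ← ih x]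
      rfl
  have h := Equiv.Perm.card_fixedPoints_modEq (p := r) (n := 1) (f := g)
    (funext fun x => Subtype.ext (by rw [pow_one, hg, hf]; rfl))
  have h1 : Fintype.card g.fixedPoints = 1 := Fintype.card_eq_one_iff.mpr
    ⟨⟨0, Subtype.ext (by simp [g])⟩, fun y => Subtype.ext (Subtype.ext (hfix _ y.1.2 (congrArg Subtype.val y.2)))⟩
  rw [h1, Module.card_eq_pow_finrank (K := F) (V := W)] at h
  exact (Nat.modEq_iff_dvd' (Nat.one_le_pow _ _ Fintype.card_pos)).mp h.symm

/-- Two commuting elements of orders `r` and `s` need enough room. -/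
theorem bound {r s : ℕ} [Fact r.Prime] [Fact s.Prime] (hrF : (r : F) ≠ 0) (hsF : (s : F) ≠ 0) {k l n : ℕ} (hn : Module.finrank F V = n)
    (hk : ∀ i, r ∣ Fintype.card F ^ i - 1 → k ∣ i) (hl : ∀ i, s ∣ Fintype.card F ^ i - 1 → l ∣ i)
    (hkl : k ≤ l) (a b : Module.End F V) (ha : a ^ r = 1) (hb : b ^ s = 1) (ha1 : a ≠ 1) (hb1 : b ≠ 1)
    (hab : Commute a b) : k + l ≤ n ∨ k ∣ l := by
  by_cases hdiv : k ∣ l
  · exact Or.inr hdiv
  left
  have hfa := eq_zero_of_fixed hrF a ha
  have hfb := eq_zero_of_fixed hsF b hb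
  have hinv : ∀ (f g : Module.End F V), Commute f g → ∀ x ∈ LinearMap.range g, f x ∈ LinearMap.range g := by
    rintro f g h _ ⟨y, rfl⟩
    exact ⟨f y, (LinearMap.congr_fun h.eq y).symm⟩
  have hpos : ∀ (f : Module.End F V), f ≠ 0 → 0 < Module.finrank F (LinearMap.range f) := fun f hf => by
    rw [Nat.pos_iff_ne_zero, Ne, Submodule.finrank_eq_zero, LinearMap.range_eq_bot]
    exact hf
  set A := a - 1 with hA
  set B := b - 1 with hB
  have haA : Commute a A := (Commute.refl a).sub_right (Commute.one_right a)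
  have hbB : Commute b B := (Commute.refl b).sub_right (Commute.one_right b)
  have haB : Commute a B := hab.sub_right (Commute.one_right a)
  have hbA : Commute b A := hab.symm.sub_right (Commute.one_right b)
  have hAB : Commute A B := by rw [hA]; exact haB.sub_left (Commute.one_left B)
  by_cases h0 : A * B = 0
  · -- the two supports are independent
    have hA0 : A ≠ 0 := sub_ne_zero.mpr ha1
    have hB0 : B ≠ 0 := sub_ne_zero.mpr hb1
    have hk1 := Nat.le_of_dvd (hpos A hA0) (hk _ (dvd_card_sub_one a ha _ (hinv a A haA)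
      (by rintro _ ⟨y, rfl⟩ h; exact hfa y h)))
    have hl1 := Nat.le_of_dvd (hpos B hB0) (hl _ (dvd_card_sub_one b hb _ (hinv b B hbB)
      (by rintro _ ⟨y, rfl⟩ h; exact hfb y h)))
    have hdisj : LinearMap.range A ⊓ LinearMap.range B = ⊥ := by
      rw [eq_bot_iff]
      rintro _ ⟨⟨y, rfl⟩, z, hz⟩
      have h1 : A (A y) = 0 := by
        rw [← hz, ← Module.End.mul_apply, h0, LinearMap.zero_apply]
      exact hfa y (sub_eq_zero.mp (by simpa [hA] using h1))
    have h2 := Submodule.finrank_sup_add_finrank_inf_eq (LinearMap.range A) (LinearMap.range B)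
    rw [hdisj, finrank_bot, add_zero] at h2
    have h3 := Submodule.finrank_le (LinearMap.range A ⊔ LinearMap.range B)
    omega
  · -- both act without fixed points on the common support
    have hle := Submodule.finrank_le (LinearMap.range (A * B))
    have hd := hpos _ h0
    have hk1 := hk _ (dvd_card_sub_one a ha _ (hinv a _ (haA.mul_right haB))
      (by rintro _ ⟨y, rfl⟩ h; exact hfa (B y) h))
    have hl1 := hl _ (dvd_card_sub_one b hb _ (hinv b _ (hbA.mul_right hbB))
      (by
        rintro _ ⟨y, rfl⟩ h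
        rw [hAB.eq] at h ⊢
        exact hfb (A y) h))
    obtain ⟨c, hc⟩ := hl1
    have hc2 : 2 ≤ c := by
      rcases c with _ | _ | c
      · rw [mul_zero] at hc; omega
      · simp only [zero_add, mul_one] at hc; rw [hc] at hk1; exact absurd hk1 hdiv
      · omega
    nlinarith

omit V [FiniteDimensional F V] in
theorem le_of_dvd_card_GL {r k m : ℕ} (hr : r.Prime) (hrq : ¬ r ∣ Fintype.card F) (hk : ∀ i, r ∣ Fintype.card F ^ i - 1 → k ∣ i)
    (h : r ∣ Nat.card (GL (Fin m) F)) : k ≤ m := by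
  rw [Matrix.card_GL_field] at h
  obtain ⟨i, -, hi⟩ := (hr.prime.dvd_finsetProd_iff _).mp h
  rw [show Fintype.card F ^ m - Fintype.card F ^ (i : ℕ) = Fintype.card F ^ (i : ℕ) * (Fintype.card F ^ (m - i) - 1) by
    rw [Nat.mul_sub, mul_one, ← pow_add, Nat.add_sub_cancel' i.2.le]] at hi
  rcases hr.dvd_mul.mp hi with h | h
  · exact absurd (hr.dvd_of_dvd_pow h) hrq
  · exact (Nat.le_of_dvd (by omega) (hk _ h)).trans (Nat.sub_le _ _)

omit V [FiniteDimensional F V] in
theorem dvd_card_GL {r k m : ℕ} (hk1 : 1 ≤ k) (hkm : k ≤ m) (h : r ∣ Fintype.card F ^ k - 1) : r ∣ Nat.card (GL (Fin m) F) := by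
  rw [Matrix.card_GL_field]
  refine ((h.mul_left (Fintype.card F ^ (m - k))).trans ?_)
  rw [Nat.mul_sub, mul_one, ← pow_add, Nat.sub_add_cancel hkm]
  exact Finset.dvd_prod_of_mem (fun i : Fin m => Fintype.card F ^ m - Fintype.card F ^ (i : ℕ)) (Finset.mem_univ (⟨m - k, by omega⟩ : Fin m))

/-- Adjacency of two odd primes in the prime graph of PSL(n,q): let F be a finite field of characteristic p with q elements, n ≥ 2 with PSL(n,F) simple, and let r ≠ s be odd primes different from p dividing the order of PSL(n,F). Let k and l be the multiplicative orders of q modulo r and modulo s, and suppose 2 ≤ k ≤ l. Then PSL(n,F) has NO element of order r·s if and only if k + l > n and k does not divide l. -/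
theorem result {F : Type*} [Field F] [Fintype F] (p : ℕ) [Fact p.Prime] [CharP F p] (n : ℕ) (hn : 2 ≤ n) (hsmall : n = 2 → 4 ≤ Fintype.card F)
    (r s : ℕ) (hr : r.Prime) (hs : s.Prime) (hr2 : r ≠ 2) (hs2 : s ≠ 2) (hrp : r ≠ p) (hsp : s ≠ p) (hrs : r ≠ s)
    (hrG : r ∣ Nat.card (Matrix.ProjectiveSpecialLinearGroup (Fin n) F)) (hsG : s ∣ Nat.card (Matrix.ProjectiveSpecialLinearGroup (Fin n) F))
    (k l : ℕ) (hk : k = orderOf ((Fintype.card F : ℕ) : ZMod r)) (hl : l = orderOf ((Fintype.card F : ℕ) : ZMod s))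
    (h2k : 2 ≤ k) (hkl : k ≤ l) :
    (r * s ∉ Set.range (orderOf : Matrix.ProjectiveSpecialLinearGroup (Fin n) F → ℕ)) ↔ (n < k + l ∧ ¬ k ∣ l) := by
  classical
  haveI := Fact.mk hr
  haveI := Fact.mk hs
  have hp : p.Prime := Fact.out
  set q := Fintype.card F with hq
  have hq1 : 1 ≤ q := Fintype.card_pos
  obtain ⟨e, -, he⟩ := FiniteField.card F p
  have hndq : ∀ {r : ℕ}, r.Prime → r ≠ p → ¬ r ∣ q := fun {r} hr hrp h => by
    rw [hq, he] at h
    exact hrp ((Nat.prime_dvd_prime_iff_eq hr hp).mp (hr.dvd_of_dvd_pow h))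
  have hne : ∀ {r : ℕ}, r.Prime → r ≠ p → (r : F) ≠ 0 := fun {r} hr hrp h => by
    rw [CharP.cast_eq_zero_iff F p, Nat.prime_dvd_prime_iff_eq hp hr] at h
    exact hrp h.symm
  have hdvd : ∀ {r k : ℕ} [Fact r.Prime], k = orderOf ((q : ℕ) : ZMod r) → ∀ i, (r ∣ q ^ i - 1 ↔ k ∣ i) := by
    intro r k _ hk i
    rw [hk, orderOf_dvd_iff_pow_eq_one, ← ZMod.natCast_eq_zero_iff, Nat.cast_sub (Nat.one_le_pow _ _ hq1), sub_eq_zero, Nat.cast_pow, Nat.cast_one]
  have hr1 : ¬ r ∣ q - 1 := fun h => by
    have := Nat.le_of_dvd one_pos ((hdvd hk 1).mp (by rwa [pow_one]))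
    omega
  have hs1 : ¬ s ∣ q - 1 := fun h => by
    have := Nat.le_of_dvd one_pos ((hdvd hl 1).mp (by rwa [pow_one]))
    omega
  have hcopq : Nat.Coprime (r * s) (q - 1) :=
    Nat.Coprime.mul_left (hr.coprime_iff_not_dvd.mpr hr1) (hs.coprime_iff_not_dvd.mpr hs1)
  let Z := Subgroup.center (SpecialLinearGroup (Fin n) F)
  have hcexp : ∀ z ∈ Z, z ^ (q - 1) = 1 := by
    intro z hz
    obtain ⟨c, hc0, hc⟩ := Matrix.SpecialLinearGroup.mem_center_iff.mp hz
    have hc' : c ≠ 0 := fun h => by rw [h, zero_pow (by simp; omega)] at hc0; exact zero_ne_one hc0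
    apply Subtype.ext
    rw [Matrix.SpecialLinearGroup.coe_pow, ← hc, ← map_pow, FiniteField.pow_card_sub_one_eq_one c hc',
      map_one, Matrix.SpecialLinearGroup.coe_one]
  have hto : Function.Injective (Matrix.SpecialLinearGroup.toGL : SpecialLinearGroup (Fin n) F →* GL (Fin n) F) :=
    fun a b h => Subtype.ext (congrArg Units.val h)
  have hmk : ∀ y : SpecialLinearGroup (Fin n) F, orderOf y = r * s → orderOf (y : ProjectiveSpecialLinearGroup (Fin n) F) = r * s := by
    intro y hy
    refine Nat.dvd_antisymm (hy ▸ orderOf_map_dvd (QuotientGroup.mk' Z) y) ?_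
    have h1 : y ^ orderOf (y : ProjectiveSpecialLinearGroup (Fin n) F) ∈ Z := by
      rw [← QuotientGroup.eq_one_iff, QuotientGroup.mk_pow]; exact pow_orderOf_eq_one _
    have h2 := hcexp _ h1
    rw [← pow_mul, ← orderOf_dvd_iff_pow_eq_one, hy] at h2
    exact hcopq.dvd_of_dvd_mul_right h2
  have hGL : ∀ g : GL (Fin n) F, orderOf g = r * s → r * s ∈ Set.range (orderOf : ProjectiveSpecialLinearGroup (Fin n) F → ℕ) := by
    intro g hg
    have h1 : orderOf (Matrix.GeneralLinearGroup.det g) ∣ Nat.gcd (r * s) (q - 1) := by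
      refine Nat.dvd_gcd (hg ▸ orderOf_map_dvd _ g) ?_
      have := orderOf_dvd_natCard (Matrix.GeneralLinearGroup.det g)
      rwa [Nat.card_units, Nat.card_eq_fintype_card] at this
    rw [hcopq, Nat.dvd_one, orderOf_eq_one_iff] at h1
    let y : SpecialLinearGroup (Fin n) F := ⟨g, congrArg Units.val h1⟩
    refine ⟨y, hmk y ?_⟩
    rw [← orderOf_injective _ hto, show Matrix.SpecialLinearGroup.toGL y = g from Units.ext rfl, hg]
  constructor
  · intro hno
    by_contra hcon
    apply hno
    -- block diagonal elements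
    have hblock : ∀ (a : ℕ) (_ : a ≤ n) (A : GL (Fin a) F) (B : GL (Fin (n - a)) F), ∃ g : GL (Fin n) F,
        ∀ i : ℕ, g ^ i = 1 ↔ A ^ i = 1 ∧ B ^ i = 1 := by
      intro a ha A B
      let ee : Fin a ⊕ Fin (n - a) ≃ Fin n := finSumFinEquiv.trans (finCongr (by omega))
      let M : Matrix (Fin a) (Fin a) F × Matrix (Fin (n - a)) (Fin (n - a)) F →* Matrix (Fin n) (Fin n) F :=
        (Matrix.reindexAlgEquiv F F ee).toMonoidHom.comp
          { toFun := fun P => Matrix.fromBlocks P.1 0 0 P.2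
            map_one' := by simp
            map_mul' := fun P P' => by simp [Matrix.fromBlocks_multiply] }
      have hM : Function.Injective M := by
        intro P P' h
        have h' := Matrix.fromBlocks_inj.mp ((Matrix.reindexAlgEquiv F F ee).injective h)
        exact Prod.ext h'.1 h'.2.2.2
      let Φ : GL (Fin a) F × GL (Fin (n - a)) F →* GL (Fin n) F := (Units.map M).comp MulEquiv.prodUnits.symm.toMonoidHom
      have hΦ : Function.Injective Φ := (Units.map_injective hM).comp MulEquiv.prodUnits.symm.injective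
      refine ⟨Φ (A, B), fun i => ?_⟩
      rw [← map_pow, ← map_one Φ, hΦ.eq_iff, Prod.pow_mk, Prod.mk_eq_one]
    rw [not_and_or, not_lt, not_not] at hcon
    rcases hcon with hle | hdiv
    · obtain ⟨A, hA⟩ := exists_prime_orderOf_dvd_card' r (dvd_card_GL (F := F) (m := k) (by omega) le_rfl ((hdvd hk k).mpr dvd_rfl))
      obtain ⟨B, hB⟩ := exists_prime_orderOf_dvd_card' s (dvd_card_GL (F := F) (m := n - k) (by omega : 1 ≤ l) (by omega) ((hdvd hl l).mpr dvd_rfl))
      obtain ⟨g, hg⟩ := hblock k (by omega) A B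
      refine hGL g (Nat.dvd_antisymm (orderOf_dvd_iff_pow_eq_one.mpr ((hg _).mpr ⟨?_, ?_⟩)) ?_)
      · rw [← orderOf_dvd_iff_pow_eq_one, hA]; exact dvd_mul_right r s
      · rw [← orderOf_dvd_iff_pow_eq_one, hB]; exact dvd_mul_left s r
      · obtain ⟨h1, h2⟩ := (hg _).mp (pow_orderOf_eq_one g)
        exact ((Nat.coprime_primes hr hs).mpr hrs).mul_dvd_of_dvd_of_dvd (hA ▸ orderOf_dvd_of_pow_eq_one h1) (hB ▸ orderOf_dvd_of_pow_eq_one h2)
    · have hln : l ≤ n := by
        have hS : s ∣ Nat.card (SpecialLinearGroup (Fin n) F) := hsG.trans (Subgroup.card_quotient_dvd_card _)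
        exact le_of_dvd_card_GL hs (hndq hs hsp) (fun i => (hdvd hl i).mp) (hS.trans (Subgroup.card_dvd_of_injective _ hto))
      haveI : NeZero l := ⟨by omega⟩
      haveI : Fintype (FiniteField.Extension F p l) := Fintype.ofFinite _
      let K := FiniteField.Extension F p l
      have hKc : Nat.card Kˣ = q ^ l - 1 := by
        rw [Nat.card_units, FiniteField.natCard_extension, Nat.card_eq_fintype_card]
      have hrs' : r * s ∣ q ^ l - 1 :=
        ((Nat.coprime_primes hr hs).mpr hrs).mul_dvd_of_dvd_of_dvd ((hdvd hk l).mpr hdiv) ((hdvd hl l).mpr dvd_rfl)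
      obtain ⟨z, hz⟩ := IsCyclic.exists_ofOrder_eq_natCard (α := Kˣ)
      obtain ⟨c, hc⟩ := hrs'
      have hc0 : c ≠ 0 := by
        rintro rfl
        have hpos : 0 < Nat.card Kˣ := Nat.card_pos
        omega
      let bK := (Module.finBasisOfFinrankEq F K (FiniteField.finrank_extension F p l))
      let ψ : Kˣ →* GL (Fin l) F := Units.map (Algebra.leftMulMatrix bK).toRingHom.toMonoidHom
      have hψ : Function.Injective ψ := Units.map_injective (Algebra.leftMulMatrix_injective bK)
      obtain ⟨g, hg⟩ := hblock l hln (ψ (z ^ c)) 1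
      refine hGL g ?_
      have ho : orderOf (ψ (z ^ c)) = r * s := by
        rw [orderOf_injective ψ hψ, orderOf_pow_of_dvd hc0 (by rw [hz, hKc, hc]; exact dvd_mul_left c (r * s)), hz, hKc, hc,
          Nat.mul_div_cancel _ (Nat.pos_of_ne_zero hc0)]
      refine Nat.dvd_antisymm (orderOf_dvd_iff_pow_eq_one.mpr ((hg _).mpr ⟨?_, one_pow _⟩)) ?_
      · rw [← ho, pow_orderOf_eq_one]
      · rw [← ho]; exact orderOf_dvd_of_pow_eq_one ((hg _).mp (pow_orderOf_eq_one g)).1
  · rintro ⟨hlt, hndiv⟩ ⟨x, hx⟩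
    obtain ⟨y, rfl⟩ := QuotientGroup.mk_surjective x
    obtain ⟨i, -, hi⟩ := Nat.exists_mul_mod_eq_one_of_coprime hcopq.symm (Nat.one_lt_mul_iff.mpr ⟨hr.pos, hs.pos, Or.inl hr.one_lt⟩)
    let w := y ^ ((q - 1) * i)
    have hw : w ^ (r * s) = 1 := by
      have h1 : y ^ (r * s) ∈ Z := by rw [← QuotientGroup.eq_one_iff, QuotientGroup.mk_pow, ← hx, pow_orderOf_eq_one]
      simp only [w]
      rw [← pow_mul, mul_comm, pow_mul, pow_mul, hcexp _ h1, one_pow]
    have hwx : (w : ProjectiveSpecialLinearGroup (Fin n) F) = y := by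
      rw [QuotientGroup.mk_pow, ← Nat.mod_add_div ((q - 1) * i) (r * s), hi, pow_add, pow_mul, pow_one, ← hx, pow_orderOf_eq_one, one_pow, mul_one]
    have how : orderOf w = r * s :=
      Nat.dvd_antisymm (orderOf_dvd_of_pow_eq_one hw) (hx ▸ hwx ▸ orderOf_map_dvd (QuotientGroup.mk' Z) w)
    let f : SpecialLinearGroup (Fin n) F →* Module.End F (Fin n → F) :=
      { toFun := fun g => Matrix.toLinAlgEquiv' (g : Matrix (Fin n) (Fin n) F)
        map_one' := by simp
        map_mul' := fun g h => by simp }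
    have hf : Function.Injective f := fun g h e => Subtype.ext ((Matrix.toLinAlgEquiv' (R := F) (n := Fin n)).injective e)
    have hne1 : ∀ j : ℕ, ¬ r * s ∣ j → f (w ^ j) ≠ 1 := fun j hj h => hj (how ▸ orderOf_dvd_of_pow_eq_one (hf (h.trans (map_one f).symm)))
    rcases bound (hne hr hrp) (hne hs hsp) (Module.finrank_fin_fun F (n := n)) (fun i => (hdvd hk i).mp) (fun i => (hdvd hl i).mp) hkl
      (f (w ^ s)) (f (w ^ r)) (by rw [← map_pow, ← pow_mul, mul_comm, hw, map_one]) (by rw [← map_pow, ← pow_mul, hw, map_one])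
      (hne1 s fun h => by have := Nat.le_of_dvd hs.pos h; nlinarith [hr.two_le, hs.pos])
      (hne1 r fun h => by have := Nat.le_of_dvd hr.pos h; nlinarith [hs.two_le, hr.pos])
      ((Commute.pow_pow_self w s r).map f) with h | h
    · omega
    · exact hndiv h

end Cfsg.Agent.S2468
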