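import Mathlib
import Cfsg.Statements.S2472
import Cfsg.Agent.S2381
import Cfsg.Agent.Lib.Classical.PSpAut.Basic

set_option autoImplicit false
set_option maxHeartbeats 800000
open Cfsg Matrix

namespace Cfsg.Agent.S2472

open Cfsg.Lib.SylowLargePrime

variable {F : Type*} [Field F] [Fintype F] {n : ℕ}

lemma center_sq (hn : 1 ≤ n) {z : Matrix.symplecticGroup (Fin n) F} (hz : z ∈ Subgroup.center _) :
    ∃ s : F, s * s = 1 ∧ (z : Matrix (Fin n ⊕ Fin n) (Fin n ⊕ Fin n) F) = s • 1 :=
  Cfsg.Lib.Classical.PSpAut.center_scalar hz (Pi.single (Sum.inl ⟨0, hn⟩) 1) (by simp)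

lemma center_pow {p : ℕ} [Fact p.Prime] [CharP F p] (hn : 1 ≤ n) {z : Matrix.symplecticGroup (Fin n) F}
    (hz : z ∈ Subgroup.center _) : z ^ (if p = 2 then 1 else 2) = 1 := by
  obtain ⟨s, hs, he⟩ := center_sq hn hz
  apply Subtype.ext
  rw [SubmonoidClass.coe_pow, he, _root_.smul_pow, one_pow]
  split_ifs with h
  · subst h
    have h2 : (2 : F) = 0 := by exact_mod_cast CharP.cast_eq_zero F 2
    have h0 : (s - 1) * (s - 1) = 0 := by linear_combination hs - (s - 1) * h2
    rw [pow_one, sub_eq_zero.mp (mul_self_eq_zero.mp h0), one_smul]; rfl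
  · rw [sq, hs, one_smul]; rfl

lemma exists_big (p : ℕ) [Fact p.Prime] [CharP F p] (hn : 2 ≤ n) {r k ηk : ℕ} (hr : r.Prime) (hr2 : r ≠ 2)
    (hrp : r ≠ p) (hk : k = orderOf ((Fintype.card F : ℕ) : ZMod r))
    (hηk : (Odd k ∧ ηk = k) ∨ (Even k ∧ 2 * ηk = k)) (hle : ηk ≤ n - 1) :
    ∃ g : Cfsg.PSp n F, orderOf g = r * p := by
  classical
  haveI := Fact.mk hr
  set q := Fintype.card F with hq
  have hq2 : 2 ≤ q := Fintype.one_lt_card
  have hrq : ¬ r ∣ q := by
    intro h
    obtain ⟨j, -, hj⟩ := FiniteField.card F p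
    rw [hq, hj] at h
    exact hrp ((Nat.prime_dvd_prime_iff_eq hr Fact.out).mp (hr.dvd_of_dvd_pow h))
  have hk0 : 0 < k := hk ▸ ord_pos hrq
  have hη0 : 0 < ηk := by omega
  obtain ⟨φ, hφ⟩ := S2381.exists_hom (F := F) (q := q) hq.symm (n - 1) r hr2 hrq
  have hap : 1 ≤ ap q r := by
    rw [← val_base hq2 hrq]
    refine one_le_padicValNat_of_dvd ?_ ((dvd_pow_sub_one_iff (by omega) _).mpr dvd_rfl)
    have : 2 ≤ q ^ orderOf (q : ZMod r) := hq2.trans (Nat.le_self_pow (ord_pos hrq).ne' q)
    omega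
  have hpos : 0 < ((Finset.Icc 1 (n - 1)).filter (fun i => orderOf (q : ZMod r) ∣ 2 * i)).card := by
    rw [Finset.card_pos]
    refine ⟨ηk, Finset.mem_filter.mpr ⟨Finset.mem_Icc.mpr ⟨hη0, hle⟩, ?_⟩⟩
    rw [← hk]
    rcases hηk with ⟨-, h⟩ | ⟨-, h⟩
    · rw [h]; exact dvd_mul_left _ _
    · rw [h]
  obtain ⟨x, hx⟩ : ∃ x : Matrix.symplecticGroup (Fin (n - 1)) F, orderOf x = r := by
    let v : Fin ((Finset.Icc 1 (n - 1)).filter (fun i => orderOf (q : ZMod r) ∣ 2 * i)).card → Multiplicative (ZMod (r ^ ap q r)) :=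
      Pi.mulSingle ⟨0, hpos⟩ (Multiplicative.ofAdd 1)
    have hv : orderOf v = r ^ ap q r := by
      rw [orderOf_piMulSingle, orderOf_ofAdd_eq_addOrderOf, ZMod.addOrderOf_one]
    have hrR : r ∣ orderOf (φ v) := by
      rw [orderOf_injective φ hφ, hv]; exact dvd_pow_self r (by omega)
    exact ⟨φ v ^ (orderOf (φ v) / r), orderOf_pow_orderOf_div (orderOf_pos _).ne' hrR⟩
  let P : (F × F) →ₗ[F] (F × F) →ₗ[F] F :=
    LinearMap.mk₂ F (fun x y => x.1 * y.2 - x.2 * y.1)
      (fun a b c => by simp; ring) (fun a b c => by simp; ring) (fun a b c => by simp; ring) (fun a b c => by simp; ring)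
  let ω := Cfsg.Lib.Classical.sympBilin F (n - 1)
  let Bt : LinearMap.BilinForm F ((Fin (n - 1) ⊕ Fin (n - 1) → F) × (F × F)) :=
    LinearMap.mk₂ F (fun x y => ω x.1 y.1 + P x.2 y.2)
      (fun a b c => by simp; ring) (fun a b c => by simp [mul_add]) (fun a b c => by simp; ring) (fun a b c => by simp [mul_add])
  let T : F → (F × F →ₗ[F] F × F) := fun t => (LinearMap.fst F F F + t • LinearMap.snd F F F).prod (LinearMap.snd F F F)
  obtain ⟨ψ, hψ⟩ : ∃ ψ : Matrix.symplecticGroup (Fin (n - 1)) F × Multiplicative F →* ↥(Matrix.symplecticGroup (Fin n) F),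
      Function.Injective ψ := by
    refine Cfsg.Agent.SympEmbed.exists_embed n ?_ Bt (fun a => ?_) ?_
      { toFun := fun g : Matrix.symplecticGroup (Fin (n - 1)) F × Multiplicative F =>
          (Matrix.mulVecLin g.1.1).prodMap (T g.2.toAdd)
        map_one' := LinearMap.ext fun a => Prod.ext
          (by show (1 : Matrix _ _ F) *ᵥ a.1 = a.1; simp)
          (Prod.ext (by show a.2.1 + 0 * a.2.2 = a.2.1; simp) rfl)
        map_mul' := fun g h => LinearMap.ext fun a => Prod.ext
          (by show (g.1.1 * h.1.1) *ᵥ a.1 = g.1.1 *ᵥ (h.1.1 *ᵥ a.1); simp [Matrix.mulVec_mulVec])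
          (Prod.ext (by show a.2.1 + (g.2.toAdd + h.2.toAdd) * a.2.2 = (a.2.1 + h.2.toAdd * a.2.2) + g.2.toAdd * a.2.2; ring) rfl) } ?_ ?_
    · simp only [Module.finrank_prod, Module.finrank_pi, Module.finrank_self, Fintype.card_sum, Fintype.card_fin]
      omega
    · show ω a.1 a.1 + P a.2 a.2 = 0
      rw [Cfsg.Lib.Classical.sympBilin_isAlt F (n - 1) a.1]
      simp [P, mul_comm]
    · intro a ha
      by_cases h1 : a.1 = 0
      · have h2 : a.2 ≠ 0 := fun h => ha (Prod.ext h1 h)
        by_cases h3 : a.2.1 = 0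
        · refine ⟨(0, (1, 0)), ?_⟩
          have : a.2.2 ≠ 0 := fun h => h2 (Prod.ext h3 h)
          show ω a.1 0 + P a.2 (1, 0) ≠ 0
          simpa [P, h3] using this
        · refine ⟨(0, (0, 1)), ?_⟩
          show ω a.1 0 + P a.2 (0, 1) ≠ 0
          simpa [P] using h3
      · obtain ⟨y, hy⟩ := Cfsg.Lib.Classical.SpSimple.exists_eq_one (F := F) h1
        refine ⟨(y, 0), ?_⟩
        show ω a.1 y + P a.2 0 ≠ 0
        rw [map_zero, add_zero]
        intro h0
        first
          | exact one_ne_zero (hy.symm.trans h0)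
          | (have h4 := Cfsg.Lib.Classical.SpSimple.swap (F := F) y a.1
             rw [hy, h0] at h4; simp at h4)
    · intro g h he
      refine Prod.ext (Subtype.ext (Matrix.ext_of_mulVec_single fun i => ?_)) (Multiplicative.toAdd.injective ?_)
      · have := congrArg (fun f : ((Fin (n - 1) ⊕ Fin (n - 1) → F) × (F × F)) →ₗ[F] ((Fin (n - 1) ⊕ Fin (n - 1) → F) × (F × F)) => (f (Pi.single i 1, 0)).1) he
        change g.1.1 *ᵥ Pi.single i 1 = h.1.1 *ᵥ Pi.single i 1 at this
        exact this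
      · have := congrArg (fun f : ((Fin (n - 1) ⊕ Fin (n - 1) → F) × (F × F)) →ₗ[F] ((Fin (n - 1) ⊕ Fin (n - 1) → F) × (F × F)) => (f (0, (0, 1))).2.1) he
        change (0 : F) + g.2.toAdd * 1 = 0 + h.2.toAdd * 1 at this
        simpa using this
    · intro g a b
      show ω (g.1.1 *ᵥ a.1) (g.1.1 *ᵥ b.1) + P (T g.2.toAdd a.2) (T g.2.toAdd b.2) = ω a.1 b.1 + P a.2 b.2
      rw [Cfsg.Lib.Classical.PSpAut.iso]
      simp [P, T]; ring
  set X := ψ (x, Multiplicative.ofAdd 1)
  have hX : orderOf X = r * p := by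
    rw [orderOf_injective ψ hψ, Prod.orderOf, hx, orderOf_ofAdd_eq_addOrderOf]
    have : addOrderOf (1 : F) = p := CharP.eq F (CharP.addOrderOf_one F) ‹CharP F p›
    rw [this]
    exact ((Nat.coprime_primes hr Fact.out).mpr hrp).lcm_eq_mul
  refine ⟨QuotientGroup.mk X, Nat.dvd_antisymm (hX ▸ orderOf_map_dvd (QuotientGroup.mk' _) X) ?_⟩
  set j := orderOf (QuotientGroup.mk X : Cfsg.PSp n F)
  have hz : X ^ j ∈ Subgroup.center _ := by
    rw [← QuotientGroup.eq_one_iff, QuotientGroup.mk_pow]; exact pow_orderOf_eq_one _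
  have h1 := center_pow (p := p) (by omega) hz
  rw [← pow_mul] at h1
  have hd : r * p ∣ j * (if p = 2 then 1 else 2) := hX ▸ orderOf_dvd_of_pow_eq_one h1
  split_ifs at hd with h
  · simpa using hd
  · refine (Nat.Coprime.mul_left ?_ ?_).dvd_of_dvd_mul_right hd
    · exact (Nat.coprime_primes hr Nat.prime_two).mpr hr2
    · exact (Nat.coprime_primes Fact.out Nat.prime_two).mpr h

lemma no_big (p : ℕ) [Fact p.Prime] [CharP F p] {r k : ℕ} (hr : r.Prime) (hr2 : r ≠ 2) (hrp : r ≠ p)
    (hk : k = orderOf ((Fintype.card F : ℕ) : ZMod r))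
    (hbig : (Odd k ∧ n ≤ k) ∨ (Even k ∧ 2 * n ≤ k))
    {A B : Matrix.symplecticGroup (Fin n) F} (hA : A ≠ 1) (hAr : A ^ r = 1) (hBp : B ^ p = 1)
    (hAB : Commute A B) : B = 1 := by
  classical
  haveI := Fact.mk hr
  set q := Fintype.card F with hq
  let ι := Fin n ⊕ Fin n
  let L := AlgebraicClosure F
  let φ : Matrix ι ι F →+* Matrix ι ι L := (algebraMap F L).mapMatrix
  have hφ : Function.Injective φ := Matrix.map_injective (algebraMap F L).injective
  set M := φ (A : Matrix ι ι F) with hM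
  set N := φ (B : Matrix ι ι F) with hN
  have hMr : M ^ r = 1 := by rw [hM, ← map_pow, ← SubmonoidClass.coe_pow, hAr]; exact map_one φ
  have hNp : N ^ p = 1 := by rw [hN, ← map_pow, ← SubmonoidClass.coe_pow, hBp]; exact map_one φ
  have hMN : Commute M N := (congrArg φ (congrArg Subtype.val hAB.eq) : _).trans (map_mul φ _ _) |> fun h => by
    show M * N = N * M
    rw [hM, hN, ← map_mul, ← map_mul]
    exact congrArg φ (congrArg Subtype.val hAB.eq)
  set P := M.charpoly with hP
  have hPq : ∀ x : L, P.IsRoot x → P.IsRoot (x ^ q) := by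
    intro x hx
    have he : P = (A : Matrix ι ι F).charpoly.map (algebraMap F L) := Matrix.charpoly_map _ _
    rw [Polynomial.IsRoot.def, he, Polynomial.eval_map_algebraMap] at hx ⊢
    rw [← Polynomial.expand_aeval, FiniteField.expand_card, map_pow, hx, zero_pow (by simp [hq, Fintype.card_ne_zero])]
  have hPinv : ∀ x : L, x ≠ 0 → P.IsRoot x → P.IsRoot x⁻¹ := by
    intro x hx0 hx
    rw [hP, Polynomial.IsRoot.def, Matrix.eval_charpoly, ← Matrix.exists_vecMul_eq_zero_iff] at hx
    obtain ⟨v, hv0, hv⟩ := hx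
    rw [Matrix.vecMul_sub, sub_eq_zero] at hv
    have hv' : Mᵀ *ᵥ v = x • v := by
      rw [Matrix.mulVec_transpose, ← hv]
      ext i; simp [Matrix.vecMul_diagonal, Matrix.scalar_apply, mul_comm]
    rw [hP, Polynomial.IsRoot.def, Matrix.eval_charpoly, ← Matrix.exists_mulVec_eq_zero_iff]
    have hJ : M * Matrix.J (Fin n) L * Mᵀ = Matrix.J (Fin n) L := by
      have h := congrArg φ (SymplecticGroup.mem_iff.mp A.2)
      rw [map_mul, map_mul] at h
      have eJ : φ (Matrix.J (Fin n) F) = Matrix.J (Fin n) L := by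
        ext i j
        rcases i with i | i <;> rcases j with j | j <;> simp [φ, Matrix.J, Matrix.one_apply, apply_ite]
      rw [eJ] at h
      exact h
    refine ⟨Matrix.J (Fin n) L *ᵥ v, ?_, ?_⟩
    · intro h
      apply hv0
      have := congrArg (fun w => Matrix.J (Fin n) L *ᵥ w) h
      simp only [Matrix.mulVec_zero] at this
      rw [Matrix.mulVec_mulVec, Matrix.J_squared, Matrix.neg_mulVec, Matrix.one_mulVec, neg_eq_zero] at this
      exact this
    · have h2 : x • (M *ᵥ (Matrix.J (Fin n) L *ᵥ v)) = Matrix.J (Fin n) L *ᵥ v := by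
        conv_rhs => rw [← hJ]
        rw [← Matrix.mulVec_mulVec, hv', ← Matrix.mulVec_mulVec, Matrix.mulVec_smul, Matrix.mulVec_smul]
      rw [Matrix.sub_mulVec, sub_eq_zero]
      conv_lhs => rw [← h2]
      ext i
      simp [Matrix.scalar_apply, Matrix.mulVec_diagonal, hx0]
  obtain ⟨a, haP, ha1⟩ : ∃ a : L, P.IsRoot a ∧ a ≠ 1 := by
    by_contra hcon
    push Not at hcon
    have hroots : P.roots = Multiset.replicate P.natDegree 1 := by
      rw [Multiset.eq_replicate]
      exact ⟨(IsAlgClosed.splits P).natDegree_eq_card_roots.symm, fun b hb => hcon b (Polynomial.isRoot_of_mem_roots hb)⟩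
    have hfac := (IsAlgClosed.splits P).eq_prod_roots_of_monic (Matrix.charpoly_monic M)
    rw [hroots, Multiset.map_replicate, Multiset.prod_replicate] at hfac
    have h0 : (M - 1) ^ P.natDegree = 0 := by
      have := Matrix.aeval_self_charpoly M
      rw [← hP, hfac] at this
      simpa using this
    haveI : CharP L p := charP_of_injective_algebraMap (algebraMap F L).injective p
    obtain ⟨t, ht⟩ : ∃ t, P.natDegree ≤ p ^ t :=
      ⟨P.natDegree, (Nat.lt_pow_self (Fact.out : p.Prime).one_lt).le⟩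
    rcases isEmpty_or_nonempty ι with he | he
    · exact hA (Subtype.ext (Matrix.ext fun i => isEmptyElim i))
    have h1 : M ^ p ^ t = 1 := by
      have h2 : (M - 1) ^ p ^ t = 0 := pow_eq_zero_of_le ht h0
      rw [sub_pow_char_pow_of_commute p t (Commute.one_right M), one_pow, sub_eq_zero] at h2
      exact h2
    have h3 : orderOf A ∣ p ^ t := orderOf_dvd_of_pow_eq_one (Subtype.ext (hφ (by
      rw [SubmonoidClass.coe_pow, map_pow]; exact h1.trans (map_one φ).symm)))
    have h4 : orderOf A = r := (hr.eq_one_or_self_of_dvd _ (orderOf_dvd_of_pow_eq_one hAr)).resolve_left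
      (fun h => hA (orderOf_eq_one_iff.mp h))
    rw [h4] at h3
    exact hrp ((Nat.prime_dvd_prime_iff_eq hr Fact.out).mp (hr.dvd_of_dvd_pow h3))
  have har : a ^ r = 1 := by
    rw [hP, Polynomial.IsRoot.def, Matrix.eval_charpoly, ← Matrix.exists_mulVec_eq_zero_iff] at haP
    obtain ⟨v, hv0, hv⟩ := haP
    rw [Matrix.sub_mulVec, sub_eq_zero] at hv
    have hv' : M *ᵥ v = a • v := by rw [← hv]; ext i; simp [Matrix.scalar_apply, Matrix.mulVec_diagonal]
    have hpow : ∀ j : ℕ, (M ^ j) *ᵥ v = a ^ j • v := by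
      intro j
      induction j with
      | zero => simp
      | succ j ih => rw [pow_succ', ← Matrix.mulVec_mulVec, ih, Matrix.mulVec_smul, hv', smul_smul, pow_succ]
    have := hpow r
    rw [hMr, Matrix.one_mulVec] at this
    exact (smul_left_injective L hv0 (this.symm.trans (one_smul L v).symm))
  have hao : orderOf a = r := (hr.eq_one_or_self_of_dvd _ (orderOf_dvd_of_pow_eq_one har)).resolve_left
    (fun h => ha1 (orderOf_eq_one_iff.mp h))
  let ev : ZMod r → L := fun u => a ^ u.val
  have hev_inj : Function.Injective ev := fun u v h => ZMod.val_injective r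
    (pow_injOn_Iio_orderOf (by rw [Set.mem_Iio, hao]; exact u.val_lt) (by rw [Set.mem_Iio, hao]; exact v.val_lt) h)
  have hev : ∀ j : ℕ, ev (j : ZMod r) = a ^ j := fun j => by
    show a ^ ((j : ZMod r)).val = a ^ j
    rw [ZMod.val_natCast, ← hao, pow_mod_orderOf]
  have ha0 : a ≠ 0 := fun h => by rw [h, zero_pow hr.ne_zero] at har; exact zero_ne_one har
  have hroot : ∀ i : ℕ, P.IsRoot (a ^ (q ^ i)) ∧ P.IsRoot (a ^ (q ^ i))⁻¹ := by
    intro i
    have h : P.IsRoot (a ^ (q ^ i)) := by
      induction i with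
      | zero => simpa using haP
      | succ i ih => rw [pow_succ, pow_mul]; exact hPq _ ih
    exact ⟨h, hPinv _ (pow_ne_zero _ ha0) h⟩
  set T : Finset (ZMod r) := (Finset.range k).image (fun i => (q : ZMod r) ^ i) ∪
    (Finset.range k).image (fun i => -((q : ZMod r) ^ i)) with hT
  have hTroot : ∀ u ∈ T, P.IsRoot (ev u) := by
    intro u hu
    rcases Finset.mem_union.mp hu with h | h <;> obtain ⟨i, -, rfl⟩ := Finset.mem_image.mp h
    · rw [← Nat.cast_pow, hev]; exact (hroot i).1
    · have : ev (-((q : ZMod r) ^ i)) = (a ^ (q ^ i))⁻¹ := by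
        apply eq_inv_of_mul_eq_one_left
        rw [← Nat.cast_pow, ← hev, ← pow_add]
        show a ^ _ = 1
        rw [← pow_mod_orderOf, hao, ← ZMod.val_natCast, Nat.cast_add, ZMod.natCast_zmod_val, ZMod.natCast_zmod_val,
          neg_add_cancel, ZMod.val_zero, pow_zero]
      rw [this]; exact (hroot i).2
  have hrq : ¬ r ∣ q := by
    intro h
    obtain ⟨j, -, hj⟩ := FiniteField.card F p
    rw [hq, hj] at h
    exact hrp ((Nat.prime_dvd_prime_iff_eq hr Fact.out).mp (hr.dvd_of_dvd_pow h))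
  have hinj : Set.InjOn (fun i => (q : ZMod r) ^ i) (Finset.range k : Finset ℕ) := fun i hi j hj h => by
    rw [Finset.coe_range, hk] at hi hj
    exact pow_injOn_Iio_orderOf hi hj h
  have hcard : 2 * n ≤ T.card := by
    rcases hbig with ⟨hodd, hle⟩ | ⟨-, hle⟩
    · rw [hT, Finset.card_union_of_disjoint, Finset.card_image_of_injOn hinj,
        Finset.card_image_of_injOn (fun i hi j hj h => hinj hi hj (neg_inj.mp h)), Finset.card_range]
      · omega
      · rw [Finset.disjoint_left]
        intro u hu hu'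
        obtain ⟨i, -, rfl⟩ := Finset.mem_image.mp hu
        obtain ⟨j, -, hj⟩ := Finset.mem_image.mp hu'
        have h1 : ((q : ZMod r) ^ k) = 1 := hk ▸ pow_orderOf_eq_one _
        have h2 := congrArg (fun z : ZMod r => z ^ k) hj
        simp only [hodd.neg_pow, ← pow_mul, mul_comm i k, mul_comm j k] at h2
        rw [pow_mul, pow_mul, h1, one_pow, one_pow] at h2
        have : ((2 : ℕ) : ZMod r) = 0 := by push_cast; linear_combination -h2
        exact hr2 ((Nat.prime_dvd_prime_iff_eq hr Nat.prime_two).mp ((CharP.cast_eq_zero_iff (ZMod r) r 2).mp this))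
    · refine le_trans ?_ (Finset.card_le_card Finset.subset_union_left)
      rw [Finset.card_image_of_injOn hinj, Finset.card_range]; exact hle
  have hvec : ∀ u : T, ∃ v : ι → L, v ≠ 0 ∧ M *ᵥ v = ev u • v := by
    intro u
    have h := hTroot u.1 u.2
    rw [hP, Polynomial.IsRoot.def, Matrix.eval_charpoly, ← Matrix.exists_mulVec_eq_zero_iff] at h
    obtain ⟨v, hv0, hv⟩ := h
    rw [Matrix.sub_mulVec, sub_eq_zero] at hv
    exact ⟨v, hv0, by rw [← hv]; ext i; simp [Matrix.scalar_apply, Matrix.mulVec_diagonal]⟩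
  choose w hw0 hw using hvec
  have hev' : Function.Injective (fun u : T => ev u) := hev_inj.comp Subtype.val_injective
  have hli : LinearIndependent L w :=
    Module.End.eigenvectors_linearIndependent' M.mulVecLin (fun u : T => ev u) hev' w
      (fun u => ⟨Module.End.mem_eigenspace_iff.mpr (hw u), hw0 u⟩)
  have hfr : Module.finrank L (ι → L) = 2 * n := by simp [ι, two_mul]
  have hTn : Fintype.card T = Module.finrank L (ι → L) := by
    refine le_antisymm hli.fintype_card_le_finrank ?_
    rw [hfr, Fintype.card_coe]; exact hcard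
  haveI : Nonempty T := by
    rcases Nat.eq_zero_or_pos n with h | h
    · exact absurd (Subtype.ext (Matrix.ext fun i => by subst h; rcases i with i | i <;> exact i.elim0)) hA
    · rw [← Fintype.card_pos_iff, hTn, hfr]; omega
  let bb := basisOfLinearIndependentOfCardEqFinrank hli hTn
  have hbb : ⇑bb = w := coe_basisOfLinearIndependentOfCardEqFinrank hli hTn
  haveI : CharP L p := charP_of_injective_algebraMap (algebraMap F L).injective p
  have hfix : ∀ u : T, N *ᵥ w u = w u := by
    intro u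
    set z := N *ᵥ w u with hz
    have hMz : M *ᵥ z = ev u • z := by
      rw [hz, Matrix.mulVec_mulVec, hMN.eq, ← Matrix.mulVec_mulVec, hw, Matrix.mulVec_smul]
    have hsum := bb.sum_repr z
    rw [hbb] at hsum
    have h1 : ∑ i : T, (bb.repr z i * (ev i - ev u)) • w i = 0 := by
      have h2 := hMz
      rw [← hsum, Matrix.mulVec_sum, Finset.smul_sum] at h2
      rw [← sub_eq_zero.mpr h2, ← Finset.sum_sub_distrib]
      refine Finset.sum_congr rfl fun i _ => ?_
      rw [Matrix.mulVec_smul, hw, smul_smul, smul_smul, ← sub_smul]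
      congr 1; ring
    have hc := Fintype.linearIndependent_iff.mp hli _ h1
    have hz2 : z = bb.repr z u • w u := by
      conv_lhs => rw [← hsum]
      refine Finset.sum_eq_single u (fun i _ hi => ?_) (by simp)
      rcases mul_eq_zero.mp (hc i) with h | h
      · rw [h, zero_smul]
      · exact absurd (hev' (sub_eq_zero.mp h)) hi
    set c := bb.repr z u
    have hpow : ∀ j : ℕ, (N ^ j) *ᵥ w u = c ^ j • w u := by
      intro j
      induction j with
      | zero => simp
      | succ j ih => rw [pow_succ', ← Matrix.mulVec_mulVec, ih, Matrix.mulVec_smul, ← hz, hz2, smul_smul, pow_succ]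
    have h3 := hpow p
    rw [hNp, Matrix.one_mulVec] at h3
    have hcp : c ^ p = 1 := smul_left_injective L (hw0 u) (h3.symm.trans (one_smul L _).symm)
    have hc1 : (c - 1) ^ p = 0 := by rw [sub_pow_char, hcp, one_pow, sub_self]
    rw [hz2, sub_eq_zero.mp (pow_eq_zero_iff (Fact.out : p.Prime).ne_zero |>.mp hc1), one_smul]
  have hN1 : N = 1 := by
    apply Matrix.toLin'.injective
    refine bb.ext fun u => ?_
    rw [hbb, Matrix.toLin'_apply, Matrix.toLin'_one, LinearMap.id_apply, hfix]
  exact Subtype.ext (hφ (hN1.trans (map_one φ).symm))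

/-- Adjacency of a prime and the characteristic in the prime graph of PSp(2n,q): let F be a finite field of characteristic p with q elements, n ≥ 2 with PSp(2n,F) simple, and let r ≠ p be an odd prime dividing the order of PSp(2n,F), with k the multiplicative order of q modulo r and η(k) = k for odd k, k/2 for even k. Then PSp(2n,F) has NO element of order r·p if and only if η(k) > n − 1. -/
theorem result {F : Type*} [Field F] [Fintype F] (p : ℕ) [Fact p.Prime] [CharP F p] (n : ℕ) (hn : 2 ≤ n) (hsmall : n = 2 → 3 ≤ Fintype.card F)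
    (r : ℕ) (hr : r.Prime) (hr2 : r ≠ 2) (hrp : r ≠ p) (hrG : r ∣ Nat.card (Cfsg.PSp n F))
    (k ηk : ℕ) (hk : k = orderOf ((Fintype.card F : ℕ) : ZMod r)) (hηk : (Odd k ∧ ηk = k) ∨ (Even k ∧ 2 * ηk = k)) :
    (r * p ∉ Set.range (orderOf : Cfsg.PSp n F → ℕ)) ↔ n - 1 < ηk := by
  classical
  constructor
  · intro h
    by_contra hle
    exact h (by obtain ⟨g, hg⟩ := exists_big p hn hr hr2 hrp hk hηk (by omega); exact ⟨g, hg⟩)
  · rintro hlt ⟨g, hg⟩
    induction g using QuotientGroup.induction_on with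
    | _ A =>
      set c := if p = 2 then 1 else 2 with hc
      have hp : p.Prime := Fact.out
      have hz : A ^ (r * p) ∈ Subgroup.center _ := by
        rw [← QuotientGroup.eq_one_iff, QuotientGroup.mk_pow, ← hg]; exact pow_orderOf_eq_one _
      have h1 : A ^ (r * p * c) = 1 := by rw [pow_mul]; exact center_pow (by omega) hz
      have key : ∀ j, ¬ r * p ∣ j → A ^ j ≠ 1 := by
        intro j hj h
        apply hj
        rw [← hg]
        apply orderOf_dvd_of_pow_eq_one
        rw [← QuotientGroup.mk_pow, h]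
        rfl
      have hbig : (Odd k ∧ n ≤ k) ∨ (Even k ∧ 2 * n ≤ k) := by
        rcases hηk with ⟨h, h'⟩ | ⟨h, h'⟩
        · exact Or.inl ⟨h, by omega⟩
        · exact Or.inr ⟨h, by omega⟩
      have hco : ∀ s : ℕ, s.Prime → s ≠ 2 → ¬ s ∣ c := by
        intro s hs hs2 hd
        rcases eq_or_ne p 2 with h | h
        · rw [hc, if_pos h] at hd; exact hs.one_lt.ne' (Nat.dvd_one.mp hd)
        · rw [hc, if_neg h] at hd; exact hs2 ((Nat.prime_dvd_prime_iff_eq hs Nat.prime_two).mp hd)
      have hA : A ^ (p * c) ≠ 1 := key _ fun hd => by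
        have h2 : r ∣ p * c := (dvd_mul_right r p).trans hd
        rcases hr.dvd_mul.mp h2 with h3 | h3
        · exact hrp ((Nat.prime_dvd_prime_iff_eq hr hp).mp h3)
        · exact hco r hr hr2 h3
      have hB : A ^ (r * c) ≠ 1 := key _ fun hd => by
        have h2 : p ∣ r * c := (dvd_mul_left p r).trans hd
        rcases hp.dvd_mul.mp h2 with h3 | h3
        · exact hrp ((Nat.prime_dvd_prime_iff_eq hp hr).mp h3).symm
        · rcases eq_or_ne p 2 with h | h
          · rw [hc, if_pos h] at h3; exact hp.one_lt.ne' (Nat.dvd_one.mp h3)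
          · exact hco p hp h h3
      exact hB (no_big p hr hr2 hrp hk hbig hA (by rw [← pow_mul, ← h1]; congr 1; ring)
        (by rw [← pow_mul, ← h1]; congr 1; ring) (Commute.pow_pow_self A _ _))

end Cfsg.Agent.S2472
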