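import Mathlib
import Cfsg.Statements.S2469
import Cfsg.Agent.S2472

set_option autoImplicit false
set_option maxHeartbeats 800000
open Cfsg Matrix

namespace Cfsg.Agent.S2469

open Cfsg.Lib.SylowLargePrime

variable {F : Type*} [Field F] [Fintype F] {n : ℕ}

/-- the orbit of a primitive root of unity among eigenvalues -/
noncomputable def orbitSet {L : Type*} [Field L] [DecidableEq L] (q : ℕ) (c : L) (N : ℕ) : Finset L :=
  (Finset.range (orderOf (q : ZMod N))).image (fun i => c ^ (q ^ i)) ∪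
    (Finset.range (orderOf (q : ZMod N))).image (fun i => (c ^ (q ^ i))⁻¹)

lemma orbit_card {L : Type*} [Field L] [DecidableEq L] {q N : ℕ} [NeZero N] {c : L} (hc : orderOf c = N) (hcop : Nat.Coprime q N) :
    orderOf (q : ZMod N) ≤ (orbitSet q c N).card ∧
    ((∀ j : ℕ, (q : ZMod N) ^ j ≠ -1) → 2 * orderOf (q : ZMod N) ≤ (orbitSet q c N).card) ∧
    (∀ x ∈ orbitSet q c N, orderOf x = N) := by
  set m := orderOf (q : ZMod N)
  have hinj : Set.InjOn (fun i => c ^ (q ^ i)) (Finset.range m : Finset ℕ) := by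
    intro i hi j hj h
    rw [Finset.coe_range] at hi hj
    have hfin : IsOfFinOrder c := orderOf_pos_iff.mp (by rw [hc]; exact Nat.pos_of_ne_zero (NeZero.ne N))
    have h1 : q ^ i ≡ q ^ j [MOD N] := by
      have h2 := hfin.pow_eq_pow_iff_modEq.mp h
      rwa [hc] at h2
    rw [← ZMod.natCast_eq_natCast_iff, Nat.cast_pow, Nat.cast_pow] at h1
    exact pow_injOn_Iio_orderOf hi hj h1
  refine ⟨?_, ?_, ?_⟩
  · refine le_trans ?_ (Finset.card_le_card Finset.subset_union_left)
    rw [Finset.card_image_of_injOn hinj, Finset.card_range]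
  · intro hneg
    rw [orbitSet, Finset.card_union_of_disjoint, Finset.card_image_of_injOn hinj,
      Finset.card_image_of_injOn (fun i hi j hj h => hinj hi hj (inv_injective h)), Finset.card_range]
    · omega
    · rw [Finset.disjoint_left]
      intro u hu hu'
      obtain ⟨i, hi, rfl⟩ := Finset.mem_image.mp hu
      obtain ⟨j, hj, hji⟩ := Finset.mem_image.mp hu'
      rw [Finset.mem_range] at hi hj
      have hsum : c ^ (q ^ j + q ^ i) = 1 := by
        rw [pow_add, ← hji, mul_inv_cancel₀]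
        exact pow_ne_zero _ fun h => by rw [h, orderOf_zero] at hc; exact NeZero.ne N hc.symm
      have h2 : ((q ^ j + q ^ i : ℕ) : ZMod N) = 0 :=
        (CharP.cast_eq_zero_iff (ZMod N) N _).mpr (hc ▸ orderOf_dvd_of_pow_eq_one hsum)
      push_cast at h2
      have hm : (q : ZMod N) ^ m = 1 := pow_orderOf_eq_one _
      apply hneg (i + (m - j))
      rw [pow_add, show (q : ZMod N) ^ i = -((q : ZMod N) ^ j) by linear_combination h2, neg_mul, ← pow_add,
        Nat.add_sub_cancel' hj.le, hm]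
  · intro x hx
    have hco : ∀ i : ℕ, orderOf (c ^ (q ^ i)) = orderOf c := fun i => by
      apply Nat.Coprime.orderOf_pow
      rw [hc]; exact (hcop.pow_left i).symm
    rcases Finset.mem_union.mp hx with h | h <;> obtain ⟨i, -, rfl⟩ := Finset.mem_image.mp h
    · rw [hco, hc]
    · rw [← hc, ← hco i]; simp [orderOf_eq_orderOf_iff, inv_pow]

/-- embedding of two symplectic groups -/
lemma pair_embed (a b : ℕ) (hab : a + b = n) :
    ∃ φ : Matrix.symplecticGroup (Fin a) F × Matrix.symplecticGroup (Fin b) F →* ↥(Matrix.symplecticGroup (Fin n) F),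
      Function.Injective φ := by
  classical
  let ω := Cfsg.Lib.Classical.sympBilin F a
  let ω' := Cfsg.Lib.Classical.sympBilin F b
  let Bt : LinearMap.BilinForm F ((Fin a ⊕ Fin a → F) × (Fin b ⊕ Fin b → F)) :=
    LinearMap.mk₂ F (fun x y => ω x.1 y.1 + ω' x.2 y.2)
      (fun a b c => by simp; ring) (fun a b c => by simp [mul_add]) (fun a b c => by simp; ring) (fun a b c => by simp [mul_add])
  refine Cfsg.Agent.SympEmbed.exists_embed n ?_ Bt (fun x => ?_) ?_
    { toFun := fun g : Matrix.symplecticGroup (Fin a) F × Matrix.symplecticGroup (Fin b) F =>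
        (Matrix.mulVecLin g.1.1).prodMap (Matrix.mulVecLin g.2.1)
      map_one' := LinearMap.ext fun x => Prod.ext (by show (1 : Matrix _ _ F) *ᵥ x.1 = x.1; simp)
        (by show (1 : Matrix _ _ F) *ᵥ x.2 = x.2; simp)
      map_mul' := fun g h => LinearMap.ext fun x => Prod.ext
        (by show (g.1.1 * h.1.1) *ᵥ x.1 = g.1.1 *ᵥ (h.1.1 *ᵥ x.1); simp [Matrix.mulVec_mulVec])
        (by show (g.2.1 * h.2.1) *ᵥ x.2 = g.2.1 *ᵥ (h.2.1 *ᵥ x.2); simp [Matrix.mulVec_mulVec]) } ?_ ?_
  · simp only [Module.finrank_prod, Module.finrank_pi, Fintype.card_sum, Fintype.card_fin]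
    omega
  · show ω x.1 x.1 + ω' x.2 x.2 = 0
    rw [Cfsg.Lib.Classical.sympBilin_isAlt F a x.1, Cfsg.Lib.Classical.sympBilin_isAlt F b x.2, add_zero]
  · intro x hx
    by_cases h1 : x.1 = 0
    · obtain ⟨y, hy⟩ := Cfsg.Lib.Classical.SpSimple.exists_eq_one (F := F) (show x.2 ≠ 0 from fun h => hx (Prod.ext h1 h))
      refine ⟨(0, y), ?_⟩
      show ω x.1 0 + ω' x.2 y ≠ 0
      rw [map_zero, zero_add]
      intro h0
      first
        | exact one_ne_zero (hy.symm.trans h0)
        | (have h4 := Cfsg.Lib.Classical.SpSimple.swap (F := F) y x.2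
           rw [hy, h0] at h4; simp at h4)
    · obtain ⟨y, hy⟩ := Cfsg.Lib.Classical.SpSimple.exists_eq_one (F := F) h1
      refine ⟨(y, 0), ?_⟩
      show ω x.1 y + ω' x.2 0 ≠ 0
      rw [map_zero, add_zero]
      intro h0
      first
        | exact one_ne_zero (hy.symm.trans h0)
        | (have h4 := Cfsg.Lib.Classical.SpSimple.swap (F := F) y x.1
           rw [hy, h0] at h4; simp at h4)
  · intro g h he
    refine Prod.ext (Subtype.ext (Matrix.ext_of_mulVec_single fun i => ?_)) (Subtype.ext (Matrix.ext_of_mulVec_single fun i => ?_))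
    · have := congrArg (fun f : ((Fin a ⊕ Fin a → F) × (Fin b ⊕ Fin b → F)) →ₗ[F] _ => (f (Pi.single i 1, 0)).1) he
      exact this
    · have := congrArg (fun f : ((Fin a ⊕ Fin a → F) × (Fin b ⊕ Fin b → F)) →ₗ[F] _ => (f (0, Pi.single i 1)).2) he
      exact this
  · intro g x y
    show ω (g.1.1 *ᵥ x.1) (g.1.1 *ᵥ y.1) + ω' (g.2.1 *ᵥ x.2) (g.2.1 *ᵥ y.2) = ω x.1 y.1 + ω' x.2 y.2
    rw [Cfsg.Lib.Classical.PSpAut.iso, Cfsg.Lib.Classical.PSpAut.iso]

/-- an element of prime order in the smallest symplectic group containing one -/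
lemma exists_elt {r k ηk : ℕ} (hr : r.Prime) (hr2 : r ≠ 2) (hrq : ¬ r ∣ Fintype.card F)
    (hk : k = orderOf ((Fintype.card F : ℕ) : ZMod r)) (hηk : (Odd k ∧ ηk = k) ∨ (Even k ∧ 2 * ηk = k))
    {m : ℕ} (hm : ηk ≤ m) : ∃ x : Matrix.symplecticGroup (Fin m) F, orderOf x = r := by
  classical
  haveI := Fact.mk hr
  have hq2 : 2 ≤ Fintype.card F := Fintype.one_lt_card
  have hk0 : 0 < k := hk ▸ ord_pos hrq
  obtain ⟨φ, hφ⟩ := S2381.exists_hom (F := F) rfl m r hr2 hrq
  have hap : 1 ≤ ap (Fintype.card F) r := by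
    rw [← val_base hq2 hrq]
    refine one_le_padicValNat_of_dvd ?_ ((dvd_pow_sub_one_iff (by omega) _).mpr dvd_rfl)
    have : 2 ≤ Fintype.card F ^ orderOf ((Fintype.card F : ℕ) : ZMod r) := hq2.trans (Nat.le_self_pow (ord_pos hrq).ne' _)
    omega
  have hpos : 0 < ((Finset.Icc 1 m).filter (fun i => orderOf ((Fintype.card F : ℕ) : ZMod r) ∣ 2 * i)).card := by
    rw [Finset.card_pos]
    refine ⟨ηk, Finset.mem_filter.mpr ⟨Finset.mem_Icc.mpr ⟨by omega, hm⟩, ?_⟩⟩
    rw [← hk]
    rcases hηk with ⟨-, h⟩ | ⟨-, h⟩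
    · rw [h]; exact dvd_mul_left _ _
    · rw [h]
  let v : Fin ((Finset.Icc 1 m).filter (fun i => orderOf ((Fintype.card F : ℕ) : ZMod r) ∣ 2 * i)).card →
      Multiplicative (ZMod (r ^ ap (Fintype.card F) r)) := Pi.mulSingle ⟨0, hpos⟩ (Multiplicative.ofAdd 1)
  have hv : orderOf v = r ^ ap (Fintype.card F) r := by
    rw [orderOf_piMulSingle, orderOf_ofAdd_eq_addOrderOf, ZMod.addOrderOf_one]
  have hrR : r ∣ orderOf (φ v) := by
    rw [orderOf_injective φ hφ, hv]; exact dvd_pow_self r (by omega)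
  exact ⟨φ v ^ (orderOf (φ v) / r), orderOf_pow_orderOf_div (orderOf_pos _).ne' hrR⟩

/-- an element of order `R` in a single symplectic torus -/
lemma exists_torus (e w : ℕ) [NeZero e] (R : ℕ) [NeZero R]
    (h : (Odd e ∧ w = e ∧ R ∣ Fintype.card F ^ e - 1) ∨ (Even e ∧ 2 * w = e ∧ R ∣ Fintype.card F ^ w + 1))
    {m : ℕ} (hm : w ≤ m) : ∃ x : Matrix.symplecticGroup (Fin m) F, orderOf x = R := by
  classical
  set q := Fintype.card F with hF'
  have hF : Fintype.card F = q := rfl
  have hq : 2 ≤ q := Fintype.one_lt_card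
  obtain ⟨p, hcp⟩ := CharP.exists F
  haveI : Fact p.Prime := ⟨CharP.char_is_prime F p⟩
  set K := FiniteField.Extension F p e
  haveI : Fintype K := Fintype.ofFinite K
  haveI : Module.Finite F K := Module.Finite.of_finite
  have he0 : 0 < e := Nat.pos_of_ne_zero (NeZero.ne e)
  have hfr : Module.finrank F K = e := FiniteField.finrank_extension F p e
  have hcard : Nat.card Kˣ = q ^ e - 1 := by
    rw [Nat.card_units, Nat.card_eq_fintype_card, Module.card_eq_pow_finrank (K := F) (V := K), hfr, hF]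
  have hRdvd : R ∣ Nat.card Kˣ := by
    rw [hcard]
    rcases h with ⟨-, -, h⟩ | ⟨-, h2, h⟩
    · exact h
    · refine h.trans ⟨q ^ w - 1, ?_⟩
      have e2 := Nat.sq_sub_sq (q ^ w) 1
      rw [one_pow, sq, ← pow_add] at e2
      rw [← h2, two_mul, e2]
  obtain ⟨θ, hθ⟩ := exists_zmod_hom (M := Kˣ) (R := R) hRdvd
  have hne : ∀ y : K, y ≠ 0 → ∃ z, Algebra.trace F K (y * z) ≠ 0 := by
    intro y hy
    obtain ⟨w, hw⟩ := Algebra.trace_surjective F K 1
    exact ⟨y⁻¹ * w, by rw [← mul_assoc, mul_inv_cancel₀ hy, one_mul, hw]; exact one_ne_zero⟩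
  suffices hh : ∃ φ : (Fin 1 → Multiplicative (ZMod R)) →* ↥(Matrix.symplecticGroup (Fin m) F), Function.Injective φ by
    obtain ⟨φ, hφ⟩ := hh
    exact ⟨φ (Pi.mulSingle 0 (Multiplicative.ofAdd 1)), by
      rw [orderOf_injective φ hφ, orderOf_piMulSingle, orderOf_ofAdd_eq_addOrderOf, ZMod.addOrderOf_one]⟩
  rcases h with ⟨hodd, hw, -⟩ | ⟨hev, hw, hR⟩
  · let B : LinearMap.BilinForm F (K × K) :=
      LinearMap.mk₂ F (fun x y => Algebra.trace F K (x.1 * y.2 - x.2 * y.1))
        (fun a b d => by simp [add_mul]; ring) (fun a b d => by simp [← smul_sub])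
        (fun a b d => by simp [mul_add]; ring) (fun a b d => by simp [← smul_sub])
    let L : Kˣ →* (K × K →ₗ[F] K × K) :=
      { toFun := fun x => (Algebra.lmul F K (x : K)).prodMap (Algebra.lmul F K ((x⁻¹ : Kˣ) : K))
        map_one' := LinearMap.ext fun v => Prod.ext (by simp) (by simp)
        map_mul' := fun x y => LinearMap.ext fun v => Prod.ext (by simp [mul_assoc]) (by simp [mul_assoc, mul_comm, mul_left_comm]) }
    refine S2381.blocks e 1 m (by rw [Module.finrank_prod, hfr, two_mul]) (by omega) B ?_ ?_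
      (L.comp θ) ?_ ?_
    · intro a
      show Algebra.trace F K (a.1 * a.2 - a.2 * a.1) = 0
      rw [mul_comm, sub_self, map_zero]
    · intro a ha
      by_cases h1 : a.1 = 0
      · have h2 : a.2 ≠ 0 := fun h => ha (Prod.ext h1 h)
        obtain ⟨z, hz⟩ := hne (-a.2) (neg_ne_zero.mpr h2)
        refine ⟨(z, 0), ?_⟩
        show Algebra.trace F K (a.1 * 0 - a.2 * z) ≠ 0
        rwa [mul_zero, zero_sub, ← neg_mul]
      · obtain ⟨z, hz⟩ := hne a.1 h1
        refine ⟨(0, z), ?_⟩
        show Algebra.trace F K (a.1 * z - a.2 * 0) ≠ 0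
        rwa [mul_zero, sub_zero]
    · intro u v h
      apply hθ
      apply Units.ext
      have := congrArg (fun g : (K × K) →ₗ[F] K × K => (g (1, 0)).1) h
      simpa [L] using this
    · intro g a b
      show Algebra.trace F K (((θ g : Kˣ) : K) * a.1 * ((((θ g)⁻¹ : Kˣ) : K) * b.2) -
        (((θ g)⁻¹ : Kˣ) : K) * a.2 * (((θ g : Kˣ) : K) * b.1)) = Algebra.trace F K (a.1 * b.2 - a.2 * b.1)
      congr 1
      linear_combination (a.1 * b.2 - a.2 * b.1) * (θ g).mul_inv
  · obtain ⟨f, hf⟩ := hev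
    have hf0 : 0 < f := by omega
    have hwf : w = f := by omega
    let σ : K ≃ₐ[F] K := (FiniteField.frobeniusAlgEquivOfAlgebraic F K) ^ f
    have hσ : ∀ x : K, σ x = x ^ (q ^ f) := by
      intro x
      have := congrFun (FiniteField.coe_frobeniusAlgEquivOfAlgebraic_iterate (K := F) (L := K) f) x
      rw [hF] at this
      rw [show σ x = (⇑(FiniteField.frobeniusAlgEquivOfAlgebraic F K))^[f] x from congrFun (AlgEquiv.coe_pow _ _) x]
      exact this
    have hσσ : ∀ x : K, σ (σ x) = x := by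
      intro x
      have hc : Fintype.card K = q ^ f * q ^ f := by
        rw [Module.card_eq_pow_finrank (K := F) (V := K), hfr, hF, hf, pow_add]
      rw [hσ, hσ, ← pow_mul, ← hc, FiniteField.pow_card]
    obtain ⟨γ, hγ⟩ := IsCyclic.exists_ofOrder_eq_natCard (α := Kˣ)
    have hσne : σ (γ : K) ≠ γ := by
      intro h
      rw [hσ] at h
      have h2 : 2 ≤ q ^ f := hq.trans (Nat.le_self_pow hf0.ne' q)
      have h1 : γ ^ (q ^ f - 1) = 1 := by
        apply Units.ext
        apply mul_right_cancel₀ γ.ne_zero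
        rw [Units.val_pow_eq_pow_val, ← pow_succ, Units.val_one, one_mul, show q ^ f - 1 + 1 = q ^ f by omega, h]
      have := Nat.le_of_dvd (by omega) (orderOf_dvd_of_pow_eq_one h1)
      rw [hγ, hcard, hf, pow_add] at this
      have h3 : q ^ f * 2 ≤ q ^ f * q ^ f := Nat.mul_le_mul_left _ h2
      omega
    set c : K := (γ : K) - σ γ with hc
    have hc0 : c ≠ 0 := sub_ne_zero.mpr (Ne.symm hσne)
    let B : LinearMap.BilinForm F K :=
      LinearMap.mk₂ F (fun a b => Algebra.trace F K (c * (a * σ b)))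
        (fun a b d => by simp [add_mul, mul_add]) (fun a b d => by simp)
        (fun a b d => by simp [mul_add]) (fun a b d => by simp)
    refine S2381.blocks f 1 m (by rw [hfr, hf, two_mul]) (by omega) B ?_ ?_
      ((Algebra.lmul F K : K →ₐ[F] Module.End F K).toMonoidHom.comp ((Units.coeHom K).comp θ)) ?_ ?_
    · intro a
      show Algebra.trace F K (c * (a * σ a)) = 0
      have : c * (a * σ a) = (γ : K) * (a * σ a) - σ ((γ : K) * (a * σ a)) := by
        rw [map_mul, map_mul, hσσ, hc]; ring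
      rw [this, map_sub, Algebra.trace_eq_of_algEquiv, sub_self]
    · intro a ha
      obtain ⟨z, hz⟩ := hne (c * a) (mul_ne_zero hc0 ha)
      refine ⟨σ z, ?_⟩
      show Algebra.trace F K (c * (a * σ (σ z))) ≠ 0
      rwa [hσσ, ← mul_assoc]
    · intro u v h
      apply hθ
      apply Units.ext
      have := congrArg (fun g : K →ₗ[F] K => g 1) h
      simpa using this
    · intro g a b
      show Algebra.trace F K (c * (((θ g : Kˣ) : K) * a * σ (((θ g : Kˣ) : K) * b))) = Algebra.trace F K (c * (a * σ b))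
      congr 2
      set x : K := ((θ g : Kˣ) : K)
      have hx : x * σ x = 1 := by
        rw [hσ, ← pow_succ', ← Units.val_pow_eq_pow_val]
        have hord : orderOf (θ g) ∣ q ^ f + 1 :=
          ((orderOf_map_dvd θ g).trans (by simpa [Nat.card_zmod] using orderOf_dvd_natCard g)).trans (hwf ▸ hR)
        rw [orderOf_dvd_iff_pow_eq_one.mp hord, Units.val_one]
      rw [map_mul]
      linear_combination (a * σ b) * hx


lemma eta_le {r k ηk : ℕ} (hr : r.Prime) (hr2 : r ≠ 2) (hrq : ¬ r ∣ Fintype.card F)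
    (hk : k = orderOf ((Fintype.card F : ℕ) : ZMod r)) (hηk : (Odd k ∧ ηk = k) ∨ (Even k ∧ 2 * ηk = k))
    (hrG : r ∣ Nat.card (Cfsg.PSp n F)) : ηk ≤ n := by
  classical
  haveI := Fact.mk hr
  have hq2 : 2 ≤ Fintype.card F := Fintype.one_lt_card
  have h : r ∣ Nat.card (Matrix.symplecticGroup (Fin n) F) :=
    hrG.trans (Subgroup.card_quotient_dvd_card _)
  rw [Cfsg.Lib.Classical.ClassicalOrders.card_sp rfl n] at h
  rcases hr.dvd_mul.mp h with h | h
  · exact absurd (hr.dvd_of_dvd_pow h) hrq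
  · obtain ⟨i, hi, hdvd⟩ := (hr.prime.dvd_finsetProd_iff _).mp h
    rw [Finset.mem_range] at hi
    have h2 := (dvd_pow_sub_one_iff (by omega) _).mp hdvd
    rw [← hk] at h2
    rcases hηk with ⟨ho, rfl⟩ | ⟨-, he⟩
    · have := Nat.le_of_dvd (by omega) (Nat.Coprime.dvd_of_dvd_mul_left (Nat.coprime_two_right.mpr ho) h2)
      omega
    · have := Nat.le_of_dvd (by omega) h2
      omega

lemma neg_one_pow_case {r k : ℕ} [Fact r.Prime] (hr2 : r ≠ 2) {x : ZMod r} (hk : k = orderOf x) {j : ℕ}
    (h : x ^ j = -1) : Even k ∧ (k / 2 ∣ j) ∧ ¬ k ∣ j := by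
  have h2 : (2 : ZMod r) ≠ 0 := by
    intro h0
    have : ((2 : ℕ) : ZMod r) = 0 := by exact_mod_cast h0
    exact hr2 ((Nat.prime_dvd_prime_iff_eq Fact.out Nat.prime_two).mp ((CharP.cast_eq_zero_iff (ZMod r) r 2).mp this))
  have hnd : ¬ k ∣ j := by
    intro hd
    rw [hk] at hd
    rw [orderOf_dvd_iff_pow_eq_one.mp hd] at h
    exact h2 (by linear_combination h)
  have hd2 : k ∣ 2 * j := by
    rw [hk]
    exact orderOf_dvd_of_pow_eq_one (by rw [mul_comm, pow_mul, h, neg_one_sq])
  rcases Nat.even_or_odd k with he | ho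
  · refine ⟨he, ?_, hnd⟩
    obtain ⟨a, rfl⟩ := he
    rw [← two_mul] at hd2
    rw [show (a + a) / 2 = a by omega]
    exact Nat.dvd_of_mul_dvd_mul_left (by norm_num) hd2
  · exact absurd (Nat.Coprime.dvd_of_dvd_mul_left (Nat.coprime_two_right.mpr ho) hd2) hnd

lemma no_pair (p : ℕ) [Fact p.Prime] [CharP F p] {r s k l ηk ηl : ℕ} (hr : r.Prime) (hs : s.Prime)
    (hr2 : r ≠ 2) (hs2 : s ≠ 2) (hrp : r ≠ p) (hsp : s ≠ p) (hrs : r ≠ s)
    (hk : k = orderOf ((Fintype.card F : ℕ) : ZMod r)) (hl : l = orderOf ((Fintype.card F : ℕ) : ZMod s))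
    (hηk : (Odd k ∧ ηk = k) ∨ (Even k ∧ 2 * ηk = k)) (hηl : (Odd l ∧ ηl = l) ∨ (Even l ∧ 2 * ηl = l))
    (hkl : ηk ≤ ηl) (hbig : n < ηk + ηl) (hnt : ¬ ∃ t : ℕ, Odd t ∧ l = k * t)
    {C : Matrix.symplecticGroup (Fin n) F} (hC : C ^ (r * s) = 1) (hCr : C ^ r ≠ 1) (hCs : C ^ s ≠ 1) : False := by
  classical
  haveI := Fact.mk hr
  haveI := Fact.mk hs
  set q := Fintype.card F with hq
  have hrq : ¬ r ∣ q := by
    intro h
    obtain ⟨j, -, hj⟩ := FiniteField.card F p
    rw [hq, hj] at h
    exact hrp ((Nat.prime_dvd_prime_iff_eq hr Fact.out).mp (hr.dvd_of_dvd_pow h))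
  have hsq : ¬ s ∣ q := by
    intro h
    obtain ⟨j, -, hj⟩ := FiniteField.card F p
    rw [hq, hj] at h
    exact hsp ((Nat.prime_dvd_prime_iff_eq hs Fact.out).mp (hs.dvd_of_dvd_pow h))
  have hcr : Nat.Coprime q r := (hr.coprime_iff_not_dvd.mpr hrq).symm
  have hcs : Nat.Coprime q s := (hs.coprime_iff_not_dvd.mpr hsq).symm
  have hk0 : 0 < k := hk ▸ ord_pos hrq
  have hl0 : 0 < l := hl ▸ ord_pos hsq
  let ι := Fin n ⊕ Fin n
  let L := AlgebraicClosure F
  haveI : CharP L p := charP_of_injective_algebraMap (algebraMap F L).injective p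
  let φ : Matrix ι ι F →+* Matrix ι ι L := (algebraMap F L).mapMatrix
  have hφ : Function.Injective φ := Matrix.map_injective (algebraMap F L).injective
  set M := φ (C : Matrix ι ι F) with hM
  have hMN : M ^ (r * s) = 1 := by rw [hM, ← map_pow, ← SubmonoidClass.coe_pow, hC]; exact map_one φ
  set P := M.charpoly with hP
  have hP0 : P ≠ 0 := (Matrix.charpoly_monic M).ne_zero
  have hPdeg : P.natDegree = 2 * n := by
    rw [hP, Matrix.charpoly_natDegree_eq_dim]; simp [ι, two_mul]
  have hPq : ∀ x : L, P.IsRoot x → P.IsRoot (x ^ q) := by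
    intro x hx
    have he : P = (C : Matrix ι ι F).charpoly.map (algebraMap F L) := Matrix.charpoly_map _ _
    rw [Polynomial.IsRoot.def, he, Polynomial.eval_map_algebraMap] at hx ⊢
    rw [← Polynomial.expand_aeval, FiniteField.expand_card, map_pow, hx, zero_pow (by simp [hq, Fintype.card_ne_zero])]
  have hPinv : ∀ x : L, x ≠ 0 → P.IsRoot x → P.IsRoot x⁻¹ := by
    intro x hx0 hx
    rw [hP, Polynomial.IsRoot.def, Matrix.eval_charpoly, ← Matrix.exists_vecMul_eq_zero_iff] at hx
    obtain ⟨v, hv0, hv⟩ := hx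
    rw [Matrix.vecMul_sub, sub_eq_zero] at hv
    have hv' : Mᵀ *ᵥ v = x • v := by
      rw [Matrix.mulVec_transpose, ← hv]
      ext i; simp [Matrix.vecMul_diagonal, Matrix.scalar_apply, mul_comm]
    rw [hP, Polynomial.IsRoot.def, Matrix.eval_charpoly, ← Matrix.exists_mulVec_eq_zero_iff]
    have hJ : M * Matrix.J (Fin n) L * Mᵀ = Matrix.J (Fin n) L := by
      have h := congrArg φ (SymplecticGroup.mem_iff.mp C.2)
      rw [map_mul, map_mul] at h
      have eJ : φ (Matrix.J (Fin n) F) = Matrix.J (Fin n) L := by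
        ext i j
        rcases i with i | i <;> rcases j with j | j <;> simp [φ, Matrix.J, Matrix.one_apply, apply_ite]
      rw [eJ] at h
      exact h
    refine ⟨Matrix.J (Fin n) L *ᵥ v, ?_, ?_⟩
    · intro h
      apply hv0
      have := congrArg (fun w => Matrix.J (Fin n) L *ᵥ w) h
      simp only [Matrix.mulVec_zero] at this
      rw [Matrix.mulVec_mulVec, Matrix.J_squared, Matrix.neg_mulVec, Matrix.one_mulVec, neg_eq_zero] at this
      exact this
    · have h2 : x • (M *ᵥ (Matrix.J (Fin n) L *ᵥ v)) = Matrix.J (Fin n) L *ᵥ v := by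
        conv_rhs => rw [← hJ]
        rw [← Matrix.mulVec_mulVec, hv', ← Matrix.mulVec_mulVec, Matrix.mulVec_smul, Matrix.mulVec_smul]
      rw [Matrix.sub_mulVec, sub_eq_zero]
      conv_lhs => rw [← h2]
      ext i
      simp [Matrix.scalar_apply, Matrix.mulVec_diagonal, hx0]
  have hroot1 : ∀ x : L, P.IsRoot x → x ^ (r * s) = 1 := by
    intro x hx
    rw [hP, Polynomial.IsRoot.def, Matrix.eval_charpoly, ← Matrix.exists_mulVec_eq_zero_iff] at hx
    obtain ⟨v, hv0, hv⟩ := hx
    rw [Matrix.sub_mulVec, sub_eq_zero] at hv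
    have hv' : M *ᵥ v = x • v := by rw [← hv]; ext i; simp [Matrix.scalar_apply, Matrix.mulVec_diagonal]
    have hpow : ∀ j : ℕ, (M ^ j) *ᵥ v = x ^ j • v := by
      intro j
      induction j with
      | zero => simp
      | succ j ih => rw [pow_succ', ← Matrix.mulVec_mulVec, ih, Matrix.mulVec_smul, hv', smul_smul, pow_succ]
    have := hpow (r * s)
    rw [hMN, Matrix.one_mulVec] at this
    exact (smul_left_injective L hv0 (this.symm.trans (one_smul L v).symm))
  have horb : ∀ (c : L) (N : ℕ) [NeZero N], P.IsRoot c → orderOf c = N → ∀ x ∈ orbitSet q c N, P.IsRoot x := by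
    intro c N _ hc hN x hx
    have hi : ∀ i : ℕ, P.IsRoot (c ^ (q ^ i)) := by
      intro i
      induction i with
      | zero => simpa using hc
      | succ i ih => rw [pow_succ, pow_mul]; exact hPq _ ih
    rcases Finset.mem_union.mp hx with h | h <;> obtain ⟨i, -, rfl⟩ := Finset.mem_image.mp h
    · exact hi i
    · refine hPinv _ (pow_ne_zero _ fun h0 => ?_) (hi i)
      rw [h0, orderOf_zero] at hN
      exact NeZero.ne N hN.symm
  have hle : ∀ T : Finset L, (∀ x ∈ T, P.IsRoot x) → T.card ≤ 2 * n := by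
    intro T hT
    refine le_trans (Finset.card_le_card (t := P.roots.toFinset) fun x hx => ?_) ?_
    · rw [Multiset.mem_toFinset, Polynomial.mem_roots hP0]; exact hT x hx
    · exact (Multiset.toFinset_card_le _).trans (hPdeg ▸ Polynomial.card_roots' P)
  have hsingle : ∀ (r' k' η' : ℕ), r'.Prime → r' ≠ 2 → Nat.Coprime q r' → k' = orderOf (q : ZMod r') →
      (Odd k' ∧ η' = k' ∨ Even k' ∧ 2 * η' = k') → ∀ a : L, orderOf a = r' → 2 * η' ≤ (orbitSet q a r').card := by
    intro r' k' η' h1 h2 h3 h4 h5 a ha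
    haveI := Fact.mk h1
    obtain ⟨o1, o2, -⟩ := orbit_card (q := q) ha h3
    rw [← h4] at o1 o2
    rcases h5 with ⟨ho, he⟩ | ⟨-, he⟩
    · rw [he]
      exact o2 fun j hj => (Nat.not_even_iff_odd.mpr ho) (neg_one_pow_case h2 h4 hj).1
    · omega
  by_cases hjoint : ∃ c : L, P.IsRoot c ∧ c ^ r ≠ 1 ∧ c ^ s ≠ 1
  · obtain ⟨c, hc, hcr', hcs'⟩ := hjoint
    have hoc : orderOf c = r * s := by
      obtain ⟨a, b, ha, hb, hab⟩ := exists_dvd_and_dvd_of_dvd_mul (orderOf_dvd_of_pow_eq_one (hroot1 c hc))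
      rcases (Nat.dvd_prime hr).mp ha with rfl | rfl
      · rw [one_mul] at hab
        exact absurd (orderOf_dvd_iff_pow_eq_one.mp (hab ▸ hb)) hcs'
      · rcases (Nat.dvd_prime hs).mp hb with rfl | rfl
        · rw [mul_one] at hab
          exact absurd (orderOf_dvd_iff_pow_eq_one.mp (hab ▸ dvd_rfl)) hcr'
        · exact hab
    haveI : NeZero (r * s) := ⟨Nat.mul_ne_zero hr.ne_zero hs.ne_zero⟩
    obtain ⟨o1, o2, -⟩ := orbit_card (q := q) hoc (hcr.mul_right hcs)
    have hb := hle _ (horb c (r * s) hc hoc)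
    have hcrs : Nat.Coprime r s := (Nat.coprime_primes hr hs).mpr hrs
    let e := ZMod.chineseRemainder hcrs
    have hm : orderOf ((q : ℕ) : ZMod (r * s)) = Nat.lcm k l := by
      rw [← orderOf_injective (e : ZMod (r * s) →+* ZMod r × ZMod s).toMonoidHom e.injective]
      show orderOf (e (q : ZMod (r * s))) = _
      rw [map_natCast, Prod.orderOf, Prod.fst_natCast, Prod.snd_natCast, ← hk, ← hl]
    rw [hm] at o1 o2
    have hkd : k ∣ Nat.lcm k l := Nat.dvd_lcm_left k l
    obtain ⟨a, ha⟩ := Nat.dvd_lcm_right k l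
    have hpos : 0 < Nat.lcm k l := Nat.lcm_pos hk0 hl0
    have ha0 : 0 < a := by
      rcases Nat.eq_zero_or_pos a with h | h
      · rw [h, mul_zero] at ha; omega
      · exact h
    have hneg : ∀ j : ℕ, ((q : ℕ) : ZMod (r * s)) ^ j = -1 → Even k ∧ Even l ∧ k / 2 ∣ j ∧ ¬ k ∣ j ∧ l / 2 ∣ j ∧ ¬ l ∣ j := by
      intro j hj
      have h1 : (q : ZMod r) ^ j = -1 := by
        have := congrArg (fun z => (e z).1) hj
        simpa using this
      have h2 : (q : ZMod s) ^ j = -1 := by
        have := congrArg (fun z => (e z).2) hj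
        simpa using this
      obtain ⟨a1, a2, a3⟩ := neg_one_pow_case hr2 hk h1
      obtain ⟨b1, b2, b3⟩ := neg_one_pow_case hs2 hl h2
      exact ⟨a1, b1, a2, a3, b2, b3⟩
    rcases hηk with ⟨hko, hke⟩ | ⟨hke', hke⟩ <;> rcases hηl with ⟨hlo, hle'⟩ | ⟨hle'', hle'⟩
    · have h2 := o2 fun j hj => Nat.not_even_iff_odd.mpr hko (hneg j hj).1
      have hodd : Odd (Nat.lcm k l) := (hko.mul hlo).of_dvd_nat (Nat.lcm_dvd_mul k l)
      have : a = 1 := by
        by_contra hne
        have : l * 2 ≤ l * a := Nat.mul_le_mul_left l (by omega)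
        omega
      rw [this, mul_one] at ha
      obtain ⟨t, ht⟩ : k ∣ l := ha ▸ hkd
      exact hnt ⟨t, hlo.of_dvd_nat (Dvd.intro_left k ht.symm), ht⟩
    · have h2 := o2 fun j hj => Nat.not_even_iff_odd.mpr hko (hneg j hj).1
      have : l * 1 ≤ l * a := Nat.mul_le_mul_left l ha0
      omega
    · have h2 := o2 fun j hj => Nat.not_even_iff_odd.mpr hlo (hneg j hj).2.1
      have : a = 1 := by
        by_contra hne
        have : l * 2 ≤ l * a := Nat.mul_le_mul_left l (by omega)
        omega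
      rw [this, mul_one] at ha
      exact Nat.not_even_iff_odd.mpr hlo ((even_iff_two_dvd.mpr ((even_iff_two_dvd.mp hke').trans (ha ▸ hkd))))
    · have : a = 1 := by
        by_contra hne
        have : l * 2 ≤ l * a := Nat.mul_le_mul_left l (by omega)
        omega
      rw [this, mul_one] at ha
      obtain ⟨t, ht⟩ : k ∣ l := ha ▸ hkd
      have hte : Even t := by
        rcases Nat.even_or_odd t with h | h
        · exact h
        · exact absurd ⟨t, h, ht⟩ hnt
      have h2 := o2 fun j hj => by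
        obtain ⟨-, -, -, hnk, hlj, -⟩ := hneg j hj
        apply hnk
        obtain ⟨t', rfl⟩ := hte
        refine Dvd.dvd.trans ⟨t', ?_⟩ hlj
        rw [ht, ← two_mul, mul_left_comm, Nat.mul_div_cancel_left _ (by norm_num : 0 < 2)]
      omega
  · push Not at hjoint
    have hex : ∀ r' : ℕ, C ^ r' ≠ 1 → ∃ a : L, P.IsRoot a ∧ a ^ r' ≠ 1 := by
      intro r' hr'
      by_contra hcon
      push Not at hcon
      apply hr'
      have hN0 : ((r * s : ℕ) : L) ≠ 0 := by
        rw [Nat.cast_mul]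
        refine mul_ne_zero (fun h => hrp ?_) (fun h => hsp ?_)
        · exact ((Nat.prime_dvd_prime_iff_eq Fact.out hr).mp ((CharP.cast_eq_zero_iff L p r).mp h)).symm
        · exact ((Nat.prime_dvd_prime_iff_eq Fact.out hs).mp ((CharP.cast_eq_zero_iff L p s).mp h)).symm
      have hsep : (Polynomial.X ^ (r * s) - 1 : Polynomial L).Separable :=
        by simpa using Polynomial.separable_X_pow_sub_C (1 : L) (n := r * s) hN0 one_ne_zero
      have hdvd : minpoly L M ∣ Polynomial.X ^ (r * s) - 1 := minpoly.dvd L M (by simp [hMN])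
      have hsep' : (minpoly L M).Separable := hsep.of_dvd hdvd
      have hsplit : (minpoly L M).Splits := IsAlgClosed.splits _
      have hmd : minpoly L M ∣ Polynomial.X ^ r' - 1 := by
        rw [hsplit.eq_prod_roots_of_monic (minpoly.monic (Matrix.isIntegral M))]
        rcases Nat.eq_zero_or_pos r' with rfl | hr0
        · simp
        refine (Multiset.prod_X_sub_C_dvd_iff_le_roots (show (Polynomial.X ^ r' - 1 : Polynomial L) ≠ 0 by simpa using Polynomial.X_pow_sub_C_ne_zero hr0 (1 : L)) _).mpr ?_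
        rw [Multiset.le_iff_subset (Polynomial.nodup_roots hsep')]
        intro x hx
        rw [Polynomial.mem_roots (show (Polynomial.X ^ r' - 1 : Polynomial L) ≠ 0 by simpa using Polynomial.X_pow_sub_C_ne_zero hr0 (1 : L)), Polynomial.IsRoot.def]
        have hxP : P.IsRoot x :=
          (Polynomial.isRoot_of_mem_roots hx).dvd (Matrix.minpoly_dvd_charpoly M)
        simp [hcon x hxP]
      obtain ⟨g, hg⟩ := hmd
      have h0 := congrArg (Polynomial.aeval M) hg
      rw [map_mul, minpoly.aeval, zero_mul] at h0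
      simp only [map_sub, map_pow, Polynomial.aeval_X, map_one, sub_eq_zero] at h0
      exact Subtype.ext (hφ (by rw [SubmonoidClass.coe_pow, map_pow]; exact h0.trans (map_one φ).symm))
    obtain ⟨a, haP, ha⟩ := hex s hCs
    obtain ⟨b, hbP, hb⟩ := hex r hCr
    have ha' : orderOf a = r := by
      have h1 : a ^ r = 1 := by
        by_contra h
        exact ha (hjoint a haP h)
      exact (hr.eq_one_or_self_of_dvd _ (orderOf_dvd_of_pow_eq_one h1)).resolve_left
        (fun h => ha (by rw [orderOf_eq_one_iff.mp h, one_pow]))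
    have hb' : orderOf b = s := by
      have h1 : b ^ s = 1 := hjoint b hbP hb
      exact (hs.eq_one_or_self_of_dvd _ (orderOf_dvd_of_pow_eq_one h1)).resolve_left
        (fun h => hb (by rw [orderOf_eq_one_iff.mp h, one_pow]))
    have h1 := hsingle r k ηk hr hr2 hcr hk hηk a ha'
    have h2 := hsingle s l ηl hs hs2 hcs hl hηl b hb'
    have hdis : Disjoint (orbitSet q a r) (orbitSet q b s) := by
      rw [Finset.disjoint_left]
      intro x hx hx'
      exact hrs (((orbit_card ha' hcr).2.2 x hx).symm.trans ((orbit_card hb' hcs).2.2 x hx'))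
    have h3 := hle (orbitSet q a r ∪ orbitSet q b s) (fun x hx => by
      rcases Finset.mem_union.mp hx with h | h
      · exact horb a r haP ha' x h
      · exact horb b s hbP hb' x h)
    rw [Finset.card_union_of_disjoint hdis] at h3
    omega

/-- Adjacency of two odd primes in the prime graph of PSp(2n,q): let F be a finite field of characteristic p with q elements, n ≥ 2 with PSp(2n,F) simple, and let r ≠ s be odd primes different from p dividing the order of PSp(2n,F). Let k, l be the multiplicative orders of q modulo r and s, put η(m) = m for odd m and η(m) = m/2 for even m, and suppose η(k) ≤ η(l). Then PSp(2n,F) has NO element of order r·s if and only if η(k) + η(l) > n and l/k is not an odd integer. -/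
theorem result {F : Type*} [Field F] [Fintype F] (p : ℕ) [Fact p.Prime] [CharP F p] (n : ℕ) (hn : 2 ≤ n) (hsmall : n = 2 → 3 ≤ Fintype.card F)
    (r s : ℕ) (hr : r.Prime) (hs : s.Prime) (hr2 : r ≠ 2) (hs2 : s ≠ 2) (hrp : r ≠ p) (hsp : s ≠ p) (hrs : r ≠ s)
    (hrG : r ∣ Nat.card (Cfsg.PSp n F)) (hsG : s ∣ Nat.card (Cfsg.PSp n F))
    (k l ηk ηl : ℕ) (hk : k = orderOf ((Fintype.card F : ℕ) : ZMod r)) (hl : l = orderOf ((Fintype.card F : ℕ) : ZMod s))
    (hηk : (Odd k ∧ ηk = k) ∨ (Even k ∧ 2 * ηk = k)) (hηl : (Odd l ∧ ηl = l) ∨ (Even l ∧ 2 * ηl = l)) (hkl : ηk ≤ ηl) :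
    (r * s ∉ Set.range (orderOf : Cfsg.PSp n F → ℕ)) ↔ (n < ηk + ηl ∧ ¬ ∃ t : ℕ, Odd t ∧ l = k * t) := by
  classical
  haveI := Fact.mk hr
  haveI := Fact.mk hs
  set q := Fintype.card F with hq
  have hq2 : 2 ≤ q := Fintype.one_lt_card
  have hnq : ∀ r' : ℕ, r'.Prime → r' ≠ p → ¬ r' ∣ q := by
    intro r' h1 h2 h
    obtain ⟨j, -, hj⟩ := FiniteField.card F p
    rw [hq, hj] at h
    exact h2 ((Nat.prime_dvd_prime_iff_eq h1 Fact.out).mp (h1.dvd_of_dvd_pow h))
  set c := if p = 2 then 1 else 2 with hc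
  have hcd : c ∣ 2 := by rw [hc]; split_ifs <;> simp
  constructor
  · intro h
    by_contra hcon
    apply h
    obtain ⟨X, hX⟩ : ∃ X : Matrix.symplecticGroup (Fin n) F, orderOf X = r * s := by
      rcases not_and_or.mp hcon with h1 | h1
      · have := eta_le (n := n) hr hr2 (hnq r hr hrp) hk hηk hrG
        obtain ⟨φ, hφ⟩ := pair_embed (F := F) (n := n) ηk (n - ηk) (by omega)
        obtain ⟨x, hx⟩ := exists_elt hr hr2 (hnq r hr hrp) hk hηk le_rfl
        obtain ⟨y, hy⟩ := exists_elt hs hs2 (hnq s hs hsp) hl hηl (m := n - ηk) (by omega)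
        refine ⟨φ (x, y), ?_⟩
        rw [orderOf_injective φ hφ, Prod.orderOf, hx, hy]
        exact ((Nat.coprime_primes hr hs).mpr hrs).lcm_eq_mul
      · obtain ⟨t, hto, ht⟩ := not_not.mp h1
        have hl0 : 0 < l := hl ▸ ord_pos (hnq s hs hsp)
        haveI : NeZero l := ⟨hl0.ne'⟩
        haveI : NeZero (r * s) := ⟨Nat.mul_ne_zero hr.ne_zero hs.ne_zero⟩
        have hle := eta_le (n := n) hs hs2 (hnq s hs hsp) hl hηl hsG
        refine exists_torus l ηl (r * s) ?_ hle
        rcases hηl with ⟨hlo, hle'⟩ | ⟨hev, hle'⟩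
        · refine Or.inl ⟨hlo, hle', Nat.Coprime.mul_dvd_of_dvd_of_dvd ((Nat.coprime_primes hr hs).mpr hrs) ?_ ?_⟩
          · exact (dvd_pow_sub_one_iff (by omega) l).mpr (hk ▸ ht ▸ dvd_mul_right k t)
          · exact (dvd_pow_sub_one_iff (by omega) l).mpr (hl ▸ dvd_rfl)
        · have hkev : Even k := by
            rcases Nat.even_or_odd k with h | h
            · exact h
            · rw [ht] at hev; exact absurd hev (Nat.not_even_iff_odd.mpr (h.mul hto))
          obtain ⟨a, ha⟩ := hkev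
          have hkey : ∀ (r' k' a' : ℕ), r'.Prime → k' = orderOf (q : ZMod r') → k' = a' + a' → 0 < a' → r' ∣ q ^ a' + 1 := by
            intro r' k' a' h1 h2 h3 h4
            haveI := Fact.mk h1
            have h5 : r' ∣ (q ^ a' - 1) * (q ^ a' + 1) := by
              have e2 := Nat.sq_sub_sq (q ^ a') 1
              rw [one_pow, sq, ← pow_add] at e2
              rw [mul_comm, ← e2, ← h3]
              exact (dvd_pow_sub_one_iff (by omega) k').mpr (h2 ▸ dvd_rfl)
            refine (h1.dvd_mul.mp h5).resolve_left fun h6 => ?_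
            have := Nat.le_of_dvd h4 ((dvd_pow_sub_one_iff (by omega) a').mp h6)
            omega
          refine Or.inr ⟨hev, hle', Nat.Coprime.mul_dvd_of_dvd_of_dvd ((Nat.coprime_primes hr hs).mpr hrs) ?_ ?_⟩
          · have h1 := hkey r k a hr hk ha (by have := hk ▸ ord_pos (hnq r hr hrp); omega)
            have hη : ηl = a * t := by
              have h2 : 2 * ηl = 2 * (a * t) := by rw [hle', ht, ha]; ring
              omega
            rw [hη, pow_mul]
            refine h1.trans ?_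
            have := hto.nat_add_dvd_pow_add_pow (q ^ a) 1
            rwa [one_pow] at this
          · exact hkey s l ηl hs hl (by omega) (by omega)
    refine ⟨QuotientGroup.mk X, Nat.dvd_antisymm (hX ▸ orderOf_map_dvd (QuotientGroup.mk' _) X) ?_⟩
    set j := orderOf (QuotientGroup.mk X : Cfsg.PSp n F)
    have hz : X ^ j ∈ Subgroup.center _ := by
      rw [← QuotientGroup.eq_one_iff, QuotientGroup.mk_pow]; exact pow_orderOf_eq_one _
    have h1 := S2472.center_pow (p := p) (by omega) hz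
    rw [← pow_mul, ← hc] at h1
    have hd : r * s ∣ j * c := hX ▸ orderOf_dvd_of_pow_eq_one h1
    refine (Nat.Coprime.coprime_dvd_right hcd (Nat.Coprime.mul_left ?_ ?_)).dvd_of_dvd_mul_right hd
    · exact (Nat.coprime_primes hr Nat.prime_two).mpr hr2
    · exact (Nat.coprime_primes hs Nat.prime_two).mpr hs2
  · rintro ⟨hbig, hnt⟩ ⟨g, hg⟩
    induction g using QuotientGroup.induction_on with
    | _ A =>
      have hz : A ^ (r * s) ∈ Subgroup.center _ := by
        rw [← QuotientGroup.eq_one_iff, QuotientGroup.mk_pow, ← hg]; exact pow_orderOf_eq_one _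
      have h1 : A ^ (r * s * c) = 1 := by rw [pow_mul, hc]; exact S2472.center_pow (by omega) hz
      have key : ∀ j, ¬ r * s ∣ j → A ^ j ≠ 1 := by
        intro j hj h
        apply hj
        rw [← hg]
        apply orderOf_dvd_of_pow_eq_one
        rw [← QuotientGroup.mk_pow, h]
        rfl
      have hcop : Nat.Coprime (r * s) c := Nat.Coprime.coprime_dvd_right hcd
        (Nat.Coprime.mul_left ((Nat.coprime_primes hr Nat.prime_two).mpr hr2) ((Nat.coprime_primes hs Nat.prime_two).mpr hs2))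
      refine no_pair p hr hs hr2 hs2 hrp hsp hrs hk hl hηk hηl hkl hbig hnt (C := A ^ c)
        (by rw [← pow_mul, mul_comm, h1]) ?_ ?_
      · rw [← pow_mul]
        refine key _ fun hd => ?_
        have := Nat.le_of_dvd hr.pos (hcop.dvd_of_dvd_mul_left hd)
        have := hs.two_le
        have := Nat.mul_le_mul_left r hs.two_le
        have := hr.two_le
        omega
      · rw [← pow_mul]
        refine key _ fun hd => ?_
        have := Nat.le_of_dvd hs.pos (hcop.dvd_of_dvd_mul_left hd)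
        have := Nat.mul_le_mul_right s hr.two_le
        have := hs.two_le
        omega

end Cfsg.Agent.S2469
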