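import Cfsg.Statements.S2470
import Mathlib
import Cfsg.Agent.S2364

set_option autoImplicit false
open Cfsg

namespace Cfsg.Agent.S2470

open Matrix Polynomial

variable {F : Type*} [Field F]

theorem eq_zero_of_nodup {K : Type*} [Field K] [IsAlgClosed K] {n : ℕ} (z N : Matrix (Fin n) (Fin n) K)
    (hN : IsNilpotent N) (hc : Commute z N) (hs : z.charpoly.roots.Nodup) : N = 0 := by
  classical
  set S := z.charpoly.roots.toFinset with hS
  have hcard : S.card = n := by
    rw [hS, Multiset.toFinset_card_of_nodup hs, IsAlgClosed.card_roots_eq_natDegree, Matrix.charpoly_natDegree_eq_dim, Fintype.card_fin]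
  have hev : ∀ μ : S, ∃ v : Fin n → K, v ≠ 0 ∧ z *ᵥ v = (μ : K) • v := by
    rintro ⟨μ, hμ⟩
    rw [hS, Multiset.mem_toFinset, Polynomial.mem_roots (Matrix.charpoly_monic z).ne_zero, Polynomial.IsRoot.def, Matrix.eval_charpoly] at hμ
    obtain ⟨v, hv, hv'⟩ := Matrix.exists_mulVec_eq_zero_iff.mpr hμ
    refine ⟨v, hv, ?_⟩
    rw [Matrix.sub_mulVec, sub_eq_zero, Matrix.scalar_apply, ← Matrix.smul_one_eq_diagonal, Matrix.smul_mulVec, Matrix.one_mulVec] at hv'
    exact hv'.symm
  choose v hv0 hv using hev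
  have hli : LinearIndependent K v := Module.End.eigenvectors_linearIndependent' (Matrix.toLin' z) (fun μ : S => (μ : K))
    Subtype.val_injective v (fun μ => ⟨Module.End.mem_eigenspace_iff.mpr (by rw [Matrix.toLin'_apply]; exact hv μ), hv0 μ⟩)
  have hspan : Submodule.span K (Set.range v) = ⊤ := hli.span_eq_top_of_card_eq_finrank' (by simp [hcard])
  let b := Module.Basis.mk hli hspan.ge
  obtain ⟨m, hm⟩ := hN
  have hkill : ∀ μ, N *ᵥ v μ = 0 := by
    intro μ
    set w := N *ᵥ v μ with hw
    have hzw : z *ᵥ w = (μ : K) • w := by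
      rw [hw, Matrix.mulVec_mulVec, hc.eq, ← Matrix.mulVec_mulVec, hv, Matrix.mulVec_smul]
    have hrepr : ∀ ν, (b.repr w ν) * ((ν : K) - (μ : K)) = 0 := by
      intro ν
      have h1 : z *ᵥ w - (μ : K) • w = 0 := sub_eq_zero.mpr hzw
      rw [← b.sum_repr w, Matrix.mulVec_sum, Finset.smul_sum, ← Finset.sum_sub_distrib] at h1
      have h2 : ∑ i, (b.repr w i * ((i : K) - (μ : K))) • v i = 0 := by
        refine Eq.trans (Finset.sum_congr rfl fun i _ => ?_) h1
        rw [show b i = v i from Module.Basis.mk_apply _ _ i, Matrix.mulVec_smul, hv, smul_smul, smul_smul, ← sub_smul]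
        ring_nf
      exact Fintype.linearIndependent_iff.mp hli _ h2 ν
    have hwv : w = b.repr w μ • v μ := by
      conv_lhs => rw [← b.sum_repr w]
      rw [Finset.sum_eq_single μ]
      · rw [show b μ = v μ from Module.Basis.mk_apply _ _ μ]
      · intro ν _ hν
        have h := hrepr ν
        rw [mul_eq_zero, sub_eq_zero] at h
        rcases h with h | h
        · rw [h, zero_smul]
        · exact absurd (Subtype.ext h) hν
      · intro h; exact absurd (Finset.mem_univ μ) h
    have hpow : ∀ i : ℕ, (N ^ i) *ᵥ v μ = (b.repr w μ) ^ i • v μ := by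
      intro i
      induction i with
      | zero => simp
      | succ i ih =>
        rw [pow_succ', ← Matrix.mulVec_mulVec, ih, Matrix.mulVec_smul, ← hw, pow_succ, ← smul_smul, ← hwv]
    have h3 := hpow m
    rw [hm, Matrix.zero_mulVec] at h3
    have h4 : b.repr w μ = 0 := (pow_eq_zero_iff').mp ((smul_eq_zero.mp h3.symm).resolve_right (hv0 μ)) |>.1
    rw [hwv, h4, zero_smul]
  apply (Matrix.toLin' (R := K) (m := Fin n) (n := Fin n)).injective
  refine b.ext fun μ => ?_
  rw [show b μ = v μ from Module.Basis.mk_apply _ _ μ, Matrix.toLin'_apply, map_zero, hkill]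
  rfl

/-- A matrix of degree at most three commuting with a nonzero nilpotent one has a repeated eigenvalue in the field. -/
theorem exists_double [Finite F] {n : ℕ} (hn : n ≤ 3) (z N : Matrix (Fin n) (Fin n) F)
    (hN : IsNilpotent N) (hN0 : N ≠ 0) (hc : Commute z N) :
    ∃ a : F, (X - C a) ^ 2 ∣ z.charpoly := by
  classical
  let K := AlgebraicClosure F
  let φ := algebraMap F K
  have hN' : N.map φ ≠ 0 := fun h => hN0 (Matrix.map_injective φ.injective (show N.map φ = (0 : Matrix (Fin n) (Fin n) F).map φ by rw [h]; simp))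
  have hnd : ¬ (z.map φ).charpoly.roots.Nodup := fun h => hN' <| eq_zero_of_nodup _ _
    (hN.map (φ.mapMatrix (m := Fin n))) (hc.map (φ.mapMatrix (m := Fin n))) h
  rw [Matrix.charpoly_map] at hnd
  obtain ⟨α, hα⟩ : ∃ α, 2 ≤ (z.charpoly.map φ).roots.count α := by
    by_contra h
    push Not at h
    exact hnd (Multiset.nodup_iff_count_le_one.mpr fun a => Nat.le_of_lt_succ (h a))
  have hα0 : (z.charpoly.map φ).IsRoot α := Polynomial.isRoot_of_mem_roots (Multiset.count_pos.mp (by omega))
  have hαi : IsIntegral F α := Algebra.IsIntegral.isIntegral α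
  set g := minpoly F α with hg
  have hgd : g ∣ z.charpoly := minpoly.dvd F α (by rw [Polynomial.aeval_def, ← Polynomial.eval_map]; exact hα0)
  obtain ⟨h, hh⟩ := hgd
  have hgsep : g.Separable := PerfectField.separable_of_irreducible (minpoly.irreducible hαi)
  have h0 : g * h ≠ 0 := hh ▸ (Matrix.charpoly_monic z).ne_zero
  have hhα : Polynomial.aeval α h = 0 := by
    by_contra hne
    have h1 : (z.charpoly.map φ).rootMultiplicity α ≤ 1 := by
      rw [hh, Polynomial.map_mul, Polynomial.rootMultiplicity_mul (by rw [← Polynomial.map_mul]; exact Polynomial.map_ne_zero h0),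
        Polynomial.rootMultiplicity_eq_zero (p := h.map φ) (by rwa [Polynomial.IsRoot.def, Polynomial.eval_map, ← Polynomial.aeval_def]), add_zero]
      exact Polynomial.rootMultiplicity_le_one_of_separable hgsep.map α
    rw [← Polynomial.count_roots] at h1
    omega
  obtain ⟨h', rfl⟩ : g ∣ h := minpoly.dvd F α hhα
  have hdeg : g.natDegree = 1 := by
    have h1 := congrArg Polynomial.natDegree hh
    rw [Matrix.charpoly_natDegree_eq_dim, Fintype.card_fin, Polynomial.natDegree_mul (minpoly.ne_zero hαi) (right_ne_zero_of_mul h0),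
      Polynomial.natDegree_mul (minpoly.ne_zero hαi) (right_ne_zero_of_mul (right_ne_zero_of_mul h0))] at h1
    have := minpoly.natDegree_pos hαi
    rw [← hg] at h1 this
    omega
  refine ⟨-g.coeff 0, ?_⟩
  rw [hh, show (X - C (-g.coeff 0)) = g by
    rw [map_neg, sub_neg_eq_add]; exact ((minpoly.monic hαi).eq_X_add_C hdeg).symm, sq]
  exact ⟨h', by ring⟩

theorem root_pow [DecidableEq F] {n : ℕ} (z : Matrix (Fin n) (Fin n) F) {r : ℕ} {e : F} (hz : z ^ r = e • 1) {a : F}
    (ha : z.charpoly.IsRoot a) : a ^ r = e := by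
  rw [Polynomial.IsRoot.def, Matrix.eval_charpoly] at ha
  obtain ⟨v, hv, hv'⟩ := Matrix.exists_mulVec_eq_zero_iff.mpr ha
  rw [Matrix.sub_mulVec, sub_eq_zero, Matrix.scalar_apply, ← Matrix.smul_one_eq_diagonal, Matrix.smul_mulVec, Matrix.one_mulVec] at hv'
  have hpow : ∀ i : ℕ, (z ^ i) *ᵥ v = a ^ i • v := by
    intro i
    induction i with
    | zero => simp
    | succ i ih => rw [pow_succ', ← Matrix.mulVec_mulVec, ih, Matrix.mulVec_smul, ← hv', smul_smul, pow_succ]
  have h := hpow r
  rw [hz, Matrix.smul_mulVec, Matrix.one_mulVec] at h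
  exact ((smul_left_injective F hv) h).symm

/-- The small cases: no element of order `r * p`. -/
theorem small [Fintype F] (p : ℕ) [Fact p.Prime] [CharP F p] {n : ℕ} (hn2 : 2 ≤ n) (hn : n ≤ 3) {r : ℕ} (hr : r.Prime) (hrp : r ≠ p)
    (x : SpecialLinearGroup (Fin n) F) (hx : orderOf (x : ProjectiveSpecialLinearGroup (Fin n) F) = r * p) :
    n = 3 ∧ r ∣ Fintype.card F - 1 ∧ (r = 3 → 9 ∣ Fintype.card F - 1) := by
  classical
  have hp : p.Prime := Fact.out
  have hcen : ∀ i : ℕ, r * p ∣ i ↔ ∃ s : F, (x : Matrix (Fin n) (Fin n) F) ^ i = s • 1 := by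
    intro i
    rw [← hx, orderOf_dvd_iff_pow_eq_one, ← QuotientGroup.mk_pow, QuotientGroup.eq_one_iff, Matrix.SpecialLinearGroup.mem_center_iff]
    constructor
    · rintro ⟨s, -, hs⟩
      exact ⟨s, by rw [← Matrix.SpecialLinearGroup.coe_pow, ← hs, Matrix.scalar_apply, ← Matrix.smul_one_eq_diagonal]⟩
    · rintro ⟨s, hs⟩
      refine ⟨s, ?_, ?_⟩
      · have h1 := congrArg Matrix.det hs
        rw [← Matrix.SpecialLinearGroup.coe_pow, Matrix.SpecialLinearGroup.det_coe, Matrix.det_smul, Matrix.det_one, mul_one, Fintype.card_fin] at h1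
        rw [Fintype.card_fin]; exact h1.symm
      · rw [Matrix.scalar_apply, ← Matrix.smul_one_eq_diagonal, Matrix.SpecialLinearGroup.coe_pow, hs]
  set y := (x : Matrix (Fin n) (Fin n) F) ^ r with hy
  set z := (x : Matrix (Fin n) (Fin n) F) ^ p with hzdef
  obtain ⟨c, hc⟩ := (hcen (r * p)).mp dvd_rfl
  have hd : ∃ d : F, d ^ p = c := by
    haveI : PerfectRing F p := inferInstance
    exact (PerfectRing.bijective_frobenius (R := F) (p := p)).surjective c
  obtain ⟨d, hd⟩ := hd
  haveI : Nonempty (Fin n) := ⟨⟨0, by omega⟩⟩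
  haveI : CharP (Matrix (Fin n) (Fin n) F) p := charP_of_injective_algebraMap (algebraMap F (Matrix (Fin n) (Fin n) F)).injective p
  set N := y - d • 1 with hNdef
  have hnil : IsNilpotent N := ⟨p, by
    rw [hNdef, sub_pow_char_of_commute p ((Commute.one_right y).smul_right d), hy, ← pow_mul, hc, _root_.smul_pow, one_pow, hd, sub_self]⟩
  have hN0 : N ≠ 0 := fun h => by
    have h1 := (hcen r).mpr ⟨d, sub_eq_zero.mp h⟩
    have := Nat.le_of_dvd hr.pos h1
    nlinarith [hr.pos, hp.two_le]
  have hcomm : Commute z N := (Commute.pow_pow_self _ _ _).sub_right ((Commute.one_right z).smul_right d)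
  obtain ⟨a, ha⟩ := exists_double hn z N hnil hN0 hcomm
  have hzr : z ^ r = c • 1 := by rw [hzdef, ← pow_mul, mul_comm p r, hc]
  have hdet : z.det = 1 := by rw [hzdef, Matrix.det_pow, Matrix.SpecialLinearGroup.det_coe, one_pow]
  obtain ⟨h, hh⟩ := ha
  have hmon : h.Monic := ((Polynomial.monic_X_sub_C a).pow 2).of_mul_monic_left (hh ▸ Matrix.charpoly_monic z)
  have hhd : h.natDegree = n - 2 := by
    have h1 := congrArg Polynomial.natDegree hh
    rw [Matrix.charpoly_natDegree_eq_dim, Fintype.card_fin, Polynomial.natDegree_mul (pow_ne_zero _ (Polynomial.X_sub_C_ne_zero a)) hmon.ne_zero,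
      Polynomial.natDegree_pow, Polynomial.natDegree_X_sub_C] at h1
    omega
  -- a single eigenvalue makes the element a p-element
  have hone : z.charpoly ≠ (X - C a) ^ n := by
    intro h1
    have h2 := Matrix.aeval_self_charpoly z
    rw [h1, map_pow, map_sub, Polynomial.aeval_X, Polynomial.aeval_C, Algebra.algebraMap_eq_smul_one] at h2
    have h3 : (z - a • 1) ^ (p ^ 2) = 0 := pow_eq_zero_of_le (hn.trans (by nlinarith [hp.two_le])) h2
    rw [sub_pow_char_pow_of_commute p 2 ((Commute.one_right z).smul_right a), _root_.smul_pow, one_pow, sub_eq_zero, hzdef, ← pow_mul] at h3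
    have h4 := (hcen (p * p ^ 2)).mpr ⟨_, h3⟩
    have h5 : r ∣ p ^ 3 := (dvd_mul_right r p).trans (h4.trans (by ring_nf; rfl))
    exact hrp ((Nat.prime_dvd_prime_iff_eq hr hp).mp (hr.dvd_of_dvd_pow h5))
  obtain rfl | rfl : n = 2 ∨ n = 3 := by omega
  · exact absurd (by rw [hh, hmon.natDegree_eq_zero.mp hhd, mul_one]) hone
  obtain ⟨b, rfl⟩ : ∃ b, h = X - C b := ⟨-h.coeff 0, by rw [map_neg, sub_neg_eq_add]; exact hmon.eq_X_add_C hhd⟩
  have hab : a ≠ b := fun e => hone (by rw [hh, ← e, ← pow_succ])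
  have hra := root_pow z hzr (a := a) (by rw [hh]; simp)
  have hrb := root_pow z hzr (a := b) (by rw [hh]; simp)
  have hd3 : a ^ 2 * b = 1 := by
    have h1 := Matrix.det_eq_sign_charpoly_coeff z
    rw [hdet, hh, Fintype.card_fin, Polynomial.coeff_zero_eq_eval_zero] at h1
    simp at h1
    linear_combination -h1
  have ht : a ^ 3 ≠ 1 := fun e => hab (mul_left_cancel₀ (pow_ne_zero 2 (fun e0 : a = 0 => by rw [e0] at e; simp at e)) (by linear_combination e - hd3))
  have htr : (a ^ 3) ^ r = 1 := by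
    calc (a ^ 3) ^ r = (a ^ r) ^ 2 * a ^ r := by ring
    _ = (a ^ r) ^ 2 * b ^ r := by rw [hra, hrb]
    _ = (a ^ 2 * b) ^ r := by ring
    _ = 1 := by rw [hd3, one_pow]
  have ha0 : a ≠ 0 := fun e0 => by rw [e0] at hd3; simp at hd3
  haveI := Fact.mk hr
  have ho : orderOf (a ^ 3) = r := orderOf_eq_prime htr ht
  refine ⟨rfl, ho ▸ orderOf_dvd_of_pow_eq_one (FiniteField.pow_card_sub_one_eq_one _ (pow_ne_zero 3 ha0)), ?_⟩
  rintro rfl
  haveI := Fact.mk Nat.prime_three
  have ho9 : orderOf a = 3 ^ 2 := orderOf_eq_prime_pow (by simpa using ht) (by rw [pow_succ, pow_one, pow_mul]; exact htr)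
  have := orderOf_dvd_of_pow_eq_one (FiniteField.pow_card_sub_one_eq_one a ha0)
  rw [ho9] at this
  simpa using this

/-- The element of order `r * p`. -/
theorem build (p : ℕ) [Fact p.Prime] [CharP F p] {n : ℕ} (hn : 3 ≤ n) {r : ℕ} (hr : r.Prime) (hrp : r ≠ p)
    (B : GL (Fin (n - 2)) F) (hB : orderOf B = r) (c : F) (hdet : (B : Matrix (Fin (n - 2)) (Fin (n - 2)) F).det * c ^ n = 1) :
    r * p ∈ Set.range (orderOf : ProjectiveSpecialLinearGroup (Fin n) F → ℕ) := by
  classical
  have hp : p.Prime := Fact.out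
  let e : Fin (n - 2) ⊕ Fin 2 ≃ Fin n := finSumFinEquiv.trans (finCongr (by omega))
  let U : ℕ → Matrix (Fin 2) (Fin 2) F := fun i => !![1, (i : F); 0, 1]
  let M : ℕ → Matrix (Fin (n - 2) ⊕ Fin 2) (Fin (n - 2) ⊕ Fin 2) F := fun i =>
    c ^ i • Matrix.fromBlocks ((B : Matrix (Fin (n - 2)) (Fin (n - 2)) F) ^ i) 0 0 (U i)
  have hMpow : ∀ i, M 1 ^ i = M i := by
    intro i
    induction i with
    | zero => simp [M, U, Matrix.one_fin_two, Matrix.fromBlocks_one.symm]
    | succ i ih =>
      rw [pow_succ, ih]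
      simp only [M, smul_mul_assoc, mul_smul_comm, smul_smul, Matrix.fromBlocks_multiply, pow_one, zero_mul, mul_zero, add_zero, zero_add, ← pow_succ, ← pow_succ']
      congr 2 <;> first | rfl | simp [U, add_comm]
  have hx : (Matrix.reindexAlgEquiv F F e (M 1)).det = 1 := by
    rw [Matrix.det_reindexAlgEquiv]
    simp only [M, Matrix.det_smul, Matrix.det_fromBlocks_zero₁₂, pow_one, U, Matrix.det_fin_two_of, Fintype.card_sum, Fintype.card_fin]
    rw [show n - 2 + 2 = n by omega]
    linear_combination hdet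
  let x : SpecialLinearGroup (Fin n) F := ⟨Matrix.reindexAlgEquiv F F e (M 1), hx⟩
  have hc0 : c ≠ 0 := fun h => by rw [h, zero_pow (by omega), mul_zero] at hdet; exact zero_ne_one hdet
  have key : ∀ i, (x : ProjectiveSpecialLinearGroup (Fin n) F) ^ i = 1 ↔ r * p ∣ i := by
    intro i
    have hcop : Nat.Coprime r p := (Nat.coprime_primes hr hp).mpr hrp
    rw [← QuotientGroup.mk_pow, QuotientGroup.eq_one_iff, Matrix.SpecialLinearGroup.mem_center_iff]
    rw [show ((x ^ i : SpecialLinearGroup (Fin n) F) : Matrix (Fin n) (Fin n) F) = Matrix.reindexAlgEquiv F F e (M i) by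
      rw [Matrix.SpecialLinearGroup.coe_pow, ← hMpow, map_pow]]
    have hsc : ∀ s : F, Matrix.scalar (Fin n) s = Matrix.reindexAlgEquiv F F e (s • 1) := fun s => by
      rw [map_smul, map_one, Matrix.scalar_apply, ← Matrix.smul_one_eq_diagonal]
    have hiff : ∀ s : F, M i = s • 1 ↔ s = c ^ i ∧ B ^ i = 1 ∧ (i : F) = 0 := by
      intro s
      constructor
      · intro h
        have h22 : c ^ i = s := by
          have := congrFun (congrFun h (Sum.inr 0)) (Sum.inr 0)
          simpa [M, U] using this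
        have h01 : (i : F) = 0 := by
          have := congrFun (congrFun h (Sum.inr 0)) (Sum.inr 1)
          simpa [M, U, hc0] using this
        refine ⟨h22.symm, Units.ext ?_, h01⟩
        rw [Units.val_pow_eq_pow_val, Units.val_one]
        ext j l
        have := congrFun (congrFun h (Sum.inl j)) (Sum.inl l)
        rw [← h22] at this
        have h3 : c ^ i * ((B : Matrix (Fin (n - 2)) (Fin (n - 2)) F) ^ i) j l = c ^ i * (1 : Matrix (Fin (n - 2)) (Fin (n - 2)) F) j l := by
          simpa [M, Matrix.one_apply] using this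
        exact mul_left_cancel₀ (pow_ne_zero i hc0) h3
      · rintro ⟨rfl, hB', h01⟩
        simp [M, U, h01, ← Units.val_pow_eq_pow_val, hB', ← Matrix.one_fin_two]
    constructor
    · rintro ⟨s, -, hs⟩
      rw [hsc] at hs
      obtain ⟨-, hB', h01⟩ := (hiff s).mp ((Matrix.reindexAlgEquiv F F e).injective hs.symm)
      exact hcop.mul_dvd_of_dvd_of_dvd (hB ▸ orderOf_dvd_of_pow_eq_one hB') ((CharP.cast_eq_zero_iff F p i).mp h01)
    · intro hd
      have hB' : B ^ i = 1 := orderOf_dvd_iff_pow_eq_one.mp (hB.symm ▸ (dvd_mul_right r p).trans hd)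
      have h01 : (i : F) = 0 := (CharP.cast_eq_zero_iff F p i).mpr ((dvd_mul_left p r).trans hd)
      refine ⟨c ^ i, ?_, by rw [hsc, (hiff _).mpr ⟨rfl, hB', h01⟩]⟩
      have h1 := congrArg (fun g : GL (Fin (n - 2)) F => (g : Matrix (Fin (n - 2)) (Fin (n - 2)) F).det) hB'
      simp only [Units.val_pow_eq_pow_val, Matrix.det_pow, Units.val_one, Matrix.det_one] at h1
      have := congrArg (fun t : F => t ^ i) hdet
      simp only [mul_pow, h1, one_mul, one_pow, ← pow_mul] at this
      rw [Fintype.card_fin, ← pow_mul, mul_comm]; exact this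
  exact ⟨(x : ProjectiveSpecialLinearGroup (Fin n) F), Nat.dvd_antisymm (orderOf_dvd_iff_pow_eq_one.mpr ((key _).mpr dvd_rfl)) ((key _).mp (pow_orderOf_eq_one _))⟩

/-- Adjacency of an odd prime and the characteristic in the prime graph of PSL(n,q): let F be a finite field of characteristic p with q elements, n ≥ 2 with PSL(n,F) simple, and let r ≠ p be an odd prime dividing the order of PSL(n,F), with k the multiplicative order of q modulo r. Then PSL(n,F) has NO element of order r·p if and only if either k > n − 2, or n = 3, r = 3 and 3 divides q − 1 exactly once. -/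
theorem result {F : Type*} [Field F] [Fintype F] (p : ℕ) [Fact p.Prime] [CharP F p] (n : ℕ) (hn : 2 ≤ n) (hsmall : n = 2 → 4 ≤ Fintype.card F)
    (r : ℕ) (hr : r.Prime) (hr2 : r ≠ 2) (hrp : r ≠ p) (hrG : r ∣ Nat.card (Matrix.ProjectiveSpecialLinearGroup (Fin n) F))
    (k : ℕ) (hk : k = orderOf ((Fintype.card F : ℕ) : ZMod r)) :
    (r * p ∉ Set.range (orderOf : Matrix.ProjectiveSpecialLinearGroup (Fin n) F → ℕ)) ↔
      (n - 2 < k ∨ (n = 3 ∧ r = 3 ∧ 3 ∣ Fintype.card F - 1 ∧ ¬ 9 ∣ Fintype.card F - 1)) := by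
  classical
  haveI := Fact.mk hr
  have hp : p.Prime := Fact.out
  set q := Fintype.card F with hq
  have hqr : ((q : ℕ) : ZMod r) ≠ 0 := by
    intro h
    rw [ZMod.natCast_eq_zero_iff] at h
    obtain ⟨e, -, he⟩ := FiniteField.card F p
    rw [hq, he] at h
    exact hrp ((Nat.prime_dvd_prime_iff_eq hr hp).mp (hr.dvd_of_dvd_pow h))
  have hq1 : 1 ≤ q := Fintype.card_pos
  have hdvd : ∀ i, r ∣ q ^ i - 1 ↔ k ∣ i := by
    intro i
    rw [hk, orderOf_dvd_iff_pow_eq_one, ← ZMod.natCast_eq_zero_iff, Nat.cast_sub (Nat.one_le_pow _ _ hq1), sub_eq_zero, Nat.cast_pow, Nat.cast_one]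
  have hk1 : 1 ≤ k := by
    rw [hk]
    exact Nat.one_le_iff_ne_zero.mpr fun h => by
      have := (orderOf_eq_zero_iff').mp h (r - 1) (by have := hr.two_le; omega)
      exact this (ZMod.pow_card_sub_one_eq_one hqr)
  have hkr : k = 1 ↔ r ∣ q - 1 := by
    rw [show q - 1 = q ^ 1 - 1 by rw [pow_one], hdvd, Nat.dvd_one]
  constructor
  · intro hno
    by_contra hcon
    rw [not_or, not_lt] at hcon
    obtain ⟨hle, hspec⟩ := hcon
    apply hno
    have hn3 : 3 ≤ n := by omega
    by_cases h1 : k = 1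
    · have hcardu : r ∣ Nat.card Fˣ := by rw [Nat.card_units, Nat.card_eq_fintype_card]; exact hkr.mp h1
      obtain ⟨ζ, hζ⟩ := exists_prime_orderOf_dvd_card' r hcardu
      by_cases h4 : 4 ≤ n
      · let i0 : Fin (n - 2) := ⟨0, by omega⟩
        let i1 : Fin (n - 2) := ⟨1, by omega⟩
        let v : Fin (n - 2) → Fˣ := Pi.mulSingle i0 ζ * Pi.mulSingle i1 ζ⁻¹
        let φ : (Fin (n - 2) → Fˣ) →* GL (Fin (n - 2)) F :=
          (Units.map (Matrix.diagonalRingHom (Fin (n - 2)) F).toMonoidHom).comp MulEquiv.piUnits.symm.toMonoidHom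
        have hφ : Function.Injective φ := (Units.map_injective Matrix.diagonal_injective).comp MulEquiv.piUnits.symm.injective
        refine build p hn3 hr hrp (φ v) ?_ 1 ?_
        · rw [orderOf_injective φ hφ]
          refine orderOf_eq_prime ?_ fun h => ?_
          · simp only [v, mul_pow, ← Pi.mulSingle_pow, inv_pow, ← hζ, pow_orderOf_eq_one, inv_one, Pi.mulSingle_one, mul_one]
          · have := congrFun h i0
            have hne : i0 ≠ i1 := by simp [i0, i1, Fin.ext_iff]
            simp [v, Pi.mulSingle_eq_of_ne hne] at this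
            rw [this, orderOf_one] at hζ
            exact hr.one_lt.ne hζ
        · show (Matrix.diagonal fun i => ((v i : Fˣ) : F)).det * 1 ^ n = 1
          rw [Matrix.det_diagonal, one_pow, mul_one, ← Units.coe_prod]
          simp [v, Finset.prod_mul_distrib]
      · obtain rfl : n = 3 := by omega
        obtain ⟨c, hc⟩ : ∃ c : Fˣ, orderOf (c ^ 3) = r := by
          by_cases h3 : r = 3
          · subst h3
            have h9 : 9 ∣ q - 1 := by
              by_contra h9
              exact hspec ⟨rfl, rfl, hkr.mp h1, h9⟩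
            have hc9 : Nat.card Fˣ = q - 1 := by rw [Nat.card_units, Nat.card_eq_fintype_card]
            obtain ⟨g, hg⟩ := IsCyclic.exists_ofOrder_eq_natCard (α := Fˣ)
            obtain ⟨t, ht⟩ := h9
            refine ⟨g ^ t, ?_⟩
            rw [← pow_mul, orderOf_pow_of_dvd (by have : t ≠ 0 := fun e => by subst e; have := Fintype.one_lt_card (α := F); omega
                                                  positivity) (by rw [hg, hc9, ht]; exact Dvd.intro 3 (by ring)),
              hg, hc9, ht]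
            have ht0 : 0 < t := Nat.pos_of_ne_zero fun e => by subst e; have := Fintype.one_lt_card (α := F); omega
            rw [show 9 * t = (t * 3) * 3 by ring, Nat.mul_div_cancel_left _ (by positivity)]
          · refine ⟨ζ, ?_⟩
            rw [Nat.Coprime.orderOf_pow, hζ]
            rw [hζ]
            exact (Nat.coprime_primes hr Nat.prime_three).mpr h3
        refine build p hn3 hr hrp (Units.map (Matrix.scalar (Fin (3 - 2))).toMonoidHom (c ^ 3)⁻¹) ?_ (c : F) ?_
        · rw [orderOf_injective _ (Units.map_injective ?_), orderOf_inv, hc]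
          exact fun a b h => Matrix.scalar_inj.mp h
        · show (Matrix.scalar (Fin (3 - 2)) (((c ^ 3)⁻¹ : Fˣ) : F)).det * _ = 1
          simp
    · have hm : r ∣ Nat.card (GL (Fin (n - 2)) F) := by
        rw [Matrix.card_GL_field]
        refine (((hdvd k).mpr dvd_rfl).mul_left (q ^ (n - 2 - k))).trans ?_
        rw [Nat.mul_sub, mul_one, ← pow_add, Nat.sub_add_cancel hle]
        exact Finset.dvd_prod_of_mem (fun i : Fin (n - 2) => q ^ (n - 2) - q ^ (i : ℕ)) (Finset.mem_univ (⟨n - 2 - k, by omega⟩ : Fin (n - 2)))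
      obtain ⟨B, hB⟩ := exists_prime_orderOf_dvd_card' r hm
      refine build p hn3 hr hrp B hB 1 ?_
      have h2 : Matrix.GeneralLinearGroup.det B = 1 := by
        rcases (Nat.dvd_prime hr).mp (hB ▸ orderOf_map_dvd Matrix.GeneralLinearGroup.det B) with h | h
        · exact orderOf_eq_one_iff.mp h
        · refine absurd (hkr.mpr ?_) h1
          have := h ▸ orderOf_dvd_natCard (Matrix.GeneralLinearGroup.det B)
          rwa [Nat.card_units, Nat.card_eq_fintype_card] at this
      have := congrArg Units.val h2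
      simpa using this
  · rintro hcond ⟨g, hg⟩
    by_cases h4 : 4 ≤ n
    · have hle : n - 2 < k := by
        rcases hcond with h | ⟨h, -⟩
        · exact h
        · omega
      have ha : orderOf (g ^ r) = p := by
        rw [orderOf_pow_of_dvd hr.ne_zero (hg ▸ dvd_mul_right r p), hg, Nat.mul_div_cancel_left _ hr.pos]
      have hmem : r ∈ (orderOf g).primeFactors := Nat.mem_primeFactors.mpr ⟨hr, hg ▸ dvd_mul_right r p, hg ▸ mul_ne_zero hr.ne_zero hp.ne_zero⟩
      have h1 := (Nat.mem_primeFactors.mp (Cfsg.Agent.S2364.result p n h4 (g ^ r) g ha ((Commute.refl g).pow_left r) hmem)).2.1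
      have h2 : r ∣ Nat.card (GL (Fin (n - 2)) F) :=
        h1.trans (Dvd.intro _ (Cfsg.Agent.S2364.card_GL_eq (F := F) (n - 2) (by omega)))
      rw [Matrix.card_GL_field] at h2
      obtain ⟨i, -, hi⟩ := (hr.prime.dvd_finsetProd_iff _).mp h2
      rw [show q ^ (n - 2) - q ^ (i : ℕ) = q ^ (i : ℕ) * (q ^ (n - 2 - i) - 1) by
        rw [Nat.mul_sub, mul_one, ← pow_add, Nat.add_sub_cancel' i.2.le]] at hi
      rcases hr.dvd_mul.mp hi with h | h
      · exact hqr ((ZMod.natCast_eq_zero_iff _ _).mpr (hr.dvd_of_dvd_pow h))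
      · have := Nat.le_of_dvd (by omega) ((hdvd _).mp h)
        omega
    · obtain ⟨x, rfl⟩ := QuotientGroup.mk_surjective g
      obtain ⟨h3, hq', h9⟩ := small p hn (by omega) hr hrp x hg
      rcases hcond with h | ⟨-, h, -, h9'⟩
      · have := hkr.mpr hq'; omega
      · exact h9' (h9 h)

end Cfsg.Agent.S2470
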