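import Mathlib
import Cfsg.Statements.S2512
import Cfsg.Agent.S2469

set_option autoImplicit false
set_option maxHeartbeats 800000
open Cfsg Matrix

namespace Cfsg.Agent.S2512

open Cfsg.Lib.SylowLargePrime

section
variable {F V G : Type*} [Field F] [AddCommGroup V] [Module F V] [FiniteDimensional F V] [Group G]

theorem exists_embed (m : ℕ) (hV : Module.finrank F V = 2 * m) (B : LinearMap.BilinForm F V) (hA : B.IsAlt)
    (hB : ∀ x : V, x ≠ 0 → ∃ y, B x y ≠ 0) (ρ : G →* (V →ₗ[F] V)) (hρ : Function.Injective ρ)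
    (hiso : ∀ g x y, B (ρ g x) (ρ g y) = B x y) :
    ∃ φ : G →* ↥(Matrix.symplecticGroup (Fin m) F), Function.Injective φ ∧
      ∀ (g : G) (c : F), (φ g : Matrix (Fin m ⊕ Fin m) (Fin m ⊕ Fin m) F) = c • 1 → ρ g = c • LinearMap.id := by
  classical
  obtain ⟨u, v, -, huv⟩ := Cfsg.Lib.Classical.PSpAut.exists_symp_family B hA m ⊤
    (fun w _ hw0 => by obtain ⟨y, hy⟩ := hB w hw0; exact ⟨y, trivial, hy⟩) (by rw [finrank_top, hV])
  have hvu : ∀ i j, B (u i) (v j) = -(if j = i then (1 : F) else 0) := fun i j => by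
    rw [Cfsg.Lib.Classical.alt_swap hA (v j) (u i), (huv j i).2.2]
  let w : Fin m ⊕ Fin m → V := Sum.elim u v
  have hLI : LinearIndependent F w := by
    rw [Fintype.linearIndependent_iff]
    intro c hc x
    have key : ∀ y : V, ∑ k, c k * B (w k) y = 0 := fun y => by
      have := congrArg (fun z => B z y) hc
      simpa [map_sum, LinearMap.sum_apply] using this
    rcases x with i | i
    · have := key (v i)
      simpa [w, Fintype.sum_sum_type, hvu, (huv _ i).2.1] using this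
    · have := key (u i)
      simpa [w, Fintype.sum_sum_type, (huv _ i).1, (huv _ i).2.2] using this
  let b : Module.Basis (Fin m ⊕ Fin m) F V := basisOfLinearIndependentOfCardEqFinrank' w hLI (by
    rw [hV, Fintype.card_sum, Fintype.card_fin, two_mul])
  have hb : ⇑b = w := coe_basisOfLinearIndependentOfCardEqFinrank' w hLI _
  have hJ : LinearMap.BilinForm.toMatrix b B = Matrix.J (Fin m) F := by
    ext x y
    rw [LinearMap.BilinForm.toMatrix_apply, hb]
    rcases x with i | i <;> rcases y with j | j <;>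
      simp [w, Matrix.J, (huv i j).1, (huv i j).2.1, (huv i j).2.2, hvu, Matrix.one_apply, eq_comm]
  refine ⟨{ toFun := fun g => ⟨LinearMap.toMatrix b b (ρ g), ?_⟩, map_one' := ?_, map_mul' := ?_ }, ?_, ?_⟩
  · rw [SymplecticGroup.mem_iff', ← hJ, ← LinearMap.BilinForm.toMatrix_comp]
    congr 1
    exact LinearMap.ext fun x => LinearMap.ext fun y => hiso g x y
  · apply Subtype.ext
    show LinearMap.toMatrix b b (ρ 1) = 1
    rw [map_one]; exact LinearMap.toMatrix_id b
  · intro g h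
    apply Subtype.ext
    show LinearMap.toMatrix b b (ρ (g * h)) = LinearMap.toMatrix b b (ρ g) * LinearMap.toMatrix b b (ρ h)
    rw [map_mul]
    exact LinearMap.toMatrix_mul b (ρ g) (ρ h)
  · intro g h e
    exact hρ ((LinearMap.toMatrix b b).injective (congrArg Subtype.val e))
  · intro g c h
    apply (LinearMap.toMatrix b b).injective
    rw [map_smul, LinearMap.toMatrix_id]
    exact h

end

variable {F : Type*} [Field F] [Fintype F] {n : ℕ}

/-- embedding of two symplectic groups -/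
lemma pair_embed (a b : ℕ) (hab : a + b = n) :
    ∃ φ : Matrix.symplecticGroup (Fin a) F × Matrix.symplecticGroup (Fin b) F →* ↥(Matrix.symplecticGroup (Fin n) F),
      Function.Injective φ ∧ ∀ x y (c : F), (φ (x, y) : Matrix (Fin n ⊕ Fin n) (Fin n ⊕ Fin n) F) = c • 1 →
        (0 < a → (x : Matrix (Fin a ⊕ Fin a) (Fin a ⊕ Fin a) F) = c • 1) ∧ (0 < b → (y : Matrix (Fin b ⊕ Fin b) (Fin b ⊕ Fin b) F) = c • 1) := by
  classical
  let ω := Cfsg.Lib.Classical.sympBilin F a
  let ω' := Cfsg.Lib.Classical.sympBilin F b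
  let Bt : LinearMap.BilinForm F ((Fin a ⊕ Fin a → F) × (Fin b ⊕ Fin b → F)) :=
    LinearMap.mk₂ F (fun x y => ω x.1 y.1 + ω' x.2 y.2)
      (fun a b c => by simp; ring) (fun a b c => by simp [mul_add]) (fun a b c => by simp; ring) (fun a b c => by simp [mul_add])
  suffices h : ∃ φ : Matrix.symplecticGroup (Fin a) F × Matrix.symplecticGroup (Fin b) F →* ↥(Matrix.symplecticGroup (Fin n) F),
      Function.Injective φ ∧ ∀ g (c : F), (φ g : Matrix (Fin n ⊕ Fin n) (Fin n ⊕ Fin n) F) = c • 1 →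
        (Matrix.mulVecLin g.1.1).prodMap (Matrix.mulVecLin g.2.1) = c • LinearMap.id by
    obtain ⟨φ, hφ, hc⟩ := h
    refine ⟨φ, hφ, fun x y c h => ?_⟩
    have hl := hc (x, y) c h
    refine ⟨fun _ => Matrix.ext_of_mulVec_single fun i => ?_, fun _ => Matrix.ext_of_mulVec_single fun i => ?_⟩
    · have := congrArg (fun f : ((Fin a ⊕ Fin a → F) × (Fin b ⊕ Fin b → F)) →ₗ[F] _ => (f (Pi.single i 1, 0)).1) hl
      rw [Matrix.smul_mulVec, Matrix.one_mulVec]
      exact this
    · have := congrArg (fun f : ((Fin a ⊕ Fin a → F) × (Fin b ⊕ Fin b → F)) →ₗ[F] _ => (f (0, Pi.single i 1)).2) hl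
      rw [Matrix.smul_mulVec, Matrix.one_mulVec]
      exact this
  refine exists_embed n ?_ Bt (fun x => ?_) ?_
    { toFun := fun g : Matrix.symplecticGroup (Fin a) F × Matrix.symplecticGroup (Fin b) F =>
        (Matrix.mulVecLin g.1.1).prodMap (Matrix.mulVecLin g.2.1)
      map_one' := LinearMap.ext fun x => Prod.ext (by show (1 : Matrix _ _ F) *ᵥ x.1 = x.1; simp)
        (by show (1 : Matrix _ _ F) *ᵥ x.2 = x.2; simp)
      map_mul' := fun g h => LinearMap.ext fun x => Prod.ext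
        (by show (g.1.1 * h.1.1) *ᵥ x.1 = g.1.1 *ᵥ (h.1.1 *ᵥ x.1); simp [Matrix.mulVec_mulVec])
        (by show (g.2.1 * h.2.1) *ᵥ x.2 = g.2.1 *ᵥ (h.2.1 *ᵥ x.2); simp [Matrix.mulVec_mulVec]) } ?_ ?_
  · simp only [Module.finrank_prod, Module.finrank_pi, Fintype.card_sum, Fintype.card_fin]
    omega
  · show ω x.1 x.1 + ω' x.2 x.2 = 0
    rw [Cfsg.Lib.Classical.sympBilin_isAlt F a x.1, Cfsg.Lib.Classical.sympBilin_isAlt F b x.2, add_zero]
  · intro x hx
    by_cases h1 : x.1 = 0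
    · obtain ⟨y, hy⟩ := Cfsg.Lib.Classical.SpSimple.exists_eq_one (F := F) (show x.2 ≠ 0 from fun h => hx (Prod.ext h1 h))
      refine ⟨(0, y), ?_⟩
      show ω x.1 0 + ω' x.2 y ≠ 0
      rw [map_zero, zero_add]
      intro h0
      first
        | exact one_ne_zero (hy.symm.trans h0)
        | (have h4 := Cfsg.Lib.Classical.SpSimple.swap (F := F) y x.2
           rw [hy, h0] at h4; simp at h4)
    · obtain ⟨y, hy⟩ := Cfsg.Lib.Classical.SpSimple.exists_eq_one (F := F) h1
      refine ⟨(y, 0), ?_⟩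
      show ω x.1 y + ω' x.2 0 ≠ 0
      rw [map_zero, add_zero]
      intro h0
      first
        | exact one_ne_zero (hy.symm.trans h0)
        | (have h4 := Cfsg.Lib.Classical.SpSimple.swap (F := F) y x.1
           rw [hy, h0] at h4; simp at h4)
  · intro g h he
    refine Prod.ext (Subtype.ext (Matrix.ext_of_mulVec_single fun i => ?_)) (Subtype.ext (Matrix.ext_of_mulVec_single fun i => ?_))
    · have := congrArg (fun f : ((Fin a ⊕ Fin a → F) × (Fin b ⊕ Fin b → F)) →ₗ[F] _ => (f (Pi.single i 1, 0)).1) he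
      exact this
    · have := congrArg (fun f : ((Fin a ⊕ Fin a → F) × (Fin b ⊕ Fin b → F)) →ₗ[F] _ => (f (0, Pi.single i 1)).2) he
      exact this
  · intro g x y
    show ω (g.1.1 *ᵥ x.1) (g.1.1 *ᵥ y.1) + ω' (g.2.1 *ᵥ x.2) (g.2.1 *ᵥ y.2) = ω x.1 y.1 + ω' x.2 y.2
    rw [Cfsg.Lib.Classical.PSpAut.iso, Cfsg.Lib.Classical.PSpAut.iso]

/-- an element of order `R` in a single symplectic torus -/
lemma exists_torus (e w : ℕ) [NeZero e] (R : ℕ) [NeZero R]
    (h : (w = e ∧ R ∣ Fintype.card F ^ e - 1) ∨ (Even e ∧ 2 * w = e ∧ R ∣ Fintype.card F ^ w + 1))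
    {m : ℕ} (hm : w ≤ m) : ∃ x : Matrix.symplecticGroup (Fin m) F, orderOf x = R := by
  classical
  set q := Fintype.card F with hF'
  have hF : Fintype.card F = q := rfl
  have hq : 2 ≤ q := Fintype.one_lt_card
  obtain ⟨p, hcp⟩ := CharP.exists F
  haveI : Fact p.Prime := ⟨CharP.char_is_prime F p⟩
  set K := FiniteField.Extension F p e
  haveI : Fintype K := Fintype.ofFinite K
  haveI : Module.Finite F K := Module.Finite.of_finite
  have he0 : 0 < e := Nat.pos_of_ne_zero (NeZero.ne e)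
  have hfr : Module.finrank F K = e := FiniteField.finrank_extension F p e
  have hcard : Nat.card Kˣ = q ^ e - 1 := by
    rw [Nat.card_units, Nat.card_eq_fintype_card, Module.card_eq_pow_finrank (K := F) (V := K), hfr, hF]
  have hRdvd : R ∣ Nat.card Kˣ := by
    rw [hcard]
    rcases h with ⟨-, h⟩ | ⟨-, h2, h⟩
    · exact h
    · refine h.trans ⟨q ^ w - 1, ?_⟩
      have e2 := Nat.sq_sub_sq (q ^ w) 1
      rw [one_pow, sq, ← pow_add] at e2
      rw [← h2, two_mul, e2]
  obtain ⟨θ, hθ⟩ := exists_zmod_hom (M := Kˣ) (R := R) hRdvd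
  have hne : ∀ y : K, y ≠ 0 → ∃ z, Algebra.trace F K (y * z) ≠ 0 := by
    intro y hy
    obtain ⟨w, hw⟩ := Algebra.trace_surjective F K 1
    exact ⟨y⁻¹ * w, by rw [← mul_assoc, mul_inv_cancel₀ hy, one_mul, hw]; exact one_ne_zero⟩
  suffices hh : ∃ φ : (Fin 1 → Multiplicative (ZMod R)) →* ↥(Matrix.symplecticGroup (Fin m) F), Function.Injective φ by
    obtain ⟨φ, hφ⟩ := hh
    exact ⟨φ (Pi.mulSingle 0 (Multiplicative.ofAdd 1)), by
      rw [orderOf_injective φ hφ, orderOf_piMulSingle, orderOf_ofAdd_eq_addOrderOf, ZMod.addOrderOf_one]⟩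
  rcases h with ⟨hw, -⟩ | ⟨hev, hw, hR⟩
  · let B : LinearMap.BilinForm F (K × K) :=
      LinearMap.mk₂ F (fun x y => Algebra.trace F K (x.1 * y.2 - x.2 * y.1))
        (fun a b d => by simp [add_mul]; ring) (fun a b d => by simp [← smul_sub])
        (fun a b d => by simp [mul_add]; ring) (fun a b d => by simp [← smul_sub])
    let L : Kˣ →* (K × K →ₗ[F] K × K) :=
      { toFun := fun x => (Algebra.lmul F K (x : K)).prodMap (Algebra.lmul F K ((x⁻¹ : Kˣ) : K))
        map_one' := LinearMap.ext fun v => Prod.ext (by simp) (by simp)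
        map_mul' := fun x y => LinearMap.ext fun v => Prod.ext (by simp [mul_assoc]) (by simp [mul_assoc, mul_comm, mul_left_comm]) }
    refine S2381.blocks e 1 m (by rw [Module.finrank_prod, hfr, two_mul]) (by omega) B ?_ ?_
      (L.comp θ) ?_ ?_
    · intro a
      show Algebra.trace F K (a.1 * a.2 - a.2 * a.1) = 0
      rw [mul_comm, sub_self, map_zero]
    · intro a ha
      by_cases h1 : a.1 = 0
      · have h2 : a.2 ≠ 0 := fun h => ha (Prod.ext h1 h)
        obtain ⟨z, hz⟩ := hne (-a.2) (neg_ne_zero.mpr h2)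
        refine ⟨(z, 0), ?_⟩
        show Algebra.trace F K (a.1 * 0 - a.2 * z) ≠ 0
        rwa [mul_zero, zero_sub, ← neg_mul]
      · obtain ⟨z, hz⟩ := hne a.1 h1
        refine ⟨(0, z), ?_⟩
        show Algebra.trace F K (a.1 * z - a.2 * 0) ≠ 0
        rwa [mul_zero, sub_zero]
    · intro u v h
      apply hθ
      apply Units.ext
      have := congrArg (fun g : (K × K) →ₗ[F] K × K => (g (1, 0)).1) h
      simpa [L] using this
    · intro g a b
      show Algebra.trace F K (((θ g : Kˣ) : K) * a.1 * ((((θ g)⁻¹ : Kˣ) : K) * b.2) -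
        (((θ g)⁻¹ : Kˣ) : K) * a.2 * (((θ g : Kˣ) : K) * b.1)) = Algebra.trace F K (a.1 * b.2 - a.2 * b.1)
      congr 1
      linear_combination (a.1 * b.2 - a.2 * b.1) * (θ g).mul_inv
  · obtain ⟨f, hf⟩ := hev
    have hf0 : 0 < f := by omega
    have hwf : w = f := by omega
    let σ : K ≃ₐ[F] K := (FiniteField.frobeniusAlgEquivOfAlgebraic F K) ^ f
    have hσ : ∀ x : K, σ x = x ^ (q ^ f) := by
      intro x
      have := congrFun (FiniteField.coe_frobeniusAlgEquivOfAlgebraic_iterate (K := F) (L := K) f) x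
      rw [hF] at this
      rw [show σ x = (⇑(FiniteField.frobeniusAlgEquivOfAlgebraic F K))^[f] x from congrFun (AlgEquiv.coe_pow _ _) x]
      exact this
    have hσσ : ∀ x : K, σ (σ x) = x := by
      intro x
      have hc : Fintype.card K = q ^ f * q ^ f := by
        rw [Module.card_eq_pow_finrank (K := F) (V := K), hfr, hF, hf, pow_add]
      rw [hσ, hσ, ← pow_mul, ← hc, FiniteField.pow_card]
    obtain ⟨γ, hγ⟩ := IsCyclic.exists_ofOrder_eq_natCard (α := Kˣ)
    have hσne : σ (γ : K) ≠ γ := by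
      intro h
      rw [hσ] at h
      have h2 : 2 ≤ q ^ f := hq.trans (Nat.le_self_pow hf0.ne' q)
      have h1 : γ ^ (q ^ f - 1) = 1 := by
        apply Units.ext
        apply mul_right_cancel₀ γ.ne_zero
        rw [Units.val_pow_eq_pow_val, ← pow_succ, Units.val_one, one_mul, show q ^ f - 1 + 1 = q ^ f by omega, h]
      have := Nat.le_of_dvd (by omega) (orderOf_dvd_of_pow_eq_one h1)
      rw [hγ, hcard, hf, pow_add] at this
      have h3 : q ^ f * 2 ≤ q ^ f * q ^ f := Nat.mul_le_mul_left _ h2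
      omega
    set c : K := (γ : K) - σ γ with hc
    have hc0 : c ≠ 0 := sub_ne_zero.mpr (Ne.symm hσne)
    let B : LinearMap.BilinForm F K :=
      LinearMap.mk₂ F (fun a b => Algebra.trace F K (c * (a * σ b)))
        (fun a b d => by simp [add_mul, mul_add]) (fun a b d => by simp)
        (fun a b d => by simp [mul_add]) (fun a b d => by simp)
    refine S2381.blocks f 1 m (by rw [hfr, hf, two_mul]) (by omega) B ?_ ?_
      ((Algebra.lmul F K : K →ₐ[F] Module.End F K).toMonoidHom.comp ((Units.coeHom K).comp θ)) ?_ ?_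
    · intro a
      show Algebra.trace F K (c * (a * σ a)) = 0
      have : c * (a * σ a) = (γ : K) * (a * σ a) - σ ((γ : K) * (a * σ a)) := by
        rw [map_mul, map_mul, hσσ, hc]; ring
      rw [this, map_sub, Algebra.trace_eq_of_algEquiv, sub_self]
    · intro a ha
      obtain ⟨z, hz⟩ := hne (c * a) (mul_ne_zero hc0 ha)
      refine ⟨σ z, ?_⟩
      show Algebra.trace F K (c * (a * σ (σ z))) ≠ 0
      rwa [hσσ, ← mul_assoc]
    · intro u v h
      apply hθ
      apply Units.ext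
      have := congrArg (fun g : K →ₗ[F] K => g 1) h
      simpa using this
    · intro g a b
      show Algebra.trace F K (c * (((θ g : Kˣ) : K) * a * σ (((θ g : Kˣ) : K) * b))) = Algebra.trace F K (c * (a * σ b))
      congr 2
      set x : K := ((θ g : Kˣ) : K)
      have hx : x * σ x = 1 := by
        rw [hσ, ← pow_succ', ← Units.val_pow_eq_pow_val]
        have hord : orderOf (θ g) ∣ q ^ f + 1 :=
          ((orderOf_map_dvd θ g).trans (by simpa [Nat.card_zmod] using orderOf_dvd_natCard g)).trans (hwf ▸ hR)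
        rw [orderOf_dvd_iff_pow_eq_one.mp hord, Units.val_one]
      rw [map_mul]
      linear_combination (a * σ b) * hx



variable {L : Type*} [Field L] [DecidableEq L]

noncomputable abbrev orbitSet' (q : ℕ) (c : L) (N : ℕ) : Finset L := S2469.orbitSet q c N

def Closed (q : ℕ) (S : Finset L) : Prop := ∀ x ∈ S, x ^ q ∈ S ∧ x⁻¹ ∈ S

lemma pow_q_inj (p a : ℕ) [Fact p.Prime] [CharP L p] : Function.Injective (fun x : L => x ^ p ^ a) := by
  intro x y h
  have := iterateFrobenius L p a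
  exact (iterateFrobenius L p a).injective (by simpa [iterateFrobenius_def] using h)

lemma closed_sdiff {p a : ℕ} [Fact p.Prime] [CharP L p] {S O : Finset L}
    (hS : Closed (p ^ a) S) (hO : Closed (p ^ a) O) : Closed (p ^ a) (S \ O) := by
  intro x hx
  rw [Finset.mem_sdiff] at hx
  refine ⟨Finset.mem_sdiff.mpr ⟨(hS x hx.1).1, fun h => hx.2 ?_⟩, Finset.mem_sdiff.mpr ⟨(hS x hx.1).2, fun h => hx.2 ?_⟩⟩
  · have he : O.image (fun x : L => x ^ p ^ a) = O :=
      Finset.eq_of_subset_of_card_le (by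
        intro y hy; obtain ⟨z, hz, rfl⟩ := Finset.mem_image.mp hy; exact (hO z hz).1)
        (by rw [Finset.card_image_of_injective _ (pow_q_inj p a)])
    rw [← he] at h
    obtain ⟨z, hz, e⟩ := Finset.mem_image.mp h
    rwa [pow_q_inj p a e] at hz
  · simpa using (hO _ h).2

lemma orbit_data (hF : 2 ≤ Fintype.card F) {c : L} {N : ℕ} (hN : orderOf c = N) (hodd : Odd N) (hN1 : N ≠ 1)
    (hcop : Nat.Coprime (Fintype.card F) N) :
    ∃ η : ℕ, 0 < η ∧ c ∈ orbitSet' (Fintype.card F) c N ∧ Closed (Fintype.card F) (orbitSet' (Fintype.card F) c N) ∧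
      2 * η ≤ (orbitSet' (Fintype.card F) c N).card ∧
      (∀ S : Finset L, Closed (Fintype.card F) S → c ∈ S → orbitSet' (Fintype.card F) c N ⊆ S) ∧
      (N ∣ Fintype.card F ^ η - 1 ∨ N ∣ Fintype.card F ^ η + 1) := by
  classical
  set q := Fintype.card F
  haveI : NeZero N := ⟨fun h => by rw [h] at hodd; simp at hodd⟩
  obtain ⟨o1, o2, -⟩ := S2469.orbit_card (q := q) hN hcop
  set k := orderOf (q : ZMod N)
  have hunit : IsUnit ((q : ℕ) : ZMod N) := (ZMod.isUnit_iff_coprime q N).mpr hcop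
  have hk0 : 0 < k := orderOf_pos_iff.mpr (by
    obtain ⟨u, hu⟩ := hunit
    rw [← hu]; exact Units.coeHom (ZMod N) |>.isOfFinOrder (isOfFinOrder_of_finite u))
  have hfin : IsOfFinOrder c := orderOf_pos_iff.mp (by rw [hN]; exact Nat.pos_of_ne_zero (NeZero.ne N))
  have hmod : ∀ i : ℕ, c ^ (q ^ i) = c ^ (q ^ (i % k)) := by
    intro i
    rw [hfin.pow_eq_pow_iff_modEq, hN, ← ZMod.natCast_eq_natCast_iff, Nat.cast_pow, Nat.cast_pow, pow_mod_orderOf]
  have hmem : ∀ i : ℕ, c ^ (q ^ i) ∈ orbitSet' q c N ∧ (c ^ (q ^ i))⁻¹ ∈ orbitSet' q c N := by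
    intro i
    rw [hmod i]
    exact ⟨Finset.mem_union_left _ (Finset.mem_image.mpr ⟨i % k, Finset.mem_range.mpr (Nat.mod_lt _ hk0), rfl⟩),
      Finset.mem_union_right _ (Finset.mem_image.mpr ⟨i % k, Finset.mem_range.mpr (Nat.mod_lt _ hk0), rfl⟩)⟩
  have hcl : Closed q (orbitSet' q c N) := by
    intro x hx
    rcases Finset.mem_union.mp hx with h | h <;> obtain ⟨i, -, rfl⟩ := Finset.mem_image.mp h
    · refine ⟨?_, (hmem i).2⟩
      rw [← pow_mul, ← pow_succ]; exact (hmem (i + 1)).1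
    · refine ⟨?_, by rw [inv_inv]; exact (hmem i).1⟩
      rw [inv_pow, ← pow_mul, ← pow_succ]; exact (hmem (i + 1)).2
  have hsub : ∀ S : Finset L, Closed q S → c ∈ S → orbitSet' q c N ⊆ S := by
    intro S hS hc x hx
    have h1 : ∀ i : ℕ, c ^ (q ^ i) ∈ S := by
      intro i
      induction i with
      | zero => simpa using hc
      | succ i ih => rw [pow_succ, pow_mul]; exact (hS _ ih).1
    rcases Finset.mem_union.mp hx with h | h <;> obtain ⟨i, -, rfl⟩ := Finset.mem_image.mp h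
    · exact h1 i
    · exact (hS _ (h1 i)).2
  have hc : c ∈ orbitSet' q c N := by simpa using (hmem 0).1
  by_cases hneg : ∀ j : ℕ, (q : ZMod N) ^ j ≠ -1
  · refine ⟨k, hk0, hc, hcl, o2 hneg, hsub, Or.inl ?_⟩
    rw [← Nat.modEq_iff_dvd' (Nat.one_le_pow _ _ (by omega)), ← ZMod.natCast_eq_natCast_iff, Nat.cast_one, Nat.cast_pow]
    exact (pow_orderOf_eq_one _).symm
  · push Not at hneg
    obtain ⟨j, hj⟩ := hneg
    haveI : Fact (2 < N) := ⟨by obtain ⟨t, ht⟩ := hodd; omega⟩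
    have hnd : ¬ k ∣ j := fun hd => by
      rw [orderOf_dvd_iff_pow_eq_one.mp hd] at hj
      exact ZMod.neg_one_ne_one hj.symm
    have hd2 : k ∣ 2 * j := orderOf_dvd_of_pow_eq_one (by rw [mul_comm, pow_mul, hj, neg_one_sq])
    have hke : Even k := by
      rcases Nat.even_or_odd k with he | ho
      · exact he
      · exact absurd (Nat.Coprime.dvd_of_dvd_mul_left (Nat.coprime_two_right.mpr ho) hd2) hnd
    obtain ⟨a, ha⟩ := hke
    refine ⟨a, by omega, hc, hcl, ?_, hsub, Or.inr ?_⟩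
    · exact le_trans (by omega) o1
    · obtain ⟨t, ht⟩ : a ∣ j := Nat.dvd_of_mul_dvd_mul_left (show 0 < 2 by norm_num) (by rwa [two_mul a, ← ha])
      have hto : Odd t := by
        rcases Nat.even_or_odd t with ⟨s, hs⟩ | h
        · exact absurd ⟨s, by rw [ht, hs, ha]; ring⟩ hnd
        · exact h
      have h2 : ((q : ZMod N) ^ a) ^ 2 = 1 := by
        rw [← pow_mul, show a * 2 = k by omega]; exact pow_orderOf_eq_one _
      obtain ⟨s, hs⟩ := hto
      have h3 : (q : ZMod N) ^ a = -1 := by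
        rw [← hj, ht, pow_mul, hs, pow_succ, pow_mul, h2, one_pow, one_mul]
      rw [← CharP.cast_eq_zero_iff (ZMod N) N]
      push_cast
      rw [h3, neg_add_cancel]

lemma torus_of {η N m : ℕ} (hη : 0 < η) (hN : N ≠ 0)
    (h : N ∣ Fintype.card F ^ η - 1 ∨ N ∣ Fintype.card F ^ η + 1) (hm : η ≤ m) :
    ∃ x : Matrix.symplecticGroup (Fin m) F, orderOf x = N := by
  haveI : NeZero N := ⟨hN⟩
  rcases h with h | h
  · haveI : NeZero η := ⟨hη.ne'⟩
    exact exists_torus η η N (Or.inl ⟨rfl, h⟩) hm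
  · haveI : NeZero (2 * η) := ⟨by omega⟩
    exact exists_torus (2 * η) η N (Or.inr ⟨even_two_mul η, rfl, h⟩) hm

lemma tori (p a : ℕ) [Fact p.Prime] [CharP L p] (hF : Fintype.card F = p ^ a) (o : ℕ) (ho : Odd o)
    (hco : Nat.Coprime (Fintype.card F) o ∨ ∀ S : Finset L, ∀ x ∈ S, x ^ o = 1 → Nat.Coprime (Fintype.card F) (orderOf x)) :
    ∀ S : Finset L, Closed (Fintype.card F) S → (∀ x ∈ S, x ^ o = 1 ∧ x ≠ 1) →
      ∃ k, 2 * k ≤ S.card ∧ ∀ m, k ≤ m → ∃ x : Matrix.symplecticGroup (Fin m) F, Odd (orderOf x) ∧ ∀ c ∈ S, orderOf c ∣ orderOf x := by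
  classical
  intro S
  induction S using Finset.strongInduction with
  | _ S ih =>
    intro hcl ho1
    rcases S.eq_empty_or_nonempty with rfl | ⟨c, hc⟩
    · exact ⟨0, by simp, fun m _ => ⟨1, by simp, by simp⟩⟩
    have hcd := orderOf_dvd_of_pow_eq_one (ho1 c hc).1
    have hoddN : Odd (orderOf c) := ho.of_dvd_nat hcd
    have hcop : Nat.Coprime (Fintype.card F) (orderOf c) := by
      rcases hco with h | h
      · exact h.coprime_dvd_right hcd
      · exact h S c hc (ho1 c hc).1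
    obtain ⟨η, hη, hmem, hOcl, hcard, hsub, hdvd⟩ :=
      orbit_data (F := F) (Fintype.one_lt_card) rfl hoddN (fun h => (ho1 c hc).2 (orderOf_eq_one_iff.mp h)) hcop
    set O := orbitSet' (Fintype.card F) c (orderOf c)
    have hOS := hsub S hcl hc
    have hlt : S \ O ⊂ S := Finset.sdiff_ssubset hOS ⟨c, hmem⟩
    have hcl' : Closed (Fintype.card F) (S \ O) := by
      rw [hF] at hcl hOcl ⊢; exact closed_sdiff hcl hOcl
    obtain ⟨k, hk, hx⟩ := ih _ hlt hcl' (fun x hx => ho1 x (Finset.mem_sdiff.mp hx).1)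
    have hsum := Finset.card_sdiff_add_card_eq_card hOS
    refine ⟨η + k, by omega, fun m hm => ?_⟩
    obtain ⟨φ, hφ, -⟩ := pair_embed (F := F) (n := m) η (m - η) (by omega)
    obtain ⟨y, hy⟩ := torus_of (F := F) (m := η) hη (fun h => by rw [h] at hoddN; simp at hoddN) hdvd le_rfl
    obtain ⟨x, hxo, hxd⟩ := hx (m - η) (by omega)
    refine ⟨φ (y, x), ?_, ?_⟩
    · rw [orderOf_injective φ hφ, Prod.orderOf, hy]
      exact (hoddN.mul hxo).of_dvd_nat (Nat.lcm_dvd_mul _ _)
    · intro d hd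
      rw [orderOf_injective φ hφ, Prod.orderOf, hy]
      by_cases hdO : d ∈ O
      · haveI : NeZero (orderOf c) := ⟨fun h => by rw [h] at hoddN; simp at hoddN⟩
        have := (S2469.orbit_card (q := Fintype.card F) (rfl : orderOf c = orderOf c) hcop).2.2 d hdO
        rw [this]; exact Nat.dvd_lcm_left _ _
      · exact (hxd d (Finset.mem_sdiff.mpr ⟨hd, hdO⟩)).trans (Nat.dvd_lcm_right _ _)

lemma unip (p : ℕ) [Fact p.Prime] [CharP F p] (hp2 : p ≠ 2) {k f : ℕ} (h : f = 0 ∨ p ^ (f - 1) < 2 * k) :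
    ∃ x : Matrix.symplecticGroup (Fin k) F, orderOf x = p ^ f := by
  classical
  rcases Nat.eq_zero_or_pos f with rfl | hf
  · exact ⟨1, by simp⟩
  have hlt : p ^ (f - 1) < 2 * k := h.resolve_left hf.ne'
  have hk : 0 < k := by omega
  let P : Polynomial F := (Polynomial.X - Polynomial.C 1) ^ (2 * k)
  have hPm : P.Monic := (Polynomial.monic_X_sub_C 1).pow _
  have hPd : P.natDegree = 2 * k := by rw [Polynomial.natDegree_pow, Polynomial.natDegree_X_sub_C, mul_one]
  let A := AdjoinRoot P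
  haveI : Module.Finite F A := hPm.finite_adjoinRoot
  let τ : A := AdjoinRoot.root P - 1
  have hτ : τ ^ (2 * k) = 0 := by
    rw [show τ ^ (2 * k) = AdjoinRoot.mk P P by simp [τ, P]]
    exact AdjoinRoot.mk_self
  obtain ⟨tu, htu⟩ : IsUnit (AdjoinRoot.root P) := by
    have : IsNilpotent τ := ⟨2 * k, hτ⟩
    simpa [τ] using this.isUnit_add_one
  have hinvP : Polynomial.eval₂ (algebraMap F A) ((tu⁻¹ : Aˣ) : A) P = 0 := by
    have e : ((tu⁻¹ : Aˣ) : A) - 1 = -(((tu⁻¹ : Aˣ) : A) * τ) := by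
      rw [show τ = (tu : A) - 1 by rw [htu], mul_sub, Units.inv_mul, mul_one]; ring
    simp only [P, Polynomial.eval₂_pow, Polynomial.eval₂_sub, Polynomial.eval₂_X, Polynomial.eval₂_C, Polynomial.eval₂_one, map_one]
    rw [e, neg_pow, mul_pow, hτ, mul_zero, mul_zero]
  let bar : A →ₐ[F] A := AdjoinRoot.liftAlgHom P (Algebra.ofId F A) ((tu⁻¹ : Aˣ) : A) hinvP
  have hbarroot : bar (AdjoinRoot.root P) = ((tu⁻¹ : Aˣ) : A) := AdjoinRoot.liftAlgHom_root _ _ _ _
  have hbb : ∀ x, bar (bar x) = x := by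
    have : bar.comp bar = AlgHom.id F A := by
      apply AdjoinRoot.algHom_ext
      show bar (bar (AdjoinRoot.root P)) = AdjoinRoot.root P
      have h1 : bar ((tu⁻¹ : Aˣ) : A) * ((tu⁻¹ : Aˣ) : A) = 1 := by
        rw [← hbarroot, ← map_mul, hbarroot, ← htu, Units.inv_mul, map_one]
      rw [hbarroot]
      calc bar ((tu⁻¹ : Aˣ) : A) = bar ((tu⁻¹ : Aˣ) : A) * (((tu⁻¹ : Aˣ) : A) * (tu : A)) := by rw [Units.inv_mul, mul_one]
        _ = (tu : A) := by rw [← mul_assoc, h1, one_mul]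
        _ = _ := htu
    exact fun x => AlgHom.congr_fun this x
  set z := τ ^ (2 * k - 1) with hz
  have hdiv : ∀ e, e < 2 * k → τ ^ e ≠ 0 := by
    intro e he h0
    have h1 : AdjoinRoot.mk P ((Polynomial.X - Polynomial.C 1) ^ e) = 0 := by simpa [τ] using h0
    rw [AdjoinRoot.mk_eq_zero] at h1
    have := Polynomial.natDegree_le_of_dvd h1 (pow_ne_zero _ (Polynomial.X_sub_C_ne_zero _))
    rw [hPd] at this
    rw [Polynomial.natDegree_pow, Polynomial.natDegree_X_sub_C, mul_one] at this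
    omega
  have hz0 : z ≠ 0 := hdiv _ (by omega)
  have hbarz : bar z = -z := by
    have e : bar τ = -(((tu⁻¹ : Aˣ) : A) * τ) := by
      rw [show τ = AdjoinRoot.root P - 1 from rfl, map_sub, map_one, hbarroot, mul_sub, ← htu, Units.inv_mul, mul_one]; ring
    have htz : (tu : A) * z = z := by
      rw [htu, show AdjoinRoot.root P = τ + 1 by simp [τ], add_mul, one_mul, hz, ← pow_succ',
        show 2 * k - 1 + 1 = 2 * k by omega, hτ, zero_add]
    have hiz : ((tu⁻¹ : Aˣ) : A) * z = z := by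
      conv_lhs => rw [← htz, ← mul_assoc, Units.inv_mul, one_mul]
    have hpow : ∀ i : ℕ, ((tu⁻¹ : Aˣ) : A) ^ i * z = z := fun i => by
      induction i with
      | zero => simp
      | succ i ih => rw [pow_succ, mul_assoc, hiz, ih]
    rw [hz, map_pow, e, neg_pow, mul_pow, Odd.neg_one_pow ⟨k - 1, by omega⟩, ← hz, hpow]
    ring
  obtain ⟨l0, hl0⟩ : ∃ l : A →ₗ[F] F, l z = 1 := by
    obtain ⟨l, hl⟩ := Module.Projective.exists_dual_ne_zero F hz0
    exact ⟨(l z)⁻¹ • l, by simp [hl]⟩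
  let l : A →ₗ[F] F := l0 - l0.comp bar.toLinearMap
  have hlz : l z = 2 := by
    simp [l, hbarz, hl0]; norm_num
  have h2 : (2 : F) ≠ 0 := fun h => hp2 ((Nat.prime_dvd_prime_iff_eq Fact.out Nat.prime_two).mp
    ((CharP.cast_eq_zero_iff F p 2).mp (by exact_mod_cast h)))
  let B : LinearMap.BilinForm F A :=
    LinearMap.mk₂ F (fun x y => l (x * bar y)) (fun a b c => by simp [add_mul]) (fun a b c => by simp)
      (fun a b c => by simp [mul_add]) (fun a b c => by simp)
  have hfin : Module.finrank F A = 2 * k := by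
    rw [(AdjoinRoot.powerBasis hPm.ne_zero).finrank]; simp [hPd]
  let ρ : Multiplicative ℤ →* (A →ₗ[F] A) :=
    (Algebra.lmul F A : A →ₐ[F] Module.End F A).toMonoidHom.comp ((Units.coeHom A).comp (zpowersHom Aˣ tu))
  haveI : CharP A p := charP_of_injective_algebraMap
    (AdjoinRoot.of.injective_of_degree_ne_zero (by rw [Polynomial.degree_eq_natDegree hPm.ne_zero, hPd]; exact_mod_cast (by omega : (2 * k : ℕ) ≠ 0))) p
  have hord : ∃ N, f ≤ N ∧ orderOf tu = p ^ N := by
    have h1 : tu ^ p ^ (2 * k) = 1 := by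
      apply Units.ext
      rw [Units.val_pow_eq_pow_val, htu, show AdjoinRoot.root P = τ + 1 by simp [τ], add_pow_char_pow, one_pow,
        pow_eq_zero_of_le (Nat.lt_pow_self (Fact.out : p.Prime).one_lt).le hτ, zero_add, Units.val_one]
    obtain ⟨N, -, hN⟩ := (Nat.dvd_prime_pow Fact.out).mp (orderOf_dvd_of_pow_eq_one h1)
    refine ⟨N, ?_, hN⟩
    by_contra hlt'
    have h2 : tu ^ p ^ (f - 1) = 1 := orderOf_dvd_iff_pow_eq_one.mp (hN ▸ pow_dvd_pow p (by omega))
    have h3 := congrArg Units.val h2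
    rw [Units.val_pow_eq_pow_val, htu, show AdjoinRoot.root P = τ + 1 by simp [τ], add_pow_char_pow, one_pow, Units.val_one,
      add_eq_right] at h3
    exact hdiv _ hlt h3
  obtain ⟨N, hfN, hN⟩ := hord
  let θ : ↥(Subgroup.zpowers tu) →* (A →ₗ[F] A) :=
    (Algebra.lmul F A : A →ₐ[F] Module.End F A).toMonoidHom.comp ((Units.coeHom A).comp (Subgroup.zpowers tu).subtype)
  refine Exists.elim (exists_embed k hfin B (fun x => ?_) (fun x hx => ?_) θ ?_ ?_) fun φ hφ' => ?_
  · show l (x * bar x) = 0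
    simp [l, hbb, mul_comm]
  · obtain ⟨e, he, hxe⟩ : ∃ e, x * τ ^ e ≠ 0 ∧ x * τ ^ (e + 1) = 0 := by
      have hex : ∃ e, x * τ ^ e = 0 := ⟨2 * k, by rw [hτ, mul_zero]⟩
      refine ⟨Nat.find hex - 1, Nat.find_min hex (Nat.sub_lt ?_ one_pos), ?_⟩
      · rcases Nat.eq_zero_or_pos (Nat.find hex) with h0 | h0
        · have := Nat.find_spec hex; rw [h0, pow_zero, mul_one] at this; exact absurd this hx
        · exact h0
      · have h0 : Nat.find hex ≠ 0 := fun h0 => by
          have := Nat.find_spec hex; rw [h0, pow_zero, mul_one] at this; exact hx this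
        rw [Nat.sub_add_cancel (Nat.one_le_iff_ne_zero.mpr h0)]; exact Nat.find_spec hex
    -- the annihilator of τ is spanned by z
    obtain ⟨Q, hQ⟩ := AdjoinRoot.mk_surjective (x * τ ^ e)
    have hann : (x * τ ^ e) * τ = 0 := by rw [mul_assoc, ← pow_succ]; exact hxe
    rw [← hQ, show τ = AdjoinRoot.mk P (Polynomial.X - Polynomial.C 1) by simp [τ], ← map_mul, AdjoinRoot.mk_eq_zero] at hann
    obtain ⟨R, hR⟩ := hann
    have hQR : Q = (Polynomial.X - Polynomial.C 1) ^ (2 * k - 1) * R := by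
      apply mul_right_cancel₀ (Polynomial.X_sub_C_ne_zero (1 : F))
      rw [hR, mul_right_comm, ← pow_succ, show 2 * k - 1 + 1 = 2 * k by omega]
    have hxz : x * τ ^ e = z * AdjoinRoot.mk P R := by rw [← hQ, hQR, map_mul, map_pow]; simp [z, τ]
    have hsc : z * AdjoinRoot.mk P R = R.eval 1 • z := by
      obtain ⟨R', hR'⟩ : (Polynomial.X - Polynomial.C 1) ∣ R - Polynomial.C (R.eval 1) := by
        rw [Polynomial.dvd_iff_isRoot]; simp
      rw [show R = Polynomial.C (R.eval 1) + (Polynomial.X - Polynomial.C 1) * R' by rw [← hR']; ring, map_add, mul_add]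
      simp only [Polynomial.eval_add, Polynomial.eval_mul, Polynomial.eval_sub, Polynomial.eval_X, Polynomial.eval_C,
        sub_self, zero_mul, add_zero]
      rw [map_mul, show AdjoinRoot.mk P (Polynomial.X - Polynomial.C 1) = τ by simp [τ], ← mul_assoc, hz, ← pow_succ,
        show 2 * k - 1 + 1 = 2 * k by omega, hτ, zero_mul, add_zero, AdjoinRoot.mk_C, Algebra.smul_def, mul_comm]
      rfl
    have hR1 : R.eval 1 ≠ 0 := fun h0 => he (by rw [hxz, hsc, h0, zero_smul])
    refine ⟨bar ((R.eval 1)⁻¹ • τ ^ e), ?_⟩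
    show l (x * bar (bar _)) ≠ 0
    rw [hbb, mul_smul_comm, hxz, hsc, smul_smul, inv_mul_cancel₀ hR1, one_smul, hlz]
    exact h2
  · intro u v h
    apply Subtype.ext; apply Units.ext
    have := congrArg (fun g : A →ₗ[F] A => g 1) h
    simpa [θ] using this
  · intro g x y
    show l (((g : Aˣ) : A) * x * bar (((g : Aˣ) : A) * y)) = l (x * bar y)
    congr 1
    have hg : ((g : Aˣ) : A) * bar ((g : Aˣ) : A) = 1 := by
      obtain ⟨i, hi⟩ := Subgroup.mem_zpowers_iff.mp g.2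
      have hb : Units.map (bar : A →* A) tu = tu⁻¹ := Units.ext (by simpa [htu] using hbarroot)
      have : (g : Aˣ) * Units.map (bar : A →* A) (g : Aˣ) = 1 := by
        rw [← hi, map_zpow, hb, _root_.inv_zpow, mul_inv_cancel]
      simpa using congrArg Units.val this
    rw [map_mul]
    linear_combination (x * bar y) * hg
  · obtain ⟨hφ, -⟩ := hφ'
    have ho : orderOf (φ ⟨tu, Subgroup.mem_zpowers tu⟩) = p ^ N := by
      rw [orderOf_injective φ hφ, Subgroup.orderOf_mk, hN]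
    obtain ⟨i, hi⟩ := Cfsg.Lib.PSLOrders.exists_pow_order (φ ⟨tu, Subgroup.mem_zpowers tu⟩) (d := p ^ f) (ho ▸ pow_dvd_pow p hfN)
    exact ⟨_, hi⟩

omit [DecidableEq L] in
lemma dvd_mem {o d : ℕ} (h : o ∈ Set.range (orderOf : Cfsg.PSp n F → ℕ)) (hd : d ∣ o) :
    d ∈ Set.range (orderOf : Cfsg.PSp n F → ℕ) := by
  obtain ⟨g, rfl⟩ := h
  obtain ⟨i, hi⟩ := Cfsg.Lib.PSLOrders.exists_pow_order g hd
  exact ⟨_, hi⟩

lemma bar_dvd (p : ℕ) [Fact p.Prime] [CharP F p] (hp2 : p ≠ 2) (hn : 1 ≤ n) (x : Matrix.symplecticGroup (Fin n) F) :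
    orderOf x ∣ 2 * orderOf (QuotientGroup.mk x : Cfsg.PSp n F) := by
  set j := orderOf (QuotientGroup.mk x : Cfsg.PSp n F)
  have hz : x ^ j ∈ Subgroup.center _ := by
    rw [← QuotientGroup.eq_one_iff, QuotientGroup.mk_pow]; exact pow_orderOf_eq_one _
  have h1 := S2472.center_pow (p := p) hn hz
  rw [if_neg hp2, ← pow_mul, mul_comm] at h1
  exact orderOf_dvd_of_pow_eq_one h1

lemma mem_of_odd (p : ℕ) [Fact p.Prime] [CharP F p] (hp2 : p ≠ 2) (hn : 1 ≤ n) (x : Matrix.symplecticGroup (Fin n) F)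
    {d : ℕ} (hd : d ∣ orderOf x) (ho : Odd d) : d ∈ Set.range (orderOf : Cfsg.PSp n F → ℕ) :=
  dvd_mem ⟨_, rfl⟩ (Nat.Coprime.dvd_of_dvd_mul_left (Nat.coprime_two_right.mpr ho) (hd.trans (bar_dvd p hp2 hn x)))

lemma two_of (p : ℕ) [Fact p.Prime] [CharP F p] (hp2 : p ≠ 2) {a b : ℕ} (hab : a + b = n) (ha : 0 < a) (hb : 0 < b)
    (x : Matrix.symplecticGroup (Fin a) F) (y : Matrix.symplecticGroup (Fin b) F) (hx : Odd (orderOf x)) (hy : Odd (orderOf y))
    {d : ℕ} (hd : d ∣ Nat.lcm (orderOf x) (orderOf y)) : 2 * d ∈ Set.range (orderOf : Cfsg.PSp n F → ℕ) := by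
  classical
  obtain ⟨φ, hφ, hsc⟩ := pair_embed (F := F) (n := n) a b hab
  let ν : Matrix.symplecticGroup (Fin a) F := ⟨-1, SymplecticGroup.mem_iff.mpr (by simp)⟩
  have hνν : ν * ν = 1 := Subtype.ext (by simp [ν])
  have hνx : Commute ν x := Subtype.ext (by simp [ν])
  have hne : (1 : F) ≠ -1 := fun h => hp2 ((Nat.prime_dvd_prime_iff_eq (Fact.out : p.Prime) Nat.prime_two).mp
    ((CharP.cast_eq_zero_iff F p 2).mp (by push_cast; linear_combination h)))
  have h2lcm : 2 * Nat.lcm (orderOf x) (orderOf y) ∣ orderOf (QuotientGroup.mk (φ (ν * x, y)) : Cfsg.PSp n F) := by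
    set j := orderOf (QuotientGroup.mk (φ (ν * x, y)) : Cfsg.PSp n F)
    have hz : φ (ν * x, y) ^ j ∈ Subgroup.center _ := by
      rw [← QuotientGroup.eq_one_iff, QuotientGroup.mk_pow]; exact pow_orderOf_eq_one _
    obtain ⟨s, hs, he⟩ := S2472.center_sq (by omega) hz
    rw [← map_pow] at he
    obtain ⟨h1, h2⟩ := hsc _ _ s (by simpa using he)
    have h2' := h2 hb
    have hs1 : s = 1 := by
      rcases mul_self_eq_one_iff.mp hs with h | h
      · exact h
      · have h3 : ((y ^ j) ^ orderOf y : Matrix.symplecticGroup (Fin b) F) = 1 := by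
          rw [← pow_mul, mul_comm, pow_mul, pow_orderOf_eq_one, one_pow]
        have h4 := congrArg Subtype.val h3
        rw [SubmonoidClass.coe_pow, h2', _root_.smul_pow, one_pow, h, hy.neg_one_pow] at h4
        have h5 := congrFun (congrFun h4 (Sum.inl ⟨0, hb⟩)) (Sum.inl ⟨0, hb⟩)
        simp at h5
        exact absurd h5.symm hne
    subst hs1
    have hy1 : y ^ j = 1 := Subtype.ext (by simpa using h2')
    have hx1 : (ν * x) ^ j = 1 := Subtype.ext (by simpa using h1 ha)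
    have hx2 : x ^ j = 1 := by
      have : x ^ (2 * j) = 1 := by
        have := congrArg (fun z => z ^ 2) hx1
        simp only [one_pow] at this
        rw [← pow_mul, hνx.mul_pow, mul_comm j 2, pow_mul ν, sq, hνν, one_pow, one_mul] at this
        exact this
      exact orderOf_dvd_iff_pow_eq_one.mp (Nat.Coprime.dvd_of_dvd_mul_left (Nat.coprime_two_right.mpr hx) (orderOf_dvd_of_pow_eq_one this))
    have hj2 : 2 ∣ j := by
      rw [hνx.mul_pow, hx2, mul_one] at hx1
      rcases Nat.even_or_odd j with hj | hj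
      · exact even_iff_two_dvd.mp hj
      · have h5 := congrFun (congrFun (congrArg Subtype.val hx1) (Sum.inl ⟨0, ha⟩)) (Sum.inl ⟨0, ha⟩)
        rw [SubmonoidClass.coe_pow] at h5
        simp [ν, hj.neg_one_pow] at h5
        exact absurd h5.symm hne
    refine Nat.Coprime.mul_dvd_of_dvd_of_dvd ?_ hj2 (Nat.lcm_dvd (orderOf_dvd_of_pow_eq_one hx2) (orderOf_dvd_of_pow_eq_one hy1))
    exact Nat.coprime_two_left.mpr ((hx.mul hy).of_dvd_nat (Nat.lcm_dvd_mul _ _))
  exact dvd_mem ⟨_, rfl⟩ ((mul_dvd_mul_left 2 hd).trans h2lcm)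

def T0 (q n : ℕ) : ℕ := if Odd ((q ^ n - 1) / 2) then (q ^ n - 1) / 2 else (q ^ n + 1) / 2

lemma T0_spec {q : ℕ} (hq : Odd q) (n : ℕ) :
    (2 * ((q ^ n - 1) / 2) = q ^ n - 1 ∧ 2 * ((q ^ n + 1) / 2) = q ^ n + 1) ∧ Odd (T0 q n) ∧
      (T0 q n ∣ q ^ n - 1 ∨ T0 q n ∣ q ^ n + 1) := by
  obtain ⟨t, ht⟩ : Odd (q ^ n) := hq.pow
  have e1 : 2 * ((q ^ n - 1) / 2) = q ^ n - 1 := by omega
  have e2 : 2 * ((q ^ n + 1) / 2) = q ^ n + 1 := by omega
  refine ⟨⟨e1, e2⟩, ?_⟩
  unfold T0
  split_ifs with h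
  · exact ⟨h, Or.inl (Dvd.intro_left 2 e1)⟩
  · refine ⟨?_, Or.inr (Dvd.intro_left 2 e2)⟩
    rw [Nat.odd_iff] at h ⊢
    omega

lemma classify (p a : ℕ) [Fact p.Prime] [CharP F p] (hp2 : p ≠ 2) (hF : Fintype.card F = p ^ a) (ha : 1 ≤ a) (hn : 1 ≤ n) {o : ℕ}
    (hmem : o ∈ Set.range (orderOf : Cfsg.PSp n F → ℕ)) (ho : Odd o) :
    2 * o ∈ Set.range (orderOf : Cfsg.PSp n F → ℕ) ∨ o ∣ T0 (Fintype.card F) n ∨
      ∃ f, (f = 0 ∨ p ^ (f - 1) < 2 * n) ∧ o ∣ p ^ f := by
  classical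
  have hpp : p.Prime := Fact.out
  have hpodd : Odd p := hpp.odd_of_ne_two hp2
  set q := Fintype.card F with hq
  have hqodd : Odd q := hF ▸ hpodd.pow
  obtain ⟨g, hg⟩ := hmem
  obtain ⟨A, rfl⟩ := QuotientGroup.mk_surjective g
  obtain ⟨C, hC, hCo⟩ : ∃ C : Matrix.symplecticGroup (Fin n) F, C ^ o = 1 ∧ ∀ j, C ^ j = 1 → o ∣ j := by
    refine ⟨A ^ 2, ?_, fun j hj => ?_⟩
    · rw [← pow_mul]
      exact orderOf_dvd_iff_pow_eq_one.mp (hg ▸ bar_dvd p hp2 hn A)
    · apply Nat.Coprime.dvd_of_dvd_mul_left (Nat.coprime_two_right.mpr ho)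
      rw [← hg]
      apply orderOf_dvd_of_pow_eq_one
      rw [← QuotientGroup.mk_pow, pow_mul, hj]
      rfl
  let ι := Fin n ⊕ Fin n
  let K := AlgebraicClosure F
  haveI : CharP K p := charP_of_injective_algebraMap (algebraMap F K).injective p
  let φ : Matrix ι ι F →+* Matrix ι ι K := (algebraMap F K).mapMatrix
  have hφ : Function.Injective φ := Matrix.map_injective (algebraMap F K).injective
  set M := φ (C : Matrix ι ι F) with hM
  have hMN : M ^ o = 1 := by rw [hM, ← map_pow, ← SubmonoidClass.coe_pow, hC]; exact map_one φ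
  set P := M.charpoly with hP
  have hPm : P.Monic := Matrix.charpoly_monic M
  have hP0 : P ≠ 0 := hPm.ne_zero
  have hPdeg : P.natDegree = 2 * n := by
    rw [hP, Matrix.charpoly_natDegree_eq_dim]; simp [ι, two_mul]
  have hsplit : P.Splits := IsAlgClosed.splits _
  set R := P.roots with hR
  have hRcard : R.card = 2 * n := hPdeg ▸ hsplit.natDegree_eq_card_roots.symm
  have hPq : ∀ x : K, P.IsRoot x → P.IsRoot (x ^ q) := by
    intro x hx
    have he : P = (C : Matrix ι ι F).charpoly.map (algebraMap F K) := Matrix.charpoly_map _ _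
    rw [Polynomial.IsRoot.def, he, Polynomial.eval_map_algebraMap] at hx ⊢
    rw [← Polynomial.expand_aeval, FiniteField.expand_card, map_pow, hx, zero_pow (by simp [hq, Fintype.card_ne_zero])]
  have hPinv : ∀ x : K, x ≠ 0 → P.IsRoot x → P.IsRoot x⁻¹ := by
    intro x hx0 hx
    rw [hP, Polynomial.IsRoot.def, Matrix.eval_charpoly, ← Matrix.exists_vecMul_eq_zero_iff] at hx
    obtain ⟨v, hv0, hv⟩ := hx
    rw [Matrix.vecMul_sub, sub_eq_zero] at hv
    have hv' : Mᵀ *ᵥ v = x • v := by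
      rw [Matrix.mulVec_transpose, ← hv]
      ext i; simp [Matrix.vecMul_diagonal, Matrix.scalar_apply, mul_comm]
    rw [hP, Polynomial.IsRoot.def, Matrix.eval_charpoly, ← Matrix.exists_mulVec_eq_zero_iff]
    have hJ : M * Matrix.J (Fin n) K * Mᵀ = Matrix.J (Fin n) K := by
      have h := congrArg φ (SymplecticGroup.mem_iff.mp C.2)
      rw [map_mul, map_mul] at h
      have eJ : φ (Matrix.J (Fin n) F) = Matrix.J (Fin n) K := by
        ext i j
        rcases i with i | i <;> rcases j with j | j <;> simp [φ, Matrix.J, Matrix.one_apply, apply_ite]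
      rw [eJ] at h
      exact h
    refine ⟨Matrix.J (Fin n) K *ᵥ v, ?_, ?_⟩
    · intro h
      apply hv0
      have := congrArg (fun w => Matrix.J (Fin n) K *ᵥ w) h
      simp only [Matrix.mulVec_zero] at this
      rw [Matrix.mulVec_mulVec, Matrix.J_squared, Matrix.neg_mulVec, Matrix.one_mulVec, neg_eq_zero] at this
      exact this
    · have h2 : x • (M *ᵥ (Matrix.J (Fin n) K *ᵥ v)) = Matrix.J (Fin n) K *ᵥ v := by
        conv_rhs => rw [← hJ]
        rw [← Matrix.mulVec_mulVec, hv', ← Matrix.mulVec_mulVec, Matrix.mulVec_smul, Matrix.mulVec_smul]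
      rw [Matrix.sub_mulVec, sub_eq_zero]
      conv_lhs => rw [← h2]
      ext i
      simp [Matrix.scalar_apply, Matrix.mulVec_diagonal, hx0]
  have hroot1 : ∀ x : K, P.IsRoot x → x ^ o = 1 := by
    intro x hx
    rw [hP, Polynomial.IsRoot.def, Matrix.eval_charpoly, ← Matrix.exists_mulVec_eq_zero_iff] at hx
    obtain ⟨v, hv0, hv⟩ := hx
    rw [Matrix.sub_mulVec, sub_eq_zero] at hv
    have hv' : M *ᵥ v = x • v := by rw [← hv]; ext i; simp [Matrix.scalar_apply, Matrix.mulVec_diagonal]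
    have hpow : ∀ j : ℕ, (M ^ j) *ᵥ v = x ^ j • v := by
      intro j
      induction j with
      | zero => simp
      | succ j ih => rw [pow_succ', ← Matrix.mulVec_mulVec, ih, Matrix.mulVec_smul, hv', smul_smul, pow_succ]
    have := hpow o
    rw [hMN, Matrix.one_mulVec] at this
    exact (smul_left_injective K hv0 (this.symm.trans (one_smul K v).symm))
  have hmemR : ∀ x, x ∈ R.toFinset ↔ P.IsRoot x := fun x => by rw [Multiset.mem_toFinset, hR, Polynomial.mem_roots hP0]
  have hnp : ∀ x : K, x ^ o = 1 → ¬ p ∣ orderOf x := by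
    rintro x hx ⟨t, ht⟩
    have hpos : 0 < orderOf x := Nat.pos_of_ne_zero fun h => by
      have := orderOf_dvd_of_pow_eq_one hx
      rw [h, zero_dvd_iff] at this
      rw [this] at ho; simp at ho
    have h1 : x ^ t = 1 := pow_q_inj (L := K) p 1 (by
      show (x ^ t) ^ p ^ 1 = (1 : K) ^ p ^ 1
      rw [pow_one, ← pow_mul, mul_comm, ← ht, pow_orderOf_eq_one, one_pow])
    have := Nat.le_of_dvd (Nat.pos_of_ne_zero fun h => by rw [h, mul_zero] at ht; omega) (orderOf_dvd_of_pow_eq_one h1)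
    have := hpp.two_le
    nlinarith
  have hcopx : ∀ x : K, x ^ o = 1 → Nat.Coprime q (orderOf x) := fun x hx => by
    rw [hF]; exact ((hpp.coprime_iff_not_dvd).mpr (hnp x hx)).pow_left a
  have hne0 : ∀ x : K, x ^ o = 1 → x ≠ 0 := fun x hx h => by
    rw [h, zero_pow (fun h0 => by rw [h0] at ho; simp at ho)] at hx; exact zero_ne_one hx
  -- killing by multiplicities
  have hkill : ∀ t f : ℕ, 0 < t → (∀ x ∈ R.toFinset, x ^ t = 1 ∧ R.count x ≤ p ^ f) → o ∣ t * p ^ f := by
    intro t f ht hx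
    apply hCo
    have hQ : ((Polynomial.X ^ t - 1 : Polynomial K) ^ p ^ f) ≠ 0 :=
      pow_ne_zero _ (by simpa using Polynomial.X_pow_sub_C_ne_zero ht (1 : K))
    have hdvd : P ∣ (Polynomial.X ^ t - 1 : Polynomial K) ^ p ^ f := by
      rw [hsplit.eq_prod_roots_of_monic hPm]
      refine (Multiset.prod_X_sub_C_dvd_iff_le_roots hQ _).mpr (Multiset.le_iff_count.mpr fun x => ?_)
      rw [Polynomial.roots_pow, Multiset.count_nsmul]
      by_cases hxR : x ∈ R.toFinset
      · have h1 : 0 < (Polynomial.X ^ t - 1 : Polynomial K).roots.count x := by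
          rw [Multiset.count_pos, Polynomial.mem_roots (by simpa using Polynomial.X_pow_sub_C_ne_zero ht (1 : K))]
          simp [(hx x hxR).1]
        exact le_trans (hx x hxR).2 (Nat.le_mul_of_pos_right _ h1)
      · rw [Multiset.count_eq_zero.mpr (by rwa [Multiset.mem_toFinset] at hxR)]; exact Nat.zero_le _
    obtain ⟨Q, hQ'⟩ := hdvd
    have h0 := congrArg (Polynomial.aeval M) hQ'
    rw [map_mul, Matrix.aeval_self_charpoly, zero_mul, sub_pow_char_pow, one_pow, ← pow_mul] at h0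
    simp only [map_sub, map_pow, Polynomial.aeval_X, map_one, sub_eq_zero] at h0
    exact Subtype.ext (hφ (by rw [SubmonoidClass.coe_pow, map_pow]; exact h0.trans (map_one φ).symm))
  obtain ⟨x0, hx0, hmax⟩ : ∃ x0 ∈ R.toFinset, ∀ x ∈ R.toFinset, R.count x ≤ R.count x0 :=
    Finset.exists_max_image _ _ (by
      rw [Finset.nonempty_iff_ne_empty, ne_eq, Multiset.toFinset_eq_empty]
      intro h; rw [h] at hRcard; simp at hRcard; omega)
  set μ := R.count x0
  have hμ0 : 0 < μ := Multiset.count_pos.mpr (Multiset.mem_toFinset.mp hx0)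
  have hμle : μ + (R.toFinset.card - 1) ≤ 2 * n := by
    have h1 := Multiset.toFinset_sum_count_eq R
    rw [← Finset.add_sum_erase _ _ hx0, hRcard] at h1
    have h2 := Finset.card_nsmul_le_sum (R.toFinset.erase x0) (fun x => R.count x) 1 (fun x hx =>
      Multiset.count_pos.mpr (Multiset.mem_toFinset.mp (Finset.mem_of_mem_erase hx)))
    rw [Finset.card_erase_of_mem hx0, smul_eq_mul, mul_one] at h2
    change μ + _ = _ at h1
    omega
  set f := Nat.clog p μ with hf
  have hμf : μ ≤ p ^ f := Nat.le_pow_clog hpp.one_lt μ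
  have hflt : f = 0 ∨ (1 < μ ∧ p ^ (f - 1) < μ) := by
    rcases Nat.lt_or_ge 1 μ with h | h
    · exact Or.inr ⟨h, Nat.pow_pred_clog_lt_self hpp.one_lt h⟩
    · exact Or.inl (Nat.clog_of_right_le_one h p)
  set S0 := R.toFinset.erase (1 : K) with hS0
  rcases S0.eq_empty_or_nonempty with hE | ⟨c, hc⟩
  · refine Or.inr (Or.inr ⟨f, ?_, ?_⟩)
    · rcases hflt with h | h
      · exact Or.inl h
      · exact Or.inr (by omega)
    · have := hkill 1 f one_pos fun x hx => ⟨?_, (hmax x hx).trans hμf⟩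
      · rwa [one_mul] at this
      · rw [pow_one]
        by_contra h
        have : x ∈ S0 := Finset.mem_erase.mpr ⟨h, hx⟩
        rw [hE] at this
        simp at this
  have hS1 : ∀ x ∈ S0, x ^ o = 1 ∧ x ≠ 1 := fun x hx =>
    ⟨hroot1 x ((hmemR x).mp (Finset.mem_of_mem_erase hx)), Finset.ne_of_mem_erase hx⟩
  have hcl : Closed q S0 := by
    intro x hx
    obtain ⟨h1, h2⟩ := hS1 x hx
    have hr := (hmemR x).mp (Finset.mem_of_mem_erase hx)
    refine ⟨Finset.mem_erase.mpr ⟨fun h => h2 ?_, (hmemR _).mpr (hPq x hr)⟩,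
      Finset.mem_erase.mpr ⟨fun h => h2 (inv_eq_one.mp h), (hmemR _).mpr (hPinv x (hne0 x h1) hr)⟩⟩
    rw [← orderOf_eq_one_iff]
    exact Nat.eq_one_of_dvd_coprimes (hcopx x h1) (orderOf_dvd_of_pow_eq_one h) dvd_rfl
  have hNo : orderOf c ∣ o := orderOf_dvd_of_pow_eq_one (hS1 c hc).1
  have hNodd : Odd (orderOf c) := ho.of_dvd_nat hNo
  obtain ⟨η, hη, hmemO, hOcl, hOcard, hsub, hdvd⟩ := orbit_data (F := F) Fintype.one_lt_card rfl hNodd
    (fun h => (hS1 c hc).2 (orderOf_eq_one_iff.mp h)) (hcopx c (hS1 c hc).1)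
  set O := orbitSet' q c (orderOf c) with hO
  have hOS : O ⊆ S0 := hsub S0 hcl hc
  have hS0le : S0.card ≤ R.toFinset.card := Finset.card_le_card (Finset.erase_subset _ _)
  have hRle : R.toFinset.card ≤ 2 * n := hRcard ▸ Multiset.toFinset_card_le R
  have hordO : ∀ x ∈ O, orderOf x = orderOf c := by
    haveI : NeZero (orderOf c) := ⟨fun h => by rw [h] at hNodd; simp at hNodd⟩
    exact (S2469.orbit_card (q := q) (rfl : orderOf c = orderOf c) (hcopx c (hS1 c hc).1)).2.2
  have hOle := Finset.card_le_card hOS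
  by_cases hηn : η = n
  · have hRO : R.toFinset = O := (Finset.eq_of_subset_of_card_le (hOS.trans (Finset.erase_subset _ _)) (by omega)).symm
    have hoN : o ∣ orderOf c := by
      have := hkill (orderOf c) f hNodd.pos fun x hx => ⟨?_, (hmax x hx).trans hμf⟩
      · rcases hflt with h | ⟨h, -⟩
        · rwa [h, pow_zero, mul_one] at this
        · omega
      · rw [← hordO x (hRO ▸ hx)]; exact pow_orderOf_eq_one x
    obtain ⟨⟨e1, e2⟩, -, -⟩ := T0_spec hqodd n
    rw [hηn] at hdvd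
    have key : ∀ A, 2 * A = q ^ n - 1 ∨ 2 * A = q ^ n + 1 → orderOf c ∣ 2 * A → ¬ Odd A →
        2 * o ∈ Set.range (orderOf : Cfsg.PSp n F → ℕ) := by
      intro A hA hcA hev
      have hcA' : orderOf c ∣ A := Nat.Coprime.dvd_of_dvd_mul_left (Nat.coprime_two_right.mpr hNodd) hcA
      have h4 : 4 * orderOf c ∣ 2 * A := by
        rw [show (4 : ℕ) = 2 * 2 by norm_num, mul_assoc]
        exact mul_dvd_mul_left 2 (Nat.Coprime.mul_dvd_of_dvd_of_dvd (Nat.coprime_two_left.mpr hNodd)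
          (even_iff_two_dvd.mp (Nat.not_odd_iff_even.mp hev)) hcA')
      obtain ⟨x, hx⟩ := torus_of (F := F) (m := n) (η := n) (N := 4 * orderOf c) (by omega) (by have := hNodd.pos; omega)
        (by rcases hA with h | h
            · exact Or.inl (h ▸ h4)
            · exact Or.inr (h ▸ h4)) le_rfl
      have hd := hx ▸ bar_dvd p hp2 hn x
      rw [show (4 : ℕ) = 2 * 2 by norm_num, mul_assoc] at hd
      exact dvd_mem ⟨_, rfl⟩ ((mul_dvd_mul_left 2 hoN).trans (Nat.dvd_of_mul_dvd_mul_left (by norm_num) hd))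
    rcases hdvd with h | h
    · by_cases hA : Odd ((q ^ n - 1) / 2)
      · right; left
        rw [T0, if_pos hA]
        exact hoN.trans (Nat.Coprime.dvd_of_dvd_mul_left (Nat.coprime_two_right.mpr hNodd) (e1.symm ▸ h))
      · exact Or.inl (key _ (Or.inl e1) (e1.symm ▸ h) hA)
    · by_cases hA : Odd ((q ^ n - 1) / 2)
      · refine Or.inl (key _ (Or.inr e2) (e2.symm ▸ h) ?_)
        rw [Nat.odd_iff] at hA ⊢
        have := Nat.one_le_pow n q (by have := hqodd.pos; omega)
        omega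
      · right; left
        rw [T0, if_neg hA]
        exact hoN.trans (Nat.Coprime.dvd_of_dvd_mul_left (Nat.coprime_two_right.mpr hNodd) (e2.symm ▸ h))
  left
  have hcl' : Closed q (S0 \ O) := by
    exact hF ▸ closed_sdiff (p := p) (a := a) (hF ▸ hcl) (hF ▸ hOcl)
  obtain ⟨k2, hk2, hx2⟩ := tori (F := F) (L := K) p a hF o ho (Or.inr fun _ x _ hx => hcopx x hx) _ hcl'
    (fun x hx => hS1 x (Finset.mem_sdiff.mp hx).1)
  have hsum := Finset.card_sdiff_add_card_eq_card hOS
  obtain ⟨k3, hk3⟩ : ∃ k3, n - η = k2 + k3 := ⟨n - η - k2, by omega⟩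
  obtain ⟨x2, hx2o, hx2d⟩ := hx2 k2 le_rfl
  have hfk : f = 0 ∨ p ^ (f - 1) < 2 * k3 := by
    rcases hflt with h | ⟨-, h⟩
    · exact Or.inl h
    · obtain ⟨t, ht⟩ : Odd (p ^ (f - 1)) := hpodd.pow
      exact Or.inr (by omega)
  obtain ⟨u, hu⟩ := unip (F := F) p hp2 hfk
  obtain ⟨x1, hx1⟩ := torus_of (F := F) (m := η) hη (fun h => by rw [h] at hNodd; simp at hNodd) hdvd le_rfl
  obtain ⟨ψ, hψ, -⟩ := pair_embed (F := F) (n := n - η) k2 k3 hk3.symm
  have hy : orderOf (ψ (x2, u)) = Nat.lcm (orderOf x2) (p ^ f) := by rw [orderOf_injective ψ hψ, Prod.orderOf, hu]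
  refine two_of (F := F) p hp2 (a := η) (b := n - η) (by omega) hη (by omega) x1 (ψ (x2, u)) (hx1 ▸ hNodd) ?_ ?_
  · rw [hy]; exact (hx2o.mul hpodd.pow).of_dvd_nat (Nat.lcm_dvd_mul _ _)
  · rw [hx1, hy, ← Nat.lcm_assoc]
    have ht1 : S0.lcm orderOf ∣ Nat.lcm (orderOf c) (orderOf x2) := Finset.lcm_dvd fun x hx => by
      by_cases hxO : x ∈ O
      · rw [hordO x hxO]; exact Nat.dvd_lcm_left _ _
      · exact (hx2d x (Finset.mem_sdiff.mpr ⟨hx, hxO⟩)).trans (Nat.dvd_lcm_right _ _)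
    have hcopt : Nat.Coprime (S0.lcm orderOf) (p ^ f) := by
      refine Nat.Coprime.pow_right _ (hpp.coprime_iff_not_dvd.mpr fun h => ?_).symm
      obtain ⟨x, hx, hpx⟩ := (hpp.prime.dvd_finsetProd_iff _).mp (h.trans (Finset.lcm_dvd_prod _ _))
      exact hnp x (hS1 x hx).1 hpx
    have ht0 : 0 < S0.lcm orderOf := Nat.pos_of_dvd_of_pos ht1 (Nat.lcm_pos hNodd.pos hx2o.pos)
    have hk := hkill (S0.lcm orderOf) f ht0 fun x hx => ⟨?_, (hmax x hx).trans hμf⟩
    · rw [← hcopt.lcm_eq_mul] at hk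
      exact hk.trans (Nat.lcm_dvd (ht1.trans (Nat.dvd_lcm_left _ _)) (Nat.dvd_lcm_right _ _))
    · by_cases h1 : x = 1
      · rw [h1, one_pow]
      · exact orderOf_dvd_iff_pow_eq_one.mp (Finset.dvd_lcm (Finset.mem_erase.mpr ⟨h1, hx⟩))

/-- Let F be a finite field of odd order q = p^a, n ≥ 2 (with q ≥ 3 automatic), and L = PSp(2n, F). Then for every m the direct product L × L × L × (ℤ/2)^m has the same set of element orders as L × L × L; and if 2n − 1 is not a power of p, then already L × L × (ℤ/2)^m has the same set of element orders as L × L. -/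
theorem result {F : Type*} [Field F] [Fintype F] (p a n m : ℕ) (hp : p.Prime) (ha : 1 ≤ a) (hF : Fintype.card F = p ^ a) (hodd : Odd (Fintype.card F))
    (hn : 2 ≤ n) :
    Set.range (orderOf : Cfsg.PSp n F × Cfsg.PSp n F × Cfsg.PSp n F × Multiplicative (Fin m → ZMod 2) → ℕ) = Set.range (orderOf : Cfsg.PSp n F × Cfsg.PSp n F × Cfsg.PSp n F → ℕ) ∧
    ((¬ ∃ j : ℕ, 2 * n - 1 = p ^ j) →
      Set.range (orderOf : Cfsg.PSp n F × Cfsg.PSp n F × Multiplicative (Fin m → ZMod 2) → ℕ) = Set.range (orderOf : Cfsg.PSp n F × Cfsg.PSp n F → ℕ)) := by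
  classical
  haveI := Fact.mk hp
  haveI : CharP F p := charP_of_card_eq_prime_pow hF
  have hp2 : p ≠ 2 := by
    rintro rfl
    rw [hF] at hodd
    exact Nat.not_even_iff_odd.mpr hodd (Nat.even_pow.mpr ⟨even_two, by omega⟩)
  have hpodd : Odd p := hp.odd_of_ne_two hp2
  set ω := Set.range (orderOf : Cfsg.PSp n F → ℕ) with hω
  have h2 : 2 ∈ ω := by
    have := two_of (F := F) p hp2 (a := 1) (b := n - 1) (n := n) (by omega) one_pos (by omega) 1 1 (by simp) (by simp) (d := 1) (one_dvd _)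
    exact this
  obtain ⟨-, hTodd, hTd⟩ := T0_spec hodd n
  have hTω : ∀ d, d ∣ T0 (Fintype.card F) n → d ∈ ω := by
    intro d hd
    obtain ⟨x, hx⟩ := torus_of (F := F) (m := n) (η := n) (by omega) hTodd.pos.ne' hTd le_rfl
    exact mem_of_odd p hp2 (by omega) x (hx ▸ hd) (hTodd.of_dvd_nat hd)
  set P0 := p ^ Nat.clog p (2 * n) with hP0
  have hPω : ∀ d, d ∣ P0 → d ∈ ω := by
    intro d hd
    obtain ⟨x, hx⟩ := unip (F := F) (k := n) p hp2 (f := Nat.clog p (2 * n))
      (Or.inr (Nat.pow_pred_clog_lt_self hp.one_lt (by omega)))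
    exact mem_of_odd p hp2 (by omega) x (hx ▸ hd) ((hpodd.pow).of_dvd_nat hd)
  have hcls : ∀ o ∈ ω, Odd o → 2 * o ∈ ω ∨ o ∣ T0 (Fintype.card F) n ∨ o ∣ P0 := by
    intro o ho hoo
    rcases classify p a hp2 hF ha (by omega) ho hoo with h | h | ⟨f, hf, hof⟩
    · exact Or.inl h
    · exact Or.inr (Or.inl h)
    · refine Or.inr (Or.inr (hof.trans (pow_dvd_pow p ?_)))
      rcases hf with h | h
      · omega
      · have := (Nat.lt_clog_iff_pow_lt hp.one_lt).mpr h
        omega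
  have hcase : ∀ d ∈ ω, Nat.lcm d 2 ∉ ω → d ∣ T0 (Fintype.card F) n ∨ d ∣ P0 := by
    intro d hd hd2
    rcases Nat.even_or_odd d with he | ho
    · exact absurd (by rwa [Nat.lcm_eq_left (even_iff_two_dvd.mp he)]) hd2
    · refine (hcls d hd ho).resolve_left fun h => hd2 ?_
      rwa [Nat.lcm_comm, (Nat.coprime_two_left.mpr ho).lcm_eq_mul]
  have hv : ∀ v : Multiplicative (Fin m → ZMod 2), orderOf v = 1 ∨ orderOf v = 2 := fun v =>
    (Nat.dvd_prime Nat.prime_two).mp (orderOf_dvd_of_pow_eq_one (by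
      apply Multiplicative.toAdd.injective
      funext i
      rw [toAdd_pow, toAdd_one, Pi.smul_apply, Pi.zero_apply, two_nsmul]
      exact CharTwo.add_self_eq_zero _))
  constructor
  · refine Set.Subset.antisymm ?_ ?_
    · rintro _ ⟨⟨x, y, z, v⟩, rfl⟩
      have hmk : ∀ a b c : ℕ, a ∈ ω → b ∈ ω → c ∈ ω → Nat.lcm a (Nat.lcm b c) ∈
          Set.range (orderOf : Cfsg.PSp n F × Cfsg.PSp n F × Cfsg.PSp n F → ℕ) := by
        rintro _ _ _ ⟨a, rfl⟩ ⟨b, rfl⟩ ⟨c, rfl⟩
        exact ⟨(a, b, c), by simp only [Prod.orderOf]⟩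
      simp only [Prod.orderOf]
      have ha' : orderOf x ∈ ω := ⟨x, rfl⟩
      have hb' : orderOf y ∈ ω := ⟨y, rfl⟩
      have hc' : orderOf z ∈ ω := ⟨z, rfl⟩
      rcases hv v with h | h <;> rw [h]
      · rw [Nat.lcm_one_right]; exact hmk _ _ _ ha' hb' hc'
      generalize orderOf x = A at ha' ⊢
      generalize orderOf y = B at hb' ⊢
      generalize orderOf z = C at hc' ⊢
      by_cases hA : Nat.lcm A 2 ∈ ω
      · convert hmk _ _ _ hA hb' hc' using 1
        ac_rfl
      by_cases hB : Nat.lcm B 2 ∈ ω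
      · convert hmk _ _ _ ha' hB hc' using 1
        ac_rfl
      by_cases hC : Nat.lcm C 2 ∈ ω
      · convert hmk _ _ _ ha' hb' hC using 1
      let T := T0 (Fintype.card F) n
      let u : ℕ → ℕ := fun d => if d ∣ T then d else 1
      let w : ℕ → ℕ := fun d => if d ∣ T then 1 else d
      have huw : ∀ d, Nat.lcm (u d) (w d) = d := fun d => by simp only [u, w]; split_ifs <;> simp
      have hu : ∀ d, u d ∣ T := fun d => by simp only [u]; split_ifs with h <;> simp [h]
      have hw : ∀ d ∈ ω, Nat.lcm d 2 ∉ ω → w d ∣ P0 := fun d hd hd2 => by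
        simp only [w]; split_ifs with h
        · exact one_dvd _
        · exact ((hcase d hd hd2).resolve_left h)
      convert hmk (Nat.lcm (u A) (Nat.lcm (u B) (u C))) (Nat.lcm (w A) (Nat.lcm (w B) (w C))) 2
        (hTω _ (Nat.lcm_dvd (hu A) (Nat.lcm_dvd (hu B) (hu C))))
        (hPω _ (Nat.lcm_dvd (hw A ha' hA) (Nat.lcm_dvd (hw B hb' hB) (hw C hc' hC)))) h2 using 1
      conv_lhs => rw [← huw A, ← huw B, ← huw C]
      ac_rfl
    · rintro _ ⟨⟨x, y, z⟩, rfl⟩
      exact ⟨(x, y, z, 1), by simp [Prod.orderOf]⟩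
  · intro hj
    refine Set.Subset.antisymm ?_ ?_
    · rintro _ ⟨⟨x, y, v⟩, rfl⟩
      have hmk : ∀ a b : ℕ, a ∈ ω → b ∈ ω → Nat.lcm a b ∈
          Set.range (orderOf : Cfsg.PSp n F × Cfsg.PSp n F → ℕ) := by
        rintro _ _ ⟨a, rfl⟩ ⟨b, rfl⟩
        exact ⟨(a, b), by simp only [Prod.orderOf]⟩
      simp only [Prod.orderOf]
      have ha' : orderOf x ∈ ω := ⟨x, rfl⟩
      have hb' : orderOf y ∈ ω := ⟨y, rfl⟩
      rcases hv v with h | h <;> rw [h]
      · rw [Nat.lcm_one_right]; exact hmk _ _ ha' hb'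
      generalize orderOf x = A at ha' ⊢
      generalize orderOf y = B at hb' ⊢
      by_cases hA : Nat.lcm A 2 ∈ ω
      · convert hmk _ _ hA hb' using 1
        ac_rfl
      by_cases hB : Nat.lcm B 2 ∈ ω
      · convert hmk _ _ ha' hB using 1
      have hT : ∀ d ∈ ω, Nat.lcm d 2 ∉ ω → d ∣ T0 (Fintype.card F) n := by
        intro d hd hd2
        refine (hcase d hd hd2).resolve_right fun hdP => hd2 ?_
        have hdo : Odd d := hpodd.pow.of_dvd_nat hdP
        rw [← Nat.lcm_comm, (Nat.coprime_two_left.mpr hdo).lcm_eq_mul]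
        have hlt : p ^ (Nat.clog p (2 * n) - 1) < 2 * (n - 1) := by
          have h1 := Nat.pow_pred_clog_lt_self hp.one_lt (x := 2 * n) (by omega)
          rw [Nat.pred_eq_sub_one] at h1
          obtain ⟨t, ht⟩ : Odd (p ^ (Nat.clog p (2 * n) - 1)) := hpodd.pow
          have : 2 * n - 1 ≠ p ^ (Nat.clog p (2 * n) - 1) := fun e => hj ⟨_, e⟩
          omega
        obtain ⟨u, hu⟩ := unip (F := F) (k := n - 1) p hp2 (Or.inr hlt)
        exact two_of (F := F) p hp2 (a := 1) (b := n - 1) (by omega) one_pos (by omega) 1 u (by simp) (hu ▸ hpodd.pow)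
          (by rw [hu]; exact hdP.trans (Nat.dvd_lcm_right _ _))
      convert hmk (Nat.lcm A B) 2 (hTω _ (Nat.lcm_dvd (hT A ha' hA) (hT B hb' hB))) h2 using 1
      ac_rfl
    · rintro _ ⟨⟨x, y⟩, rfl⟩
      exact ⟨(x, y, 1), by simp [Prod.orderOf]⟩

end Cfsg.Agent.S2512
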