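import Cfsg.Statements.S2530
import Cfsg.Agent.Lib.LieBN.Descent
import Cfsg.Agent.Lib.LieBN.Coxeter
-- import your own Cfsg.Agent.* helpers here

set_option autoImplicit false
open Cfsg

namespace Cfsg.Agent.S2530

/-- The Coxeter presentation of the symmetric group: for every n, the symmetric group on n+1 letters is the Coxeter group of type A_n with the adjacent transpositions (i, i+1) as simple reflections; that is, it is presented by generators r_1, …, r_n subject to r_i² = 1, (r_i r_j)² = 1 for |i − j| > 1 and (r_i r_{i+1})³ = 1, with r_i mapping to (i, i+1). -/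
theorem result (n : ℕ) :
    ∃ cs : CoxeterSystem (CoxeterMatrix.A n) (Equiv.Perm (Fin (n + 1))), ∀ i : Fin n, cs.simple i = Equiv.swap i.castSucc i.succ := by
  classical
  let σ : Fin n → Equiv.Perm (Fin (n + 1)) := fun i => Equiv.swap i.castSucc i.succ
  have hne : ∀ i : Fin n, i.castSucc ≠ i.succ := fun i h => by
    have := congrArg Fin.val h; simp at this
  have hgen : Cfsg.Lib.LieBN.InvGen σ := Cfsg.Lib.LieBN.InvGen.of_closure (fun i => Equiv.swap_mul_self _ _) (by
    rw [eq_top_iff]
    intro g _
    have h := Equiv.Perm.mclosure_swap_castSucc_succ n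
    have hg : g ∈ Submonoid.closure (Set.range σ) := h ▸ Submonoid.mem_top g
    exact Submonoid.closure_le.2 (Subgroup.subset_closure (k := Set.range σ)) hg)
  have hex : Cfsg.Lib.LieBN.Exch σ := Cfsg.Lib.LieBN.Exch.of_descent hgen
    (fun i w => w⁻¹ i.succ < w⁻¹ i.castSucc) (fun i h => by simp [Fin.lt_def] at h)
    (fun i w => by
      have hσi : (σ i)⁻¹ = σ i := Equiv.swap_inv _ _
      rw [mul_inv_rev, hσi, Equiv.Perm.mul_apply, Equiv.Perm.mul_apply]
      simp only [σ, Equiv.swap_apply_right, Equiv.swap_apply_left, not_lt]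
      refine ⟨le_of_lt, fun h => lt_of_le_of_ne h fun e => hne i (w⁻¹.injective e)⟩)
    (fun i j w hn hp => by
      have hσj : (σ j)⁻¹ = σ j := Equiv.swap_inv _ _
      rw [mul_inv_rev, hσj, Equiv.Perm.mul_apply, Equiv.Perm.mul_apply] at hp
      simp only [σ] at hp ⊢
      set a := w⁻¹ i.castSucc with ha
      set b := w⁻¹ i.succ with hb
      have hab : a < b := lt_of_le_of_ne (not_lt.1 hn) fun e => hne i (w⁻¹.injective e)
      have hboth : a = j.castSucc ∧ b = j.succ := by
        rw [Equiv.swap_apply_def, Equiv.swap_apply_def] at hp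
        simp only [Fin.lt_def, Fin.ext_iff, Fin.val_castSucc, Fin.val_succ] at hab ⊢
        split_ifs at hp with h1 h2 h3 h4 <;>
          simp only [Fin.lt_def, Fin.ext_iff, Fin.val_castSucc, Fin.val_succ] at * <;> omega
      have hwa : w j.castSucc = i.castSucc := by rw [← hboth.1, ha]; simp
      have hwb : w j.succ = i.succ := by rw [← hboth.2, hb]; simp
      rw [Equiv.mul_swap_eq_swap_mul, hwa, hwb])
  have hinj : Function.Injective σ := by
    intro i j h
    have h' := congrArg (fun p : Equiv.Perm (Fin (n + 1)) => p i.castSucc) h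
    simp only [σ, Equiv.swap_apply_left] at h'
    rw [Equiv.swap_apply_def] at h'
    apply Fin.ext
    split_ifs at h' with h1 h2 <;> simp only [Fin.ext_iff, Fin.val_castSucc, Fin.val_succ] at * <;> omega
  obtain ⟨M, cs, hM, hcs⟩ := hex.coxeterSystem hinj
  have hadj : ∀ i j : Fin n, (i : ℕ) + 1 = j → orderOf (σ i * σ j) = 3 := by
    intro i j hij
    have e : i.succ = j.castSucc := Fin.ext (by simp; omega)
    have h3 : Equiv.Perm.IsThreeCycle (σ i * σ j) := by
      simp only [σ]
      rw [Equiv.swap_comm i.castSucc, e]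
      exact Equiv.Perm.isThreeCycle_swap_mul_swap_same
        (by rw [← e]; exact (hne i).symm) (hne j) (by simp [Fin.ext_iff]; omega)
    exact h3.orderOf
  have hMA : M = CoxeterMatrix.A n := by
    have hval : ∀ i j, M i j = (CoxeterMatrix.A n) i j := by
      intro i j
      rw [hM]
      show _ = (if i = j then 1 else (if (j : ℕ) + 1 = i ∨ (i : ℕ) + 1 = j then 3 else 2))
      split_ifs with h1 h2
      · subst h1; rw [show σ i * σ i = 1 from Equiv.swap_mul_self _ _, orderOf_one]
      · rcases h2 with h2 | h2
        · rw [← orderOf_inv, mul_inv_rev]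
          simp only [σ, Equiv.swap_inv]
          exact hadj j i h2
        · exact hadj i j h2
      · push Not at h2
        have hv : (i : ℕ) ≠ j := fun h => h1 (Fin.ext h)
        have hd : Equiv.Perm.Disjoint (σ i) (σ j) := by
          intro x
          by_cases hx : x = i.castSucc ∨ x = i.succ
          · right
            rcases hx with rfl | rfl <;> refine Equiv.swap_apply_of_ne_of_ne ?_ ?_ <;>
              simp [Fin.ext_iff] <;> omega
          · left
            push Not at hx
            exact Equiv.swap_apply_of_ne_of_ne hx.1 hx.2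
        rw [hd.orderOf, Equiv.Perm.IsSwap.orderOf ⟨_, _, hne i, rfl⟩, Equiv.Perm.IsSwap.orderOf ⟨_, _, hne j, rfl⟩,
          Nat.lcm_self]
    exact CoxeterMatrix.ext (Matrix.ext hval)
  subst hMA
  exact ⟨cs, hcs⟩

end Cfsg.Agent.S2530
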