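import Cfsg.Statements.S5939
import Mathlib
import Cfsg.Agent.Lib.Classical.PrimeFieldPolyhedral
import Cfsg.Agent.Lib.Classical.OvergroupUpper
import Cfsg.Agent.S0804
-- import your own Cfsg.Agent.* helpers here

set_option autoImplicit false
open Cfsg

namespace Cfsg.Agent.S5939

open Cfsg.Lib.QuatTwo in
theorem rel_map {G G' : Type*} [Group G] [Group G'] (f : G →* G') (hf : Function.Injective f) {x y w : G} (h : Rel x y w) :
    Rel (f x) (f y) (f w) where
  hx := by rw [← map_mul, h.hx, map_one]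
  hy := by rw [← map_mul, h.hy, map_one]
  hc := by rw [← map_mul, h.hc, map_mul]
  hx1 := fun e => h.hx1 (hf (by rw [e, map_one]))
  hy1 := fun e => h.hy1 (hf (by rw [e, map_one]))
  hxy := fun e => h.hxy (hf e)
  hw := by rw [← map_pow, h.hw, map_one]
  hw1 := fun e => h.hw1 (hf (by rw [e, map_one]))
  hwx := by rw [← map_inv, ← map_mul, ← map_mul, h.hwx]
  hwy := by rw [← map_inv, ← map_mul, ← map_mul, h.hwy, map_mul]

theorem rel_five : Cfsg.Lib.QuatTwo.Rel (⟨_, (Equiv.Perm.mem_alternatingGroup.2 (by decide) : Equiv.swap (0 : Fin 5) 1 * Equiv.swap 2 3 ∈ alternatingGroup (Fin 5))⟩ : alternatingGroup (Fin 5))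
    ⟨_, (Equiv.Perm.mem_alternatingGroup.2 (by decide) : Equiv.swap (0 : Fin 5) 2 * Equiv.swap 1 3 ∈ alternatingGroup (Fin 5))⟩
    ⟨_, (Equiv.Perm.mem_alternatingGroup.2 (by decide) : Equiv.swap (1 : Fin 5) 2 * Equiv.swap 2 3 ∈ alternatingGroup (Fin 5))⟩ :=
  ⟨by decide, by decide, by decide, by decide, by decide, by decide, by decide, by decide, by decide, by decide⟩

/-- Let p be a prime and F a finite field of characteristic p such that either F has p elements and p ≡ ±1 (mod 10), or F has p² elements and p ≡ ±3 (mod 10). Then PSL_2(F) has a maximal subgroup isomorphic to the alternating group A_5. -/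
theorem result {F : Type*} [Field F] [Fintype F] (p : ℕ) [Fact p.Prime] [CharP F p] (h : (Fintype.card F = p ∧ (p % 10 = 1 ∨ p % 10 = 9)) ∨ (Fintype.card F = p ^ 2 ∧ (p % 10 = 3 ∨ p % 10 = 7))) : ∃ H : Subgroup (Matrix.ProjectiveSpecialLinearGroup (Fin 2) F), IsCoatom H ∧ Nonempty (H ≃* alternatingGroup (Fin 5)) := by
  classical
  have hp3 : 3 ≤ p := by
    have := (Fact.out : p.Prime).two_le
    rcases h with ⟨-, h⟩ | ⟨-, h⟩ <;> omega
  have h2 : (2 : F) ≠ 0 := Ring.two_ne_zero (by rw [ringChar.eq F p]; omega)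
  haveI : NeZero (2 : F) := ⟨h2⟩
  let π := QuotientGroup.mk' (Subgroup.center (Matrix.SpecialLinearGroup (Fin 2) F))
  have hπ : Function.Surjective π := QuotientGroup.mk'_surjective _
  set q := Fintype.card F with hqd
  have hSL : Nat.card (Matrix.SpecialLinearGroup (Fin 2) F) = q * ((q + 1) * (q - 1)) := by
    rw [Cfsg.Lib.Classical.TwoDim.card_SL]
  have hcard : ∀ K : Subgroup (Matrix.ProjectiveSpecialLinearGroup (Fin 2) F), Nat.card (K.comap π) = 2 * Nat.card K := fun K =>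
    Cfsg.Lib.PSLTwoOdd.card_preimage (K : Set (Matrix.ProjectiveSpecialLinearGroup (Fin 2) F))
  have h5 : 5 ∣ q * (q ^ 2 - 1) := by
    refine Dvd.dvd.mul_left ((Nat.modEq_iff_dvd' (Nat.one_le_pow _ _ Fintype.card_pos)).1 ?_) q
    show 1 ≡ q ^ 2 [MOD 5]
    rcases h with ⟨e, h⟩ | ⟨e, h⟩ <;> rw [e, Nat.ModEq, Nat.pow_mod]
    · rcases (show p % 5 = 1 ∨ p % 5 = 4 by omega) with h' | h' <;> rw [h'] <;> norm_num
    · rw [Nat.pow_mod p 2 5]
      rcases (show p % 5 = 2 ∨ p % 5 = 3 by omega) with h' | h' <;> rw [h'] <;> norm_num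
  obtain ⟨H, ⟨e⟩⟩ := (Cfsg.Agent.S0804.result (F := F) (q := q) rfl).2 h5
  have hH : Nat.card H = 60 := by rw [Nat.card_congr e.toEquiv, nat_card_alternatingGroup, Nat.card_fin]; rfl
  have hR := rel_map (H.subtype.comp e.symm.toMonoidHom) (Subtype.val_injective.comp e.symm.injective) rel_five
  have hq9 : 9 ≤ q := by
    rcases h with ⟨e', h⟩ | ⟨e', h⟩
    · omega
    · rw [e', pow_two]; exact Nat.mul_le_mul hp3 hp3
  refine ⟨H, ⟨fun hT => ?_, fun K hK => ?_⟩, ⟨e⟩⟩
  · have h1 := hcard H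
    rw [hH, hT, Subgroup.comap_top, Subgroup.card_top, hSL] at h1
    have := Nat.mul_le_mul hq9 (Nat.mul_le_mul (show 10 ≤ q + 1 by omega) (show 8 ≤ q - 1 by omega))
    omega
  set M := K.comap π with hMd
  by_contra hne
  have hMtop : M ≠ ⊤ := fun hM => hne (by
    rw [← Subgroup.map_comap_eq_self_of_surjective hπ K, ← hMd, hM, Subgroup.map_top_of_surjective π hπ])
  have hKH : Nat.card K ≠ 60 := fun e' => hK.ne (Subgroup.eq_of_le_of_card_ge hK.le (by rw [hH, e']))
  have h60 : 60 ∣ Nat.card K := hH ▸ Subgroup.card_dvd_of_le hK.le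
  have hM120 : 120 ∣ Nat.card M := by rw [hMd, hcard]; exact Nat.mul_dvd_mul_left 2 h60
  have hneg : (-1 : Matrix.SpecialLinearGroup (Fin 2) F) ∈ M := by
    show π (-1) ∈ K
    rw [show π (-1) = 1 from (QuotientGroup.eq_one_iff _).2 Cfsg.Lib.Fusion.PSLTwo.neg_one_mem_center]
    exact K.one_mem
  rcases h with ⟨hqp, hp10⟩ | ⟨hqp, hp10⟩
  · rcases Cfsg.Lib.Classical.Polyhedral.overgroup (p := p) hqp (by omega) K hR (hK.le (SetLike.coe_mem _)) (hK.le (SetLike.coe_mem _)) with hT | hT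
    · exact hne hT
    · rcases hT with hT | hT | hT <;> omega
  by_cases hpM : p ∣ Nat.card M
  swap
  · have := Cfsg.Lib.Classical.Polyhedral.overgroup_coprime (p := p) (by omega) K hR (hK.le (SetLike.coe_mem _)) (hK.le (SetLike.coe_mem _)) hpM
    rcases this with hT | hT | hT <;> omega
  obtain ⟨x, hx⟩ := exists_prime_orderOf_dvd_card' p hpM
  have hx' : (x : Matrix.SpecialLinearGroup (Fin 2) F) ^ p = 1 := by rw [← SubmonoidClass.coe_pow, ← hx, pow_orderOf_eq_one]; rfl
  obtain ⟨s, a, ha, hsa⟩ := Cfsg.Lib.Classical.MinIndex.exists_conj_upper (x : Matrix.SpecialLinearGroup (Fin 2) F) hx' fun e' => by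
    rw [show x = 1 from Subtype.ext e', orderOf_one] at hx
    exact (Fact.out : p.Prime).one_lt.ne hx
  set M' := M.map (MulAut.conj s⁻¹).toMonoidHom
  have hc : Nat.card M' = Nat.card M := (Nat.card_congr (M.equivMapOfInjective _ (MulAut.conj s⁻¹).injective).toEquiv).symm
  have hM'top : M' ≠ ⊤ := fun hT => hMtop (Subgroup.eq_top_of_card_eq M (by rw [← hc, hT, Subgroup.card_top]))
  have hneg' : (-1 : Matrix.SpecialLinearGroup (Fin 2) F) ∈ M' := ⟨-1, hneg, by simp [mul_assoc]⟩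
  have hU : a ∈ Cfsg.Lib.PStable.aGrp M' := ⟨x, x.2, by rw [← hsa]; simp⟩
  have hp5 : p ≠ 5 := by omega
  have hco : Nat.Coprime 5 p := (Nat.coprime_primes Nat.prime_five Fact.out).2 hp5.symm
  have hq5 : ¬ 5 ∣ q - 1 := by
    have hm : q % 5 = 4 := by
      rw [hqp, Nat.pow_mod]
      rcases (show p % 5 = 2 ∨ p % 5 = 3 by omega) with h' | h' <;> rw [h'] <;> norm_num
    omega
  have h5M : 5 ∣ Nat.card M' := hc ▸ (show 5 ∣ 120 by norm_num).trans hM120
  by_cases hB : ∀ g ∈ M', g 1 0 = 0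
  · have hBT : Cfsg.Lib.PStable.borel M' = ⊤ := eq_top_iff.2 fun g _ => hB g g.2
    have hdvd : Nat.card M' ∣ q * (q - 1) := by
      have e1 := Cfsg.Lib.Classical.MinIndex.card_borel_eq M'
      have e2 : Nat.card (Cfsg.Lib.PStable.borel M') = Nat.card M' := by rw [hBT, Subgroup.card_top]
      rw [e2] at e1
      rw [e1]
      refine Nat.mul_dvd_mul ?_ ?_
      · rw [hqd, ← Nat.card_eq_fintype_card]; exact (Cfsg.Lib.PStable.aGrp M').card_addSubgroup_dvd_card
      · have := (Cfsg.Lib.PStable.chi M').range.card_subgroup_dvd_card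
        rwa [Nat.card_units, Nat.card_eq_fintype_card (α := F)] at this
    rcases Nat.prime_five.dvd_mul.1 (h5M.trans hdvd) with h' | h'
    · rw [hqp] at h'
      exact hp5 ((Nat.prime_dvd_prime_iff_eq Nat.prime_five Fact.out).1 (Nat.prime_five.dvd_of_dvd_pow h')).symm
    · exact hq5 h'
  push Not at hB
  obtain ⟨g, hg, h10⟩ := hB
  obtain ⟨ρ, δ, O, hρ3, hρα, hαρ, hρq, hαq, hδ, hδq, hM, hO, hOA⟩ :=
    Cfsg.Lib.Classical.MinIndex.upper_data (p := p) (by omega) M' hneg' hM'top ha hU hg h10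
  set α := Nat.card (Cfsg.Lib.PStable.aGrp M')
  have hαp : α = p := by
    rw [← hqd, hqp] at hαq hαρ hρq
    obtain ⟨i, hi, hαi⟩ := (Nat.dvd_prime_pow Fact.out).1 hαq
    obtain ⟨j, hj, hρj⟩ := (Nat.dvd_prime_pow Fact.out).1 hρq
    rw [hαi, hρj, ← pow_add] at hαρ
    have hij : i + j ≤ 2 := (Nat.pow_le_pow_iff_right (Fact.out : p.Prime).one_lt).1 hαρ
    have hj1 : j ≠ 0 := fun e' => by rw [e', pow_zero] at hρj; omega
    have hi1 : i ≠ 0 := fun e' => by rw [e', pow_zero] at hαi; omega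
    rw [hαi, show i = 1 by omega, pow_one]
  rw [← hqd, hqp] at hαρ
  rw [hαp] at hM hOA hρα
  rcases hOA with hOA | hOA
  · rw [hM, hOA] at h5M
    rcases Nat.prime_five.dvd_mul.1 h5M with h' | h'
    · rcases Nat.prime_five.dvd_mul.1 h' with h'' | h''
      · exact hp5 ((Nat.prime_dvd_prime_iff_eq Nat.prime_five Fact.out).1 h'').symm
      · exact hq5 (h''.trans hδq)
    · omega
  · subst hOA
    have hq : q = 9 := by rw [hqp]; norm_num
    have hb : Nat.card M' ≤ 3 * 4 * 10 := by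
      rw [hM]; exact Nat.mul_le_mul (Nat.mul_le_mul_left 3 (by omega)) (by omega)
    have hMK := hcard K
    rw [← hMd, ← hc] at hMK
    have hpos : 0 < Nat.card K := Nat.card_pos
    have := Nat.le_of_dvd hpos h60
    omega

end Cfsg.Agent.S5939
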