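import Cfsg.Statements.S2542
import Mathlib
import Cfsg.Agent.S5939
import Cfsg.Agent.Lib.Classical.SLGroup
import Cfsg.Agent.Lib.Classical.LinearOrders
import Cfsg.Agent.Lib.PermGroup.BurnsidePrime

set_option autoImplicit false
open Cfsg

namespace Cfsg.Agent.S2542

theorem not_comm : ∃ a b : alternatingGroup (Fin 5), a * b ≠ b * a :=
  ⟨⟨c[(0 : Fin 5), 1, 2], Equiv.Perm.mem_alternatingGroup.mpr (by decide)⟩, ⟨c[(2 : Fin 5), 3, 4], Equiv.Perm.mem_alternatingGroup.mpr (by decide)⟩, by decide⟩

/-- Let F be a field with 11 elements. PSL_2(F) has a subgroup H of index 11 isomorphic to the alternating group A_5, and the action of PSL_2(F) on the cosets of H is 2-transitive (of degree 11). -/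
theorem result {F : Type*} [Field F] [Fintype F] (hF : Fintype.card F = 11) : ∃ H : Subgroup (Matrix.ProjectiveSpecialLinearGroup (Fin 2) F), H.index = 11 ∧ Nonempty (H ≃* alternatingGroup (Fin 5)) ∧ MulAction.IsMultiplyPretransitive (Matrix.ProjectiveSpecialLinearGroup (Fin 2) F) ((Matrix.ProjectiveSpecialLinearGroup (Fin 2) F) ⧸ H) 2 := by
  classical
  haveI : Fact (Nat.Prime 11) := ⟨by norm_num⟩
  haveI : CharP F 11 := charP_of_card_eq_prime hF
  obtain ⟨H, hH, ⟨e⟩⟩ := Cfsg.Agent.S5939.result (F := F) 11 (Or.inl ⟨hF, Or.inl (by norm_num)⟩)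
  let G := Matrix.ProjectiveSpecialLinearGroup (Fin 2) F
  have hG : Nat.card G = 660 := by
    have h1 := Cfsg.Lib.Classical.LinearOrders.card_psl_mul (F := F) (n := 2) (by norm_num)
    have h2 := Cfsg.Lib.Classical.LinearOrders.card_sl_mul (F := F) (n := 2) (by norm_num)
    simp only [hF, Fin.prod_univ_two, Fin.val_zero, Fin.val_one] at h1 h2
    norm_num at h1 h2
    rw [Nat.card_eq_fintype_card]
    show Fintype.card (Matrix.ProjectiveSpecialLinearGroup (Fin 2) F) = 660
    omega
  have hA5 : Nat.card H = 60 := by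
    rw [Nat.card_congr e.toEquiv, nat_card_alternatingGroup, Nat.card_eq_fintype_card, Fintype.card_fin]
    rfl
  have hidx : H.index = 11 := by
    have h := H.card_mul_index
    rw [hA5, show Nat.card (Matrix.ProjectiveSpecialLinearGroup (Fin 2) F) = 660 from hG] at h
    omega
  refine ⟨H, hidx, ⟨e⟩, ?_⟩
  haveI : Fintype (G ⧸ H) := Fintype.ofFinite _
  have hcard : Fintype.card (G ⧸ H) = 11 := by rw [← Nat.card_eq_fintype_card]; exact hidx
  let π : G →* Equiv.Perm (G ⧸ H) := MulAction.toPermHom G (G ⧸ H)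
  haveI hsimple : IsSimpleGroup G := Cfsg.Lib.Classical.SLGroup.isSimpleGroup_psl (Or.inr ⟨2, by
    have h : ((2 : ℕ) : F) ≠ 0 := by rw [Ne, CharP.cast_eq_zero_iff F 11]; norm_num
    exact_mod_cast h, by
    have h : ((3 : ℕ) : F) ≠ 0 := by rw [Ne, CharP.cast_eq_zero_iff F 11]; norm_num
    intro e
    apply h
    push_cast
    linear_combination e⟩)
  have hker : π.ker = ⊥ := by
    refine ((inferInstance : π.ker.Normal).eq_bot_or_eq_top).resolve_right fun h => ?_
    have hle : π.ker ≤ H := by
      intro g hg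
      have := DFunLike.congr_fun (MonoidHom.mem_ker.mp hg) (QuotientGroup.mk (1 : G))
      simp [π] at this
      have h' := QuotientGroup.eq.mp this
      simpa using H.inv_mem h'
    rw [h, top_le_iff] at hle
    exact hH.1 hle
  haveI : MulAction.IsPretransitive π.range (G ⧸ H) := ⟨fun x y => by
    obtain ⟨g, hg⟩ := MulAction.exists_smul_eq G x y
    exact ⟨⟨π g, g, rfl⟩, hg⟩⟩
  by_contra h2
  have hsol : Group.IsSolvable π.range := by
    refine Cfsg.Lib.PermGroup.BurnsidePrime.isSolvable (by rw [hcard]; norm_num) π.range fun h => h2 ?_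
    rw [MulAction.is_two_pretransitive_iff] at h ⊢
    intro a b c d hab hcd
    obtain ⟨⟨_, g, rfl⟩, h1, h2'⟩ := h hab hcd
    exact ⟨g, h1, h2'⟩
  have hinj : Function.Injective π := (MonoidHom.ker_eq_bot_iff π).mp hker
  haveI := hsol
  haveI : Group.IsSolvable G := solvable_of_solvable_injective (f := π.rangeRestrict) (fun a b hab => hinj (congrArg Subtype.val hab))
  haveI : Group.IsSolvable H := inferInstance
  haveI : Group.IsSolvable (alternatingGroup (Fin 5)) := solvable_of_surjective (f := e.toMonoidHom) e.surjective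
  haveI : IsSimpleGroup (alternatingGroup (Fin 5)) := alternatingGroup.isSimpleGroup (by simp)
  have hcomm := IsSimpleGroup.comm_iff_isSolvable.mpr (inferInstance : Group.IsSolvable (alternatingGroup (Fin 5)))
  obtain ⟨a, b, hab⟩ := not_comm
  exact hab (hcomm a b)

end Cfsg.Agent.S2542
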