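import Cfsg.Statements.S2872
import Cfsg.Agent.Lib.PLocal.LocalMisc4
-- import your own Cfsg.Agent.* helpers here

set_option autoImplicit false
open Cfsg

namespace Cfsg.Agent.S2872

/-- Let S be a Sylow 2-subgroup of the finite group G. Then G has a proper normal subgroup of 2-power index (O²(G) ≠ G), or Ω₁(Z(S)) is contained in the Frattini subgroup of S, or N_G(S) acts nontrivially on Ω₁(Z(S)) by conjugation. -/
theorem result {G : Type*} [Group G] [Finite G] (S : Sylow 2 G) : Cfsg.pResidual 2 G ≠ ⊤ ∨ Cfsg.omegaOne 2 ((S : Subgroup G) ⊓ Subgroup.centralizer ((S : Subgroup G) : Set G)) ≤ (frattini ↥(S : Subgroup G)).map (S : Subgroup G).subtype ∨ ∃ g ∈ Subgroup.normalizer ((S : Subgroup G) : Set G), ∃ z ∈ Cfsg.omegaOne 2 ((S : Subgroup G) ⊓ Subgroup.centralizer ((S : Subgroup G) : Set G)), g * z * g⁻¹ ≠ z := by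
  haveI : Fact (Nat.Prime 2) := ⟨Nat.prime_two⟩
  refine Classical.or_iff_not_imp_right.2 fun h => ?_
  rw [not_or, not_exists] at h
  obtain ⟨hle, hfix⟩ := h
  unfold Cfsg.omegaOne at hle
  obtain ⟨z, ⟨hz, hz2⟩, hzΦ⟩ := Set.not_subset.1 fun hs => hle ((Subgroup.closure_le _).2 hs)
  have hz1 : z ≠ 1 := fun e => hzΦ (e ▸ one_mem _)
  exact Cfsg.Lib.PLocal.LocalMisc4.index_two_of_central_involution S hz (orderOf_eq_prime hz2 hz1) hzΦ fun g hg => by_contra fun hne =>
    hfix g ⟨hg, z, Subgroup.subset_closure ⟨hz, hz2⟩, hne⟩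

end Cfsg.Agent.S2872
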