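import Cfsg.Statements.S2879
import Mathlib
import Cfsg.Agent.Lib.Solv.MinNormal
import Cfsg.Agent.Lib.Solv.Cores
import Cfsg.Agent.Lib.TwoFus.DihedralFusion
import Cfsg.Agent.Lib.TwoFus.SLTwoThree

set_option autoImplicit false
open Cfsg

namespace Cfsg.Agent.S2879

/-- An element of odd order moving `r` inside `r⟨c⟩` and fixing `c` fixes `r`. -/
theorem fix_coset {G : Type*} [Group G] [Finite G] {g c r : G} (hg : Odd (orderOf g)) {k : ℕ} (hc : orderOf c = 2 ^ k)
    (hgc : g * c * g⁻¹ = c) {l : ℤ} (hl : g * r * g⁻¹ = r * c ^ l) : g * r * g⁻¹ = r := by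
  have hit : ∀ n : ℕ, g ^ n * r * (g ^ n)⁻¹ = r * c ^ ((n : ℤ) * l) := by
    intro n
    induction n with
    | zero => simp
    | succ n ih =>
      calc g ^ (n + 1) * r * (g ^ (n + 1))⁻¹ = g * (g ^ n * r * (g ^ n)⁻¹) * g⁻¹ := by rw [pow_succ']; group
        _ = (g * r * g⁻¹) * (g * c ^ ((n : ℤ) * l) * g⁻¹) := by rw [ih]; group
        _ = r * c ^ (((n + 1 : ℕ) : ℤ) * l) := by
          rw [hl, ← conj_zpow, hgc, mul_assoc, ← zpow_add]; push_cast; ring_nf
  have h1 := hit (orderOf g)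
  rw [pow_orderOf_eq_one, one_mul, inv_one, mul_one] at h1
  have h2 : c ^ ((orderOf g : ℤ) * l) = 1 := by
    apply mul_left_cancel (a := r)
    rw [mul_one]; exact h1.symm
  have h3 : ((2 ^ k : ℕ) : ℤ) ∣ l := by
    refine IsCoprime.dvd_of_dvd_mul_left ?_ (hc ▸ orderOf_dvd_iff_zpow_eq_one.mpr h2)
    push_cast
    refine IsCoprime.pow_left ?_
    rw [Int.isCoprime_iff_gcd_eq_one]
    exact Nat.coprime_two_left.mpr hg
  rw [hl, orderOf_dvd_iff_zpow_eq_one.mp (hc ▸ h3), mul_one]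

theorem main {G : Type*} [Group G] [Finite G] [Group.IsSolvable G] (hO : Cfsg.oddCore G = ⊥) (T : Sylow 2 G)
    (hne : (T : Subgroup G) ≠ ⊤) (hZ : ((T : Subgroup G) ⊓ Subgroup.centralizer ((T : Subgroup G) : Set G)).Normal)
    {a y : G} {n e : ℕ} (haT : a ∈ T) (hyT : y ∈ T) (hn : 2 ≤ n) (ha : orderOf a = 2 ^ n) (hyA : y ∉ Subgroup.zpowers a)
    (hy : y * y = 1) (he : e % 4 = 3) (he' : 2 ^ (n - 1) ∣ e + 1) (hconj : y * a * y⁻¹ = a ^ e)
    (hcT : Nat.card (T : Subgroup G) = 2 * 2 ^ n) :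
    ∃ U : Subgroup G, U.Normal ∧ Nonempty (↥U ≃* Matrix.SpecialLinearGroup (Fin 2) (ZMod 3)) := by
  classical
  haveI := Fact.mk Nat.prime_two
  set A := Subgroup.zpowers a with hA
  have hAT : A ≤ T := Subgroup.zpowers_le.mpr haT
  have hidx : (A.subgroupOf (T : Subgroup G)).index = 2 := by
    have h := Subgroup.card_mul_index (A.subgroupOf (T : Subgroup G))
    rw [Nat.card_congr (Subgroup.subgroupOfEquivOfLe hAT).toEquiv, hA, Nat.card_zpowers, ha, hcT, mul_comm 2] at h
    exact Nat.eq_of_mul_eq_mul_left (Nat.two_pow_pos n) h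
  have two : ∀ u ∈ T, ∀ v ∈ T, u ∉ A → v ∉ A → u * v ∈ A := by
    intro u hu v hv hua hva
    have := (Subgroup.mul_mem_iff_of_index_two hidx (a := ⟨u, hu⟩) (b := ⟨v, hv⟩)).2
      (iff_of_false (fun h => hua (Subgroup.mem_subgroupOf.mp h)) (fun h => hva (Subgroup.mem_subgroupOf.mp h)))
    exact Subgroup.mem_subgroupOf.mp this
  have hout : ∀ w ∈ T, w ∉ A → ∃ l : ℤ, w = y * a ^ l := by
    intro w hw hwA
    obtain ⟨l, hl⟩ := Subgroup.mem_zpowers_iff.mp (two y⁻¹ (Subgroup.inv_mem _ hyT) w hw (fun h => hyA (by simpa using Subgroup.inv_mem _ h)) hwA)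
    exact ⟨l, by rw [hl, mul_inv_cancel_left]⟩
  have hcw : ∀ w ∈ T, w ∉ A → ∀ l : ℤ, w * a ^ l * w⁻¹ = a ^ ((e : ℤ) * l) := by
    intro w hw hwA l
    obtain ⟨m, rfl⟩ := hout w hw hwA
    calc y * a ^ m * a ^ l * (y * a ^ m)⁻¹ = y * a ^ l * y⁻¹ := by group
      _ = _ := by rw [← conj_zpow, hconj, ← zpow_natCast a e, ← zpow_mul]
  set z := a ^ (2 ^ (n - 1)) with hz
  have hn1 : 2 ^ n = 2 ^ (n - 1) * 2 := by rw [← pow_succ]; congr 1; omega
  have hzo : orderOf z = 2 := by
    rw [hz, orderOf_pow_of_dvd (by positivity) (by rw [ha]; exact pow_dvd_pow 2 (by omega)), ha, hn1, Nat.mul_div_cancel_left _ (Nat.two_pow_pos _)]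
  have hzT : z ∈ T := Subgroup.pow_mem _ haT _
  -- powers of `a` killed by two
  have hinvA : ∀ l : ℤ, a ^ (2 * l) = 1 → a ^ l = 1 ∨ a ^ l = z := by
    intro l hl
    obtain ⟨r, hr⟩ : ((2 ^ (n - 1) : ℕ) : ℤ) ∣ l := by
      have := orderOf_dvd_iff_zpow_eq_one.mpr hl
      rw [ha, hn1, mul_comm, Nat.cast_mul] at this
      exact Int.dvd_of_mul_dvd_mul_left (by norm_num) this
    rw [hr, zpow_mul, zpow_natCast, ← hz]
    rcases Int.even_or_odd' r with ⟨i, rfl | rfl⟩
    · left; rw [zpow_mul, zpow_two, ← sq, ← hzo, pow_orderOf_eq_one, one_zpow]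
    · right; rw [zpow_add_one, zpow_mul, zpow_two, ← sq, ← hzo, pow_orderOf_eq_one, one_zpow, one_mul]
  -- the centre
  let Z := (T : Subgroup G) ⊓ Subgroup.centralizer ((T : Subgroup G) : Set G)
  have hZsub : ∀ w ∈ Z, w = 1 ∨ w = z := by
    intro w hw
    have hwa : w * a = a * w := (Subgroup.mem_centralizer_iff.mp hw.2 a haT).symm
    have hwA : w ∈ A := by
      by_contra hwA
      have h1 := hcw w hw.1 hwA 1
      rw [zpow_one, hwa, mul_inv_cancel_right, mul_one, zpow_natCast] at h1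
      have h2 : a ^ (e - 1) = 1 := by
        apply mul_left_cancel (a := a)
        rw [mul_one, ← pow_succ', Nat.sub_add_cancel (by omega)]; exact h1.symm
      have h3 := orderOf_dvd_of_pow_eq_one h2
      rw [ha] at h3
      have : 4 ∣ e - 1 := (show 4 ∣ 2 ^ n from pow_dvd_pow 2 hn).trans h3
      omega
    obtain ⟨l, rfl⟩ := Subgroup.mem_zpowers_iff.mp hwA
    have h1 := hcw y hyT hyA l
    rw [Subgroup.mem_centralizer_iff.mp hw.2 y hyT, mul_inv_cancel_right] at h1
    have h2 : a ^ (((e : ℤ) - 1) * l) = 1 := by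
      rw [sub_mul, one_mul, zpow_sub, ← h1, mul_inv_cancel]
    refine hinvA l (orderOf_dvd_iff_zpow_eq_one.mp ?_)
    obtain ⟨q, hq⟩ : ∃ q : ℕ, e = 4 * q + 3 := ⟨e / 4, by omega⟩
    have h3 := orderOf_dvd_iff_zpow_eq_one.mpr h2
    rw [ha, hq, show (((4 * q + 3 : ℕ) : ℤ) - 1) * l = (2 * (q : ℤ) + 1) * (2 * l) by push_cast; ring] at h3
    rw [ha]
    refine IsCoprime.dvd_of_dvd_mul_left ?_ h3
    push_cast
    refine IsCoprime.pow_left ?_
    exact ⟨-(q : ℤ), 1, by ring⟩
  have hzpow : ∀ w ∈ A, w * z = z * w := fun w hw => by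
    obtain ⟨m, rfl⟩ := Subgroup.mem_zpowers_iff.mp hw
    exact (((Commute.refl a).zpow_left m).pow_right _).eq
  have hzZ : z ∈ Z := by
    refine ⟨hzT, Subgroup.mem_centralizer_iff.mpr fun w hw => ?_⟩
    by_cases hwA : w ∈ A
    · exact hzpow w hwA
    · rw [← mul_inv_eq_iff_eq_mul, hz, ← zpow_natCast a (2 ^ (n - 1)), hcw w hw hwA]
      obtain ⟨q, hq⟩ : ∃ q : ℕ, e = 2 * q + 1 := ⟨e / 2, by omega⟩
      rw [hq, show ((2 * q + 1 : ℕ) : ℤ) * ((2 ^ (n - 1) : ℕ) : ℤ) = ((2 ^ n * q : ℕ) : ℤ) + ((2 ^ (n - 1) : ℕ) : ℤ) by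
        rw [hn1]; push_cast; ring, zpow_add, zpow_natCast, pow_mul, ← ha, pow_orderOf_eq_one, one_pow, one_mul]
  have hzc : ∀ g : G, g * z * g⁻¹ = z := by
    intro g
    rcases hZsub _ (hZ.conj_mem z hzZ g) with h | h
    · rw [conj_eq_one_iff] at h; rw [h, orderOf_one] at hzo; omega
    · exact h
  -- the 2-core
  set R := Cfsg.pCore 2 G
  have hRp : IsPGroup 2 R := Cfsg.Lib.Solv.isPGroup_pCore 2
  haveI hRn : R.Normal := inferInstance
  have hRT : R ≤ T := Cfsg.Lib.Solv.pCore_le_sylow 2 T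
  have hCR : Subgroup.centralizer (R : Set G) ≤ R := Cfsg.Lib.Solv.centralizer_pCore_le 2 hO
  have hodd : ∀ g : G, Odd (orderOf g) → g ∈ Subgroup.centralizer (R : Set G) → g = 1 := by
    intro g hg hgC
    obtain ⟨k, hk⟩ := IsPGroup.iff_orderOf.mp hRp ⟨g, hCR hgC⟩
    rw [Subgroup.orderOf_mk] at hk
    rw [← orderOf_eq_one_iff, hk]
    cases k with
    | zero => rfl
    | succ k => rw [hk, Nat.odd_iff, pow_succ] at hg; omega
  obtain ⟨g, hg1, hgodd⟩ : ∃ g : G, g ≠ 1 ∧ Odd (orderOf g) := by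
    have h1 : (T : Subgroup G).index ≠ 1 := fun h => hne (Subgroup.index_eq_one.mp h)
    obtain ⟨r, hr, hrd⟩ := Nat.exists_prime_and_dvd h1
    haveI := Fact.mk hr
    obtain ⟨g, hg⟩ := exists_prime_orderOf_dvd_card' r (hrd.trans (Subgroup.index_dvd_card (T : Subgroup G)))
    have hr2 : r ≠ 2 := fun h => T.not_dvd_index (h ▸ hrd)
    exact ⟨g, fun h => by rw [h, orderOf_one] at hg; exact hr.one_lt.ne hg, by rw [hg]; exact hr.odd_of_ne_two hr2⟩
  -- `R ∩ A = ⟨c⟩`
  haveI : IsCyclic ↥(R ⊓ A : Subgroup G) :=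
    isCyclic_of_injective (Subgroup.inclusion (inf_le_right : R ⊓ A ≤ A)) (Subgroup.inclusion_injective _)
  obtain ⟨⟨c, hcR, hcA⟩, hcgen⟩ := IsCyclic.exists_generator (α := ↥(R ⊓ A : Subgroup G))
  have hcgen' : ∀ w ∈ R, w ∈ A → ∃ l : ℤ, c ^ l = w := fun w hw hwA => by
    obtain ⟨l, hl⟩ := Subgroup.mem_zpowers_iff.mp (hcgen ⟨w, hw, hwA⟩)
    exact ⟨l, congrArg Subtype.val hl⟩
  obtain ⟨k, hk⟩ := IsPGroup.iff_orderOf.mp hRp ⟨c, hcR⟩
  rw [Subgroup.orderOf_mk] at hk
  set d := g * c * g⁻¹ with hd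
  have hdR : d ∈ R := hRn.conj_mem c hcR g
  have hdA : d ∉ A := by
    intro hdA
    obtain ⟨l, hl⟩ := hcgen' d hdR hdA
    have hgc : d = c := Cfsg.Lib.TwoFus.fix_of_cyclic hgodd (e := k) (hk ▸ pow_orderOf_eq_one c)
      (Subgroup.mem_zpowers_iff.mpr ⟨l, hl⟩)
    refine hg1 (hodd g hgodd (Subgroup.mem_centralizer_iff.mpr fun w hw => ?_))
    suffices h : g * w * g⁻¹ = w by exact (mul_inv_eq_iff_eq_mul.mp h).symm
    by_cases hwA : w ∈ A
    · obtain ⟨m, rfl⟩ := hcgen' w hw hwA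
      rw [← conj_zpow, ← hd, hgc]
    · have hgw : g * w * g⁻¹ ∉ A := fun h => by
        obtain ⟨m, hm⟩ := hcgen' _ (hRn.conj_mem w hw g) h
        have : g * w * g⁻¹ = g * c ^ m * g⁻¹ := by rw [← conj_zpow, ← hd, hgc, hm]
        exact hwA ((mul_left_cancel (mul_right_cancel this)).symm ▸ Subgroup.zpow_mem _ hcA m)
      obtain ⟨m, hm⟩ := hcgen' (w⁻¹ * (g * w * g⁻¹)) (R.mul_mem (R.inv_mem hw) (hRn.conj_mem w hw g))
        (two w⁻¹ (Subgroup.inv_mem _ (hRT hw)) _ (hRT (hRn.conj_mem w hw g)) (fun h => hwA (by simpa using A.inv_mem h)) hgw)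
      exact fix_coset hgodd hk hgc (l := m) (by rw [hm, mul_inv_cancel_left])
  have hsq : ∀ w ∈ T, w ∉ A → w ^ 4 = 1 := by
    intro w hw hwA
    obtain ⟨l, rfl⟩ := hout w hw hwA
    have h2 : (y * a ^ l) ^ 2 = a ^ (((e : ℤ) + 1) * l) := by
      calc (y * a ^ l) ^ 2 = y * a ^ l * y⁻¹ * (y * y) * a ^ l := by rw [sq]; group
        _ = _ := by rw [hy, mul_one, hcw y hyT hyA, ← zpow_add]; congr 1; ring
    obtain ⟨q, hq⟩ := he'
    rw [show 4 = 2 * 2 from rfl, pow_mul, h2, ← zpow_natCast, ← zpow_mul, ← orderOf_dvd_iff_zpow_eq_one, ha, hn1]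
    refine ⟨(q : ℤ) * l, ?_⟩
    have hq' : ((e : ℤ) + 1) = ((2 ^ (n - 1) : ℕ) : ℤ) * q := by exact_mod_cast hq
    rw [hq']; push_cast; ring
  have hk2 : k = 2 := by
    have hd4 : orderOf c ∣ 2 ^ 2 := by
      rw [← show orderOf d = orderOf c from MulEquiv.orderOf_eq (MulAut.conj g) c]
      exact orderOf_dvd_of_pow_eq_one (hsq d (hRT hdR) hdA)
    rw [hk, Nat.pow_dvd_pow_iff_le_right (by norm_num)] at hd4
    rcases (show k = 0 ∨ k = 1 ∨ k = 2 by omega) with h | h | h
    · exfalso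
      rw [h, pow_zero, orderOf_eq_one_iff] at hk
      exact hdA (by rw [hd, hk]; simp)
    · exfalso
      obtain ⟨l, hl⟩ := Subgroup.mem_zpowers_iff.mp hcA
      have : c = 1 ∨ c = z := by
        rw [← hl]; refine hinvA l ?_
        rw [mul_comm, zpow_mul, hl, zpow_two, ← sq]
        have := pow_orderOf_eq_one c
        rwa [hk, h, pow_one] at this
      rcases this with h' | h'
      · exact hdA (by rw [hd, h']; simp)
      · exact hdA (by rw [hd, h', hzc g]; exact Subgroup.pow_mem _ (Subgroup.mem_zpowers a) _)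
    · exact h
  subst hk2
  have hc4 : c ^ 4 = 1 := by rw [show 4 = 2 ^ 2 from rfl, ← hk, pow_orderOf_eq_one]
  -- `R` is quaternion
  have hc2 : c ^ 2 = z := by
    obtain ⟨l, hl⟩ := Subgroup.mem_zpowers_iff.mp hcA
    have h2 : c ^ 2 = a ^ (2 * l) := by rw [← hl, sq, ← zpow_add, two_mul]
    rcases hinvA (2 * l) (by rw [mul_comm, zpow_mul, ← h2, zpow_two, ← sq, ← pow_mul]; exact hc4) with h | h
    · exfalso
      have := orderOf_dvd_of_pow_eq_one (h2.trans h)
      rw [hk] at this; norm_num at this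
    · exact h2.trans h
  have hd2 : d ^ 2 = z := by rw [hd, conj_pow, hc2, hzc g]
  have hinvc : ∀ w ∈ T, w ∉ A → w * c * w⁻¹ = c⁻¹ := by
    intro w hw hwA
    obtain ⟨l, hl⟩ := Subgroup.mem_zpowers_iff.mp hcA
    have h4 : a ^ (4 * l) = 1 := by
      rw [mul_comm, zpow_mul, hl]; exact_mod_cast hc4
    obtain ⟨q, hq⟩ : ∃ q : ℕ, e + 1 = 4 * q := ⟨(e + 1) / 4, by omega⟩
    rw [← hl, hcw w hw hwA, eq_inv_iff_mul_eq_one, ← zpow_add,
      show (e : ℤ) * l + l = (4 * l) * q by
        have : ((e : ℤ) + 1) = 4 * q := by exact_mod_cast hq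
        linear_combination l * this, zpow_mul, h4, one_zpow]
  have hsqR : ∀ w ∈ R, w ∉ A → w ^ 2 = z := by
    intro w hw hwA
    obtain ⟨l, hl⟩ := hcgen' _ (R.mul_mem (R.inv_mem hdR) hw)
      (two d⁻¹ (Subgroup.inv_mem _ (hRT hdR)) w (hRT hw) (fun h => hdA (by simpa using A.inv_mem h)) hwA)
    have hwe : w = d * c ^ l := by rw [hl, mul_inv_cancel_left]
    have hdl : d * c ^ l * d⁻¹ = (c ^ l)⁻¹ := by rw [← conj_zpow, hinvc d (hRT hdR) hdA, inv_zpow]
    calc w ^ 2 = (d * c ^ l * d⁻¹) * d ^ 2 * c ^ l := by rw [hwe, sq, sq]; group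
      _ = (c ^ l)⁻¹ * z * c ^ l := by rw [hdl, hd2]
      _ = z := by
        have := hzc (c ^ l)⁻¹
        rwa [inv_inv] at this
  have hinvR : ∀ w : R, orderOf w = 2 → (w : G) = z := by
    intro w hw
    have h2 : (w : G) ^ 2 = 1 := by
      rw [← Subgroup.orderOf_coe] at hw
      rw [← hw, pow_orderOf_eq_one]
    by_cases hwA : (w : G) ∈ A
    · obtain ⟨l, hl⟩ := Subgroup.mem_zpowers_iff.mp hwA
      rcases hinvA l (by rw [mul_comm, zpow_mul, hl, zpow_two, ← sq, h2]) with h | h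
      · exfalso
        rw [hl] at h
        rw [show w = 1 from Subtype.ext h, orderOf_one] at hw
        omega
      · exact hl.symm.trans h
    · exfalso
      rw [hsqR w w.2 hwA] at h2
      rw [h2, orderOf_one] at hzo; omega
  have huniq : ∀ u v : R, orderOf u = 2 → orderOf v = 2 → v ∈ Subgroup.zpowers u := fun u v hu hv => by
    rw [show v = u from Subtype.ext ((hinvR v hv).trans (hinvR u hu).symm)]
    exact Subgroup.mem_zpowers u
  let φ : R ≃* R :=
    { toFun := fun x => ⟨g * x * g⁻¹, hRn.conj_mem x x.2 g⟩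
      invFun := fun x => ⟨g⁻¹ * x * g, by simpa using hRn.conj_mem x x.2 g⁻¹⟩
      left_inv := fun x => Subtype.ext (by simp [mul_assoc])
      right_inv := fun x => Subtype.ext (by simp [mul_assoc])
      map_mul' := fun x y => Subtype.ext (by simp [mul_assoc]) }
  have hit : ∀ (k : ℕ) (x : R), ((φ^[k] x : R) : G) = g ^ k * x * (g ^ k)⁻¹ := by
    intro k
    induction k with
    | zero => simp
    | succ k ih => intro x; rw [Function.iterate_succ_apply']; show g * ((φ^[k] x : R) : G) * g⁻¹ = _; rw [ih, pow_succ']; group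
  obtain ⟨i, j, hi, hji, hinv, hφi, hφj, hgen⟩ := Cfsg.Lib.TwoFus.SLTwoThree.exists_rels hRp huniq φ hgodd
    (fun x => Subtype.ext (by rw [hit, pow_orderOf_eq_one, one_mul, inv_one, mul_one]))
    ⟨⟨c, hcR⟩, fun h => hdA (by rw [show d = c from congrArg Subtype.val h]; exact hcA)⟩
  have ai : g * (i : G) * g⁻¹ = j := congrArg Subtype.val hφi
  have aj : g * (j : G) * g⁻¹ = i * j := congrArg Subtype.val hφj
  have hji' : (j : G) ^ 2 = (i : G) ^ 2 := congrArg Subtype.val hji
  have hinv' : (j : G) * i * (j : G)⁻¹ = (i : G)⁻¹ := congrArg Subtype.val hinv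
  have hmapR : (Subgroup.closure ({i, j} : Set R)).map R.subtype = R := by
    rw [hgen, ← MonoidHom.range_eq_map, Subgroup.range_subtype]
  have hg3 : g ^ 3 = 1 := by
    refine hodd _ (hgodd.of_dvd_nat (orderOf_pow_dvd 3)) ?_
    have hjij : (j : G) * i * j = i := by
      calc (j : G) * i * j = ((j : G) * i * (j : G)⁻¹) * ((j : G) ^ 2) := by rw [sq]; group
        _ = i := by rw [hinv', hji', sq, inv_mul_cancel_left]
    have h3i : g ^ 3 * (i : G) * (g ^ 3)⁻¹ = i := by
      calc g ^ 3 * (i : G) * (g ^ 3)⁻¹ = g * (g * (g * i * g⁻¹) * g⁻¹) * g⁻¹ := by rw [pow_three]; group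
        _ = g * ((i : G) * j) * g⁻¹ := by rw [ai, aj]
        _ = (g * i * g⁻¹) * (g * j * g⁻¹) := by group
        _ = i := by rw [ai, aj, ← mul_assoc, hjij]
    have h3j : g ^ 3 * (j : G) * (g ^ 3)⁻¹ = j := by
      calc g ^ 3 * (j : G) * (g ^ 3)⁻¹ = g * (g ^ 3 * i * (g ^ 3)⁻¹) * g⁻¹ := by rw [← ai, pow_three]; group
        _ = (j : G) := by rw [h3i, ai]
    have hle : R ≤ Subgroup.centralizer ({g ^ 3} : Set G) := by
      rw [← hmapR, MonoidHom.map_closure, Subgroup.closure_le]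
      rintro _ ⟨x, hx, rfl⟩
      obtain h' | h' : x = i ∨ x = j := hx <;> rw [h'] <;> rw [SetLike.mem_coe, Subgroup.mem_centralizer_singleton_iff]
      · exact (mul_inv_eq_iff_eq_mul.mp h3i).symm
      · exact (mul_inv_eq_iff_eq_mul.mp h3j).symm
    exact Subgroup.mem_centralizer_iff.mpr fun w hw => Subgroup.mem_centralizer_singleton_iff.mp (hle hw)
  let U := R ⊔ Subgroup.zpowers g
  have hgU : g ∈ U := le_sup_right (a := R) (Subgroup.mem_zpowers g)
  let I : U := ⟨i, le_sup_left (b := Subgroup.zpowers g) i.2⟩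
  let J : U := ⟨j, le_sup_left (b := Subgroup.zpowers g) j.2⟩
  let B : U := ⟨g, hgU⟩
  have hrels : Cfsg.Lib.TwoFus.SLTwoThree.Rels I J B :=
    ⟨Subtype.ext (by
      have := pow_orderOf_eq_one i
      rw [hi] at this
      show (i : G) ^ 4 = 1
      exact congrArg Subtype.val this), Subtype.ext hji', Subtype.ext hinv', Subtype.ext ai, Subtype.ext aj, Subtype.ext hg3⟩
  have hIo : orderOf I = 4 := by rw [← hi, ← Subgroup.orderOf_coe, ← Subgroup.orderOf_coe i]
  have hgenU : Subgroup.closure ({I, J, B} : Set U) = ⊤ := by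
    rw [eq_top_iff]
    rintro ⟨x, hx⟩ -
    have hle : U ≤ (Subgroup.closure ({I, J, B} : Set U)).map U.subtype := by
      refine sup_le ?_ (Subgroup.zpowers_le.mpr ⟨B, Subgroup.subset_closure (Or.inr (Or.inr rfl)), rfl⟩)
      rw [← hmapR, MonoidHom.map_closure, Subgroup.closure_le]
      rintro _ ⟨x, hx, rfl⟩
      obtain h' | h' : x = i ∨ x = j := hx <;> rw [h']
      · exact ⟨I, Subgroup.subset_closure (Or.inl rfl), rfl⟩
      · exact ⟨J, Subgroup.subset_closure (Or.inr (Or.inl rfl)), rfl⟩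
    obtain ⟨w, hw, hwx⟩ := hle hx
    rw [show (⟨x, hx⟩ : U) = w from Subtype.ext hwx.symm]; exact hw
  have hB1 : B ≠ 1 := fun h => hg1 (congrArg Subtype.val h)
  have hU24 : Nat.card U = 24 := by
    rw [← Subgroup.card_top (G := U), ← hgenU, Cfsg.Lib.TwoFus.SLTwoThree.closure_card hrels hIo hB1]
  -- bound the group
  have hcard : Nat.card G ≤ 48 := by
    let ψ : G →* MulAut R := MulAut.conjNormal
    have hker : Nat.card ψ.ker ≤ 2 := by
      have hle : ∀ x ∈ ψ.ker, x = 1 ∨ x = z := by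
        intro x hx
        have hxC : x ∈ Subgroup.centralizer (R : Set G) := Subgroup.mem_centralizer_iff.mpr fun w hw => by
          have := congrArg (fun u : MulAut R => ((u ⟨w, hw⟩ : R) : G)) (MonoidHom.mem_ker.mp hx)
          simp only [ψ, MulAut.conjNormal_apply, MulAut.one_apply] at this
          exact (mul_inv_eq_iff_eq_mul.mp this).symm
        have hxR := hCR hxC
        have hxc := Subgroup.mem_centralizer_iff.mp hxC c hcR
        by_cases hxA : x ∈ A
        · obtain ⟨l, hl⟩ := hcgen' x hxR hxA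
          have h1 := (Subgroup.mem_centralizer_iff.mp hxC d hdR)
          have h3 : d * c ^ l * d⁻¹ = c ^ l := by rw [hl, h1, mul_inv_cancel_right]
          rw [← conj_zpow, hinvc d (hRT hdR) hdA, inv_zpow, inv_eq_iff_mul_eq_one, hl] at h3
          obtain ⟨m, hm⟩ := Subgroup.mem_zpowers_iff.mp hxA
          rw [← hm]
          exact hinvA m (by rw [mul_comm, zpow_mul, hm, zpow_two]; exact h3)
        · exfalso
          have := hinvc x (hRT hxR) hxA
          rw [← hxc, mul_inv_cancel_right] at this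
          have h2 : c ^ 2 = 1 := by rw [sq]; nth_rw 2 [this]; exact mul_inv_cancel c
          rw [hc2] at h2; rw [h2, orderOf_one] at hzo; omega
      calc Nat.card ψ.ker ≤ Nat.card ({1, z} : Set G) :=
            Nat.card_le_card_of_injective (fun x : ψ.ker => (⟨x, hle x x.2⟩ : ({1, z} : Set G))) fun u v h => Subtype.ext (congrArg (fun t : ({1, z} : Set G) => (t : G)) h)
        _ ≤ 2 := by
          rw [Nat.card_coe_set_eq]
          exact (Set.ncard_insert_le _ _).trans (by rw [Set.ncard_singleton])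
    have hR8 : Nat.card R ≤ 8 := by
      let f : Fin 4 × Fin 2 → R := fun p => (⟨c, hcR⟩ : R) ^ (p.1 : ℕ) * (⟨d, hdR⟩ : R) ^ (p.2 : ℕ)
      have hsur : Function.Surjective f := by
        intro w
        have hmod : ∀ l : ℤ, ∃ m : Fin 4, c ^ l = c ^ (m : ℕ) := fun l => ⟨⟨(l % 4).toNat, by omega⟩, by
          rw [← zpow_natCast, ← zpow_mod_orderOf, hk]
          congr 1
          push_cast
          omega⟩
        by_cases hwA : (w : G) ∈ A
        · obtain ⟨l, hl⟩ := hcgen' w w.2 hwA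
          obtain ⟨m, hm⟩ := hmod l
          exact ⟨(m, 0), Subtype.ext (by simp [f, ← hl, hm])⟩
        · obtain ⟨l, hl⟩ := hcgen' ((w : G) * d⁻¹) (R.mul_mem w.2 (R.inv_mem hdR))
            (two w (hRT w.2) d⁻¹ (Subgroup.inv_mem _ (hRT hdR)) hwA (fun h => hdA (by simpa using A.inv_mem h)))
          obtain ⟨m, hm⟩ := hmod l
          exact ⟨(m, 1), Subtype.ext (by simp [f, ← hm, hl])⟩
      exact (Nat.card_le_card_of_surjective f hsur).trans (by simp)
    have hO4 : ({w : R | orderOf w = 4}).ncard ≤ 6 := by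
      have hzR : z ∈ R := hc2 ▸ R.pow_mem hcR 2
      have hsub : {w : R | orderOf w = 4} ⊆ ({1, ⟨z, hzR⟩} : Set R)ᶜ := by
        intro w hw hmem
        rcases hmem with h | h
        · rw [Set.mem_setOf_eq, h, orderOf_one] at hw; omega
        · rw [Set.mem_singleton_iff] at h
          rw [Set.mem_setOf_eq, h, ← Subgroup.orderOf_coe] at hw
          simp only at hw
          omega
      refine (Set.ncard_le_ncard hsub (Set.toFinite _)).trans ?_
      have := Set.ncard_add_ncard_compl ({1, ⟨z, hzR⟩} : Set R)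
      rw [Set.ncard_pair (fun h => by
        have h' := congrArg Subtype.val h
        simp only [OneMemClass.coe_one] at h'
        rw [← h', orderOf_one] at hzo; omega)] at this
      omega
    have haut : Nat.card ψ.range ≤ 24 := by
      let S := Σ x : {w : R | orderOf w = 4}, ↥((Subgroup.zpowers (x : R) : Set R)ᶜ)
      letI : Fintype {w : R | orderOf w = 4} := Fintype.ofFinite _
      let F : ψ.range → S := fun u => ⟨⟨(u : MulAut R) i, by
          show orderOf ((u : MulAut R) i) = 4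
          rw [MulEquiv.orderOf_eq, hi]⟩, ⟨(u : MulAut R) j, by
        intro hmem
        obtain ⟨l, hl⟩ := Subgroup.mem_zpowers_iff.mp hmem
        have hj : j = i ^ l := (u : MulAut R).injective (by rw [map_zpow]; exact hl.symm)
        have : i = i⁻¹ := by
          calc i = j * i * j⁻¹ := by rw [hj, ((Commute.refl i).zpow_left l).eq, mul_inv_cancel_right]
            _ = i⁻¹ := hinv
        have h2 : i ^ 2 = 1 := by rw [sq]; nth_rw 2 [this]; exact mul_inv_cancel i
        have := orderOf_dvd_of_pow_eq_one h2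
        rw [hi] at this; omega⟩⟩
      have hF : Function.Injective F := by
        intro u v huv
        have h1 : (u : MulAut R) i = (v : MulAut R) i := congrArg (fun s : S => (s.1 : R)) huv
        have h2 : (u : MulAut R) j = (v : MulAut R) j := congrArg (fun s : S => (s.2 : R)) huv
        have key : (u : MulAut R).toMonoidHom = (v : MulAut R).toMonoidHom := by
          refine MonoidHom.eq_of_eqOn_dense hgen ?_
          intro x hx
          obtain h' | h' : x = i ∨ x = j := hx <;> rw [h']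
          · exact h1
          · exact h2
        exact Subtype.ext (MulEquiv.ext fun x => DFunLike.congr_fun key x)
      refine (Nat.card_le_card_of_injective F hF).trans ?_
      rw [Nat.card_sigma]
      refine (Finset.sum_le_card_nsmul _ _ 4 fun x _ => ?_).trans ?_
      · rw [Nat.card_coe_set_eq]
        have := Set.ncard_add_ncard_compl (Subgroup.zpowers (x : R) : Set R)
        have h4 : (Subgroup.zpowers (x : R) : Set R).ncard = 4 := by
          rw [← Nat.card_coe_set_eq]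
          exact (Nat.card_zpowers (x : R)).trans x.2
        omega
      · rw [smul_eq_mul, Finset.card_univ, ← Nat.card_eq_fintype_card, Nat.card_coe_set_eq]
        omega
    rw [← Subgroup.card_mul_index ψ.ker, Subgroup.index_ker]
    exact (Nat.mul_le_mul hker haut).trans (by norm_num)
  refine ⟨U, ?_, Cfsg.Lib.TwoFus.SLTwoThree.nonempty_mulEquiv hrels hIo hB1 hgenU⟩
  have hi2 : U.index ≤ 2 := by
    have h := U.card_mul_index
    rw [hU24] at h
    omega
  rcases (show U.index = 0 ∨ U.index = 1 ∨ U.index = 2 by omega) with h | h | h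
  · exact absurd h Subgroup.index_ne_zero_of_finite
  · rw [Subgroup.index_eq_one.mp h]; infer_instance
  · exact Subgroup.normal_of_index_eq_two h

/-- Let G be a finite solvable group with O(G) = 1 whose Sylow 2-subgroup T is dihedral of order at least 8 or semidihedral, with G ≠ T and Z(T) normal in G. Then G has a normal subgroup isomorphic to SL₂(3). -/
theorem result {G : Type*} [Group G] [Finite G] (hsol : IsSolvable G) (hO : Cfsg.oddCore G = ⊥) (T : Sylow 2 G) (hT : (∃ n : ℕ, 4 ≤ n ∧ Nonempty (↥(T : Subgroup G) ≃* DihedralGroup n)) ∨ Cfsg.IsQuasiDihedral ↥(T : Subgroup G)) (hne : (T : Subgroup G) ≠ ⊤) (hZ : ((T : Subgroup G) ⊓ Subgroup.centralizer ((T : Subgroup G) : Set G)).Normal) : ∃ U : Subgroup G, U.Normal ∧ Nonempty (↥U ≃* Matrix.SpecialLinearGroup (Fin 2) (ZMod 3)) := by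
  haveI : Group.IsSolvable G := hsol
  rcases hT with ⟨m, hm, ⟨iso⟩⟩ | hq
  · obtain ⟨a, y, t, D, rfl⟩ := Cfsg.Lib.TwoFus.exists_dihSylow T (by omega) iso
    have ht : 2 ≤ t := by
      by_contra h
      have : 2 ^ t ≤ 2 ^ 1 := Nat.pow_le_pow_right two_pos (by omega)
      omega
    have h4 : 4 ∣ 2 ^ t := pow_dvd_pow 2 ht
    refine main hO T hne hZ (e := 2 ^ t - 1) D.a_mem D.g_mem ht D.ord D.g_not D.sq (by omega)
      (by rw [Nat.sub_add_cancel Nat.one_le_two_pow]; exact pow_dvd_pow 2 (by omega)) ?_ D.card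
    rw [D.inv a (Subgroup.mem_zpowers a), inv_eq_of_mul_eq_one_right]
    rw [← pow_succ', Nat.sub_add_cancel Nat.one_le_two_pow, ← D.ord, pow_orderOf_eq_one]
  · obtain ⟨n, hn, hc, x, y, hx, hy, hyx⟩ := hq
    have h4 : 4 ∣ 2 ^ (n - 1) := pow_dvd_pow 2 (show 2 ≤ n - 1 by omega)
    have hp := Nat.one_le_two_pow (n := n - 1)
    refine main hO T hne hZ (a := (x : G)) (y := (y : G)) (n := n) (e := 2 ^ (n - 1) - 1) x.2 y.2 (by omega)
      (by rw [Subgroup.orderOf_coe, hx]) ?_ ?_ (by omega) (by rw [Nat.sub_add_cancel hp])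
      (congrArg Subtype.val hyx) (by rw [hc, pow_succ']) 
    · intro hmem
      obtain ⟨l, hl⟩ := Subgroup.mem_zpowers_iff.mp hmem
      have hl' : x ^ l = y := Subtype.ext hl
      have h1 : x ^ (2 ^ (n - 1) - 1 : ℕ) = x := by
        rw [← hyx, ← hl', ((Commute.refl x).zpow_left l).eq, mul_inv_cancel_right]
      have h2 : x ^ (2 ^ (n - 1) - 2) = 1 := by
        apply mul_left_cancel (a := x)
        rw [mul_one, ← pow_succ', show 2 ^ (n - 1) - 2 + 1 = 2 ^ (n - 1) - 1 by omega, h1]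
      have h3 := Nat.le_of_dvd (by omega) (orderOf_dvd_of_pow_eq_one h2)
      rw [hx] at h3
      have := Nat.pow_le_pow_right two_pos (show n - 1 ≤ n by omega)
      omega
    · have := pow_orderOf_eq_one y
      rw [hy, sq] at this
      exact congrArg Subtype.val this

end Cfsg.Agent.S2879
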