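import Cfsg.Statements.S5170
import Cfsg.Agent.Lib.FusionCert.Groups
import Cfsg.Agent.Lib.FusionCert.Split
import Cfsg.Agent.Lib.FusionCert.DataM24

set_option autoImplicit false
open Cfsg

namespace Cfsg.Agent.S5170

open Lib.FusionCert

theorem s_wf : DataM24.data.S.wf = true := by decide +kernel

theorem s_strict : strictB DataM24.data.S.tree.keys = true := by decide +kernel

theorem s_orb : orbOK DataM24.data.S DataM24.data.tbl = true := by decide +kernel

theorem item0 :
    itemAt DataM24.data.S DataM24.data.tbl DataM24.data.prog 0 = true := by decide +kernel

theorem item1 :
    itemAt DataM24.data.S DataM24.data.tbl DataM24.data.prog 1 = true := by decide +kernel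

theorem item2 :
    itemAt DataM24.data.S DataM24.data.tbl DataM24.data.prog 2 = true := by decide +kernel

theorem item3 :
    itemAt DataM24.data.S DataM24.data.tbl DataM24.data.prog 3 = true := by decide +kernel

theorem item4 :
    itemAt DataM24.data.S DataM24.data.tbl DataM24.data.prog 4 = true := by decide +kernel

theorem item5 :
    itemAt DataM24.data.S DataM24.data.tbl DataM24.data.prog 5 = true := by decide +kernel

theorem item6 :
    itemAt DataM24.data.S DataM24.data.tbl DataM24.data.prog 6 = true := by decide +kernel

theorem item7 :
    itemAt DataM24.data.S DataM24.data.tbl DataM24.data.prog 7 = true := by decide +kernel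

theorem item8 :
    itemAt DataM24.data.S DataM24.data.tbl DataM24.data.prog 8 = true := by decide +kernel

theorem item9 :
    itemAt DataM24.data.S DataM24.data.tbl DataM24.data.prog 9 = true := by decide +kernel

theorem item10 :
    itemAt DataM24.data.S DataM24.data.tbl DataM24.data.prog 10 = true := by decide +kernel

theorem item11 :
    itemAt DataM24.data.S DataM24.data.tbl DataM24.data.prog 11 = true := by decide +kernel

theorem item12 :
    itemAt DataM24.data.S DataM24.data.tbl DataM24.data.prog 12 = true := by decide +kernel

theorem item13 :
    itemAt DataM24.data.S DataM24.data.tbl DataM24.data.prog 13 = true := by decide +kernel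

theorem item14 :
    itemAt DataM24.data.S DataM24.data.tbl DataM24.data.prog 14 = true := by decide +kernel

theorem item15 :
    itemAt DataM24.data.S DataM24.data.tbl DataM24.data.prog 15 = true := by decide +kernel

theorem prog_len : DataM24.data.prog.length = 16 := by decide +kernel

theorem prog_ok : progOK DataM24.data.S DataM24.data.tbl [] DataM24.data.prog = true := by
  refine progOK_of_items _ prog_len fun i hi => ?_
  interval_cases i
  · exact item0
  · exact item1
  · exact item2
  · exact item3
  · exact item4
  · exact item5
  · exact item6
  · exact item7
  · exact item8
  · exact item9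
  · exact item10
  · exact item11
  · exact item12
  · exact item13
  · exact item14
  · exact item15

theorem data_ok : DataM24.data.ok inM24 = true :=
  Data.ok_of_parts _ _ s_wf s_strict s_orb prog_ok (by decide +kernel)

theorem data_len : DataM24.data.S.tree.keys.length = 2 ^ 10 := by decide +kernel

/-- The 2-fusion system of the Mathieu group M₂₄ (as the explicit permutation group of the 24 points preserving the binary Golay code) on a Sylow 2-subgroup is simple: saturated, over a nontrivial 2-group, with no normal subsystem other than the trivial one and itself. -/
theorem result (S : Sylow 2 Cfsg.M24) : (Cfsg.groupFusionSystem (S : Subgroup Cfsg.M24)).IsSimple 2 := by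
  refine isSimple_of_data _ _ _ inM24_sound data_ok data_len
    (by norm_num) (n := 239085) (by norm_num) ?_ S
  rw [Lib.Golay.card_M24]; norm_num

end Cfsg.Agent.S5170
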