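import Cfsg.Statements.S2882
import Cfsg.Agent.S5170
-- import your own Cfsg.Agent.* helpers here

set_option autoImplicit false
open Cfsg

namespace Cfsg.Agent.S2882

/-- In the Mathieu group of degree 24 (realised as the automorphism group of the extended binary Golay code) every Sylow 2-subgroup is self-normalizing. -/
theorem result (S : Sylow 2 ↥Cfsg.M24) : Subgroup.normalizer ((S : Subgroup ↥Cfsg.M24) : Set ↥Cfsg.M24) = (S : Subgroup ↥Cfsg.M24) := by
  classical
  open Cfsg.Lib.FusionCert Cfsg.Lib.Golay in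
  haveI : Fact (Nat.Prime 2) := ⟨Nat.prime_two⟩
  set d := DataM24.data
  have hS : d.S.wf = true := Cfsg.Agent.S5170.s_wf
  set H := d.S.grp with hH
  have hHK : H ≤ Cfsg.M24 := by
    rw [hH, Grp.grp, Subgroup.closure_le]
    rintro _ ⟨g, hg, rfl⟩
    have hok := Cfsg.Agent.S5170.data_ok
    simp only [Data.ok, Bool.and_eq_true, List.all_eq_true] at hok
    exact inM24_sound g (hok.1.1.2 g hg)
  have hHcard : Nat.card H = 2 ^ 10 := by
    rw [hH, Grp.card_grp hS (nodup_of_strictB Cfsg.Agent.S5170.s_strict), Cfsg.Agent.S5170.data_len]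
  have hS0c : Nat.card (H.subgroupOf Cfsg.M24) = 2 ^ 10 := by
    rw [Nat.card_congr (Subgroup.subgroupOfEquivOfLe hHK).toEquiv, hHcard]
  have hidx : ¬ 2 ∣ (H.subgroupOf Cfsg.M24).index := by
    have h1 := (H.subgroupOf Cfsg.M24).card_mul_index
    rw [hS0c, card_M24] at h1
    have : (H.subgroupOf Cfsg.M24).index = 239085 := by norm_num at h1; omega
    rw [this]; norm_num
  set S₀ := (IsPGroup.of_card hS0c).toSylow hidx
  -- an element of odd order normalizing `S₀` is trivial
  have key : ∀ g ∈ Subgroup.normalizer ((S₀ : Subgroup Cfsg.M24) : Set Cfsg.M24),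
      (orderOf g).Coprime 2 → g = 1 := by
    intro g hg hgo
    set σ : Equiv.Perm GolayPt := (g : Equiv.Perm GolayPt)
    have hgN : σ ∈ Subgroup.normalizer (H : Set (Equiv.Perm GolayPt)) := by
      refine Subgroup.mem_normalizer_fintype fun y hy => ?_
      exact (Subgroup.mem_normalizer_iff.1 hg ⟨y, hHK hy⟩).1 hy
    have hσo : (orderOf σ).Coprime 2 := by rwa [Subgroup.orderOf_coe]
    have hcen : ∀ x ∈ H, σ * x * σ⁻¹ = x := by
      have hok := Cfsg.Agent.S5170.data_ok
      simp only [Data.ok, Bool.and_eq_true] at hok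
      obtain ⟨⟨⟨⟨⟨⟨⟨⟨-, -⟩, horb⟩, hprog⟩, hsteps⟩, hhead⟩, -⟩, -⟩, -⟩ := hok
      intro x hx
      cases hch : d.chain with
      | nil => rw [hch] at hhead; simp at hhead
      | cons e es =>
        rw [hch] at hhead hsteps
        simp only [beq_iff_eq] at hhead
        have hsound := prog_sound hS horb d.prog [] (by simp) hprog
        have hall : ∀ b : ℕ, (d.prog.getD b (d.S, Op.top)).1.wf = true ∧
            (d.prog.getD b (d.S, Op.top)).1.grp ≤ d.S.grp ∧
            Invariant d.S (d.prog.getD b (d.S, Op.top)).1 := by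
          intro b
          rw [List.getD_eq_getElem?_getD]
          cases hb : d.prog[b]? with
          | none => exact ⟨hS, le_rfl, fun σ hσ y hy => (Subgroup.mem_normalizer_iff.1 hσ y).1 hy⟩
          | some v => exact hsound v (List.mem_of_getElem? hb)
        refine chain_sound hgN hσo (IsPGroup.of_card hHcard) _ (fun b hb => ?_) hsteps
          ((d.prog.getD e.1 (d.S, Op.top)).1, e.2) rfl _ ?_
        · rw [List.mem_map] at hb
          obtain ⟨b', -, rfl⟩ := hb
          exact hall b'.1
        · show x ∈ (d.prog.getD e.1 (d.S, Op.top)).1.grp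
          rw [Grp.grp, hhead]
          exact hx
    have horb := Cfsg.Agent.S5170.s_orb
    have hcount : ∀ q : GolayPt, (Finset.univ.filter fun r => d.tbl.getD (idx r) 0 = d.tbl.getD (idx q) 0).card =
        d.tbl.getD (idx q) 0 := by decide +kernel
    have hσq : ∀ q, σ q ∈ MulAction.orbit H q := by
      intro q
      have himg : MulAction.orbit H (σ q) = σ '' MulAction.orbit H q := by
        ext r
        constructor
        · rintro ⟨⟨τ, hτ⟩, rfl⟩
          refine ⟨τ q, ⟨⟨τ, hτ⟩, rfl⟩, ?_⟩
          have := hcen τ hτ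
          rw [mul_inv_eq_iff_eq_mul] at this
          exact congrArg (fun f : Equiv.Perm GolayPt => f q) this
        · rintro ⟨_, ⟨⟨τ, hτ⟩, rfl⟩, rfl⟩
          refine ⟨⟨τ, hτ⟩, ?_⟩
          have := hcen τ hτ
          rw [mul_inv_eq_iff_eq_mul] at this
          exact (congrArg (fun f : Equiv.Perm GolayPt => f q) this).symm
      have hn : d.tbl.getD (idx (σ q)) 0 = d.tbl.getD (idx q) 0 := by
        rw [← ncard_orbit hS horb, ← ncard_orbit hS horb, himg, Set.ncard_image_of_injective _ σ.injective]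
      have hset : (MulAction.orbit H q).toFinset = Finset.univ.filter fun r => d.tbl.getD (idx r) 0 = d.tbl.getD (idx q) 0 := by
        refine Finset.eq_of_subset_of_card_le (fun r hr => ?_) ?_
        · rw [Set.mem_toFinset] at hr
          refine Finset.mem_filter.2 ⟨Finset.mem_univ _, ?_⟩
          rw [← ncard_orbit hS horb, ← ncard_orbit hS horb, MulAction.orbit_eq_iff.2 hr]
        · rw [hcount, ← Set.ncard_eq_toFinset_card', ncard_orbit hS horb]
      rw [← Set.mem_toFinset, hset]
      exact Finset.mem_filter.2 ⟨Finset.mem_univ _, hn⟩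
    have hfix : σ ^ 2 ^ 10 = 1 := by
      refine Equiv.ext fun q => ?_
      obtain ⟨⟨τ, hτ⟩, hτq⟩ := hσq q
      have hτq' : τ q = σ q := hτq
      have hcomm : Commute σ τ := mul_inv_eq_iff_eq_mul.1 (hcen τ hτ)
      have hind : ∀ n : ℕ, (σ ^ n) q = (τ ^ n) q := by
        intro n
        induction n with
        | zero => rfl
        | succ n ih =>
          rw [pow_succ', Equiv.Perm.mul_apply, ih, ← Equiv.Perm.mul_apply, (hcomm.pow_right n).eq,
            Equiv.Perm.mul_apply, ← hτq', ← Equiv.Perm.mul_apply, ← pow_succ, pow_succ', Equiv.Perm.mul_apply]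
      rw [hind]
      have : τ ^ 2 ^ 10 = 1 := by
        rw [← hHcard]
        exact congrArg Subtype.val (pow_card_eq_one' (x := (⟨τ, hτ⟩ : H)))
      rw [this]
    have h1 : orderOf σ = 1 := Nat.eq_one_of_dvd_coprimes (hσo.pow_right 10) dvd_rfl (orderOf_dvd_of_pow_eq_one hfix)
    exact Subtype.ext (orderOf_eq_one_iff.1 h1)
  suffices h : Subgroup.normalizer ((S₀ : Subgroup Cfsg.M24) : Set Cfsg.M24) = S₀ by
    obtain ⟨k, hk⟩ := MulAction.exists_smul_eq Cfsg.M24 S₀ S
    rw [← hk, Sylow.coe_subgroup_smul]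
    have := congrArg (Subgroup.map (MulAut.conj k).toMonoidHom) h
    rw [Subgroup.map_equiv_normalizer_eq] at this
    exact this
  refine le_antisymm (fun g hg => ?_) Subgroup.le_normalizer
  obtain ⟨a, m, hm, ham⟩ := Nat.exists_eq_pow_mul_and_not_dvd (orderOf_pos g).ne' 2 (by norm_num)
  have h2 := key _ (pow_mem hg (2 ^ a)) (by
    rw [orderOf_pow_of_dvd (pow_ne_zero _ two_ne_zero) ⟨m, ham⟩, ham, Nat.mul_div_cancel_left _ (by positivity)]
    exact Nat.Coprime.symm (((Nat.prime_two).coprime_iff_not_dvd).2 hm))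
  have hpg : IsPGroup 2 (Subgroup.zpowers g) := by
    obtain ⟨j, -, hj⟩ := (Nat.dvd_prime_pow Nat.prime_two).1 (orderOf_dvd_of_pow_eq_one h2)
    exact IsPGroup.of_card (n := j) (by rw [Nat.card_zpowers, hj])
  exact (S₀.3 (hpg.to_sup_of_normal_right' S₀.isPGroup' (Subgroup.zpowers_le.2 hg)) le_sup_right).le
    (Subgroup.mem_sup_left (Subgroup.mem_zpowers g))

end Cfsg.Agent.S2882
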