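import Cfsg.Statements.S4479
import Cfsg.Agent.Lib.ZStar.FactsProof
import Cfsg.Agent.Lib.ZStar.Klein
import Cfsg.Agent.Lib.ZStar.Q8Block
import Cfsg.Agent.Lib.ZStar.KleinFusion

set_option autoImplicit false
open Cfsg

namespace Cfsg.Agent.S4479

/-- An order formula from the principal 2-block. Let G be a finite group of order 4·g₀ with g₀ odd having no normal 2-complement (no normal subgroup of order g₀); let P be a Sylow 2-subgroup, J an involution of P, and fix a maximal ideal M of the algebraic integers containing 2. Suppose the principal 2-block consists of the principal character and three further distinct characters χ₁, χ₂, χ₃ of degrees x₁, x₂, x₃, with χ_i(J) = ε_i = ±1. Then, writing c(J) and c(P) for the orders of the centralizers of J and of P, the order of G equals 8·α·c(J)³/c(P)² with α = x₁x₂x₃ / ((x₁ + ε₁)(x₂ + ε₂)(x₃ + ε₃)). -/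
theorem result {G : Type*} [Group G] [Finite G] (M : Ideal Cfsg.AlgInt) (hM : Cfsg.IsPModular 2 M) (g₀ : ℕ) (hg₀ : Odd g₀) (hG : Nat.card G = 4 * g₀) (hnc : ¬ ∃ N : Subgroup G, N.Normal ∧ Nat.card N = g₀) (P : Sylow 2 G) (J : G) (hJ : J ∈ (P : Subgroup G)) (hJ2 : orderOf J = 2) (χ₁ χ₂ χ₃ : Cfsg.IrrCharacter G) (ε₁ ε₂ ε₃ : ℤ) (hB : Cfsg.principalBlock M G = {χ : Cfsg.IrrCharacter G | (χ : G → ℂ) = (fun _ => 1) ∨ χ = χ₁ ∨ χ = χ₂ ∨ χ = χ₃}) (hdist : (χ₁ : G → ℂ) ≠ (fun _ => 1) ∧ (χ₂ : G → ℂ) ≠ (fun _ => 1) ∧ (χ₃ : G → ℂ) ≠ (fun _ => 1) ∧ χ₁ ≠ χ₂ ∧ χ₁ ≠ χ₃ ∧ χ₂ ≠ χ₃) (hε : (ε₁ = 1 ∨ ε₁ = -1) ∧ (ε₂ = 1 ∨ ε₂ = -1) ∧ (ε₃ = 1 ∨ ε₃ = -1)) (hval : (χ₁ : G → ℂ) J = ε₁ ∧ (χ₂ : G → ℂ) J = ε₂ ∧ (χ₃ : G → ℂ) J = ε₃) : (Nat.card G : ℚ) = 8 * (((Cfsg.charDegree (χ₁ : G → ℂ) : ℚ) * Cfsg.charDegree (χ₂ : G → ℂ) * Cfsg.charDegree (χ₃ : G → ℂ)) / ((Cfsg.charDegree (χ₁ : G → ℂ) + ε₁) * (Cfsg.charDegree (χ₂ : G → ℂ) + ε₂) * (Cfsg.charDegree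 (χ₃ : G → ℂ) + ε₃))) * (Nat.card (Subgroup.centralizer ({J} : Set G)) : ℚ) ^ 3 / (Nat.card (Subgroup.centralizer ((P : Subgroup G) : Set G)) : ℚ) ^ 2 := by
  classical
  haveI : Fact (Nat.Prime 2) := ⟨Nat.prime_two⟩
  haveI := hM.2.1.isPrime
  haveI := Fintype.ofFinite G
  obtain ⟨j, hj⟩ := hg₀
  have hP4 : Nat.card (P : Subgroup G) = 4 := by
    rw [P.card_eq_multiplicity, hG, Nat.factorization_mul (by norm_num) (by omega), Finsupp.add_apply,
      show (4 : ℕ) = 2 ^ 2 by norm_num, Nat.prime_two.factorization_pow, Finsupp.single_eq_same,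
      Nat.factorization_eq_zero_of_not_dvd (show ¬ 2 ∣ g₀ by omega)]
  have hncyc : ¬ IsCyclic (P : Subgroup G) := by
    intro hc
    have hmin : (Nat.card G).minFac = 2 := (Nat.minFac_eq_two_iff _).mpr (by rw [hG]; omega)
    have hle := IsCyclic.normalizer_le_centralizer (P := P) hmin hc
    refine hnc ⟨_, (inferInstance : (MonoidHom.transferSylow P hle).ker.Normal), ?_⟩
    have h1 := Subgroup.card_mul_index (MonoidHom.transferSylow P hle).ker
    rw [(MonoidHom.ker_transferSylow_isComplement' P hle).symm.index_eq_card, hP4, hG] at h1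
    omega
  have hK : IsKleinFour (P : Subgroup G) := by
    refine ⟨hP4, ?_⟩
    haveI : Nontrivial (P : Subgroup G) :=
      Finite.one_lt_card_iff_nontrivial.mp (by rw [hP4]; norm_num)
    refine ((Nat.dvd_prime Nat.prime_two).mp (Monoid.exponent_dvd_of_forall_pow_eq_one
      fun x : (P : Subgroup G) => ?_)).resolve_left
      fun e => not_subsingleton (P : Subgroup G) (Monoid.exp_eq_one_iff.mp e)
    by_contra hx
    exact hncyc (isCyclic_of_orderOf_eq_card x (by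
      rw [hP4, show (4 : ℕ) = 2 ^ (1 + 1) by norm_num]
      refine orderOf_eq_prime_pow (p := 2) (n := 1) (by simpa using hx) ?_
      rw [show 2 ^ (1 + 1) = Nat.card (P : Subgroup G) by rw [hP4]; norm_num]
      exact pow_card_eq_one'))
  have hone : ∀ s t : G, orderOf s = 2 → orderOf t = 2 → IsConj s t := by
    refine Cfsg.Lib.ZStar.klein_one_class P hK fun ⟨N, hN, hi⟩ => hnc ⟨N, hN, ?_⟩
    have h1 := Subgroup.card_mul_index N
    rw [hi, hG] at h1
    omega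
  have hF := Cfsg.Lib.ZStar.blockFacts G hM
  set B := Finset.univ.filter (fun χ : Cfsg.IrrCharacter G => χ ∈ Cfsg.principalBlock M G) with hBdef
  set T : Cfsg.IrrCharacter G := Cfsg.Lib.ZStar.triv G with hTdef
  have h0 : ∀ χ : Cfsg.IrrCharacter G, (χ : G → ℂ) ≠ (fun _ => 1) → T ≠ χ :=
    fun χ h e => h (by rw [← e]; rfl)
  have hB4 : B = {T, χ₁, χ₂, χ₃} := by
    ext χ
    simp only [hBdef, Finset.mem_filter, Finset.mem_univ, true_and, hB, Set.mem_ofPred_eq,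
      Finset.mem_insert, Finset.mem_singleton]
    exact or_congr ⟨fun h => Subtype.ext h, fun h => by rw [h]; rfl⟩ Iff.rfl
  have hsum : ∀ f : Cfsg.IrrCharacter G → ℂ, ∑ χ ∈ B, f χ = f T + f χ₁ + f χ₂ + f χ₃ := by
    intro f
    obtain ⟨n1, n2, n3, n12, n13, n23⟩ := hdist
    rw [hB4, Finset.sum_insert (by simp [h0 _ n1, h0 _ n2, h0 _ n3]),
      Finset.sum_insert (by simp [n12, n13]), Finset.sum_pair n23]
    ring
  -- integral values
  have hJ1 : J ≠ 1 := fun e => by simp [e] at hJ2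
  choose b hb using fun χ : Cfsg.IrrCharacter G => Cfsg.Lib.ZStar.exists_int_involution χ hJ2
  have hbJ : ∀ χ : Cfsg.IrrCharacter G, (χ : G → ℂ) J = b χ := fun χ => (hb χ).1
  have hsec : ∀ χ : Cfsg.IrrCharacter G, χ ∈ Cfsg.principalBlock M G →
      ∀ y : G, y * J = J * y → Odd (orderOf y) → (χ : G → ℂ) (J * y) = b χ := by
    intro χ hχ y hy hyo
    have hc : Commute J y := hy.symm
    have hgo : ¬ Odd (orderOf (J * y)) := by
      rw [hc.orderOf_mul_eq_mul_orderOf_of_coprime (by rw [hJ2]; exact Nat.coprime_two_left.mpr hyo), hJ2]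
      exact Nat.not_odd_iff_even.mpr (even_two_mul _)
    obtain ⟨s, hs, e⟩ := Cfsg.Lib.ZStar.klein_value hF P hK hχ hgo
    rw [e, Cfsg.Lib.Characters.isClassFunction_iff_isConj.mp χ.2.isClassFunction s J (hone s J hs hJ2), hbJ]
  have hb1 : b χ₁ = ε₁ := by have := (hbJ χ₁).symm.trans hval.1; exact_mod_cast this
  have hb2 : b χ₂ = ε₂ := by have := (hbJ χ₂).symm.trans hval.2.1; exact_mod_cast this
  have hb3 : b χ₃ = ε₃ := by have := (hbJ χ₃).symm.trans hval.2.2; exact_mod_cast this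
  have hbT : b T = 1 := by
    have := (hbJ T).symm
    rw [Cfsg.Lib.ZStar.triv_apply] at this
    exact_mod_cast this
  have hbsq : ∀ χ ∈ B, (b χ : ℂ) * b χ = 1 := by
    intro χ hχ
    rw [hB4] at hχ
    simp only [Finset.mem_insert, Finset.mem_singleton] at hχ
    rcases hχ with rfl | rfl | rfl | rfl
    · rw [hbT]; simp
    · rw [hb1]; rcases hε.1 with e | e <;> rw [e] <;> simp
    · rw [hb2]; rcases hε.2.1 with e | e <;> rw [e] <;> simp
    · rw [hb3]; rcases hε.2.2 with e | e <;> rw [e] <;> simp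
  -- the odd elements of the centraliser
  set Y := Finset.univ.filter (fun y : G => y * J = J * y ∧ Odd (orderOf y)) with hY
  set C := Subgroup.centralizer ({J} : Set G)
  obtain ⟨hidx, hodd⟩ := Cfsg.Lib.ZStar.klein_centralizer P hK hJ2 hJ
  have hYcard : 4 * Y.card = Nat.card C := by
    have h1 : Nat.card (Cfsg.pPrimeCore 2 C) = Y.card := by
      rw [← Nat.card_eq_finsetCard]
      refine Nat.card_congr
        { toFun := fun c => ⟨((c : C) : G), ?_⟩
          invFun := fun y => ⟨⟨y, Subgroup.mem_centralizer_singleton_iff.mpr ((Finset.mem_filter.mp y.2).2.1)⟩,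
            hodd _ (by rw [Subgroup.orderOf_mk]; exact (Finset.mem_filter.mp y.2).2.2)⟩
          left_inv := fun c => rfl
          right_inv := fun y => rfl }
      refine Finset.mem_filter.mpr ⟨Finset.mem_univ _, Subgroup.mem_centralizer_singleton_iff.mp (c : C).2, ?_⟩
      rw [Subgroup.orderOf_coe]
      exact Odd.of_dvd_nat (Nat.coprime_two_right.mp (Cfsg.Lib.Solv.coprime_pPrimeCore 2))
        (Subgroup.orderOf_dvd_natCard _ c.2)
    rw [← Subgroup.card_mul_index (Cfsg.pPrimeCore 2 C), hidx, h1, mul_comm]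
  set W : Cfsg.IrrCharacter G → ℂ := fun χ => ∑ y ∈ Y, (χ : G → ℂ) (J * y)
  have hWB : ∀ χ ∈ B, W χ = (Y.card : ℂ) * b χ := by
    intro χ hχ
    have hc : ∀ y ∈ Y, (χ : G → ℂ) (J * y) = b χ := fun y hy => by
      obtain ⟨h1, h2⟩ := (Finset.mem_filter.mp hy).2
      exact hsec χ (Finset.mem_filter.mp hχ).2 y h1 h2
    simp only [W, Finset.sum_congr rfl hc, Finset.sum_const, nsmul_eq_mul]
  -- column orthogonality kills the other characters
  have htot : ∑ χ : Cfsg.IrrCharacter G, W χ * (starRingEnd ℂ) (W χ) = (Y.card : ℂ) * Nat.card C := by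
    have hcol : ∑ χ : Cfsg.IrrCharacter G, W χ * (starRingEnd ℂ) (W χ) =
        ∑ y ∈ Y, ∑ y' ∈ Y, ∑ χ : Cfsg.IrrCharacter G,
          (χ : G → ℂ) (J * y) * (starRingEnd ℂ) ((χ : G → ℂ) (J * y')) := by
      simp only [W, map_sum, Finset.sum_mul]
      rw [Finset.sum_comm]
      refine Finset.sum_congr rfl fun y _ => ?_
      rw [Finset.sum_comm]
      exact Finset.sum_congr rfl fun χ _ => Finset.mul_sum _ _ _
    have hpow : ∀ y ∈ Y, (J * y) ^ Nat.card (Cfsg.pPrimeCore 2 C) = J := by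
      intro y hy
      obtain ⟨h1, h2⟩ := (Finset.mem_filter.mp hy).2
      have hy0 : y ^ Nat.card (Cfsg.pPrimeCore 2 C) = 1 := by
        refine orderOf_dvd_iff_pow_eq_one.mp ?_
        have := Subgroup.orderOf_dvd_natCard _
          (hodd ⟨y, Subgroup.mem_centralizer_singleton_iff.mpr h1⟩ (by rw [Subgroup.orderOf_mk]; exact h2))
        rwa [Subgroup.orderOf_mk] at this
      obtain ⟨i, hi⟩ := Nat.coprime_two_right.mp (Cfsg.Lib.Solv.coprime_pPrimeCore (G := C) 2)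
      rw [(show Commute J y from h1.symm).mul_pow, hy0, mul_one, hi, pow_succ, pow_mul,
        show J ^ 2 = 1 by rw [← hJ2, pow_orderOf_eq_one], one_pow, one_mul]
    rw [hcol]
    have hcard : ∀ a b : G, ((Finset.univ.filter fun c : G => c * a * c⁻¹ = b).card : ℂ) =
        if IsConj a b then (Nat.card (Subgroup.centralizer ({b} : Set G)) : ℂ) else 0 := by
      intro a b
      split_ifs with hab
      · obtain ⟨c₀, hc₀⟩ := isConj_iff.mp hab
        congr 1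
        rw [Nat.subtype_card (Finset.univ.filter fun s : G => s * b = b * s)
          (fun s => by simp [Subgroup.mem_centralizer_singleton_iff])]
        refine (Finset.card_bij (fun s _ => s * c₀) (fun s hs => ?_) (fun _ _ _ _ h => mul_right_cancel h)
          (fun c hc => ?_)).symm
        · refine Finset.mem_filter.mpr ⟨Finset.mem_univ _, ?_⟩
          rw [mul_inv_rev, show s * c₀ * a * (c₀⁻¹ * s⁻¹) = s * (c₀ * a * c₀⁻¹) * s⁻¹ by group, hc₀,
            (Finset.mem_filter.mp hs).2, mul_inv_cancel_right]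
        · refine ⟨c * c₀⁻¹, Finset.mem_filter.mpr ⟨Finset.mem_univ _, ?_⟩, by group⟩
          calc c * c₀⁻¹ * b = c * a * c₀⁻¹ := by rw [← hc₀]; group
            _ = b * (c * c₀⁻¹) := by rw [← (Finset.mem_filter.mp hc).2]; group
      · rw [Finset.filter_eq_empty_iff.mpr fun c _ h => hab (isConj_iff.mpr ⟨c, h⟩)]
        simp
    simp only [Cfsg.Lib.Characters.column_orthogonality, ← hcard]
    push_cast
    rw [← nsmul_eq_mul, ← Finset.sum_const]
    refine Finset.sum_congr rfl fun y hy => ?_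
    rw [← Nat.cast_sum]
    congr 1
    rw [Nat.subtype_card (Finset.univ.filter fun c : G => c * J = J * c)
      (fun c => by simp [C, Subgroup.mem_centralizer_singleton_iff]),
      ← Finset.card_sigma]
    refine Finset.card_bij (fun q _ => q.2) ?_ ?_ ?_
    · rintro ⟨y', c⟩ hq
      obtain ⟨hy', hc⟩ := Finset.mem_sigma.mp hq
      have e := (Finset.mem_filter.mp hc).2
      refine Finset.mem_filter.mpr ⟨Finset.mem_univ _, mul_inv_eq_iff_eq_mul.mp ?_⟩
      have e2 := congrArg (· ^ Nat.card (Cfsg.pPrimeCore 2 C)) e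
      simp only [conj_pow, hpow y hy, hpow y' hy'] at e2
      exact e2
    · rintro ⟨y₁, c⟩ h₁ ⟨y₂, c'⟩ h₂ hc
      simp only at hc
      subst hc
      have e1 := (Finset.mem_filter.mp (Finset.mem_sigma.mp h₁).2).2
      have e2 := (Finset.mem_filter.mp (Finset.mem_sigma.mp h₂).2).2
      have e3 : J * y₁ = J * y₂ := e1.symm.trans e2
      rw [mul_left_cancel e3]
    · intro c hc
      obtain ⟨h1, h2⟩ := (Finset.mem_filter.mp hy).2
      have hcJ : c * J = J * c := (Finset.mem_filter.mp hc).2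
      refine ⟨⟨c * y * c⁻¹, c⟩, Finset.mem_sigma.mpr ⟨Finset.mem_filter.mpr ⟨Finset.mem_univ _, ?_, ?_⟩,
        Finset.mem_filter.mpr ⟨Finset.mem_univ _, ?_⟩⟩, rfl⟩
      · have hJc : c⁻¹ * J = J * c⁻¹ := (show Commute c J from hcJ).inv_left.eq
        calc c * y * c⁻¹ * J = c * y * (c⁻¹ * J) := by group
          _ = c * (y * J) * c⁻¹ := by rw [hJc]; group
          _ = c * J * y * c⁻¹ := by rw [h1]; group
          _ = J * (c * y * c⁻¹) := by rw [hcJ]; group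
      · rw [Cfsg.Lib.ZStar.orderOf_conjugate']; exact h2
      · calc c * (J * y) * c⁻¹ = c * J * y * c⁻¹ := by group
          _ = J * (c * y * c⁻¹) := by rw [hcJ]; group
  have hW0 : ∀ χ : Cfsg.IrrCharacter G, χ ∉ B → W χ = 0 := by
    intro χ hχ
    have hsq : ∀ ψ : Cfsg.IrrCharacter G, W ψ * (starRingEnd ℂ) (W ψ) = ((Complex.normSq (W ψ) : ℝ) : ℂ) :=
      fun ψ => Complex.mul_conj _
    have hBsum : ∑ ψ ∈ B, W ψ * (starRingEnd ℂ) (W ψ) = (Y.card : ℂ) * Nat.card C := by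
      have hc : ∀ ψ ∈ B, W ψ * (starRingEnd ℂ) (W ψ) = (Y.card : ℂ) * Y.card := fun ψ hψ => by
        rw [hWB ψ hψ, map_mul, map_natCast, map_intCast, mul_mul_mul_comm, hbsq ψ hψ, mul_one]
      rw [Finset.sum_congr rfl hc, hsum, ← hYcard]
      push_cast; ring
    have hrest : ∑ ψ ∈ Finset.univ \ B, (Complex.normSq (W ψ) : ℝ) = 0 := by
      have h := htot
      rw [← Finset.sum_sdiff (Finset.subset_univ B), hBsum, add_eq_right] at h
      simp only [hsq] at h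
      exact_mod_cast h
    exact Complex.normSq_eq_zero.mp ((Finset.sum_eq_zero_iff_of_nonneg
      fun ψ _ => Complex.normSq_nonneg (W ψ)).mp hrest χ (by simp [hχ]))
  -- the class algebra
  obtain ⟨t, htP, ht1, htJ⟩ : ∃ t ∈ (P : Subgroup G), t ≠ 1 ∧ t ≠ J := by
    by_contra hh
    push Not at hh
    have hle : (P : Subgroup G) ≤ Subgroup.zpowers J := fun x hx => by
      by_cases h1 : x = 1
      · rw [h1]; exact one_mem _
      · rw [hh x hx h1]; exact Subgroup.mem_zpowers J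
    have h2 := Subgroup.card_dvd_of_le hle
    rw [hP4, Nat.card_zpowers, hJ2] at h2
    norm_num at h2
  have hcount := Cfsg.Lib.ZStar.card_invol_pairs P hK hJ2 hJ htP ht1 htJ
  set O₁ := (Cfsg.Lib.ZStar.centOrbit J t).card
  set O₂ := (Cfsg.Lib.ZStar.centOrbit J (J * t)).card
  set cC : ℕ := Nat.card C with hcCdef
  set cP := Nat.card (Subgroup.centralizer ((P : Subgroup G) : Set G)) with hcPdef
  have hPcent : ∀ x ∈ (P : Subgroup G), x ≠ 1 → x ≠ J →
      Nat.card (Subgroup.centralizer ({J, x} : Set G)) = cP := by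
    intro x hx hx1 hxJ
    rw [hcPdef]
    congr 3
    refine le_antisymm (fun c hc => ?_) (Subgroup.centralizer_le (by
      simp only [Set.insert_subset_iff, Set.singleton_subset_iff, SetLike.mem_coe]; exact ⟨hJ, hx⟩))
    show c ∈ Subgroup.centralizer ((P : Subgroup G) : Set G)
    rw [Subgroup.mem_centralizer_iff] at hc ⊢
    have e1 : Commute J c := hc J (Set.mem_insert _ _)
    have e2 : Commute x c := hc x (Set.mem_insert_of_mem _ rfl)
    intro a ha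
    rcases Cfsg.Lib.ZStar.klein_cases hK hJ hx hJ1 hx1 (Ne.symm hxJ) a ha with rfl | rfl | rfl | rfl
    · exact (Commute.one_left c).eq
    · exact e1.eq
    · exact e2.eq
    · exact (e1.mul_left e2).eq
  have hO₁ : O₁ * cP = cC := by
    rw [← hPcent t htP ht1 htJ]; exact Cfsg.Lib.ZStar.card_centOrbit J t
  have hO₂ : O₂ * cP = cC := by
    rw [← hPcent (J * t) (mul_mem hJ htP) (fun e => htJ (by
      rw [← inv_eq_of_mul_eq_one_right e,
        inv_eq_of_mul_eq_one_right (Cfsg.Lib.ZStar.klein_sq hK hJ)])) (fun e => ht1 (mul_eq_left.mp e))]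
    exact Cfsg.Lib.ZStar.card_centOrbit J (J * t)
  set k : ℂ := ((Subgroup.centralizer ({J} : Set G)).index : ℂ) with hkdef
  have hKel := Cfsg.Lib.Blocks.isClassElt_classSum (G := G) ℂ J
  have hco : ∀ g : G, (Cfsg.Lib.Blocks.classSum ℂ J * Cfsg.Lib.Blocks.classSum ℂ J).coeff g =
      ((Finset.univ.filter fun a : G => orderOf a = 2 ∧ orderOf (a⁻¹ * g) = 2).card : ℂ) := by
    intro g
    rw [Cfsg.Lib.Blocks.gr_mul_apply, ← Finset.sum_boole]
    refine Finset.sum_congr rfl fun a _ => ?_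
    have hiff : ∀ x : G, IsConj J x ↔ orderOf x = 2 := fun x => ⟨fun h => by
      obtain ⟨c, rfl⟩ := isConj_iff.mp h
      rw [Cfsg.Lib.ZStar.orderOf_conjugate', hJ2], fun h => hone J x hJ2 h⟩
    simp only [Cfsg.Lib.Blocks.coeff_classSum, hiff, ite_mul, one_mul, zero_mul, ← ite_and]
  have hN : ((O₁ * O₂ + O₂ * O₁ : ℕ) : ℂ) =
      (Nat.card G : ℂ)⁻¹ * (k ^ 2 * ((Y.card : ℂ) *
        (1 + (ε₁ : ℂ) / (χ₁ : G → ℂ) 1 + (ε₂ : ℂ) / (χ₂ : G → ℂ) 1 + (ε₃ : ℂ) / (χ₃ : G → ℂ) 1))) := by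
    rw [← hcount, Nat.cast_sum, Finset.sum_congr rfl fun y _ =>
      (hco (J * y)).symm.trans (Cfsg.Lib.Blocks.coeff_eq_sum_omega (hKel.mul hKel) (J * y)), ← Finset.mul_sum]
    congr 1
    rw [Finset.sum_comm, Finset.sum_congr rfl (g := fun χ : Cfsg.IrrCharacter G =>
      k ^ 2 * ((b χ : ℂ) ^ 2 / (χ : G → ℂ) 1) * (starRingEnd ℂ) (W χ)) fun χ _ => ?_]
    · rw [← Finset.sum_subset (Finset.subset_univ B) fun χ _ hχ => by rw [hW0 χ hχ, map_zero, mul_zero],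
        Finset.sum_congr rfl (g := fun χ : Cfsg.IrrCharacter G =>
          k ^ 2 * ((Y.card : ℂ) * ((b χ : ℂ) / (χ : G → ℂ) 1))) fun χ hχ => by
          rw [hWB χ hχ, map_mul, map_natCast, map_intCast]
          linear_combination (k ^ 2 * (Y.card : ℂ) * (b χ : ℂ) / (χ : G → ℂ) 1) * hbsq χ hχ,
        hsum, hbT, hb1, hb2, hb3, hTdef, Cfsg.Lib.ZStar.triv_apply]
      push_cast; ring
    · have h1 : (χ : G → ℂ) 1 ≠ 0 := χ.2.one_ne_zero
      simp only [W, map_sum, Finset.mul_sum]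
      refine Finset.sum_congr rfl fun y _ => ?_
      rw [Cfsg.Lib.Blocks.omega_mul χ hKel hKel, Cfsg.Lib.Blocks.omega_classSum, Cfsg.centralChar, hbJ]
      field_simp
      ring
  -- arithmetic
  have hdeg : ∀ χ : Cfsg.IrrCharacter G, (χ : G → ℂ) 1 = ((Cfsg.charDegree (χ : G → ℂ) : ℕ) : ℂ) ∧
      0 < Cfsg.charDegree (χ : G → ℂ) := by
    intro χ
    obtain ⟨n, hn, hn'⟩ := χ.2.exists_degree_pos
    simp [Cfsg.charDegree, hn', hn]
  have hrel : (1 : ℚ) + ε₁ * Cfsg.charDegree (χ₁ : G → ℂ) + ε₂ * Cfsg.charDegree (χ₂ : G → ℂ) +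
      ε₃ * Cfsg.charDegree (χ₃ : G → ℂ) = 0 := by
    have h := hF.orth 1 J 1 J (Cfsg.Lib.ZStar.isPPart_one (by simp))
      (Cfsg.Lib.ZStar.isPPart_self ⟨1, by rw [hJ2, pow_one]⟩)
      (fun h => hJ1 (isConj_one_right.mp h)) _ (Cfsg.Lib.ZStar.isPBlock_principal M)
    rw [← Cfsg.Lib.Blocks.kerB_eq_finsum, Cfsg.Lib.Blocks.kerB_eq_filter, ← hBdef,
      inv_eq_of_mul_eq_one_right (Cfsg.Lib.ZStar.klein_sq hK hJ), hsum] at h
    simp only [hbJ, hbT, hb1, hb2, hb3, (hdeg χ₁).1, (hdeg χ₂).1, (hdeg χ₃).1,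
      show (T : G → ℂ) 1 = 1 from rfl] at h
    have h' : (((1 : ℚ) + ε₁ * Cfsg.charDegree (χ₁ : G → ℂ) + ε₂ * Cfsg.charDegree (χ₂ : G → ℂ) +
        ε₃ * Cfsg.charDegree (χ₃ : G → ℂ) : ℚ) : ℂ) = 0 := by
      push_cast at h ⊢
      linear_combination h
    exact_mod_cast h'
  have hne : ∀ (χ : Cfsg.IrrCharacter G) (ε : ℤ), (ε = 1 ∨ ε = -1) → (χ : G → ℂ) J = ε →
      (Cfsg.charDegree (χ : G → ℂ) : ℚ) + ε ≠ 0 := by
    intro χ ε he hv h
    rcases he with rfl | rfl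
    · push_cast at h
      have : (0 : ℚ) ≤ (Cfsg.charDegree (χ : G → ℂ) : ℚ) := Nat.cast_nonneg _
      linarith
    · have h1 : (Cfsg.charDegree (χ : G → ℂ) : ℚ) = 1 := by push_cast at h; linarith
      have h1' : (χ : G → ℂ) 1 = 1 := by rw [(hdeg χ).1, show Cfsg.charDegree (χ : G → ℂ) = 1 by exact_mod_cast h1]; simp
      obtain ⟨lam, hlam⟩ := Cfsg.Lib.Characters.exists_hom_of_degree_one χ.2.isCharacter h1'
      have hcl : ∀ x : G, orderOf x = 2 → (lam x : ℂ) = -1 := by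
        intro x hx
        rw [← congr_fun hlam x, Cfsg.Lib.Characters.isClassFunction_iff_isConj.mp χ.2.isClassFunction x J
          (hone x J hx hJ2), hv]
        push_cast; rfl
      have e := hcl (J * t) (Cfsg.Lib.ZStar.klein_orderOf hK (mul_mem hJ htP) (fun e => htJ (by
        rw [← inv_eq_of_mul_eq_one_right e,
          inv_eq_of_mul_eq_one_right (Cfsg.Lib.ZStar.klein_sq hK hJ)])))
      rw [map_mul, Units.val_mul, hcl J hJ2, hcl t (Cfsg.Lib.ZStar.klein_orderOf hK htP ht1)] at e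
      norm_num at e
  have hcP0 : (cP : ℚ) ≠ 0 := Nat.cast_ne_zero.mpr Nat.card_pos.ne'
  have hGk : (Nat.card G : ℚ) = (cC : ℚ) * (Subgroup.centralizer ({J} : Set G)).index := by
    exact_mod_cast (Subgroup.card_mul_index C).symm
  have hk0 : ((Subgroup.centralizer ({J} : Set G)).index : ℚ) ≠ 0 :=
    Nat.cast_ne_zero.mpr Subgroup.FiniteIndex.index_ne_zero
  set d₁ := (Cfsg.charDegree (χ₁ : G → ℂ) : ℚ) with hd₁
  set d₂ := (Cfsg.charDegree (χ₂ : G → ℂ) : ℚ) with hd₂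
  set d₃ := (Cfsg.charDegree (χ₃ : G → ℂ) : ℚ) with hd₃
  have hNQ : ((O₁ * O₂ + O₂ * O₁ : ℕ) : ℚ) = (Nat.card G : ℚ)⁻¹ *
      (((Subgroup.centralizer ({J} : Set G)).index : ℚ) ^ 2 * ((Y.card : ℚ) *
        (1 + ε₁ / d₁ + ε₂ / d₂ + ε₃ / d₃))) := by
    rw [(hdeg χ₁).1, (hdeg χ₂).1, (hdeg χ₃).1] at hN
    have h' : (((O₁ * O₂ + O₂ * O₁ : ℕ) : ℚ) : ℂ) = (((Nat.card G : ℚ)⁻¹ *
        (((Subgroup.centralizer ({J} : Set G)).index : ℚ) ^ 2 * ((Y.card : ℚ) *
          (1 + ε₁ / d₁ + ε₂ / d₂ + ε₃ / d₃))) : ℚ) : ℂ) := by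
      simp only [hd₁, hd₂, hd₃]
      push_cast at hN ⊢
      exact hN
    exact_mod_cast h'
  have hY4 : (cC : ℚ) = 4 * Y.card := by exact_mod_cast hYcard.symm
  have hO₁' : (cC : ℚ) = O₁ * cP := by exact_mod_cast hO₁.symm
  have hO₂' : (cC : ℚ) = O₂ * cP := by exact_mod_cast hO₂.symm
  have hA : (d₁ + ε₁) * (d₂ + ε₂) * (d₃ + ε₃) = d₁ * d₂ * d₃ * (1 + ε₁ / d₁ + ε₂ / d₂ + ε₃ / d₃) := by
    have n1 : d₁ ≠ 0 := Nat.cast_ne_zero.mpr (hdeg χ₁).2.ne'
    have n2 : d₂ ≠ 0 := Nat.cast_ne_zero.mpr (hdeg χ₂).2.ne'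
    have n3 : d₃ ≠ 0 := Nat.cast_ne_zero.mpr (hdeg χ₃).2.ne'
    have s1 : (ε₁ : ℚ) * ε₁ = 1 := by rcases hε.1 with e | e <;> rw [e] <;> norm_num
    have s2 : (ε₂ : ℚ) * ε₂ = 1 := by rcases hε.2.1 with e | e <;> rw [e] <;> norm_num
    have s3 : (ε₃ : ℚ) * ε₃ = 1 := by rcases hε.2.2 with e | e <;> rw [e] <;> norm_num
    field_simp
    linear_combination (ε₁ : ℚ) * ε₂ * ε₃ * hrel - (d₁ * ε₂ * ε₃) * s1 - (d₂ * ε₁ * ε₃) * s2 -
      (d₃ * ε₁ * ε₂) * s3
  have hpos : (d₁ + ε₁) * (d₂ + ε₂) * (d₃ + ε₃) ≠ 0 :=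
    mul_ne_zero (mul_ne_zero (hne χ₁ ε₁ hε.1 hval.1) (hne χ₂ ε₂ hε.2.1 hval.2.1)) (hne χ₃ ε₃ hε.2.2 hval.2.2)
  rw [← mul_div_assoc, div_mul_eq_mul_div, div_div, eq_div_iff (mul_ne_zero hpos (pow_ne_zero 2 hcP0))]
  set k' := ((Subgroup.centralizer ({J} : Set G)).index : ℚ)
  set S := 1 + (ε₁ : ℚ) / d₁ + ε₂ / d₂ + ε₃ / d₃
  rw [hA, hGk]
  have hcC0 : (cC : ℚ) ≠ 0 := Nat.cast_ne_zero.mpr Nat.card_pos.ne'
  have hkey : k' * S * (cP : ℚ) ^ 2 = 8 * (cC : ℚ) ^ 2 := by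
    rw [hGk] at hNQ
    push_cast at hNQ
    field_simp at hNQ
    have h2 : (cP : ℚ) ^ 2 * (4 * (O₁ * O₂ + O₂ * O₁) * cC) = 8 * (cC : ℚ) ^ 3 := by
      linear_combination (-8 * (cC : ℚ) * O₂ * cP) * hO₁' + (-8 * (cC : ℚ) ^ 2) * hO₂'
    refine mul_right_cancel₀ hcC0 ?_
    linear_combination h2 - 4 * (cP : ℚ) ^ 2 * hNQ + (cP : ℚ) ^ 2 * k' * S * hY4
  linear_combination d₁ * d₂ * d₃ * (cC : ℚ) * hkey

end Cfsg.Agent.S4479
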