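import Cfsg.Statements.S3277
import Cfsg.Agent.S4479
import Cfsg.Agent.S0111
import Cfsg.Agent.Lib.ZStar.Klein
import Cfsg.Agent.Lib.ZStar.KleinFusion
import Cfsg.Agent.Lib.Blocks.Exists
import Cfsg.Agent.Lib.Solv.Cores
import Cfsg.Agent.Lib.Transfer.Action
import Cfsg.Agent.Lib.Transfer.NormalPComplement
-- import your own Cfsg.Agent.* helpers here

set_option autoImplicit false
open Cfsg

namespace Cfsg.Agent.S3277

open Cfsg.Lib.ZStar
open scoped Classical

variable {G : Type*} [Group G] [Finite G]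

/-- Coatoms of a 2-group contain the commutator subgroup. -/
theorem commutator_le_of_isCoatom {P : Type*} [Group P] [Finite P] (hP : IsPGroup 2 P) {M : Subgroup P}
    (hM : IsCoatom M) : commutator P ≤ M := by
  haveI : Fact (Nat.Prime 2) := ⟨Nat.prime_two⟩
  haveI := hP.isNilpotent
  haveI : M.Normal := Subgroup.NormalizerCondition.normal_of_coatom M Group.normalizerCondition_of_isNilpotent hM
  haveI : Nontrivial (P ⧸ M) := by
    refine Finite.one_lt_card_iff_nontrivial.mp ?_
    rw [← M.index_eq_card]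
    have := M.index_ne_zero_of_finite
    have : M.index ≠ 1 := fun e => hM.1 (Subgroup.index_eq_one.mp e)
    omega
  obtain ⟨w, hw⟩ := exists_prime_orderOf_dvd_card' (G := P ⧸ M) 2 (by
    obtain ⟨j, hj0, hj⟩ := (hP.to_quotient M).nontrivial_iff_card.mp inferInstance
    rw [hj]; exact dvd_pow_self 2 hj0.ne')
  have hcp : (Subgroup.zpowers w).comap (QuotientGroup.mk' M) = ⊤ := by
    refine hM.2 _ ⟨fun m hm => ?_, fun hcon => ?_⟩
    · simp [(QuotientGroup.eq_one_iff m).mpr hm]
    · obtain ⟨y, hy⟩ := QuotientGroup.mk'_surjective M w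
      have hyM : y ∈ M := hcon (by simp [hy, Subgroup.mem_zpowers])
      rw [← hy, show (QuotientGroup.mk' M) y = 1 from (QuotientGroup.eq_one_iff y).mpr hyM,
        orderOf_one] at hw
      omega
  have htop : Subgroup.zpowers w = ⊤ := by
    rw [← Subgroup.comap_top (QuotientGroup.mk' M)] at hcp
    exact Subgroup.comap_injective (QuotientGroup.mk'_surjective M) hcp
  rw [commutator_def, Subgroup.commutator_le]
  intro a _ b _
  rw [← QuotientGroup.eq_one_iff, ← QuotientGroup.mk'_apply, map_commutatorElement, commutatorElement_eq_one_iff_mul_comm]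
  obtain ⟨i, hi⟩ := Subgroup.mem_zpowers_iff.mp (htop ▸ Subgroup.mem_top (QuotientGroup.mk' M a))
  obtain ⟨j, hj⟩ := Subgroup.mem_zpowers_iff.mp (htop ▸ Subgroup.mem_top (QuotientGroup.mk' M b))
  rw [← hi, ← hj, ← zpow_add, ← zpow_add, add_comm]

/-- A 2-group with cyclic abelianization is cyclic. -/
theorem zpowers_eq_top {P : Type*} [Group P] [Finite P] (hP : IsPGroup 2 P) {g : P}
    (h : ∀ a : P, QuotientGroup.mk' (commutator P) a ∈ Subgroup.zpowers (QuotientGroup.mk' (commutator P) g)) :
    Subgroup.zpowers g = ⊤ := by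
  by_contra hne
  obtain ⟨M, hM, hle⟩ := (eq_top_or_exists_le_coatom (Subgroup.zpowers g)).resolve_left hne
  refine hM.1 (eq_top_iff.mpr fun a _ => ?_)
  obtain ⟨i, hi⟩ := Subgroup.mem_zpowers_iff.mp (h a)
  rw [← map_zpow, QuotientGroup.mk'_apply, QuotientGroup.mk'_apply, QuotientGroup.eq] at hi
  have h1 := commutator_le_of_isCoatom hP hM hi
  have h2 : g ^ i ∈ M := hle (Subgroup.zpow_mem _ (Subgroup.mem_zpowers g) i)
  simpa [mul_assoc] using M.mul_mem h2 h1

/-- Without subgroups of index 2, the Klein four Sylow subgroup of an involution centralizer is Sylow. -/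
theorem sylow_eq (hno : ∀ M : Subgroup G, M.Normal → M.index ≠ 2) (x : G) (hx : orderOf x = 2) (S₀ : Subgroup G)
    (h4 : Nat.card S₀ = 4) (S : Sylow 2 G) (hS0 : S₀ ≤ (S : Subgroup G)) (hxS0 : x ∈ S₀)
    (hC : ∀ s ∈ (S : Subgroup G), s * x = x * s → s ∈ S₀)
    (h8 : ¬ 8 ∣ Nat.card (Subgroup.centralizer ({x} : Set G))) (hsq : ∀ s ∈ S₀, s * s = 1) :
    Nat.card (S : Subgroup G) = 4 := by
  haveI : Fact (Nat.Prime 2) := ⟨Nat.prime_two⟩
  by_contra hS4
  set P := ↥(S : Subgroup G)
  have hP : IsPGroup 2 P := S.isPGroup'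
  have hP8 : 8 ∣ Nat.card P := by
    obtain ⟨n, hn⟩ := hP.exists_card_eq
    have h1 : 4 ≤ Nat.card P := h4 ▸ Subgroup.card_le_of_le hS0
    rw [hn] at h1 hS4 ⊢
    have : 3 ≤ n := by
      rcases n with _ | _ | _ | n <;> simp_all
    exact pow_dvd_pow 2 this
  set X : P := ⟨x, hS0 hxS0⟩ with hX
  -- centralizers of conjugates
  have hcent : ∀ y : P, IsConj x (y : G) → ¬ 8 ∣ Nat.card (Subgroup.centralizer ({y} : Set P)) := by
    intro y hy h
    obtain ⟨c, hc⟩ := isConj_iff.mp hy
    let f : Subgroup.centralizer ({y} : Set P) →* Subgroup.centralizer ({x} : Set G) :=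
      { toFun := fun a => ⟨c⁻¹ * ((a : P) : G) * c, Subgroup.mem_centralizer_singleton_iff.mpr (by
          have e : ((a : P) : G) * y = y * ((a : P) : G) :=
            congrArg Subtype.val (Subgroup.mem_centralizer_singleton_iff.mp a.2)
          rw [← hc] at e
          calc c⁻¹ * ((a : P) : G) * c * x = c⁻¹ * (((a : P) : G) * (c * x * c⁻¹)) * c := by group
            _ = c⁻¹ * (c * x * c⁻¹ * ((a : P) : G)) * c := by rw [e]
            _ = x * (c⁻¹ * ((a : P) : G) * c) := by group)⟩
        map_one' := Subtype.ext (by simp)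
        map_mul' := fun a b => Subtype.ext (by
          show c⁻¹ * (((a : P) : G) * ((b : P) : G)) * c = c⁻¹ * ((a : P) : G) * c * (c⁻¹ * ((b : P) : G) * c)
          group) }
    have hinj : Function.Injective f := fun a b hab => by
      have e := congrArg Subtype.val hab
      exact Subtype.ext (Subtype.ext (by simpa [f] using e))
    exact h8 (h.trans (Subgroup.card_dvd_of_injective f hinj))
  obtain ⟨⟨z, hzc⟩, hz1⟩ : ∃ z : Subgroup.center P, z ≠ 1 := by
    haveI : Nontrivial P := Finite.one_lt_card_iff_nontrivial.mp (by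
      have := Nat.le_of_dvd Nat.card_pos hP8; omega)
    haveI := hP.center_nontrivial
    exact exists_ne 1
  have hzc' : ∀ a : P, a * z = z * a := Subgroup.mem_center_iff.mp hzc
  have hzS0 : (z : G) ∈ S₀ := hC _ z.2 (congrArg Subtype.val (hzc' X).symm)
  have hznc : ¬ IsConj x (z : G) := fun h => hcent z h (by
    rw [show Subgroup.centralizer ({z} : Set P) = ⊤ from eq_top_iff.mpr fun a _ =>
      Subgroup.mem_centralizer_singleton_iff.mpr (hzc' a), Subgroup.card_top]
    exact hP8)
  have hzx : z ≠ X := fun e => hznc (by rw [e])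
  -- the abelianization
  set D := commutator P
  set π := QuotientGroup.mk' D with hπ
  have hcomm : ∀ a b : P, a * b * a⁻¹ * b⁻¹ ∈ D := fun a b =>
    Subgroup.commutator_mem_commutator (Subgroup.mem_top a) (Subgroup.mem_top b)
  have hclass : ∀ y : P, IsConj x (y : G) →
      Nat.card P ≤ 4 * Nat.card (MulAction.orbit (ConjAct P) y) := by
    intro y hy
    haveI := Fintype.ofFinite P
    haveI := Fintype.ofFinite (ConjAct P)
    have h1 := MulAction.card_orbit_mul_card_stabilizer_eq_card_group (ConjAct P) y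
    rw [← Nat.card_eq_fintype_card, ← Nat.card_eq_fintype_card, ← Nat.card_eq_fintype_card,
      ConjAct.stabilizer_eq_centralizer, show Nat.card (ConjAct P) = Nat.card P from rfl] at h1
    change Nat.card (MulAction.orbit (ConjAct P) y) * Nat.card (Subgroup.centralizer ({y} : Set P)) = _ at h1
    obtain ⟨n, hn⟩ := (hP.to_subgroup (Subgroup.centralizer ({y} : Set P))).exists_card_eq
    have h2 : n ≤ 2 := by
      by_contra hn2
      exact hcent y hy (by rw [hn]; exact pow_dvd_pow 2 (show 3 ≤ n by omega))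
    rw [← h1, hn, mul_comm 4]
    exact Nat.mul_le_mul_left _ (by
      calc 2 ^ n ≤ 2 ^ 2 := Nat.pow_le_pow_right (by norm_num) h2
        _ = 4 := by norm_num)
  have horb : ∀ y : P, MulAction.orbit (ConjAct P) y ⊆ {a | π a = π y} := by
    rintro y _ ⟨a, rfl⟩
    show π (a • y) = π y
    rw [ConjAct.smul_def, hπ, QuotientGroup.mk'_apply, QuotientGroup.mk'_apply, eq_comm, QuotientGroup.eq]
    have := hcomm y⁻¹ (ConjAct.ofConjAct a)
    have e : (y⁻¹)⁻¹ = y := inv_inv y
    rw [e] at this
    simpa [mul_assoc] using this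
  have hfib : ∀ y : P, Nat.card {a : P | π a = π y} = Nat.card D := fun y => by
    refine Nat.card_congr
      { toFun := fun a => ⟨y⁻¹ * (a : P), by
          have := a.2
          simp only [hπ, Set.mem_ofPred_eq, QuotientGroup.mk'_apply] at this
          exact QuotientGroup.eq.mp this.symm⟩
        invFun := fun d => ⟨y * (d : P), by
          simp [hπ, (QuotientGroup.eq_one_iff (d : P)).mpr d.2]⟩
        left_inv := fun a => Subtype.ext (mul_inv_cancel_left _ _)
        right_inv := fun d => Subtype.ext (inv_mul_cancel_left _ _) }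
  have hidx : D.index ≤ 4 := by
    have h1 := hclass X (IsConj.refl x)
    have h2 := Nat.card_mono (Set.toFinite _) (horb X)
    rw [hfib] at h2
    have h3 := D.card_mul_index
    have h4 : 0 < Nat.card D := Nat.card_pos
    nlinarith
  have hncyc : ∀ g : P, Subgroup.zpowers g ≠ ⊤ := by
    intro g hg
    have hc : ∀ a b : P, a * b = b * a := fun a b => by
      obtain ⟨i, rfl⟩ := Subgroup.mem_zpowers_iff.mp (hg ▸ Subgroup.mem_top a)
      obtain ⟨j, rfl⟩ := Subgroup.mem_zpowers_iff.mp (hg ▸ Subgroup.mem_top b)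
      rw [← zpow_add, ← zpow_add, add_comm]
    refine hcent X (IsConj.refl x) ?_
    rw [show Subgroup.centralizer ({X} : Set P) = ⊤ from eq_top_iff.mpr fun a _ =>
      Subgroup.mem_centralizer_singleton_iff.mpr (hc a X), Subgroup.card_top]
    exact hP8
  have hord : ∀ g : P, π g ≠ 1 → orderOf (π g) = 2 ∧ D.index = 4 := by
    intro g hg
    have h1 : orderOf (π g) ∣ D.index := by rw [D.index_eq_card]; exact orderOf_dvd_natCard _
    have h2 : orderOf (π g) ≠ D.index := fun e => hncyc g (zpowers_eq_top hP fun a => by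
      have : Subgroup.zpowers (π g) = ⊤ := Subgroup.eq_top_of_card_eq _ (by rw [Nat.card_zpowers, e, D.index_eq_card])
      rw [this]; exact Subgroup.mem_top _)
    have h3 : orderOf (π g) ≠ 1 := fun e => hg (orderOf_eq_one_iff.mp e)
    have h4 := D.index_ne_zero_of_finite
    interval_cases hD : D.index
    · omega
    · exact absurd (Nat.dvd_one.mp h1) h3
    · rcases (Nat.dvd_prime Nat.prime_two).mp h1 with e | e <;> omega
    · rcases (Nat.dvd_prime Nat.prime_three).mp h1 with e | e <;> omega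
    · obtain ⟨k, hk, e⟩ := (Nat.dvd_prime_pow Nat.prime_two).mp (show orderOf (π g) ∣ 2 ^ 2 from h1)
      interval_cases k <;> simp_all
  have hfull : ∀ y : P, IsConj x (y : G) → ∀ a : P, π a = π y → IsConj x (a : G) := by
    intro y hy a ha
    have h2 := hfib y
    have hD4 : D.index = 4 := by
      by_cases hy1 : ∃ g : P, π g ≠ 1
      · exact (hord _ hy1.choose_spec).2
      · push Not at hy1
        exfalso
        refine hncyc 1 (zpowers_eq_top hP fun b => ?_)
        rw [← hπ, hy1 b]; exact one_mem _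
    have h3 : Nat.card D ≤ Nat.card (MulAction.orbit (ConjAct P) y) := by
      have := hclass y hy
      have := D.card_mul_index
      rw [hD4] at this
      omega
    have heq := (Set.toFinite {a : P | π a = π y}).eq_of_subset_of_card_le (horb y) (by rw [h2]; exact h3)
    have ha' : a ∈ MulAction.orbit (ConjAct P) y := heq ▸ ha
    obtain ⟨c, rfl⟩ := ha'
    exact hy.trans (isConj_iff.mpr ⟨((ConjAct.ofConjAct c : P) : G), rfl⟩)
  have hall : ∀ g : P, π g ≠ 1 → IsConj x (g : G) := by
    intro g hg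
    obtain ⟨ho, hD4⟩ := hord g hg
    set Q := ((Subgroup.zpowers (π g)).comap π).map (S : Subgroup G).subtype
    have hQi : Q.relIndex (S : Subgroup G) = 2 := by
      rw [Subgroup.relIndex, Subgroup.subgroupOf, Subgroup.comap_map_eq_self_of_injective (Subgroup.subtype_injective _),
        Subgroup.index_comap_of_surjective _ (QuotientGroup.mk'_surjective D)]
      have h1 := (Subgroup.zpowers (π g)).card_mul_index
      rw [Nat.card_zpowers, ho, ← D.index_eq_card, hD4] at h1
      omega
    obtain ⟨y, hyQ, hy⟩ : ∃ y : P, π y ∈ Subgroup.zpowers (π g) ∧ IsConj x (y : G) := by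
      by_cases hxQ : π X ∈ Subgroup.zpowers (π g)
      · exact ⟨X, hxQ, IsConj.refl x⟩
      · rcases Cfsg.Agent.S0111.result S Q (Subgroup.map_subtype_le _) hQi x hx X.2
          (fun h => by
            obtain ⟨a, ha, e⟩ := h
            exact hxQ (by rw [show X = a from Subtype.ext e.symm]; exact ha)) with ⟨M, hMn, hMi, -⟩ | ⟨c, hc⟩
        · exact absurd hMi (hno M hMn)
        · obtain ⟨a, ha, e⟩ := hc
          exact ⟨a, ha, isConj_iff.mpr ⟨c, e.symm⟩⟩
    have hy1 : π y ≠ 1 := fun e => by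
      have h := hfull y hy 1 (by rw [e, map_one])
      rw [OneMemClass.coe_one, isConj_one_left] at h
      simp [h] at hx
    obtain ⟨i, hi⟩ := Subgroup.mem_zpowers_iff.mp hyQ
    refine hfull y hy g ?_
    rw [← hi]
    have hsq2 : π g ^ (2 : ℤ) = 1 := by
      have := pow_orderOf_eq_one (π g)
      rw [ho] at this
      exact_mod_cast this
    rcases Int.even_or_odd i with ⟨j, rfl⟩ | ⟨j, rfl⟩
    · exfalso
      apply hy1
      rw [← hi, ← two_mul, zpow_mul, hsq2, one_zpow]
    · rw [zpow_add_one, zpow_mul, hsq2, one_zpow, one_mul]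
  have hzD : π z = 1 := by_contra fun h => hznc (hall z h)
  have hXD : π X ≠ 1 := fun e => by
    have h := hfull X (IsConj.refl x) 1 (by rw [e, map_one])
    rw [OneMemClass.coe_one, isConj_one_left] at h
    simp [h] at hx
  obtain ⟨hoX, hD4⟩ := hord X hXD
  obtain ⟨q, hq⟩ : ∃ q : P ⧸ D, q ∉ Subgroup.zpowers (π X) := by
    by_contra h
    push Not at h
    have h1 := Subgroup.card_top (G := P ⧸ D)
    rw [← eq_top_iff.mpr (fun q _ => h q), Nat.card_zpowers, hoX, ← D.index_eq_card, hD4] at h1
    omega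
  obtain ⟨b, rfl⟩ := QuotientGroup.mk'_surjective D q
  have hinv : ∀ a : P, π a ≠ 1 → (a : G) * a = 1 := fun a ha => by
    obtain ⟨c, hc⟩ := isConj_iff.mp (hall a ha)
    have h2 : x * x = 1 := hsq x hxS0
    rw [← hc]
    calc c * x * c⁻¹ * (c * x * c⁻¹) = c * (x * x) * c⁻¹ := by group
      _ = 1 := by rw [h2]; group
  have hb : π b ≠ 1 := fun e => hq (by rw [← hπ, e]; exact one_mem _)
  have hbx : π (X * b) ≠ 1 := fun e => hq (by
    rw [map_mul, mul_eq_one_iff_inv_eq] at e
    rw [← hπ, ← e]; exact Subgroup.inv_mem _ (Subgroup.mem_zpowers _))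
  have hbS0 : (b : G) ∈ S₀ := hC _ b.2 (by
    have h1 : x * x = 1 := hsq x hxS0
    have h2 := hinv b hb
    have h3 : x * b * (x * b) = 1 := hinv (X * b) hbx
    calc (b : G) * x = x * x * (b * x) * (b * b) := by rw [h1, h2, one_mul, mul_one]
      _ = x * (x * b * (x * b)) * b := by group
      _ = x * b := by rw [h3, mul_one])
  -- the four group is `1, x, z, xz`
  have hx1 : x ≠ 1 := fun e => by simp [e] at hx
  have hK : IsKleinFour ↥S₀ := ⟨h4, by
    haveI : Nontrivial S₀ := ⟨⟨x, hxS0⟩, 1, fun e => hx1 (congrArg Subtype.val e)⟩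
    exact ((Nat.dvd_prime Nat.prime_two).mp (Monoid.exponent_dvd_of_forall_pow_eq_one
      fun a : S₀ => by rw [sq]; exact Subtype.ext (hsq a a.2))).resolve_left
      fun e => not_subsingleton S₀ (Monoid.exp_eq_one_iff.mp e)⟩
  have hz1' : (z : G) ≠ 1 := fun e => hz1 (Subtype.ext (Subtype.ext e))
  rcases klein_cases hK hxS0 hzS0 hx1 hz1' (fun e => hzx (Subtype.ext e.symm)) (b : G) hbS0 with e | e | e | e
  · exact hb (by rw [show b = 1 from Subtype.ext e, map_one])
  · exact hq (by rw [show b = X from Subtype.ext e]; exact Subgroup.mem_zpowers _)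
  · exact hb (by rw [show b = z from Subtype.ext e]; exact hzD)
  · refine hq ?_
    rw [show b = X * z from Subtype.ext e, ← hπ, map_mul, hzD, mul_one]
    exact Subgroup.mem_zpowers _


theorem complement_of_card_two (S : Sylow 2 G) (h : Nat.card (S : Subgroup G) = 2) :
    Cfsg.HasNormalPComplement 2 G := by
  haveI : Fact (Nat.Prime 2) := ⟨Nat.prime_two⟩
  refine Cfsg.Lib.Transfer.hasNormalPComplement_of_normalizer_le_centralizer S fun n hn => ?_
  refine Subgroup.mem_centralizer_iff.mpr fun s hs => ?_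
  by_cases hs1 : s = 1
  · rw [hs1, one_mul, mul_one]
  have h1 : n * s * n⁻¹ ∈ (S : Subgroup G) := (Subgroup.mem_normalizer_iff.mp hn s).mp hs
  obtain ⟨u, v, huv, huniv⟩ := Nat.card_eq_two_iff.mp h
  have hmem : ∀ w : (S : Subgroup G), w = u ∨ w = v := fun w => by
    have : w ∈ ({u, v} : Set (S : Subgroup G)) := huniv ▸ Set.mem_univ w
    exact this
  have he : n * s * n⁻¹ = s := by
    have hne : (⟨n * s * n⁻¹, h1⟩ : (S : Subgroup G)) ≠ 1 := fun e =>
      hs1 (conj_eq_one_iff.mp (congrArg Subtype.val e))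
    have hne' : (⟨s, hs⟩ : (S : Subgroup G)) ≠ 1 := fun e => hs1 (congrArg Subtype.val e)
    rcases hmem 1 with a | a <;> rcases hmem ⟨n * s * n⁻¹, h1⟩ with b | b <;>
      rcases hmem ⟨s, hs⟩ with c | c <;>
      first
        | exact congrArg Subtype.val (b.trans c.symm)
        | exact absurd (b.trans a.symm) hne
        | exact absurd (c.trans a.symm) hne'
  exact (mul_inv_eq_iff_eq_mul.mp he).symm

/-- An involution with elementary abelian centralizer of order four lies in every subgroup of index two. -/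
theorem outer (x : G) (hx : orderOf x = 2)
    (hK : IsKleinFour (Subgroup.centralizer ({x} : Set G)))
    (hnc : ¬ Cfsg.HasNormalPComplement 2 G)
    (hO : ∀ Q : Subgroup G, Q.Normal → IsPGroup 2 Q → Q = ⊥)
    (M : Subgroup G) [M.Normal] (hM : M.index = 2) : x ∈ M := by
  haveI : Fact (Nat.Prime 2) := ⟨Nat.prime_two⟩
  by_contra hxM
  set C := Subgroup.centralizer ({x} : Set G) with hC
  have hxC : x ∈ C := Subgroup.mem_centralizer_singleton_iff.mpr rfl
  have hx1 : x ≠ 1 := fun e => by simp [e] at hx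
  have hxx : x * x = 1 := klein_sq hK hxC
  obtain ⟨z, hzC, hzM, hz1⟩ : ∃ z ∈ C, z ∈ M ∧ z ≠ 1 := by
    obtain ⟨c, hc1, hcx⟩ : ∃ c : C, c ≠ 1 ∧ c ≠ ⟨x, hxC⟩ := by
      by_contra h
      push Not at h
      have h1 : Nat.card C ≤ ({1, ⟨x, hxC⟩} : Set C).ncard := by
        rw [← Set.ncard_univ]
        exact Set.ncard_le_ncard (fun u _ => by
          by_cases hu : u = 1
          · exact Or.inl hu
          · exact Or.inr (h u hu))
      rw [hK.card_four] at h1
      have := Set.ncard_insert_le (1 : C) {⟨x, hxC⟩}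
      rw [Set.ncard_singleton] at this
      omega
    by_cases hcM : (c : G) ∈ M
    · exact ⟨c, c.2, hcM, fun e => hc1 (Subtype.ext e)⟩
    · refine ⟨x * c, C.mul_mem hxC c.2, (Subgroup.mul_mem_iff_of_index_two hM).mpr (iff_of_false hxM hcM),
        fun e => hcx (Subtype.ext ?_)⟩
      show (c : G) = x
      rw [← mul_one x, ← e, ← mul_assoc, hxx, one_mul]
  have hxz : x ≠ z := fun e => hxM (e ▸ hzM)
  have hcases : ∀ c ∈ C, c = 1 ∨ c = x ∨ c = z ∨ c = x * z :=
    klein_cases hK hxC hzC hx1 hz1 hxz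
  obtain ⟨S, hS⟩ := (IsPGroup.of_card (p := 2) (n := 2) (show Nat.card C = 2 ^ 2 by
    rw [hK.card_four]; norm_num)).exists_le_sylow
  -- the Sylow subgroup is larger than the centralizer
  have hlt : ¬ (S : Subgroup G) ≤ C := by
    intro hle
    have hS4 : Nat.card (S : Subgroup G) = 4 := by rw [le_antisymm hle hS, hK.card_four]
    apply hnc
    refine Cfsg.Lib.Transfer.hasNormalPComplement_of_pResidual M
      (Cfsg.Lib.Transfer.pResidual_le_of_index_eq_pow M (k := 1) (by rw [hM, pow_one])) ?_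
    obtain ⟨T⟩ : Nonempty (Sylow 2 M) := inferInstance
    refine complement_of_card_two T ?_
    rw [T.card_eq_multiplicity]
    have h1 : (Nat.card G).factorization 2 = 2 := by
      have := S.card_eq_multiplicity
      rw [hS4] at this
      exact (Nat.pow_right_injective le_rfl (show (2 : ℕ) ^ 2 = 2 ^ _ by simpa using this)).symm
    rw [← M.card_mul_index, hM, Nat.factorization_mul Nat.card_pos.ne' two_ne_zero,
      Finsupp.add_apply, Nat.prime_two.factorization_self] at h1
    rw [show (Nat.card M).factorization 2 = 1 by omega, pow_one]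
  obtain ⟨y, hyN, hyC⟩ : ∃ y : G, y ∈ Subgroup.normalizer (C : Set G) ∧ y ∉ C := by
    haveI := S.isPGroup'.isNilpotent
    have hne : C.subgroupOf (S : Subgroup G) ≠ ⊤ := fun h => hlt (Subgroup.subgroupOf_eq_top.mp h)
    obtain ⟨y, hy, hy'⟩ := SetLike.exists_of_lt
      (Group.normalizerCondition_of_isNilpotent (C.subgroupOf (S : Subgroup G)) (lt_top_iff_ne_top.mpr hne))
    refine ⟨y, Subgroup.mem_normalizer_iff.mpr fun c => ⟨fun hc => ?_, fun hc => ?_⟩, hy'⟩
    · exact (Subgroup.mem_normalizer_iff.mp hy ⟨c, hS hc⟩).mp hc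
    · have hcS : c ∈ (S : Subgroup G) := by
        have := (S : Subgroup G).mul_mem ((S : Subgroup G).mul_mem ((S : Subgroup G).inv_mem y.2) (hS hc)) y.2
        simpa [mul_assoc] using this
      exact (Subgroup.mem_normalizer_iff.mp hy ⟨c, hcS⟩).mpr hc
  have hyx : y * x * y⁻¹ = x * z := by
    have h1 : y * x * y⁻¹ ∉ M := fun h => hxM (by
      have := Subgroup.Normal.conj_mem inferInstance _ h y⁻¹
      simpa [mul_assoc] using this)
    rcases hcases _ ((Subgroup.mem_normalizer_iff.mp hyN x).mp hxC) with e | e | e | e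
    · exact absurd (e ▸ M.one_mem) h1
    · exact absurd (Subgroup.mem_centralizer_singleton_iff.mpr (mul_inv_eq_iff_eq_mul.mp e)) hyC
    · exact absurd (e ▸ hzM) h1
    · exact e
  have hcomm : ∀ a ∈ M, a * a = 1 → a * z = z * a := by
    intro a ha haa
    have hkey : a * x = x * a → a * z = z * a := fun h =>
      klein_commute hK (Subgroup.mem_centralizer_singleton_iff.mpr h) hzC
    have hu : x * (x * a) * x⁻¹ = (x * a)⁻¹ := by
      rw [mul_inv_rev, ← mul_assoc, hxx, one_mul, inv_eq_of_mul_eq_one_left haa]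
    obtain ⟨n, hn⟩ : Even (orderOf (x * a)) := by
      rw [← Nat.not_odd_iff_even]
      rintro ⟨j, hj⟩
      refine hxM ?_
      have h1 : (x * a) ^ (2 * j) ∈ M := by
        rw [pow_mul]; exact M.pow_mem (Subgroup.sq_mem_of_index_two hM _) j
      have h2 : x * a ∈ M := by
        have h3 := pow_orderOf_eq_one (x * a)
        rw [hj, pow_succ] at h3
        rw [← inv_eq_of_mul_eq_one_right h3]
        exact M.inv_mem h1
      have := M.mul_mem h2 (M.inv_mem ha)
      simpa using this
    set v := (x * a) ^ n with hv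
    have hvv : v * v = 1 := by rw [hv, ← pow_add, ← hn, pow_orderOf_eq_one]
    have hv1 : v ≠ 1 := fun e => by
      have hpos := orderOf_pos (x * a)
      have := Nat.le_of_dvd (by omega) (orderOf_dvd_of_pow_eq_one e)
      omega
    have hvC : v ∈ C := by
      refine Subgroup.mem_centralizer_singleton_iff.mpr (mul_inv_eq_iff_eq_mul.mp ?_).symm
      rw [hv, ← conj_pow, hu, inv_pow]
      exact inv_eq_of_mul_eq_one_left hvv
    have hvu : Commute (x * a) v := Commute.self_pow _ _
    rcases hcases v hvC with e | e | e | e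
    · exact absurd e hv1
    · rw [e] at hvu
      refine hkey ?_
      have h2 : x * a * x = x * (x * a) := hvu.eq
      rw [mul_assoc, mul_left_cancel_iff] at h2
      exact h2
    · rw [e] at hvu
      have h2 : Commute (x * (x * a)) z :=
        (show Commute x z from klein_commute hK hxC hzC).mul_left hvu
      rwa [← mul_assoc, hxx, one_mul] at h2
    · rw [e] at hvu
      have hmem : y⁻¹ * (x * a) * y ∈ C := by
        refine Subgroup.mem_centralizer_singleton_iff.mpr ?_
        rw [← hyx] at hvu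
        calc y⁻¹ * (x * a) * y * x = y⁻¹ * ((x * a) * (y * x * y⁻¹)) * y := by group
          _ = y⁻¹ * ((y * x * y⁻¹) * (x * a)) * y := by rw [hvu.eq]
          _ = x * (y⁻¹ * (x * a) * y) := by group
      have h2 := klein_sq hK hmem
      have h3 : x * a * (x * a) = 1 := by
        calc x * a * (x * a) = y * (y⁻¹ * (x * a) * y * (y⁻¹ * (x * a) * y)) * y⁻¹ := by group
          _ = 1 := by rw [h2]; group
      refine hkey ?_
      calc a * x = (x * x) * (a * x) * (a * a) := by rw [hxx, haa, one_mul, mul_one]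
        _ = x * (x * a * (x * a)) * a := by group
        _ = x * a := by rw [h3, mul_one]
  have hconjM : ∀ g : G, g * z * g⁻¹ ∈ M ∧ g * z * g⁻¹ * (g * z * g⁻¹) = 1 := fun g =>
    ⟨Subgroup.Normal.conj_mem inferInstance z hzM g, by
      have hzz : z * z = 1 := klein_sq hK hzC
      calc g * z * g⁻¹ * (g * z * g⁻¹) = g * (z * z) * g⁻¹ := by group
        _ = 1 := by rw [hzz]; group⟩
  have hpair : ∀ g h : G, Commute (g * z * g⁻¹) (h * z * h⁻¹) := by
    intro g h
    have h1 : Commute ((h⁻¹ * g) * z * (h⁻¹ * g)⁻¹) z := hcomm _ (hconjM _).1 (hconjM _).2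
    have h2 := h1.map (MulAut.conj h).toMonoidHom
    simpa [mul_assoc] using h2
  let W := Subgroup.normalClosure ({z} : Set G)
  have hWc : ∀ g : G, W ≤ Subgroup.centralizer ({g * z * g⁻¹} : Set G) := by
    intro g
    refine (Subgroup.closure_le _).mpr fun t ht => ?_
    obtain ⟨_, rfl, hconj⟩ := Group.mem_conjugatesOfSet_iff.mp ht
    obtain ⟨h, rfl⟩ := isConj_iff.mp hconj
    exact Subgroup.mem_centralizer_singleton_iff.mpr (hpair h g)
  have hW2 : ∀ t ∈ W, t * t = 1 := by
    intro t ht
    induction ht using Subgroup.closure_induction with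
    | mem t ht =>
      obtain ⟨_, rfl, hconj⟩ := Group.mem_conjugatesOfSet_iff.mp ht
      obtain ⟨h, rfl⟩ := isConj_iff.mp hconj
      exact (hconjM h).2
    | one => rw [mul_one]
    | mul s t hs ht hs' ht' =>
      have hst : t * s = s * t := by
        have : W ≤ Subgroup.centralizer ({s} : Set G) := by
          refine (Subgroup.closure_le _).mpr fun w hw => ?_
          obtain ⟨_, rfl, hconj⟩ := Group.mem_conjugatesOfSet_iff.mp hw
          obtain ⟨h, rfl⟩ := isConj_iff.mp hconj
          exact Subgroup.mem_centralizer_singleton_iff.mpr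
            (Subgroup.mem_centralizer_singleton_iff.mp (hWc h hs)).symm
        exact Subgroup.mem_centralizer_singleton_iff.mp (this ht)
      calc s * t * (s * t) = s * (t * s) * t := by group
        _ = (s * s) * (t * t) := by rw [hst]; group
        _ = 1 := by rw [hs', ht', one_mul]
    | inv t ht ht' => rw [← mul_inv_rev, ht', inv_one]
  have hWp : IsPGroup 2 W := fun t => ⟨1, Subtype.ext (by simpa [pow_two] using hW2 t t.2)⟩
  have hzW : z ∈ W := Subgroup.subset_normalClosure (Set.mem_singleton z)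
  rw [show W = ⊥ from hO W inferInstance hWp] at hzW
  exact hz1 (Subgroup.mem_bot.mp hzW)

theorem klein_of_four (x : G) (hC4 : Nat.card (Subgroup.centralizer ({x} : Set G)) = 4)
    (hCe : ∀ c ∈ Subgroup.centralizer ({x} : Set G), c ^ 2 = 1) :
    IsKleinFour (Subgroup.centralizer ({x} : Set G)) := by
  haveI : Nontrivial (Subgroup.centralizer ({x} : Set G)) :=
    Finite.one_lt_card_iff_nontrivial.mp (by omega)
  exact ⟨hC4, ((Nat.dvd_prime Nat.prime_two).mp (Monoid.exponent_dvd_of_forall_pow_eq_one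
    fun a : Subgroup.centralizer ({x} : Set G) => Subtype.ext (by simpa using hCe a a.2))).resolve_left
      fun e => not_subsingleton (Subgroup.centralizer ({x} : Set G)) (Monoid.exp_eq_one_iff.mp e)⟩

theorem sylow_four (hno : ∀ M : Subgroup G, M.Normal → M.index ≠ 2) (x : G) (hx : orderOf x = 2)
    (hK : IsKleinFour (Subgroup.centralizer ({x} : Set G))) :
    ∃ S : Sylow 2 G, (S : Subgroup G) = Subgroup.centralizer ({x} : Set G) := by
  haveI : Fact (Nat.Prime 2) := ⟨Nat.prime_two⟩
  obtain ⟨S, hS⟩ := (IsPGroup.of_card (p := 2) (n := 2)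
    (show Nat.card (Subgroup.centralizer ({x} : Set G)) = 2 ^ 2 by rw [hK.card_four]; norm_num)).exists_le_sylow
  have h := sylow_eq hno x hx _ hK.card_four S hS (Subgroup.mem_centralizer_singleton_iff.mpr rfl)
    (fun s _ hs => Subgroup.mem_centralizer_singleton_iff.mpr hs) (by rw [hK.card_four]; norm_num)
    (fun s hs => klein_sq hK hs)
  exact ⟨S, (Subgroup.eq_of_le_of_card_ge hS (by rw [h, hK.card_four])).symm⟩

theorem no_index_two : ∀ (n : ℕ) {G : Type*} [Group G] [Finite G] (x : G), Nat.card G = n →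
    orderOf x = 2 → IsKleinFour (Subgroup.centralizer ({x} : Set G)) →
    ¬ Cfsg.HasNormalPComplement 2 G →
    (∀ Q : Subgroup G, Q.Normal → IsPGroup 2 Q → Q = ⊥) →
    ∀ M : Subgroup G, M.Normal → M.index ≠ 2 := by
  intro n
  induction n using Nat.strong_induction_on with
  | _ n IH =>
  intro G _ _ x hn hx hK hnc hO M hMn hM
  haveI : Fact (Nat.Prime 2) := ⟨Nat.prime_two⟩
  haveI := hMn
  have hxM := outer x hx hK hnc hO M hM
  have hncM : ¬ Cfsg.HasNormalPComplement 2 M := fun h => hnc
    (Cfsg.Lib.Transfer.hasNormalPComplement_of_pResidual M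
      (Cfsg.Lib.Transfer.pResidual_le_of_index_eq_pow M (k := 1) (by rw [hM, pow_one])) h)
  let X : M := ⟨x, hxM⟩
  have hXo : orderOf X = 2 := by rw [Subgroup.orderOf_mk]; exact hx
  have hcen : ∀ m : M, m ∈ Subgroup.centralizer ({X} : Set M) ↔ (m : G) ∈ Subgroup.centralizer ({x} : Set G) := by
    intro m
    rw [Subgroup.mem_centralizer_singleton_iff, Subgroup.mem_centralizer_singleton_iff, Subtype.ext_iff]
    rfl
  by_cases hCM : Subgroup.centralizer ({x} : Set G) ≤ M
  · have heq : Subgroup.centralizer ({X} : Set M) = (Subgroup.centralizer ({x} : Set G)).subgroupOf M :=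
      Subgroup.ext hcen
    have hKM : IsKleinFour (Subgroup.centralizer ({X} : Set M)) := by
      refine klein_of_four X ?_ fun c hc => Subtype.ext ?_
      · rw [heq, Nat.card_congr (Subgroup.subgroupOfEquivOfLe hCM).toEquiv, hK.card_four]
      · simpa [sq] using klein_sq hK ((hcen c).mp hc)
    have hOM : ∀ Q : Subgroup M, Q.Normal → IsPGroup 2 Q → Q = ⊥ := by
      intro Q hQn hQ
      have h1 : (Cfsg.pCore 2 M).map M.subtype = ⊥ :=
        hO _ inferInstance ((Cfsg.Lib.Solv.isPGroup_pCore 2).map _)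
      rw [← le_bot_iff] at h1 ⊢
      intro q hq
      exact Subgroup.mem_bot.mpr (Subtype.ext (Subgroup.mem_bot.mp
        (h1 ⟨q, Cfsg.Lib.Solv.le_pCore hQn hQ hq, rfl⟩)))
    have hlt : Nat.card M < n := by
      have h1 := M.card_mul_index
      rw [hM, hn] at h1
      have := Nat.card_pos (α := M)
      omega
    have hno := IH (Nat.card M) hlt X rfl hXo hKM hncM hOM
    obtain ⟨S, hS⟩ := sylow_four hno X hXo hKM
    have hone := klein_one_class S (hS ▸ hKM) (by
      rintro ⟨N, hN, hi⟩
      haveI := hN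
      refine hncM (Cfsg.Lib.Transfer.hasNormalPComplement_of (p := 2) N ?_ (k := 2) (by rw [hi]; norm_num))
      refine (Nat.prime_two.coprime_iff_not_dvd.mpr fun hd => ?_).symm
      have h1 := N.card_mul_index
      have h2 := (S : Subgroup M).card_mul_index
      rw [hi] at h1
      rw [show Nat.card (S : Subgroup M) = 4 by rw [hS]; exact hKM.card_four, ← h1] at h2
      exact S.not_dvd_index ((show (S : Subgroup M).index = Nat.card N by omega) ▸ hd))
    have htop : M = ⊤ := eq_top_iff.mpr fun g _ => by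
      obtain ⟨m, hm⟩ := isConj_iff.mp (hone X ⟨g * x * g⁻¹, hMn.conj_mem x hxM g⟩ hXo
        (by rw [Subgroup.orderOf_mk, show g * x * g⁻¹ = MulAut.conj g x from rfl, MulEquiv.orderOf_eq, hx]))
      have h1 : (m : G) * x * (m : G)⁻¹ = g * x * g⁻¹ := congrArg Subtype.val hm
      have h2 : (m : G)⁻¹ * g ∈ M := hCM (Subgroup.mem_centralizer_singleton_iff.mpr (by
        calc (m : G)⁻¹ * g * x = (m : G)⁻¹ * (g * x * g⁻¹) * g := by group
          _ = x * ((m : G)⁻¹ * g) := by rw [← h1]; group))
      have := M.mul_mem m.2 h2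
      rwa [mul_inv_cancel_left] at this
    rw [htop, Subgroup.index_top] at hM
    omega
  · obtain ⟨c, hcC, hcM⟩ := SetLike.not_le_iff_exists.mp hCM
    have hX : ∀ m : M, m ∈ Subgroup.centralizer ({X} : Set M) → m = 1 ∨ m = X := by
      intro m hm
      have hx1 : x ≠ 1 := fun e => by simp [e] at hx
      rcases klein_cases hK (Subgroup.mem_centralizer_singleton_iff.mpr rfl) hcC hx1
        (fun e => hcM (e ▸ M.one_mem)) (fun e => hcM (e ▸ hxM)) (m : G) ((hcen m).mp hm) with e | e | e | e
      · exact Or.inl (Subtype.ext e)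
      · exact Or.inr (Subtype.ext e)
      · exact absurd (e ▸ m.2) hcM
      · exfalso
        have := M.mul_mem (M.inv_mem hxM) (e ▸ m.2)
        rw [inv_mul_cancel_left] at this
        exact hcM this
    obtain ⟨T, hT⟩ := (IsPGroup.of_card (p := 2) (n := 1)
      (show Nat.card (Subgroup.zpowers X) = 2 ^ 1 by rw [Nat.card_zpowers, hXo, pow_one])).exists_le_sylow
    have hXT : X ∈ (T : Subgroup M) := hT (Subgroup.mem_zpowers X)
    haveI : Nontrivial (T : Subgroup M) := ⟨⟨X, hXT⟩, 1, fun e => by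
      have := congrArg Subtype.val e
      simp only [OneMemClass.coe_one] at this
      rw [this, orderOf_one] at hXo
      omega⟩
    haveI := T.isPGroup'.center_nontrivial
    obtain ⟨⟨⟨t, htT⟩, htc⟩, ht1⟩ := exists_ne (1 : Subgroup.center (T : Subgroup M))
    have htX : t = X := by
      refine (hX t (Subgroup.mem_centralizer_singleton_iff.mpr ?_)).resolve_left fun e => ht1
        (Subtype.ext (Subtype.ext e))
      exact (congrArg Subtype.val (Subgroup.mem_center_iff.mp htc ⟨X, hXT⟩)).symm
    subst htX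
    have hTle : (T : Subgroup M) ≤ Subgroup.zpowers X := by
      intro s hs
      rcases hX s (Subgroup.mem_centralizer_singleton_iff.mpr
        (congrArg Subtype.val (Subgroup.mem_center_iff.mp htc ⟨s, hs⟩))) with e | e
      · rw [e]; exact one_mem _
      · rw [e]; exact Subgroup.mem_zpowers X
    exact hncM (complement_of_card_two T (by rw [le_antisymm hTle hT, Nat.card_zpowers, hXo]))

theorem no_core (x : G) (hx : orderOf x = 2) (hK : IsKleinFour (Subgroup.centralizer ({x} : Set G)))
    (hne : ∀ E : Subgroup G, E.Normal → Cfsg.IsElementaryAbelian 2 E → Nat.card ↥E ≠ 2 ∧ Nat.card ↥E ≠ 4)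
    (Q : Subgroup G) (hQn : Q.Normal) (hQ : IsPGroup 2 Q) : Q = ⊥ := by
  haveI : Fact (Nat.Prime 2) := ⟨Nat.prime_two⟩
  by_contra hQ1
  set C := Subgroup.centralizer ({x} : Set G) with hC
  let Z : Subgroup G :=
    { carrier := {q | q ∈ Q ∧ q * q = 1 ∧ ∀ r ∈ Q, q * r = r * q}
      one_mem' := ⟨one_mem _, one_mul _, fun r _ => by simp⟩
      mul_mem' := fun {a b} ⟨ha, ha', hac⟩ ⟨hb, hb', hbc⟩ => ⟨mul_mem ha hb, by
          calc a * b * (a * b) = a * (b * a) * b := by group
            _ = a * (a * b) * b := by rw [hac b hb]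
            _ = a * a * (b * b) := by group
            _ = 1 := by rw [ha', hb', one_mul], fun r hr =>
          ((show Commute a r from hac r hr).mul_left (hbc r hr)).eq⟩
      inv_mem' := fun {a} ⟨ha, ha', hac⟩ => ⟨inv_mem ha, by rw [← mul_inv_rev, ha', inv_one],
          fun r hr => (show Commute a r from hac r hr).inv_left.eq⟩ }
  have hconj : ∀ q ∈ Z, ∀ g : G, g * q * g⁻¹ ∈ Z := by
    rintro q ⟨hq, hqq, hqc⟩ g
    refine ⟨hQn.conj_mem q hq g, ?_, fun r hr => ?_⟩
    · calc g * q * g⁻¹ * (g * q * g⁻¹) = g * (q * q) * g⁻¹ := by group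
        _ = 1 := by rw [hqq]; group
    · have h1 := hqc (g⁻¹ * r * g) (by simpa using hQn.conj_mem r hr g⁻¹)
      calc g * q * g⁻¹ * r = g * (q * (g⁻¹ * r * g)) * g⁻¹ := by group
        _ = r * (g * q * g⁻¹) := by rw [h1]; group
  have hZn : Z.Normal := ⟨hconj⟩
  have hZe : Cfsg.IsElementaryAbelian 2 Z :=
    ⟨⟨⟨fun a b => Subtype.ext (a.2.2.2 b b.2.1)⟩⟩, fun a ha => by rw [sq]; exact ha.2.1⟩
  have hZ1 : 1 < Nat.card Z := by
    haveI : Nontrivial Q := (Subgroup.nontrivial_iff_ne_bot Q).mpr hQ1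
    haveI := hQ.center_nontrivial
    obtain ⟨w, hw⟩ := exists_prime_orderOf_dvd_card' (G := Subgroup.center Q) 2 (by
      obtain ⟨k, hk⟩ := (hQ.to_subgroup (Subgroup.center Q)).exists_card_eq
      rw [hk]
      rcases k with _ | k
      · have := Finite.one_lt_card (α := Subgroup.center Q)
        rw [hk] at this
        simp at this
      · exact dvd_pow_self 2 k.succ_ne_zero)
    have hw' := pow_orderOf_eq_one w
    rw [hw, sq] at hw'
    refine Finite.one_lt_card_iff_nontrivial.mpr ⟨⟨((w : Q) : G), (w : Q).2,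
      congrArg (fun v : Subgroup.center Q => ((v : Q) : G)) hw',
      fun r hr => congrArg Subtype.val (Subgroup.mem_center_iff.mp w.2 ⟨r, hr⟩).symm⟩, 1, fun e => ?_⟩
    have h1 : w = 1 := Subtype.ext (Subtype.ext (congrArg Subtype.val e :))
    rw [h1, orderOf_one] at hw
    omega
  have h4 : Nat.card Z ≤ 4 := by
    by_cases hxZ : x ∈ Z
    · rw [← hK.card_four]
      exact Subgroup.card_le_of_le fun q hq => Subgroup.mem_centralizer_singleton_iff.mpr
        (hq.2.2 x hxZ.1)
    haveI : IsMulCommutative Z := hZe.1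
    have hxx : x * x = 1 := klein_sq hK (Subgroup.mem_centralizer_singleton_iff.mpr rfl)
    have hxi : x⁻¹ = x := inv_eq_of_mul_eq_one_right hxx
    have hmem : ∀ q : Z, (q : G) * (x * q * x⁻¹) ∈ Z := fun q => Z.mul_mem q.2 (hconj q q.2 x)
    let φ : Z →* Z := MonoidHom.mk' (fun q => ⟨(q : G) * (x * q * x⁻¹), hmem q⟩) fun a b =>
      Subtype.ext (by
        have hc : (b : G) * (x * a * x⁻¹) = (x * a * x⁻¹) * b := b.2.2.2 _ (hconj a a.2 x).1
        show (a : G) * b * (x * ((a : G) * b) * x⁻¹) = (a : G) * (x * a * x⁻¹) * ((b : G) * (x * b * x⁻¹))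
        calc (a : G) * b * (x * ((a : G) * b) * x⁻¹)
            = (a : G) * ((b : G) * (x * a * x⁻¹)) * (x * b * x⁻¹) := by group
          _ = (a : G) * (x * a * x⁻¹) * ((b : G) * (x * b * x⁻¹)) := by rw [hc]; group)
    let D := C.subgroupOf Z
    have hker : φ.ker ≤ D := by
      intro q hq
      have h1 : (q : G) * (x * q * x⁻¹) = 1 := congrArg Subtype.val (MonoidHom.mem_ker.mp hq)
      refine Subgroup.mem_centralizer_singleton_iff.mpr ?_
      have h2 : x * q * x⁻¹ = q := by
        rw [← one_mul (x * q * x⁻¹), ← q.2.2.1, mul_assoc, h1, mul_one]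
      exact (mul_inv_eq_iff_eq_mul.mp h2).symm
    have him : φ.range ≤ D := by
      rintro _ ⟨q, rfl⟩
      refine Subgroup.mem_centralizer_singleton_iff.mpr ?_
      show (q : G) * (x * q * x⁻¹) * x = x * ((q : G) * (x * q * x⁻¹))
      rw [hxi]
      have hc : (x * q * x) * (q : G) = (q : G) * (x * q * x) := by
        have := (q.2.2.2 _ (hconj q q.2 x).1).symm
        rwa [hxi] at this
      calc (q : G) * (x * q * x) * x = (x * x) * ((q : G) * (x * q * x)) * x := by rw [hxx, one_mul]
        _ = x * x * ((x * q * x) * q) * x := by rw [hc]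
        _ = x * (x * x) * (q * (x * (q : G) * x)) := by group
        _ = x * ((q : G) * (x * q * x)) := by rw [hxx, mul_one]
    have hD2 : Nat.card D ≤ 2 := by
      have h2 : Nat.card D = Nat.card ↥(C ⊓ Z) := by
        show Nat.card (C.subgroupOf Z) = _
        rw [← Subgroup.inf_subgroupOf_right]
        exact Nat.card_congr (Subgroup.subgroupOfEquivOfLe inf_le_right).toEquiv
      have h3 : Nat.card ↥(C ⊓ Z) ∣ 4 := hK.card_four ▸ Subgroup.card_dvd_of_le inf_le_left
      have h5 : Nat.card ↥(C ⊓ Z) ≠ 4 := fun h => by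
        have := Subgroup.eq_of_le_of_card_ge (inf_le_left : C ⊓ Z ≤ C) (by rw [hK.card_four, h])
        exact hxZ (this.ge (Subgroup.mem_centralizer_singleton_iff.mpr rfl : x ∈ C)).2
      have h6 := Nat.le_of_dvd (by norm_num) h3
      interval_cases hc : Nat.card ↥(C ⊓ Z) <;> omega
    have h3 := φ.ker.card_mul_index
    rw [Subgroup.index_ker] at h3
    rw [← h3]
    exact Nat.mul_le_mul ((Subgroup.card_le_of_le hker).trans hD2) ((Subgroup.card_le_of_le him).trans hD2)
  obtain ⟨h2, h4'⟩ := hne Z hZn hZe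
  obtain ⟨k, hk⟩ := (hQ.to_le (show Z ≤ Q from fun q hq => hq.1)).exists_card_eq
  rw [hk] at hZ1 h4 h2 h4'
  rcases k with _ | _ | _ | k
  · simp at hZ1
  · simp at h2
  · simp at h4'
  · have : 2 ^ 3 ≤ 2 ^ (k + 3) := Nat.pow_le_pow_right two_pos (by omega)
    omega


/-- Let G be a finite group containing an involution whose centralizer is elementary abelian of order 4. If G has no normal 2-complement and no normal elementary abelian 2-subgroup of order 2 or 4, then G is isomorphic to the alternating group of degree 5 (that is, to PSL(2, 5)). -/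
theorem result {G : Type*} [Group G] [Finite G] (x : G) (hx : orderOf x = 2)
    (hC4 : Nat.card ↥(Subgroup.centralizer ({x} : Set G)) = 4) (hCe : ∀ c ∈ Subgroup.centralizer ({x} : Set G), c ^ 2 = 1)
    (hnc : ¬ Cfsg.HasNormalPComplement 2 G)
    (hne : ∀ E : Subgroup G, E.Normal → Cfsg.IsElementaryAbelian 2 E → Nat.card ↥E ≠ 2 ∧ Nat.card ↥E ≠ 4) :
    Nonempty (G ≃* ↥(alternatingGroup (Fin 5))) := by
  haveI : Fact (Nat.Prime 2) := ⟨Nat.prime_two⟩
  haveI := Fintype.ofFinite G
  set C := Subgroup.centralizer ({x} : Set G) with hCdef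
  have hK : IsKleinFour C := klein_of_four x hC4 hCe
  have hO := no_core x hx hK hne
  have hno := no_index_two (Nat.card G) x rfl hx hK hnc hO
  obtain ⟨S, hSC⟩ := sylow_four hno x hx hK
  rw [← hCdef] at hSC
  have hS4 : Nat.card (S : Subgroup G) = 4 := by rw [hSC]; exact hC4
  have hKS : IsKleinFour (S : Subgroup G) := hSC ▸ hK
  have hcC : Nat.card C = 4 * 1 := by rw [hC4]
  have hxC : x ∈ C := Subgroup.mem_centralizer_singleton_iff.mpr rfl
  have hxS0 : x ∈ (S : Subgroup G) := hSC.ge hxC
  have hx1 : x ≠ 1 := fun e => by simp [e] at hx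
  have hodd' : Odd (S : Subgroup G).index :=
    Nat.odd_iff.2 (Nat.two_dvd_ne_zero.1 S.not_dvd_index)
  have hGcard : Nat.card G = 4 * (S : Subgroup G).index := by
    rw [← Subgroup.card_mul_index (S : Subgroup G), hS4]
  have hSn : ¬ (S : Subgroup G).Normal := fun h => by
    have := hO _ h S.isPGroup'
    rw [this, Subgroup.card_bot] at hS4
    omega
  have hg1 : (S : Subgroup G).index ≠ 1 := fun h1 => hSn (by
    rw [Subgroup.index_eq_one.mp h1]; infer_instance)
  have hnc4 : ¬ ∃ N : Subgroup G, N.Normal ∧ Nat.card N = (S : Subgroup G).index := by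
    rintro ⟨N, hN, hc⟩
    haveI := hN
    refine hnc (Cfsg.Lib.Transfer.hasNormalPComplement_of (p := 2) N ?_ (k := 2) ?_)
    · rw [hc]; exact (Nat.prime_two.coprime_iff_not_dvd.mpr S.not_dvd_index).symm
    · have h1 := N.card_mul_index
      rw [hc, hGcard, mul_comm 4] at h1
      rw [Nat.eq_of_mul_eq_mul_left (Nat.pos_of_ne_zero Subgroup.index_ne_zero_of_finite) h1]
      norm_num
  have hone : ∀ s t : G, orderOf s = 2 → orderOf t = 2 → IsConj s t := klein_one_class S hKS (by
    rintro ⟨N, hN, hi⟩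
    refine hnc4 ⟨N, hN, ?_⟩
    have h1 := Subgroup.card_mul_index N
    rw [hi, hGcard] at h1
    omega)
  have hCS : C = Subgroup.centralizer ((S : Subgroup G) : Set G) := by
    refine le_antisymm (fun n hn' => Subgroup.mem_centralizer_iff.mpr fun a ha => ?_)
      (Subgroup.centralizer_le (Set.singleton_subset_iff.mpr hxS0))
    exact klein_commute hK (hSC ▸ ha) hn'
  -- the order formula
  obtain ⟨M, hM⟩ := Cfsg.Lib.Blocks.exists_isPModular 2
  haveI := hM.2.1.isPrime
  obtain ⟨ζ₂, ζ₃, ζ₄, ε, hε, hn2, hn3, h23, h24, h34, hB, hval, hd2, hd3, hd4, -⟩ :=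
    klein_principal hM (blockFacts G hM) S hKS hone
  have hn4 : (ζ₄ : G → ℂ) ≠ fun _ => 1 := fun e => by
    have := (hval x hx).2.2
    rw [e] at this
    norm_num at this
  have hform := Cfsg.Agent.S4479.result M hM _ hodd' hGcard hnc4 S x hxS0 hx ζ₂ ζ₃ ζ₄ 1 ε (-1) hB
    ⟨hn2, hn3, hn4, h23, h24, h34⟩ ⟨Or.inl rfl, hε, Or.inr rfl⟩
    ⟨by simpa using (hval x hx).1, (hval x hx).2.1, by simpa using (hval x hx).2.2⟩
  rw [← hCS, ← hCdef] at hform
  have hpos : ∀ χ : Cfsg.IrrCharacter G, 0 < Cfsg.charDegree (χ : G → ℂ) := fun χ => by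
    obtain ⟨n, hn0, hn'⟩ := χ.2.exists_degree_pos
    simp [Cfsg.charDegree, hn', hn0]
  set a := Cfsg.charDegree (ζ₂ : G → ℂ)
  set b := Cfsg.charDegree (ζ₃ : G → ℂ)
  set c := Cfsg.charDegree (ζ₄ : G → ℂ)
  have ha : 1 ≤ a := hpos ζ₂
  have hb : 1 ≤ b ∧ (ε = -1 → 3 ≤ b) := ⟨hpos ζ₃, fun e => by
    have := hpos ζ₃; subst e; omega⟩
  have hc : 3 ≤ c := by have := hpos ζ₄; omega
  have hidx : C.index < 18 := by
    have hCpos : (0 : ℚ) < Nat.card C := by exact_mod_cast Nat.card_pos
    rw [← Subgroup.card_mul_index C] at hform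
    push_cast at hform
    have haq : (1 : ℚ) ≤ a := by exact_mod_cast ha
    have hbq : (1 : ℚ) ≤ b := by exact_mod_cast hb.1
    have hcq : (3 : ℚ) ≤ c := by exact_mod_cast hc
    have h1 : (a : ℚ) / (a + 1) < 1 := by rw [div_lt_one (by linarith)]; linarith
    have h2 : (b : ℚ) / (b + ε) ≤ 3 / 2 ∧ 0 ≤ (b : ℚ) / (b + ε) := by
      rcases hε with rfl | rfl
      · push_cast
        refine ⟨?_, by positivity⟩
        rw [div_le_iff₀ (by linarith)]; linarith
      · have hb3 : (3 : ℚ) ≤ b := by exact_mod_cast hb.2 rfl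
        push_cast
        refine ⟨?_, div_nonneg (by linarith) (by linarith)⟩
        rw [div_le_iff₀ (by linarith)]; linarith
    have h3 : (c : ℚ) / (c - 1) ≤ 3 / 2 ∧ 0 ≤ (c : ℚ) / (c - 1) := by
      refine ⟨?_, div_nonneg (by linarith) (by linarith)⟩
      rw [div_le_iff₀ (by linarith)]; linarith
    have h23' : (b : ℚ) / (b + ε) * ((c : ℚ) / (c - 1)) ≤ 9 / 4 := by
      calc _ ≤ (3 / 2 : ℚ) * (3 / 2) := mul_le_mul h2.1 h3.1 h3.2 (by norm_num)
        _ = _ := by norm_num
    have e : (C.index : ℚ) = 8 * ((a : ℚ) / (a + 1) * ((b : ℚ) / (b + ε) * ((c : ℚ) / (c - 1)))) := by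
      rw [div_mul_div_comm, div_mul_div_comm]
      field_simp at hform ⊢
      linear_combination hform
    have : (C.index : ℚ) < 18 := by
      rw [e]
      have hprod : 0 ≤ (b : ℚ) / (b + ε) * ((c : ℚ) / (c - 1)) := mul_nonneg h2.2 h3.2
      have ha0 : 0 < (a : ℚ) / (a + 1) := div_pos (by linarith) (by linarith)
      calc 8 * ((a : ℚ) / (a + 1) * ((b : ℚ) / (b + ε) * ((c : ℚ) / (c - 1))))
          ≤ 8 * ((a : ℚ) / (a + 1) * (9 / 4)) :=
            mul_le_mul_of_nonneg_left (mul_le_mul_of_nonneg_left h23' ha0.le) (by norm_num)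
        _ < 18 := by linarith
    exact_mod_cast this
  -- the normalizer of the four group
  haveI : IsMulCommutative (S : Subgroup G) := ⟨⟨fun u v => Subtype.ext (klein_commute hKS u.2 v.2)⟩⟩
  set N := Subgroup.normalizer ((S : Subgroup G) : Set G) with hN
  have hCN : C ≤ N := by
    rw [hCS]
    exact Subgroup.centralizer_le_normalizer _
  obtain ⟨⟨y, hyS⟩, hy1, hyx⟩ : ∃ y : (S : Subgroup G), y ≠ 1 ∧ y ≠ ⟨x, hxS0⟩ := by
    by_contra h
    push Not at h
    have h1 : Nat.card (S : Subgroup G) ≤ ({1, ⟨x, hxS0⟩} : Set (S : Subgroup G)).ncard := by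
      rw [← Set.ncard_univ]
      exact Set.ncard_le_ncard (fun u _ => by
        by_cases hu : u = 1
        · exact Or.inl hu
        · exact Or.inr (h u hu))
    rw [hS4] at h1
    have := Set.ncard_insert_le (1 : (S : Subgroup G)) {⟨x, hxS0⟩}
    rw [Set.ncard_singleton] at this
    omega
  have hy1' : y ≠ 1 := fun e => hy1 (Subtype.ext e)
  have hyx' : x ≠ y := fun e => hyx (Subtype.ext e.symm)
  have hconjN : ∀ u ∈ (S : Subgroup G), u ≠ 1 → ∃ n ∈ N, n * x * n⁻¹ = u := by
    intro u hu hu1
    obtain ⟨g, hg⟩ := isConj_iff.mp (hone x u hx (klein_orderOf hKS hu hu1))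
    obtain ⟨n, hn', e⟩ := S.conj_eq_normalizer_conj_of_mem x g⁻¹ hxS0 (by rw [inv_inv, hg]; exact hu)
    exact ⟨n⁻¹, N.inv_mem hn', by rw [inv_inv, ← e, inv_inv, hg]⟩
  have hrel : C.relIndex N = 3 := by
    have horbit : MulAction.orbit (N.map (ConjAct.toConjAct (G := G)).toMonoidHom) x =
        ({x, y, x * y} : Set G) := by
      ext u
      constructor
      · rintro ⟨⟨k, n, hn', rfl⟩, rfl⟩
        have hu : n * x * n⁻¹ ∈ (S : Subgroup G) := (Subgroup.mem_normalizer_iff.mp hn' x).mp hxS0
        show ConjAct.toConjAct n • x ∈ _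
        rw [ConjAct.toConjAct_smul]
        rcases klein_cases hKS hxS0 hyS hx1 hy1' hyx' _ hu with e | e | e | e
        · exact absurd (conj_eq_one_iff.mp e) hx1
        · simp [e]
        · simp [e]
        · simp [e]
      · intro hu
        have hu' : u ∈ (S : Subgroup G) ∧ u ≠ 1 := by
          simp only [Set.mem_insert_iff, Set.mem_singleton_iff] at hu
          rcases hu with rfl | rfl | rfl
          · exact ⟨hxS0, hx1⟩
          · exact ⟨hyS, hy1'⟩
          · exact ⟨mul_mem hxS0 hyS, fun e => hyx' (by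
              rw [← mul_one x, ← klein_sq hKS hyS, ← mul_assoc, e, one_mul])⟩
        obtain ⟨n, hn', rfl⟩ := hconjN u hu'.1 hu'.2
        exact ⟨⟨ConjAct.toConjAct n, n, hn', rfl⟩, ConjAct.toConjAct_smul n x⟩
    have h1 := MulAction.index_stabilizer (N.map (ConjAct.toConjAct (G := G)).toMonoidHom) x
    rw [horbit] at h1
    have h3 : ({x, y, x * y} : Set G).ncard = 3 := by
      rw [Set.ncard_insert_of_notMem, Set.ncard_pair]
      · intro e
        exact hx1 (by simpa using e)
      · simp only [Set.mem_insert_iff, Set.mem_singleton_iff]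
        rintro (e | e)
        · exact hyx' e
        · exact hy1' (by simpa using e)
    rw [h3] at h1
    rw [← h1, Subgroup.relIndex]
    let e := (Subgroup.equivMapOfInjective N (ConjAct.toConjAct (G := G)).toMonoidHom
      (ConjAct.toConjAct (G := G)).injective)
    rw [← Subgroup.index_comap_of_surjective
      (MulAction.stabilizer (N.map (ConjAct.toConjAct (G := G)).toMonoidHom) x) (f := e.toMonoidHom) e.surjective]
    congr 1
    ext n
    rw [Subgroup.mem_subgroupOf, Subgroup.mem_centralizer_singleton_iff, Subgroup.mem_comap,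
      MulAction.mem_stabilizer_iff]
    show _ ↔ ConjAct.toConjAct (n : G) • x = x
    rw [ConjAct.toConjAct_smul, mul_inv_eq_iff_eq_mul]
  have hNi : 3 * N.index < 18 := by
    rw [← hrel, Subgroup.relIndex_mul_index hCN]; exact hidx
  have hNtop : N ≠ ⊤ := fun e => hSn (Subgroup.normalizer_eq_top_iff.mp e)
  -- the action on the cosets
  set φ := MulAction.toPermHom G (G ⧸ N)
  have hinj : Function.Injective φ := by
    rw [← MonoidHom.ker_eq_bot_iff]
    have hker : φ.ker ≤ N := fun g hg => by
      have h1 : φ g = 1 := MonoidHom.mem_ker.mp hg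
      have h2 : g • ((1 : G) : G ⧸ N) = ((1 : G) : G ⧸ N) := by
        have := congr_fun (congrArg DFunLike.coe h1) ((1 : G) : G ⧸ N)
        simpa [φ] using this
      rwa [MulAction.Quotient.smul_mk, smul_eq_mul, mul_one, eq_comm, QuotientGroup.eq, inv_one, one_mul] at h2
    -- the intersection with the four group is a normal 2-subgroup
    have hP : ((S : Subgroup G).subgroupOf φ.ker).Normal := ⟨fun a ha b =>
      ((Subgroup.mem_normalizer_iff.mp (hker b.2) (a : G)).mp ha)⟩
    have hPp : IsPGroup 2 ((S : Subgroup G).subgroupOf φ.ker) := S.isPGroup'.comap_subtype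
    have h1 : (Cfsg.pCore 2 φ.ker).map φ.ker.subtype = ⊥ :=
      hO _ inferInstance ((Cfsg.Lib.Solv.isPGroup_pCore 2).map _)
    have hdis : ∀ w ∈ φ.ker, w ∈ (S : Subgroup G) → w = 1 := fun w hw hwS =>
      Subgroup.mem_bot.mp (h1.le ⟨⟨w, hw⟩, Cfsg.Lib.Solv.le_pCore hP hPp hwS, rfl⟩)
    rw [eq_bot_iff]
    intro w hw
    have hwC : w ∈ Subgroup.centralizer ((S : Subgroup G) : Set G) := by
      refine Subgroup.mem_centralizer_iff.mpr fun s hs => ?_
      have h2 : w * s * w⁻¹ * s⁻¹ = 1 := hdis _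
        (by
          have h3 := φ.ker.mul_mem hw ((inferInstance : φ.ker.Normal).conj_mem _ (φ.ker.inv_mem hw) s)
          simpa [mul_assoc] using h3)
        ((S : Subgroup G).mul_mem ((Subgroup.mem_normalizer_iff.mp (hker hw) s).mp hs) ((S : Subgroup G).inv_mem hs))
      rw [mul_inv_eq_one, mul_inv_eq_iff_eq_mul] at h2
      exact h2.symm
    rw [← hCS, ← hSC] at hwC
    exact Subgroup.mem_bot.mpr (hdis w hw hwC)
  have hdvd : Nat.card G ∣ (N.index).factorial := by
    have := Subgroup.card_dvd_of_injective φ hinj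
    rwa [Nat.card_perm, ← N.index_eq_card] at this
  set r := (S : Subgroup G).relIndex C with hr0
  set k := N.index with hk
  have hGeq : Nat.card G = 4 * r * (3 * k) := by
    rw [← Subgroup.card_mul_index C, ← hrel, hk, Subgroup.relIndex_mul_index hCN, hcC, hr0, hSC, Subgroup.relIndex_self]
  have hr : r % 2 = 1 := by rw [hr0, hSC, Subgroup.relIndex_self]
  have hk0 : 0 < k := Nat.pos_of_ne_zero Subgroup.index_ne_zero_of_finite
  have hle5 := Nat.le_of_dvd (Nat.factorial_pos _) hdvd
  have hk5 : k = 5 := by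
    have : k ≤ 5 := by omega
    rw [hGeq] at hle5
    interval_cases k <;> simp [Nat.factorial] at hle5 ⊢ <;> omega
  rw [hk5] at hGeq hdvd
  have hr1 : r = 1 := by
    have h2 : 60 * r ∣ 60 * 2 := by
      rw [show 60 * r = Nat.card G by rw [hGeq]; ring]
      simpa [Nat.factorial] using hdvd
    rcases (Nat.dvd_prime Nat.prime_two).mp (Nat.dvd_of_mul_dvd_mul_left (by norm_num) h2) with e | e <;> omega
  have hG60 : Nat.card G = 60 := by rw [hGeq, hr1]
  let e := Finite.equivFinOfCardEq (show Nat.card (G ⧸ N) = 5 by rw [← N.index_eq_card]; exact hk5)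
  let ψ : G →* Equiv.Perm (Fin 5) := (Equiv.permCongrHom e).toMonoidHom.comp φ
  have hψ : Function.Injective ψ := (Equiv.permCongrHom e).injective.comp hinj
  have hrange : ψ.range = alternatingGroup (Fin 5) := by
    refine Equiv.Perm.eq_alternatingGroup_of_index_eq_two ?_
    have h1 := ψ.range.card_mul_index
    rw [← Nat.card_congr (MonoidHom.ofInjective hψ).toEquiv, hG60, Nat.card_perm, Nat.card_fin] at h1
    norm_num [Nat.factorial] at h1
    omega
  exact ⟨(MonoidHom.ofInjective hψ).trans (MulEquiv.subgroupCongr hrange)⟩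

end Cfsg.Agent.S3277
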