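import Cfsg.Statements.S3035
import Mathlib
import Cfsg.Agent.S0111
import Cfsg.Agent.S0255
import Cfsg.Agent.S0495
import Cfsg.Agent.S0848
import Cfsg.Agent.S3277
import Cfsg.Agent.Lib.Transfer.NormalPComplement
import Cfsg.Agent.Lib.Classical.LinearOrders
import Cfsg.Agent.Lib.Recog.SimpleThreeSixty
-- import your own Cfsg.Agent.* helpers here

set_option autoImplicit false
open Cfsg

namespace Cfsg.Agent.S3035

open DihedralGroup
open scoped commutatorElement

theorem d4_center' : ∀ x : DihedralGroup 4, (∀ y, x * y = y * x) → x = 1 ∨ x = r 2 := by decide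
theorem d4_invol : ∀ x : DihedralGroup 4, x * x = 1 →
    x = 1 ∨ x = r 2 ∨ x = sr 0 ∨ x = sr 2 ∨ x = sr 1 ∨ x = sr 3 := by decide
theorem d4_conj02 : (r 1 : DihedralGroup 4) * sr 0 * (r 1)⁻¹ = sr 2 := by decide
theorem d4_conj13 : (r 1 : DihedralGroup 4) * sr 1 * (r 1)⁻¹ = sr 3 := by decide
theorem d4_z : (r 1 : DihedralGroup 4) * sr 0 * (r 1)⁻¹ * (sr 0)⁻¹ = r 2 := by decide
theorem d4_gen : ∀ x : DihedralGroup 4, ∃ i j k : Fin 2,
    x = sr 0 ^ (i : ℕ) * (sr 1 * sr 0) ^ (j : ℕ) * ((sr 1 * sr 0) * (sr 1 * sr 0)) ^ (k : ℕ) := by decide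

def d4Swap : DihedralGroup 4 ≃* DihedralGroup 4 where
  toFun x := match x with
    | r i => r i
    | sr i => sr (i + 1)
  invFun x := match x with
    | r i => r i
    | sr i => sr (i - 1)
  left_inv := by intro x; cases x <;> simp
  right_inv := by intro x; cases x <;> simp
  map_mul' := by decide

instance : Fact (Nat.Prime 2) := ⟨Nat.prime_two⟩
instance : Fact (Nat.Prime 3) := ⟨Nat.prime_three⟩

variable {G : Type*} [Group G] [Finite G]

theorem conj_inv_inv {N : Subgroup G} [N.Normal] (hodd : Odd (Nat.card N)) (u : G) (hu : u * u = 1)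
    (hC : N ⊓ Subgroup.centralizer ({u} : Set G) = ⊥) : ∀ n ∈ N, u * n * u⁻¹ = n⁻¹ := by
  let φ : N →* N := (MulAut.conjNormal u : MulAut N).toMonoidHom
  have hf : MonoidHom.FixedPointFree φ := by
    intro n hn
    have e : u * (n : G) * u⁻¹ = n := by
      have := congrArg Subtype.val hn
      simpa [φ] using this
    have hm : (n : G) ∈ N ⊓ Subgroup.centralizer ({u} : Set G) := ⟨n.2,
      Subgroup.mem_centralizer_singleton_iff.2 (mul_inv_eq_iff_eq_mul.1 e).symm⟩
    rw [hC, Subgroup.mem_bot] at hm
    exact Subtype.ext hm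
  have h2 : Function.Involutive φ := by
    intro n
    apply Subtype.ext
    show u * (u * (n : G) * u⁻¹) * u⁻¹ = n
    rw [show u⁻¹ = u from inv_eq_of_mul_eq_one_right hu]
    rw [show u * (u * (n : G) * u) * u = (u * u) * n * (u * u) by group, hu, one_mul, mul_one]
  intro n hn
  have := congrFun (hf.coe_eq_inv_of_involutive h2) ⟨n, hn⟩
  simpa [φ] using congrArg Subtype.val this

/-- Two commuting involutions and their product cannot all act freely on a nontrivial normal odd subgroup. -/
theorem no_free {N : Subgroup G} [N.Normal] (hodd : Odd (Nat.card N)) (u v : G) (hu : u * u = 1)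
    (hv : v * v = 1) (huv : u * v * (u * v) = 1)
    (h1 : N ⊓ Subgroup.centralizer ({u} : Set G) = ⊥) (h2 : N ⊓ Subgroup.centralizer ({v} : Set G) = ⊥)
    (h3 : N ⊓ Subgroup.centralizer ({u * v} : Set G) = ⊥) : N = ⊥ := by
  refine (Subgroup.eq_bot_iff_forall _).2 fun n hn => ?_
  have e3 := conj_inv_inv hodd _ huv h3 n hn
  have e2 := conj_inv_inv hodd v hv h2 n hn
  have e1 := conj_inv_inv hodd u hu h1 _ (inv_mem hn)
  have e : n = n⁻¹ := by
    rw [← e3, show u * v * n * (u * v)⁻¹ = u * (v * n * v⁻¹) * u⁻¹ by group, e2, e1, inv_inv]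
  have hsq : n ^ 2 = 1 := by rw [pow_two]; exact mul_eq_one_iff_eq_inv.2 e
  have ho := orderOf_dvd_of_pow_eq_one hsq
  have ho' := Subgroup.orderOf_mk n hn ▸ orderOf_dvd_natCard (⟨n, hn⟩ : N)
  have := Nat.dvd_gcd ho ho'
  rw [show Nat.gcd 2 (Nat.card N) = 1 from (Nat.coprime_two_left.2 hodd)] at this
  exact orderOf_eq_one_iff.1 (Nat.dvd_one.1 this)

theorem inf_bot_of_coprime {A B : Subgroup G} (h : Nat.Coprime (Nat.card A) (Nat.card B)) : A ⊓ B = ⊥ :=
  Subgroup.card_eq_one.1 (Nat.eq_one_of_dvd_coprimes h (Subgroup.card_dvd_of_le inf_le_left)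
    (Subgroup.card_dvd_of_le inf_le_right))

theorem burnside (P : Sylow 2 G) (hab : ∀ x ∈ (P : Subgroup G), ∀ y ∈ (P : Subgroup G), x * y = y * x)
    (hN : Subgroup.normalizer (P : Set G) ≤ (P : Subgroup G)) : Cfsg.HasNormalPComplement 2 G := by
  have hc : Subgroup.normalizer (P : Set G) ≤ Subgroup.centralizer (P : Set G) := fun n hn =>
    Subgroup.mem_centralizer_iff.2 fun q hq => hab q hq n (hN hn)
  exact ⟨P, _, inferInstance, MonoidHom.ker_transferSylow_isComplement' P hc⟩

theorem exists_sylow_eq (M : Subgroup G) (h : IsPGroup 2 M) (hi : ¬ 2 ∣ M.index) :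
    ∃ P : Sylow 2 G, (P : Subgroup G) = M := by
  obtain ⟨P, hP⟩ := h.exists_le_sylow
  refine ⟨P, le_antisymm (fun x hx => ?_) hP⟩
  have h1 : M.relIndex P ∣ M.index := Subgroup.relIndex_dvd_index_of_le hP
  obtain ⟨k, hk⟩ := P.isPGroup'.index (M.subgroupOf P)
  have hk' : M.relIndex P = 2 ^ k := hk
  have : k = 0 := by
    by_contra h0
    exact hi ((dvd_pow_self 2 h0).trans (hk' ▸ h1))
  rw [this, pow_zero] at hk'
  exact Subgroup.relIndex_eq_one.1 hk' hx

/-- A group of order 24 with a non-central involution with centralizer of order 8, whose centre-free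
Sylow 3 subgroups are not normal, is the symmetric group of degree 4. -/
theorem iso_s4 (h24 : Nat.card G = 24) (u v : G) (hu : u * u = 1) (hv : v * v = 1)
    (huv : u * v * (u * v) = 1) (h1 : Nat.card (Subgroup.centralizer ({u} : Set G)) = 8)
    (h2 : Nat.card (Subgroup.centralizer ({v} : Set G)) = 8)
    (h3 : Nat.card (Subgroup.centralizer ({u * v} : Set G)) = 8)
    (hcen : ∀ k : G, k ^ 2 = 1 → (∀ g, g * k = k * g) → k = 1) :
    Nonempty (G ≃* Equiv.Perm (Fin 4)) := by
  obtain ⟨P⟩ := (inferInstance : Nonempty (Sylow 3 G))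
  have hP : Nat.card (P : Subgroup G) = 3 := by
    rw [P.card_eq_multiplicity, h24]
    have : (24 : ℕ).factorization 3 = 1 := by
      rw [Nat.factorization_def _ Nat.prime_three, show (24 : ℕ) = 3 ^ 1 * 8 from rfl,
        padicValNat.mul (by norm_num) (by norm_num), padicValNat.prime_pow,
        padicValNat.eq_zero_of_not_dvd (by norm_num)]
    rw [this]; norm_num
  have hidx : (P : Subgroup G).index = 8 := by
    have := (P : Subgroup G).card_mul_index
    rw [hP, h24] at this; omega
  have hd : Nat.card (Sylow 3 G) ∣ 8 := hidx ▸ P.card_dvd_index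
  have hmod := card_sylow_modEq_one 3 G
  have hne : ¬ (P : Subgroup G).Normal := by
    intro hn
    haveI := hn
    have hfree : ∀ w : G, Nat.card (Subgroup.centralizer ({w} : Set G)) = 8 →
        (P : Subgroup G) ⊓ Subgroup.centralizer ({w} : Set G) = ⊥ := fun w hw =>
      inf_bot_of_coprime (by rw [hP, hw]; decide)
    have := no_free (N := (P : Subgroup G)) (by rw [hP]; decide) u v hu hv huv (hfree u h1) (hfree v h2)
      (hfree _ h3)
    rw [this, Subgroup.card_bot] at hP; omega
  have hn4 : Nat.card (Sylow 3 G) = 4 := by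
    have hle := Nat.le_of_dvd (by norm_num) hd
    have h1' : Nat.card (Sylow 3 G) ≠ 1 := fun e => hne (by
      have := P.card_eq_index_normalizer
      rw [e] at this
      exact Subgroup.normalizer_eq_top_iff.1 (Subgroup.index_eq_one.1 this.symm))
    unfold Nat.ModEq at hmod
    interval_cases hk : Nat.card (Sylow 3 G) <;> omega
  let e4 : Sylow 3 G ≃ Fin 4 := Finite.equivFinOfCardEq hn4
  let f : G →* Equiv.Perm (Fin 4) :=
    (e4.permCongrHom : Equiv.Perm (Sylow 3 G) →* Equiv.Perm (Fin 4)).comp (MulAction.toPermHom G (Sylow 3 G))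
  have hker : ∀ k ∈ f.ker, ∀ S : Sylow 3 G, k • S = S := by
    intro k hk S
    have := congrArg (fun π : Equiv.Perm (Fin 4) => π (e4 S)) (MonoidHom.mem_ker.1 hk)
    simpa [f] using this
  have hsub : f.ker ≤ Subgroup.normalizer (P : Set G) := fun k hk =>
    Sylow.smul_eq_iff_mem_normalizer.1 (hker k hk P)
  have hN6 : Nat.card (Subgroup.normalizer (P : Set G)) = 6 := by
    have := (Subgroup.normalizer (P : Set G)).card_mul_index
    rw [← P.card_eq_index_normalizer, hn4, h24] at this; omega
  have hkd : Nat.card f.ker ∣ 6 := hN6 ▸ Subgroup.card_dvd_of_le hsub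
  have hk3 : ¬ 3 ∣ Nat.card f.ker := by
    intro h3
    obtain ⟨⟨x, hx⟩, hox⟩ := exists_prime_orderOf_dvd_card' (G := f.ker) 3 h3
    rw [Subgroup.orderOf_mk] at hox
    have hall : ∀ S : Sylow 3 G, Subgroup.zpowers x = (S : Subgroup G) := by
      intro S
      have hz : IsPGroup 3 (Subgroup.zpowers x) := IsPGroup.of_card (n := 1) (by rw [Nat.card_zpowers, hox, pow_one])
      have hxN : x ∈ Subgroup.normalizer (S : Set G) := Sylow.smul_eq_iff_mem_normalizer.1 (hker x hx S)
      have := hz.to_sup_of_normal_right' S.isPGroup' (Subgroup.zpowers_le.2 hxN)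
      have hle : Subgroup.zpowers x ≤ (S : Subgroup G) :=
        (S.is_maximal' this le_sup_right) ▸ le_sup_left
      refine Subgroup.eq_of_le_of_card_ge hle ?_
      rw [Nat.card_zpowers, hox, S.card_eq_multiplicity, ← P.card_eq_multiplicity, hP]
    have : Subsingleton (Sylow 3 G) := ⟨fun S S' => Sylow.ext ((hall S).symm.trans (hall S'))⟩
    have := Nat.card_of_subsingleton P
    omega
  have hbot : f.ker = ⊥ := by
    classical
    refine (Subgroup.eq_bot_iff_forall _).2 fun k hk => ?_
    have h2' : Nat.card f.ker ∣ 2 := by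
      have : Nat.card f.ker ∈ Nat.divisors 6 := Nat.mem_divisors.2 ⟨hkd, by norm_num⟩
      rw [show Nat.divisors 6 = {1, 2, 3, 6} by decide] at this
      simp only [Finset.mem_insert, Finset.mem_singleton] at this
      rcases this with e | e | e | e <;> simp_all
    have hk2 : k ^ 2 = 1 := by
      have := orderOf_dvd_iff_pow_eq_one.1 ((Subgroup.orderOf_mk k hk ▸ orderOf_dvd_natCard (⟨k, hk⟩ : f.ker)).trans h2')
      exact this
    refine hcen k hk2 fun g => ?_
    by_cases hk1 : k = 1
    · simp [hk1]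
    have hg : g * k * g⁻¹ ∈ f.ker := (MonoidHom.normal_ker f).conj_mem k hk g
    have hcard : Nat.card f.ker ≤ 2 := Nat.le_of_dvd (by norm_num) h2'
    by_contra hne'
    have h3' : ({1, ⟨k, hk⟩, ⟨_, hg⟩} : Finset f.ker).card = 3 := by
      rw [Finset.card_eq_three]
      refine ⟨_, _, _, ?_, ?_, ?_, rfl⟩
      · exact fun e => hk1 (congrArg Subtype.val e).symm
      · intro e
        have : g * k * g⁻¹ = 1 := (congrArg Subtype.val e).symm
        exact hk1 (by simpa using this)
      · intro e
        exact hne' (mul_inv_eq_iff_eq_mul.1 (congrArg Subtype.val e).symm)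
    haveI := Fintype.ofFinite f.ker
    have := Finset.card_le_univ ({1, ⟨k, hk⟩, ⟨_, hg⟩} : Finset f.ker)
    rw [h3', ← Nat.card_eq_fintype_card] at this
    omega
  have hinj : Function.Injective f := (MonoidHom.ker_eq_bot_iff f).1 hbot
  have hbij : Function.Bijective f := hinj.bijective_of_nat_card_le (by
    rw [h24, Nat.card_perm, Nat.card_fin]; decide)
  exact ⟨MulEquiv.ofBijective f hbij⟩

/-- Conjugation fixed point count: the normalizer of a four group against the centralizer of one of
its involutions. -/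
theorem normalizer_card_le (V : Subgroup G) (hV : Nat.card V = 4) (z : G) (hz : z ∈ V) (hz1 : z ≠ 1) :
    Nat.card (Subgroup.normalizer (V : Set G)) ≤ 3 * Nat.card (Subgroup.centralizer ({z} : Set G)) := by
  classical
  set N := Subgroup.normalizer (V : Set G)
  let S := {x : G // x ∈ V ∧ x ≠ 1}
  let f : N → S := fun n => ⟨(n : G) * z * (n : G)⁻¹, (Subgroup.mem_normalizer_iff.1 n.2 z).1 hz, fun e => hz1 (by
    simpa using e)⟩
  haveI := Fintype.ofFinite N
  haveI := Fintype.ofFinite S
  have hS : Nat.card S = 3 := by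
    haveI := Fintype.ofFinite V
    let e : S ≃ {x : V // x ≠ 1} :=
      { toFun := fun x => ⟨⟨x.1, x.2.1⟩, fun e => x.2.2 (congrArg Subtype.val e)⟩
        invFun := fun x => ⟨x.1.1, x.1.2, fun e => x.2 (Subtype.ext e)⟩
        left_inv := fun x => rfl
        right_inv := fun x => rfl }
    rw [Nat.card_congr e, Nat.card_eq_fintype_card, Fintype.card_subtype_compl, Fintype.card_subtype_eq,
      ← Nat.card_eq_fintype_card, hV]
  have hfib : ∀ s : S, (Finset.univ.filter fun n => f n = s).card ≤
      Nat.card (Subgroup.centralizer ({z} : Set G)) := by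
    intro s
    rcases (Finset.univ.filter fun n => f n = s).eq_empty_or_nonempty with h | ⟨m, hm⟩
    · rw [h, Finset.card_empty]; exact Nat.zero_le _
    have hm' : (m : G) * z * (m : G)⁻¹ = s.1 := congrArg Subtype.val (Finset.mem_filter.1 hm).2
    rw [← Nat.card_eq_finsetCard]
    refine Nat.card_le_card_of_injective (fun n => ⟨(m : G)⁻¹ * (n.1 : G), ?_⟩) ?_
    · have hn' : (n.1 : G) * z * (n.1 : G)⁻¹ = s.1 := congrArg Subtype.val (Finset.mem_filter.1 n.2).2
      refine Subgroup.mem_centralizer_singleton_iff.2 ?_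
      have h := hn'.trans hm'.symm
      calc (m : G)⁻¹ * n.1 * z = (m : G)⁻¹ * ((n.1 : G) * z * (n.1 : G)⁻¹) * n.1 := by group
        _ = z * ((m : G)⁻¹ * n.1) := by rw [h]; group
    · intro x y e
      exact Subtype.ext (Subtype.ext (mul_left_cancel (congrArg Subtype.val e)))
  have hsum := Finset.card_eq_sum_card_fiberwise (f := f) (s := Finset.univ) (t := Finset.univ)
    (fun x _ => Finset.mem_univ _)
  have := Finset.sum_le_sum (fun s (_ : s ∈ (Finset.univ : Finset S)) => hfib s)
  rw [← hsum, Finset.sum_const, Finset.card_univ, Finset.card_univ, ← Nat.card_eq_fintype_card,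
    ← Nat.card_eq_fintype_card, hS, smul_eq_mul] at this
  exact this

/-- A subgroup of index 5 with trivial core in a group of order 120. -/
theorem iso_s5 (h120 : Nat.card G = 120) (H : Subgroup G) (hH : H.index = 5)
    (hcore : ∀ N : Subgroup G, N.Normal → N ≤ H → N = ⊥) : Nonempty (G ≃* Equiv.Perm (Fin 5)) := by
  let e5 : G ⧸ H ≃ Fin 5 := Finite.equivFinOfCardEq (by rw [← Subgroup.index_eq_card]; exact hH)
  let f : G →* Equiv.Perm (Fin 5) :=
    (e5.permCongrHom : Equiv.Perm (G ⧸ H) →* Equiv.Perm (Fin 5)).comp (MulAction.toPermHom G (G ⧸ H))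
  have hinj : Function.Injective f := by
    refine (MonoidHom.ker_eq_bot_iff f).1 (hcore _ (MonoidHom.normal_ker f) fun k hk => ?_)
    have := congrArg (fun π : Equiv.Perm (Fin 5) => π (e5 (QuotientGroup.mk 1))) (MonoidHom.mem_ker.1 hk)
    simp only [f, MonoidHom.comp_apply, MonoidHom.coe_coe, Equiv.Perm.one_apply] at this
    have h' : e5 (QuotientGroup.mk (k * 1)) = e5 (QuotientGroup.mk 1) := by
      simpa using this
    have := QuotientGroup.eq.1 (e5.injective h')
    simpa using H.inv_mem this
  exact ⟨MulEquiv.ofBijective f (hinj.bijective_of_nat_card_le (by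
    rw [h120, Nat.card_perm, Nat.card_fin]; decide))⟩

section Main

variable (z : G) (hz : orderOf z = 2) (e : ↥(Subgroup.centralizer ({z} : Set G)) ≃* DihedralGroup 4)

/-- The element of `G` with given coordinates. -/
def el (x : DihedralGroup 4) : G := (e.symm x : G)

omit [Finite G] in
theorem el_mul (x y : DihedralGroup 4) : el z e (x * y) = el z e x * el z e y := by simp [el]

omit [Finite G] in
theorem el_one : el z e 1 = 1 := by simp [el]

omit [Finite G] in
theorem el_inv (x : DihedralGroup 4) : el z e x⁻¹ = (el z e x)⁻¹ := by simp [el]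

omit [Finite G] in
theorem el_mem (x : DihedralGroup 4) : el z e x ∈ Subgroup.centralizer ({z} : Set G) := (e.symm x).2

omit [Finite G] in
theorem el_inj {x y : DihedralGroup 4} (h : el z e x = el z e y) : x = y :=
  e.symm.injective (Subtype.ext h)

omit [Finite G] in
theorem exists_el {g : G} (hg : g ∈ Subgroup.centralizer ({z} : Set G)) : ∃ x, el z e x = g :=
  ⟨e ⟨g, hg⟩, by simp [el]⟩

include e in
theorem card_C : Nat.card (Subgroup.centralizer ({z} : Set G)) = 8 := by
  rw [Nat.card_congr e.toEquiv, Nat.card_eq_fintype_card, DihedralGroup.card]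

include hz in
theorem el_r2 : el z e (r 2) = z := by
  have hm : z ∈ Subgroup.centralizer ({z} : Set G) := Subgroup.mem_centralizer_singleton_iff.2 rfl
  obtain ⟨x, hx⟩ := exists_el z e hm
  have hc : ∀ y, x * y = y * x := fun y => el_inj z e (by
    rw [el_mul, el_mul, hx]
    exact (Subgroup.mem_centralizer_singleton_iff.1 (el_mem z e y)).symm)
  rcases d4_center' x hc with rfl | rfl
  · exfalso
    rw [el_one] at hx
    rw [← hx, orderOf_one] at hz
    omega
  · exact hx

omit [Finite G] in
theorem el_pow (x : DihedralGroup 4) (n : ℕ) : el z e (x ^ n) = el z e x ^ n := by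
  simp only [el, map_pow, Subgroup.coe_pow]

include hz in
theorem z_mul (x : DihedralGroup 4) : z * el z e x = el z e (r 2 * x) := by
  have h := el_r2 z hz e
  calc z * el z e x = el z e (r 2) * el z e x := congrArg (· * el z e x) h.symm
    _ = _ := (el_mul z e _ _).symm

omit [Finite G] in
theorem el_sq (x : DihedralGroup 4) (h : x * x = 1) : el z e x * el z e x = 1 := by
  rw [← el_mul, h, el_one]

omit [Finite G] in
theorem el_conj (u x y : DihedralGroup 4) (h : u * x * u⁻¹ = y) : IsConj (el z e x) (el z e y) :=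
  isConj_iff.2 ⟨el z e u, by rw [← h, el_mul, el_mul, el_inv]⟩

include hz in
theorem invol_cases {g : G} (hg : g ∈ Subgroup.centralizer ({z} : Set G)) (h2 : g * g = 1) :
    g = 1 ∨ g = z ∨ g = el z e (sr 0) ∨ g = el z e (sr 2) ∨ g = el z e (sr 1) ∨ g = el z e (sr 3) := by
  obtain ⟨x, rfl⟩ := exists_el z e hg
  have hx : x * x = 1 := el_inj z e (by rw [el_mul, h2, el_one])
  rcases d4_invol x hx with rfl | rfl | rfl | rfl | rfl | rfl
  · exact Or.inl (el_one z e)
  · exact Or.inr (Or.inl (el_r2 z hz e))
  all_goals simp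

include hz e in
theorem exists_sylow : ∃ T : Sylow 2 G, (T : Subgroup G) = Subgroup.centralizer ({z} : Set G) ∧
    Subgroup.normalizer (T : Set G) = (T : Subgroup G) := by
  have hC8 := card_C z e
  have hCp : IsPGroup 2 (Subgroup.centralizer ({z} : Set G)) := IsPGroup.of_card (n := 3) (by rw [hC8]; norm_num)
  have hNC : Subgroup.normalizer ((Subgroup.centralizer ({z} : Set G)) : Set G) ≤ (Subgroup.centralizer ({z} : Set G)) := by
    intro g hg
    have hzC : z ∈ (Subgroup.centralizer ({z} : Set G)) := Subgroup.mem_centralizer_singleton_iff.2 rfl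
    have hgz : g * z * g⁻¹ ∈ (Subgroup.centralizer ({z} : Set G)) := (Subgroup.mem_normalizer_iff.1 hg z).1 hzC
    obtain ⟨x, hx⟩ := exists_el z e hgz
    have hc : ∀ y, x * y = y * x := fun y => el_inj z e (by
      rw [el_mul, el_mul, hx]
      have hy : g⁻¹ * el z e y * g ∈ (Subgroup.centralizer ({z} : Set G)) := by
        have := (Subgroup.mem_normalizer_iff.1 (inv_mem hg) _).1 (el_mem z e y)
        simpa using this
      have h := Subgroup.mem_centralizer_singleton_iff.1 hy
      calc g * z * g⁻¹ * el z e y = g * (z * (g⁻¹ * el z e y * g)) * g⁻¹ := by group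
        _ = g * (g⁻¹ * el z e y * g * z) * g⁻¹ := by rw [h]
        _ = el z e y * (g * z * g⁻¹) := by group)
    rcases d4_center' x hc with rfl | rfl
    · exfalso
      rw [el_one] at hx
      have : z = 1 := by simpa using hx.symm
      rw [this, orderOf_one] at hz
      omega
    · rw [el_r2 z hz e] at hx
      exact Subgroup.mem_centralizer_singleton_iff.2 (mul_inv_eq_iff_eq_mul.1 hx.symm)
  obtain ⟨T, hT⟩ := hCp.exists_le_sylow
  have hTC : (T : Subgroup G) = (Subgroup.centralizer ({z} : Set G)) := by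
    refine le_antisymm ?_ hT
    by_contra hne
    have hlt : (Subgroup.centralizer ({z} : Set G)).subgroupOf (T : Subgroup G) < ⊤ :=
      lt_top_iff_ne_top.2 fun h => hne (Subgroup.subgroupOf_eq_top.1 h)
    haveI := T.isPGroup'.isNilpotent
    have := Group.normalizerCondition_of_isNilpotent ((Subgroup.centralizer ({z} : Set G)).subgroupOf (T : Subgroup G)) hlt
    obtain ⟨x, hxN, hxC⟩ := SetLike.exists_of_lt this
    refine hxC (Subgroup.mem_subgroupOf.2 (hNC (Subgroup.mem_normalizer_iff.2 fun y => ?_)))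
    constructor
    · intro hy
      exact Subgroup.mem_subgroupOf.1 ((Subgroup.mem_normalizer_iff.1 hxN ⟨y, hT hy⟩).1 (Subgroup.mem_subgroupOf.2 hy))
    · intro hy
      have := (Subgroup.mem_normalizer_iff.1 (inv_mem hxN) ⟨_, hT hy⟩).1 (Subgroup.mem_subgroupOf.2 hy)
      have := Subgroup.mem_subgroupOf.1 this
      simpa [mul_assoc] using this
  refine ⟨T, hTC, le_antisymm (fun g hg => ?_) Subgroup.le_normalizer⟩
  rw [hTC] at ⊢
  apply hNC
  rw [← hTC]
  exact hg

-- Index two subgroup avoiding an involution that fuses into no other index two subgroup.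
include hz e in
theorem exists_index_two (T : Sylow 2 G) (hT : (T : Subgroup G) = Subgroup.centralizer ({z} : Set G))
    (Q : Subgroup G) (hQ : Q ≤ Subgroup.centralizer ({z} : Set G))
    (hQi : Q.relIndex (Subgroup.centralizer ({z} : Set G)) = 2) (u : G) (hu : orderOf u = 2)
    (huC : u ∈ Subgroup.centralizer ({z} : Set G)) (huQ : u ∉ Q) (hfus : ∀ q ∈ Q, ¬ IsConj u q) :
    ∃ M : Subgroup G, M.Normal ∧ M.index = 2 ∧ u ∉ M ∧
      Nat.card ↥(Subgroup.centralizer ({z} : Set G) ⊓ M) = 4 ∧
      ¬ 2 ∣ (Subgroup.centralizer ({z} : Set G) ⊓ M).relIndex M ∧ z ∈ M := by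
  rcases Cfsg.Agent.S0111.result T Q (hT ▸ hQ) (hT ▸ hQi) u hu (hT ▸ huC) huQ with
    ⟨M, hMn, hM2, huM⟩ | ⟨g, hg⟩
  swap
  · exact absurd (isConj_iff.2 ⟨g, rfl⟩) (hfus _ hg)
  haveI := hMn
  have h8 := card_C z e
  have hi : ((Subgroup.centralizer ({z} : Set G)) ⊓ M).relIndex (Subgroup.centralizer ({z} : Set G)) = 2 := by
    rw [inf_comm, Subgroup.inf_relIndex_right]
    have hle : M.relIndex (Subgroup.centralizer ({z} : Set G)) ∣ 2 := hM2 ▸ Subgroup.relIndex_dvd_index_of_normal M (Subgroup.centralizer ({z} : Set G))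
    rcases (Nat.dvd_prime Nat.prime_two).1 hle with h | h
    · exact absurd (Subgroup.relIndex_eq_one.1 h huC) huM
    · exact h
  have hCM : Nat.card ↥((Subgroup.centralizer ({z} : Set G)) ⊓ M) = 4 := by
    have := Subgroup.card_mul_index (((Subgroup.centralizer ({z} : Set G)) ⊓ M).subgroupOf (Subgroup.centralizer ({z} : Set G)))
    rw [Nat.card_congr (Subgroup.subgroupOfEquivOfLe inf_le_left).toEquiv] at this
    change Nat.card ↥((Subgroup.centralizer ({z} : Set G)) ⊓ M) * ((Subgroup.centralizer ({z} : Set G)) ⊓ M).relIndex (Subgroup.centralizer ({z} : Set G)) = Nat.card (Subgroup.centralizer ({z} : Set G)) at this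
    rw [hi, h8] at this
    omega
  refine ⟨M, hMn, hM2, huM, hCM, ?_, ?_⟩
  · intro h2
    have h1 := Subgroup.card_mul_index (((Subgroup.centralizer ({z} : Set G)) ⊓ M).subgroupOf M)
    rw [Nat.card_congr (Subgroup.subgroupOfEquivOfLe inf_le_right).toEquiv] at h1
    change Nat.card ↥((Subgroup.centralizer ({z} : Set G)) ⊓ M) * ((Subgroup.centralizer ({z} : Set G)) ⊓ M).relIndex M = Nat.card M at h1
    rw [hCM] at h1
    obtain ⟨k, hk⟩ := h2
    have h2' := M.card_mul_index
    rw [hM2, ← h1, hk] at h2'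
    have h16 : 2 ^ 4 ∣ Nat.card G := ⟨k, by rw [← h2']; ring⟩
    obtain ⟨H, hH⟩ := Sylow.exists_subgroup_card_pow_prime 2 h16
    obtain ⟨P, hP⟩ := (IsPGroup.of_card hH).exists_le_sylow
    have := Subgroup.card_le_of_le hP
    rw [hH, P.card_eq_multiplicity, ← T.card_eq_multiplicity, hT, h8] at this
    omega
  · rw [← el_r2 z hz e, show (r 2 : DihedralGroup 4) = r 1 * r 1 by decide, el_mul]
    exact Subgroup.mul_self_mem_of_index_two hM2 _

include hz e in
theorem case_none (ha : ¬ IsConj z (el z e (sr 0))) (hb : ¬ IsConj z (el z e (sr 1))) (T : Sylow 2 G)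
    (hT : (T : Subgroup G) = Subgroup.centralizer ({z} : Set G)) :
    Subgroup.centralizer ({z} : Set G) ⊔ Cfsg.oddCore G = ⊤ := by
  have h8 := card_C z e
  set a := el z e (sr 0) with haa
  have hoa : orderOf a = 2 := orderOf_eq_prime (by rw [pow_two]; exact el_sq z e _ (by decide))
    (fun h => by
      have := el_inj z e (h.trans (el_one z e).symm)
      revert this; decide)
  set R := Subgroup.zpowers (el z e (r 1)) with hR
  have hor : orderOf (el z e (r 1)) = 4 := by
    rw [el, Subgroup.orderOf_coe, MulEquiv.orderOf_eq, DihedralGroup.orderOf_r_one]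
  have hRC : R ≤ (Subgroup.centralizer ({z} : Set G)) := Subgroup.zpowers_le.2 (el_mem z e _)
  have hRi : R.relIndex (Subgroup.centralizer ({z} : Set G)) = 2 := by
    have := Subgroup.card_mul_index (R.subgroupOf (Subgroup.centralizer ({z} : Set G)))
    rw [Nat.card_congr (Subgroup.subgroupOfEquivOfLe hRC).toEquiv, Nat.card_zpowers, hor, h8] at this
    change 4 * R.relIndex (Subgroup.centralizer ({z} : Set G)) = 8 at this
    omega
  have haz : IsConj a (el z e (sr 2)) := el_conj z e _ _ _ d4_conj02
  have hbb : IsConj (el z e (sr 1)) (el z e (sr 3)) := el_conj z e _ _ _ d4_conj13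
  have hfusR : ∀ q ∈ R, ¬ IsConj a q := by
    intro q hq hcj
    have hq2 : q * q = 1 := by
      obtain ⟨c, rfl⟩ := isConj_iff.1 hcj
      calc c * a * c⁻¹ * (c * a * c⁻¹) = c * (a * a) * c⁻¹ := by group
        _ = 1 := by rw [el_sq z e _ (by decide)]; group
    obtain ⟨n, rfl⟩ := (Submonoid.mem_powers_iff _ _).1 (mem_powers_iff_mem_zpowers.2 hq)
    have hn : el z e (r 1) ^ n = el z e (r 1 ^ n) := (el_pow z e _ n).symm
    rw [hn] at hcj hq2
    rcases d4_invol (r 1 ^ n) (el_inj z e (by rw [el_mul, hq2, el_one])) with h | h | h | h | h | h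
    · rw [h, el_one] at hcj
      rw [isConj_one_left.1 hcj, orderOf_one] at hoa; omega
    · rw [h, el_r2 z hz e] at hcj
      exact ha hcj.symm
    all_goals (rw [DihedralGroup.r_one_pow] at h; cases h)
  have haR : a ∉ R := fun h => hfusR a h (IsConj.refl a)
  obtain ⟨M, hMn, hM2, haM, hcard, hodd, hzM⟩ :=
    exists_index_two z hz e T hT R hRC hRi a hoa (el_mem z e _) haR hfusR
  haveI := hMn
  set V := ((Subgroup.centralizer ({z} : Set G)) ⊓ M).subgroupOf M with hV
  have hVcard : Nat.card V = 4 := by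
    rw [hV, Nat.card_congr (Subgroup.subgroupOfEquivOfLe inf_le_right).toEquiv, hcard]
  obtain ⟨P, hP⟩ := exists_sylow_eq V (IsPGroup.of_card (n := 2) (by rw [hVcard]; norm_num)) hodd
  have hcompM : Cfsg.HasNormalPComplement 2 M := by
    refine burnside P ?_ ?_
    · intro x hx y hy
      have h := (IsPGroup.isMulCommutative_of_card_eq_prime_sq (p := 2) (G := (P : Subgroup M))
        (by rw [hP, hVcard]; norm_num))
      exact congrArg Subtype.val (h.is_comm.comm ⟨x, hx⟩ ⟨y, hy⟩)
    · intro n hn
      rw [show (P : Set M) = (V : Set M) from congrArg (fun H : Subgroup M => (H : Set M)) hP] at hn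
      rw [hP]
      have hzV : (⟨z, hzM⟩ : M) ∈ V := ⟨Subgroup.mem_centralizer_singleton_iff.2 rfl, hzM⟩
      have hnz := Subgroup.mem_subgroupOf.1 ((Subgroup.mem_normalizer_iff.1 hn _).1 hzV)
      set w := (n : G) * z * (n : G)⁻¹ with hw
      have hwz : IsConj z w := isConj_iff.2 ⟨n, rfl⟩
      have hwz2 : z * z = 1 := by
        have := pow_orderOf_eq_one z
        rwa [hz, pow_two] at this
      have hw2 : w * w = 1 := by
        rw [hw, show (n : G) * z * (n : G)⁻¹ * ((n : G) * z * (n : G)⁻¹) = n * (z * z) * (n : G)⁻¹ by group, hwz2]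
        group
      refine ⟨Subgroup.mem_centralizer_singleton_iff.2 ?_, n.2⟩
      have hnz' : w ∈ (Subgroup.centralizer ({z} : Set G)) ⊓ M := hnz
      rcases invol_cases z hz e hnz'.1 hw2 with h | h | h | h | h | h
      · exfalso
        have h' : IsConj z 1 := h ▸ hwz
        rw [isConj_one_left.1 h', orderOf_one] at hz; omega
      · exact (mul_inv_eq_iff_eq_mul.1 h).symm ▸ rfl
      · exact absurd (hwz.trans (h ▸ IsConj.refl _)) ha
      · exact absurd ((h ▸ hwz).trans haz.symm) ha
      · exact absurd (h ▸ hwz) hb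
      · exact absurd ((h ▸ hwz).trans hbb.symm) hb
  have hG := Cfsg.Lib.Transfer.hasNormalPComplement_of_pResidual (p := 2) M
    (Cfsg.Lib.Transfer.pResidual_le_of_index_eq_pow M (k := 1) (by rw [hM2, pow_one])) hcompM
  obtain ⟨P', N, hN, hcompl⟩ := hG
  haveI := hN
  obtain ⟨hco, k, hk⟩ := Cfsg.Lib.Transfer.coprime_card_of_isComplement' hcompl
  rw [eq_top_iff]
  have hle : N ≤ Cfsg.oddCore G := le_sSup ⟨hN, hco⟩
  refine le_trans ?_ (sup_le_sup_left hle (Subgroup.centralizer ({z} : Set G)))
  have hd1 : 8 ∣ Nat.card ↥((Subgroup.centralizer ({z} : Set G)) ⊔ N) := h8 ▸ Subgroup.card_dvd_of_le le_sup_left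
  have hd2 : Nat.card N ∣ Nat.card ↥((Subgroup.centralizer ({z} : Set G)) ⊔ N) := Subgroup.card_dvd_of_le le_sup_right
  have hP8 : Nat.card (P' : Subgroup G) = 8 := by
    rw [P'.card_eq_multiplicity, ← T.card_eq_multiplicity, hT, h8]
  have hG8 : Nat.card G = Nat.card N * 8 := by rw [← hcompl.card_mul, hP8]
  have hco8 : Nat.Coprime (Nat.card N) 8 := hco.pow_right 3
  have := hco8.mul_dvd_of_dvd_of_dvd hd2 hd1
  rw [← hG8] at this
  exact (Subgroup.eq_top_of_card_eq _ (Nat.dvd_antisymm (Subgroup.card_subgroup_dvd_card _) this)).ge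

include hz e in
theorem case_one (ha : IsConj z (el z e (sr 0))) (hb : ¬ IsConj z (el z e (sr 1))) (T : Sylow 2 G)
    (hT : (T : Subgroup G) = Subgroup.centralizer ({z} : Set G)) :
    Nonempty (G ≃* Equiv.Perm (Fin 4)) ∨ Nonempty (G ≃* Equiv.Perm (Fin 5)) := by
  have h8 := card_C z e
  set a := el z e (sr 0) with haa
  set b := el z e (sr 1) with hbb'
  have haz : IsConj a (el z e (sr 2)) := el_conj z e _ _ _ d4_conj02
  have hbb : IsConj b (el z e (sr 3)) := el_conj z e _ _ _ d4_conj13
  have hz2 : z * z = 1 := by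
    have := pow_orderOf_eq_one z
    rwa [hz, pow_two] at this
  have hz1 : z ≠ 1 := fun h => by rw [h, orderOf_one] at hz; omega
  have hob : orderOf b = 2 := orderOf_eq_prime (by rw [pow_two]; exact el_sq z e _ (by decide))
    (fun h => by
      have := el_inj z e (h.trans (el_one z e).symm)
      revert this; decide)
  -- the four group on `z` and `a`
  let Q : Subgroup G :=
    { carrier := el z e '' {x | x = 1 ∨ x = r 2 ∨ x = sr 0 ∨ x = sr 2}
      one_mem' := ⟨1, Or.inl rfl, el_one z e⟩
      mul_mem' := by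
        rintro _ _ ⟨x, hx, rfl⟩ ⟨y, hy, rfl⟩
        refine ⟨x * y, ?_, el_mul z e x y⟩
        simp only [Set.mem_ofPred_eq] at *
        revert x y; decide
      inv_mem' := by
        rintro _ ⟨x, hx, rfl⟩
        refine ⟨x⁻¹, ?_, el_inv z e x⟩
        simp only [Set.mem_ofPred_eq] at *
        revert x; decide }
  have hQC : Q ≤ (Subgroup.centralizer ({z} : Set G)) := by rintro _ ⟨x, -, rfl⟩; exact el_mem z e x
  have hQ4 : Nat.card Q = 4 := by
    have hf : Function.Injective (el z e) := fun x y h => el_inj z e h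
    rw [show Nat.card Q = (el z e '' {x | x = 1 ∨ x = r 2 ∨ x = sr 0 ∨ x = sr 2}).ncard from
      Nat.card_coe_set_eq _, Set.ncard_image_of_injective _ hf, Set.ncard_eq_toFinset_card']
    decide
  have hQi : Q.relIndex (Subgroup.centralizer ({z} : Set G)) = 2 := by
    have := Subgroup.card_mul_index (Q.subgroupOf (Subgroup.centralizer ({z} : Set G)))
    rw [Nat.card_congr (Subgroup.subgroupOfEquivOfLe hQC).toEquiv, hQ4, h8] at this
    change 4 * Q.relIndex (Subgroup.centralizer ({z} : Set G)) = 8 at this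
    omega
  have hzconj : ∀ q ∈ Q, q ≠ 1 → IsConj z q := by
    rintro _ ⟨x, rfl | rfl | rfl | rfl, rfl⟩ hq
    · exact absurd (el_one z e) hq
    · rw [el_r2 z hz e]
    · exact ha
    · exact ha.trans haz
  have hfus : ∀ q ∈ Q, ¬ IsConj b q := by
    intro q hq hcj
    by_cases h1 : q = 1
    · rw [h1] at hcj
      rw [isConj_one_left.1 hcj, orderOf_one] at hob; omega
    · exact hb ((hzconj q hq h1).trans hcj.symm)
  have hbQ : b ∉ Q := fun h => hfus b h (IsConj.refl b)
  obtain ⟨M, hMn, hM2, hbM, hcard, hodd, hzM⟩ :=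
    exists_index_two z hz e T hT Q hQC hQi b hob (el_mem z e _) hbQ hfus
  haveI := hMn
  have haM : a ∈ M := by
    obtain ⟨c, hc⟩ := isConj_iff.1 ha
    rw [← hc]; exact hMn.conj_mem z hzM c
  -- `(Subgroup.centralizer ({z} : Set G)) ∩ M` is the four group
  have hCM : (Subgroup.centralizer ({z} : Set G)) ⊓ M = Q := by
    symm
    refine Subgroup.eq_of_le_of_card_ge (fun q hq => ⟨hQC hq, ?_⟩) (by rw [hQ4, hcard])
    by_cases h1 : q = 1
    · rw [h1]; exact M.one_mem
    · obtain ⟨c, hc⟩ := isConj_iff.1 (hzconj q hq h1)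
      rw [← hc]; exact hMn.conj_mem z hzM c
  set x : M := ⟨z, hzM⟩ with hx
  have hox : orderOf x = 2 := by rw [hx, Subgroup.orderOf_mk, hz]
  have hCx : (Subgroup.centralizer ({x} : Set M)).map M.subtype = (Subgroup.centralizer ({z} : Set G)) ⊓ M := by
    ext g
    constructor
    · rintro ⟨y, hy, rfl⟩
      exact ⟨Subgroup.mem_centralizer_singleton_iff.2
        (congrArg Subtype.val (Subgroup.mem_centralizer_singleton_iff.1 hy)), y.2⟩
    · rintro ⟨h1, h2⟩
      exact ⟨⟨g, h2⟩, Subgroup.mem_centralizer_singleton_iff.2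
        (Subtype.ext (Subgroup.mem_centralizer_singleton_iff.1 h1)), rfl⟩
  have hC4 : Nat.card ↥(Subgroup.centralizer ({x} : Set M)) = 4 := by
    rw [← Subgroup.card_map_of_injective M.subtype_injective, hCx, hcard]
  have hCe : ∀ c ∈ Subgroup.centralizer ({x} : Set M), c ^ 2 = 1 := by
    intro c hc
    have : (c : G) ∈ Q := hCM ▸ hCx ▸ Subgroup.mem_map_of_mem _ hc
    obtain ⟨y, hy, hye⟩ := this
    apply Subtype.ext
    show (c : G) ^ 2 = 1
    rw [← hye, pow_two]
    exact el_sq z e y (by rcases hy with rfl | rfl | rfl | rfl <;> decide)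
  have hncG : ¬ Cfsg.HasNormalPComplement 2 G := by
    rintro ⟨P, N, hN, hcompl⟩
    haveI := hN
    obtain ⟨hco, k, hk⟩ := Cfsg.Lib.Transfer.coprime_card_of_isComplement' hcompl
    obtain ⟨c, hc⟩ := isConj_iff.1 ha
    let π := QuotientGroup.mk' N
    have hinj : ∀ g ∈ (Subgroup.centralizer ({z} : Set G)), π g = 1 → g = 1 := by
      intro g hg h
      have hgN : g ∈ N := (QuotientGroup.eq_one_iff g).1 h
      have : g ∈ (Subgroup.centralizer ({z} : Set G)) ⊓ N := ⟨hg, hgN⟩
      rw [inf_bot_of_coprime (by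
        rw [h8]; exact (hco.pow_right 3).symm)] at this
      exact this
    have hG8 : Nat.card G = Nat.card N * 8 := by
      rw [← hcompl.card_mul, P.card_eq_multiplicity, ← T.card_eq_multiplicity, hT, h8]
    have hsurj : Function.Bijective (fun g : (Subgroup.centralizer ({z} : Set G)) => π (g : G)) := by
      have hi : Function.Injective (fun g : (Subgroup.centralizer ({z} : Set G)) => π (g : G)) := by
        intro g g' h
        have h' : π (g : G) = π (g' : G) := h
        have : π ((g : G)⁻¹ * g') = 1 := by rw [map_mul, map_inv, h', inv_mul_cancel]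
        exact Subtype.ext (inv_mul_eq_one.1 (hinj _ (mul_mem (inv_mem g.2) g'.2) this))
      refine hi.bijective_of_nat_card_le ?_
      rw [h8, ← Subgroup.index_eq_card]
      have := N.card_mul_index
      rw [hG8] at this
      exact (Nat.eq_of_mul_eq_mul_left Nat.card_pos this).le
    obtain ⟨⟨c', hc'⟩, hcc⟩ := hsurj.2 (π c)
    have he' : π a = π z := by
      have hcc' : π c' = π c := hcc
      rw [← hc, map_mul, map_mul, map_inv, ← hcc', ← map_inv, ← map_mul, ← map_mul,
        mul_inv_eq_iff_eq_mul.2 (Subgroup.mem_centralizer_singleton_iff.1 hc')]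
    have : π (z⁻¹ * a) = 1 := by rw [map_mul, map_inv, he', inv_mul_cancel]
    have h := hinj _ (mul_mem (inv_mem (Subgroup.mem_centralizer_singleton_iff.2 rfl)) (el_mem z e _)) this
    rw [inv_mul_eq_one] at h
    have := el_inj z e ((el_r2 z hz e).trans h)
    revert this; decide
  have hnc : ¬ Cfsg.HasNormalPComplement 2 M := fun h => hncG
    (Cfsg.Lib.Transfer.hasNormalPComplement_of_pResidual (p := 2) M
      (Cfsg.Lib.Transfer.pResidual_le_of_index_eq_pow M (k := 1) (by rw [hM2, pow_one])) h)
  have hVodd : ¬ 2 ∣ (((Subgroup.centralizer ({z} : Set G)) ⊓ M).subgroupOf M).index := hodd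
  have hmG := M.card_mul_index
  rw [hM2] at hmG
  have hb2 : b * b = 1 := el_sq z e _ (by decide)
  have ha2 : a * a = 1 := el_sq z e _ (by decide)
  have hcconj : ∀ q, IsConj z q → Nat.card (Subgroup.centralizer ({q} : Set G)) = 8 := by
    intro q hq
    obtain ⟨c, rfl⟩ := isConj_iff.1 hq
    rw [← h8]
    refine Nat.card_congr
      { toFun := fun g => ⟨c⁻¹ * g * c, Subgroup.mem_centralizer_singleton_iff.2 ?_⟩
        invFun := fun g => ⟨c * g * c⁻¹, Subgroup.mem_centralizer_singleton_iff.2 ?_⟩
        left_inv := fun g => Subtype.ext (by group)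
        right_inv := fun g => Subtype.ext (by group) }
    · have := Subgroup.mem_centralizer_singleton_iff.1 g.2
      calc c⁻¹ * (g : G) * c * z = c⁻¹ * ((g : G) * (c * z * c⁻¹)) * c := by group
        _ = c⁻¹ * (c * z * c⁻¹ * g) * c := by rw [this]
        _ = z * (c⁻¹ * (g : G) * c) := by group
    · have := Subgroup.mem_centralizer_singleton_iff.1 g.2
      calc c * (g : G) * c⁻¹ * (c * z * c⁻¹) = c * ((g : G) * z) * c⁻¹ := by group
        _ = c * (z * g) * c⁻¹ := by rw [this]
        _ = c * z * c⁻¹ * (c * (g : G) * c⁻¹) := by group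
  have hNV : Nat.card (Subgroup.normalizer (Q : Set G)) ∣ 24 ∧
      ¬ (Subgroup.normalizer (((Subgroup.centralizer ({z} : Set G)) ⊓ M).subgroupOf M : Set M)) ≤ ((Subgroup.centralizer ({z} : Set G)) ⊓ M).subgroupOf M := by
    constructor
    · have hzQ : z ∈ Q := ⟨r 2, Or.inr (Or.inl rfl), el_r2 z hz e⟩
      have hle := normalizer_card_le Q hQ4 z hzQ hz1
      rw [h8] at hle
      have hCN : (Subgroup.centralizer ({z} : Set G)) ≤ Subgroup.normalizer (Q : Set G) :=
        (Subgroup.normal_subgroupOf_iff_le_normalizer hQC).1 (Subgroup.normal_of_index_eq_two hQi)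
      obtain ⟨k, hk⟩ := h8 ▸ Subgroup.card_dvd_of_le hCN
      have hd : 8 * k ∣ Nat.card G := hk ▸ Subgroup.card_subgroup_dvd_card _
      have hk2 : k ≠ 2 := by
        rintro rfl
        obtain ⟨H, hH⟩ := Sylow.exists_subgroup_card_pow_prime (p := 2) (n := 4) (G := G) (by simpa using hd)
        obtain ⟨P, hP⟩ := (IsPGroup.of_card hH).exists_le_sylow
        have := Subgroup.card_le_of_le hP
        rw [hH, P.card_eq_multiplicity, ← T.card_eq_multiplicity, hT, h8] at this
        omega
      rw [hk]
      have : k ≤ 3 := by omega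
      have : k ≠ 0 := by rintro rfl; exact Nat.card_pos.ne' hk
      interval_cases k <;> first | omega | norm_num
    · intro hle
      obtain ⟨P, hP⟩ := exists_sylow_eq (((Subgroup.centralizer ({z} : Set G)) ⊓ M).subgroupOf M) (IsPGroup.of_card (n := 2) (by
        rw [Nat.card_congr (Subgroup.subgroupOfEquivOfLe inf_le_right).toEquiv, hcard]; norm_num)) hVodd
      refine hnc (burnside P ?_ ?_)
      swap
      · rw [show (P : Set M) = (((Subgroup.centralizer ({z} : Set G)) ⊓ M).subgroupOf M : Set M) from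
          congrArg (fun H : Subgroup M => (H : Set M)) hP, hP]
        exact hle
      intro u hu v hv
      have h := (IsPGroup.isMulCommutative_of_card_eq_prime_sq (p := 2) (G := (P : Subgroup M))
        (by rw [hP, Nat.card_congr (Subgroup.subgroupOfEquivOfLe inf_le_right).toEquiv, hcard]; norm_num))
      exact congrArg Subtype.val (h.is_comm.comm ⟨u, hu⟩ ⟨v, hv⟩)
  obtain ⟨hN24, hNne⟩ := hNV
  have hcen : ∀ k : G, k ^ 2 = 1 → (∀ g, g * k = k * g) → k = 1 := by
    intro k hk hg
    obtain ⟨w, hw⟩ := exists_el z e (Subgroup.mem_centralizer_singleton_iff.2 (hg z).symm)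
    have hcw : ∀ y, w * y = y * w := fun y => el_inj z e (by
      rw [el_mul, el_mul, hw]; exact (hg _).symm)
    rcases d4_center' w hcw with rfl | rfl
    · rw [← hw, el_one]
    · exfalso
      rw [el_r2 z hz e] at hw
      obtain ⟨c, hc⟩ := isConj_iff.1 ha
      rw [hw, hg c, mul_inv_cancel_right, haa] at hc
      have := el_inj z e ((el_r2 z hz e).trans (hw.trans hc))
      revert this; decide
  by_cases hsmall : Nat.card M = 12
  · left
    refine iso_s4 (by omega) z a hz2 ha2 ?_ h8 (hcconj a ha) ?_ hcen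
    · rw [haa, z_mul z hz e]; exact el_sq z e _ (by decide)
    · refine hcconj _ (ha.trans ?_)
      rw [haa, z_mul z hz e, show (r 2 : DihedralGroup 4) * sr 0 = sr 2 by decide]
      exact haz
  · right
    have hne : ∀ E : Subgroup M, E.Normal → Cfsg.IsElementaryAbelian 2 E →
        Nat.card ↥E ≠ 2 ∧ Nat.card ↥E ≠ 4 := by
      intro E hEn hEe
      obtain ⟨P, hP⟩ := exists_sylow_eq (((Subgroup.centralizer ({z} : Set G)) ⊓ M).subgroupOf M) (IsPGroup.of_card (n := 2) (by
        rw [Nat.card_congr (Subgroup.subgroupOfEquivOfLe inf_le_right).toEquiv, hcard]; norm_num)) hVodd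
      haveI := hEn
      have key : ∀ n : ℕ, n = 1 ∨ n = 2 → Nat.card E = 2 ^ n → False := by
        intro n hn hEcard
        have hEP : IsPGroup 2 E := IsPGroup.of_card hEcard
        have hsup := hEP.to_sup_of_normal_left' P.isPGroup' (by rw [Subgroup.normalizer_eq_top E]; exact le_top)
        have hle : E ≤ ((Subgroup.centralizer ({z} : Set G)) ⊓ M).subgroupOf M := by
          rw [← hP]
          exact (P.is_maximal' hsup le_sup_right) ▸ le_sup_left
        rcases hn with rfl | rfl
        · obtain ⟨⟨w, hw⟩, how⟩ := exists_prime_orderOf_dvd_card' (G := E) 2 (by rw [hEcard]; norm_num)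
          rw [Subgroup.orderOf_mk] at how
          have hwQ : (w : G) ∈ Q := hCM ▸ Subgroup.mem_subgroupOf.1 (hle hw)
          have hwz := hzconj _ hwQ (fun h => by
            rw [show w = 1 from Subtype.ext h, orderOf_one] at how; omega)
          have hcentral : ∀ g : M, g * w = w * g := by
            intro g
            have hg : g * w * g⁻¹ ∈ E := hEn.conj_mem w hw g
            haveI := Fintype.ofFinite E
            by_contra hgw
            classical
            have h3 : ({1, ⟨w, hw⟩, ⟨_, hg⟩} : Finset E).card = 3 := by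
              rw [Finset.card_eq_three]
              refine ⟨_, _, _, ?_, ?_, ?_, rfl⟩
              · intro h
                rw [show w = 1 from (congrArg Subtype.val h).symm, orderOf_one] at how; omega
              · intro h
                have h' : g * w * g⁻¹ = 1 := (congrArg Subtype.val h).symm
                have : w = 1 := by simpa using h'
                rw [this, orderOf_one] at how; omega
              · intro h
                exact hgw (mul_inv_eq_iff_eq_mul.1 (congrArg Subtype.val h).symm)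
            have := Finset.card_le_univ ({1, ⟨w, hw⟩, ⟨_, hg⟩} : Finset E)
            rw [h3, ← Nat.card_eq_fintype_card, hEcard] at this
            norm_num at this
          have hMle : M ≤ Subgroup.centralizer ({(w : G)} : Set G) := fun g hg =>
            Subgroup.mem_centralizer_singleton_iff.2 (congrArg Subtype.val (hcentral ⟨g, hg⟩))
          have hd : Nat.card M ∣ 8 := hcconj _ hwz ▸ Subgroup.card_dvd_of_le hMle
          have hM2g : IsPGroup 2 M := by
            obtain ⟨k, -, hk⟩ := (Nat.dvd_prime_pow Nat.prime_two).1 (show Nat.card M ∣ 2 ^ 3 by norm_num; exact hd)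
            exact IsPGroup.of_card hk
          exact hnc (Cfsg.Lib.Transfer.hasNormalPComplement_of_isPGroup hM2g)
        · have hEV : E = ((Subgroup.centralizer ({z} : Set G)) ⊓ M).subgroupOf M := Subgroup.eq_of_le_of_card_ge hle (by
            rw [hEcard, Nat.card_congr (Subgroup.subgroupOfEquivOfLe inf_le_right).toEquiv, hcard]; norm_num)
          have hnQ : Subgroup.normalizer (Q : Set G) ≥ M := by
            rw [← hCM]
            refine (Subgroup.normal_subgroupOf_iff_le_normalizer inf_le_right).1 ?_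
            exact hEV ▸ hEn
          have hd : Nat.card M ∣ 24 := (Subgroup.card_dvd_of_le hnQ).trans hN24
          have hd4 : 4 ∣ Nat.card M := hC4 ▸ Subgroup.card_subgroup_dvd_card _
          obtain ⟨j, hj⟩ := hd4
          have hj2 : ¬ 2 ∣ j := by
            intro h
            apply hVodd
            have h1 := (((Subgroup.centralizer ({z} : Set G)) ⊓ M).subgroupOf M).card_mul_index
            rw [Nat.card_congr (Subgroup.subgroupOfEquivOfLe inf_le_right).toEquiv, hcard, hj] at h1
            rwa [show (((Subgroup.centralizer ({z} : Set G)) ⊓ M).subgroupOf M).index = j by omega]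
          rw [hj] at hd hsmall
          have : j ∣ 6 := by
            obtain ⟨t, ht⟩ := hd
            exact ⟨t, by nlinarith⟩
          have hj6 := Nat.le_of_dvd (by norm_num) this
          have : j = 1 ∨ j = 3 := by
            interval_cases j <;> omega
          rcases this with rfl | rfl
          · exact hnc (Cfsg.Lib.Transfer.hasNormalPComplement_of_isPGroup (IsPGroup.of_card (n := 2) (by rw [hj]; norm_num)))
          · omega
      exact ⟨fun h => key 1 (Or.inl rfl) (by rw [h]; norm_num), fun h => key 2 (Or.inr rfl) (by rw [h]; norm_num)⟩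
    obtain ⟨eM⟩ := Cfsg.Agent.S3277.result x hox hC4 hCe hnc hne
    have hM60 : Nat.card M = 60 := by
      rw [Nat.card_congr eM.toEquiv, nat_card_alternatingGroup, Nat.card_fin]; decide
    haveI : IsSimpleGroup (alternatingGroup (Fin 5)) := alternatingGroup.isSimpleGroup (by simp)
    haveI : IsSimpleGroup M := eM.isSimpleGroup
    have h120 : Nat.card G = 120 := by omega
    have hN : Nat.card (Subgroup.normalizer (Q : Set G)) = 24 := by
      have hCN : (Subgroup.centralizer ({z} : Set G)) ≤ Subgroup.normalizer (Q : Set G) :=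
        (Subgroup.normal_subgroupOf_iff_le_normalizer hQC).1 (Subgroup.normal_of_index_eq_two hQi)
      obtain ⟨k, hk⟩ := h8 ▸ Subgroup.card_dvd_of_le hCN
      rw [hk] at hN24 ⊢
      have hk3 : k ∣ 3 := by
        obtain ⟨t, ht⟩ := hN24
        exact ⟨t, by nlinarith⟩
      rcases (Nat.dvd_prime Nat.prime_three).1 hk3 with rfl | rfl
      · exfalso
        have hNC : Subgroup.normalizer (Q : Set G) = (Subgroup.centralizer ({z} : Set G)) :=
          (Subgroup.eq_of_le_of_card_ge hCN (by rw [hk, h8])).symm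
        apply hNne
        intro n hn
        refine Subgroup.mem_subgroupOf.2 ⟨?_, n.2⟩
        show (n : G) ∈ (Subgroup.centralizer ({z} : Set G))
        rw [← hNC, ← hCM]
        refine Subgroup.mem_normalizer_iff.2 fun y => ?_
        constructor
        · intro hy
          exact Subgroup.mem_subgroupOf.1 ((Subgroup.mem_normalizer_iff.1 hn ⟨y, hy.2⟩).1 (Subgroup.mem_subgroupOf.2 hy))
        · intro hy
          have hyM : y ∈ M := by
            have := hMn.conj_mem _ hy.2 (n : G)⁻¹
            simpa [mul_assoc] using this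
          exact Subgroup.mem_subgroupOf.1 ((Subgroup.mem_normalizer_iff.1 hn ⟨y, hyM⟩).2 (Subgroup.mem_subgroupOf.2 hy))
      · rfl
    have hHi : (Subgroup.normalizer (Q : Set G)).index = 5 := by
      have := (Subgroup.normalizer (Q : Set G)).card_mul_index
      rw [hN, h120] at this; omega
    refine iso_s5 h120 _ hHi fun K hK hKN => ?_
    haveI := hK
    have hKM : (K.subgroupOf M) = ⊥ ∨ (K.subgroupOf M) = ⊤ :=
      (inferInstance : (K.subgroupOf M).Normal).eq_bot_or_eq_top
    rcases hKM with h | h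
    · rw [Subgroup.subgroupOf_eq_bot] at h
      refine (Subgroup.eq_bot_iff_forall _).2 fun k hk => ?_
      have hk2 : k ^ 2 = 1 := by
        have h1 : k ^ 2 ∈ M := by rw [pow_two]; exact Subgroup.mul_self_mem_of_index_two hM2 k
        exact Subgroup.disjoint_def.1 h (pow_mem hk 2) h1
      refine hcen k hk2 fun g => ?_
      -- conjugates of `k` differ from it by elements of `K ∩ M`
      by_cases hgk : g * k * g⁻¹ = k
      · exact mul_inv_eq_iff_eq_mul.1 hgk
      exfalso
      have hkK : g * k * g⁻¹ ∈ K := hK.conj_mem k hk g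
      have hkM : k ∉ M := fun hkM => hgk (by
        rw [Subgroup.disjoint_def.1 h hk hkM]; simp)
      have hprod : g * k * g⁻¹ * k⁻¹ ∈ M := by
        have hmm : g * k * g⁻¹ * k⁻¹ = ⁅g, k⁆ := rfl
        rw [hmm]
        haveI : IsMulCommutative (G ⧸ M) := ⟨⟨fun u v => by
          haveI : IsCyclic (G ⧸ M) := isCyclic_of_prime_card (p := 2) (by rw [← Subgroup.index_eq_card, hM2])
          exact IsCyclic.commGroup.mul_comm u v⟩⟩
        rw [← QuotientGroup.eq_one_iff, ← QuotientGroup.mk'_apply, map_commutatorElement,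
          commutatorElement_eq_one_iff_mul_comm]
        exact mul_comm' _ _
      exact hgk (mul_inv_eq_one.1 (Subgroup.disjoint_def.1 h (mul_mem hkK (inv_mem hk)) hprod))
    · exfalso
      rw [Subgroup.subgroupOf_eq_top] at h
      have := Subgroup.card_le_of_le (h.trans hKN)
      omega

include hz e in
theorem case_both (ha : IsConj z (el z e (sr 0))) (hb : IsConj z (el z e (sr 1))) (T : Sylow 2 G)
    (hT : (T : Subgroup G) = Subgroup.centralizer ({z} : Set G))
    (hNT : Subgroup.normalizer (T : Set G) = (T : Subgroup G)) :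
    Nonempty (G ≃* Matrix.SpecialLinearGroup (Fin 3) (ZMod 2)) ∨
      Nonempty (G ≃* ↥(alternatingGroup (Fin 6))) := by
  classical
  have h8 := card_C z e
  have haz : IsConj (el z e (sr 0)) (el z e (sr 2)) := el_conj z e _ _ _ d4_conj02
  have hbb : IsConj (el z e (sr 1)) (el z e (sr 3)) := el_conj z e _ _ _ d4_conj13
  have hz2 : z * z = 1 := by
    have := pow_orderOf_eq_one z
    rwa [hz, pow_two] at this
  have hz1 : z ≠ 1 := fun h => by rw [h, orderOf_one] at hz; omega
  have hfull : ∀ N : Subgroup G, N.Normal → z ∈ N → N = ⊤ := by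
    intro N hN hzN
    haveI := hN
    have hmem : ∀ g, IsConj z g → g ∈ N := by
      intro g hg
      obtain ⟨c, rfl⟩ := isConj_iff.1 hg
      exact hN.conj_mem z hzN c
    have hCN : (Subgroup.centralizer ({z} : Set G)) ≤ N := by
      intro g hg
      obtain ⟨x, rfl⟩ := exists_el z e hg
      obtain ⟨i, j, k, rfl⟩ := d4_gen x
      have h0 := hmem _ ha
      have h1 := hmem _ hb
      have hpow : ∀ (y : DihedralGroup 4) (n : ℕ), el z e y ∈ N → el z e (y ^ n) ∈ N := by
        intro y n hy
        rw [el_pow]; exact pow_mem hy n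
      have h10 : el z e (sr 1 * sr 0) ∈ N := by rw [el_mul]; exact mul_mem h1 h0
      rw [el_mul, el_mul]
      exact mul_mem (mul_mem (hpow _ _ h0) (hpow _ _ h10)) (hpow _ _ (by rw [el_mul]; exact mul_mem h10 h10))
    let T' : Sylow 2 N := T.subtype (hT ▸ hCN)
    have hfr := Sylow.normalizer_sup_eq_top T'
    have e1 : ((T' : Subgroup N).map N.subtype) = (T : Subgroup G) := by
      rw [Sylow.coe_subtype, Subgroup.subgroupOf_map_subtype, inf_eq_left.2 (hT ▸ hCN)]
    rw [show (((T' : Subgroup N).map N.subtype : Subgroup G) : Set G) = (T : Set G) from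
      congrArg (fun H : Subgroup G => (H : Set G)) e1, hNT, hT, sup_eq_right.2 hCN] at hfr
    exact hfr
  have hperf : commutator G = ⊤ := by
    refine hfull _ inferInstance ?_
    refine (el_r2 z hz e) ▸ ?_
    rw [← d4_z, el_mul, el_mul, el_mul, el_inv, el_inv]
    exact Subgroup.commutator_mem_commutator (Subgroup.mem_top _) (Subgroup.mem_top _)
  haveI : Nontrivial G := ⟨⟨z, 1, hz1⟩⟩
  haveI : IsSimpleGroup G := by
    refine ⟨fun N hN => ?_⟩
    by_cases heven : 2 ∣ Nat.card N
    · right
      obtain ⟨⟨w, hw⟩, how⟩ := exists_prime_orderOf_dvd_card' (G := N) 2 heven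
      rw [Subgroup.orderOf_mk] at how
      have hwp : IsPGroup 2 (Subgroup.zpowers w) :=
        IsPGroup.of_card (n := 1) (by rw [Nat.card_zpowers, how, pow_one])
      obtain ⟨S, hS⟩ := hwp.exists_le_sylow
      obtain ⟨g, hg⟩ := MulAction.exists_smul_eq G S T
      have hmem : g * w * g⁻¹ ∈ (T : Subgroup G) := by
        rw [← hg, Sylow.coe_subgroup_smul]
        exact Subgroup.smul_mem_pointwise_smul w (MulAut.conj g) _ (hS (Subgroup.mem_zpowers w))
      have hgN : g * w * g⁻¹ ∈ N := hN.conj_mem w hw g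
      have hw2 : w * w = 1 := by
        have := pow_orderOf_eq_one w
        rwa [how, pow_two] at this
      have hg2 : g * w * g⁻¹ * (g * w * g⁻¹) = 1 := by
        rw [show g * w * g⁻¹ * (g * w * g⁻¹) = g * (w * w) * g⁻¹ by group, hw2]; group
      have hsym : ∀ q, IsConj z q → g * w * g⁻¹ = q → z ∈ N := by
        intro q hq hgq
        obtain ⟨c, rfl⟩ := isConj_iff.1 hq.symm
        exact hN.conj_mem q (hgq ▸ hgN) c
      refine hfull N hN ?_
      rcases invol_cases z hz e (hT ▸ hmem) hg2 with h | h | h | h | h | h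
      · exfalso
        have : w = 1 := by simpa using h
        rw [this, orderOf_one] at how; omega
      · exact h ▸ hgN
      · exact hsym _ ha h
      · exact hsym _ (ha.trans haz) h
      · exact hsym _ hb h
      · exact hsym _ (hb.trans hbb) h
    · left
      haveI := hN
      have hodd : Odd (Nat.card N) := Nat.odd_iff.2 (by omega)
      have hfree : ∀ q, IsConj z q → N ⊓ Subgroup.centralizer ({q} : Set G) = ⊥ := by
        intro q hq
        refine (Subgroup.eq_bot_iff_forall _).2 fun n hn => ?_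
        obtain ⟨c, hcq⟩ := isConj_iff.1 hq.symm
        have hm : c * n * c⁻¹ ∈ (Subgroup.centralizer ({z} : Set G)) ⊓ N := ⟨Subgroup.mem_centralizer_singleton_iff.2 (by
          have := Subgroup.mem_centralizer_singleton_iff.1 hn.2
          rw [← hcq]
          calc c * n * c⁻¹ * (c * q * c⁻¹) = c * (n * q) * c⁻¹ := by group
            _ = c * (q * n) * c⁻¹ := by rw [this]
            _ = c * q * c⁻¹ * (c * n * c⁻¹) := by group), hN.conj_mem n hn.1 c⟩
        rw [inf_bot_of_coprime (by
          rw [h8]; exact (Nat.coprime_two_left.2 hodd).pow_left 3),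
          Subgroup.mem_bot] at hm
        simpa using hm
      refine no_free hodd z (el z e (sr 0)) hz2 (el_sq z e _ (by decide)) ?_ (hfree z (IsConj.refl z))
        (hfree _ ha) (hfree _ ?_)
      · rw [z_mul z hz e]; exact el_sq z e _ (by decide)
      · rw [z_mul z hz e, show (r 2 : DihedralGroup 4) * sr 0 = sr 2 by decide]
        exact ha.trans haz
  rcases Cfsg.Agent.S0848.result hperf z hz e with h | h
  · left
    haveI : Fact (Nat.Prime 7) := ⟨by norm_num⟩
    obtain ⟨e1⟩ := Cfsg.Agent.S0495.result h (F := ZMod 7) (ZMod.card 7)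
    obtain ⟨e2⟩ := Cfsg.Agent.S0255.result (F := ZMod 7) (K := ZMod 2) (ZMod.card 7) (ZMod.card 2)
    have hc : Subgroup.center (Matrix.SpecialLinearGroup (Fin 3) (ZMod 2)) = ⊥ := by
      rw [← Subgroup.card_eq_one, Cfsg.Lib.Classical.LinearOrders.card_center_sl (by norm_num), ZMod.card]
      rfl
    let e4 : Matrix.ProjectiveSpecialLinearGroup (Fin 3) (ZMod 2) ≃* Matrix.SpecialLinearGroup (Fin 3) (ZMod 2) :=
      (QuotientGroup.quotientMulEquivOfEq hc).trans QuotientGroup.quotientBot
    exact ⟨e1.trans (e2.trans e4)⟩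
  · right
    haveI : IsSimpleGroup (alternatingGroup (Fin 6)) := alternatingGroup.isSimpleGroup (by simp)
    exact Cfsg.Lib.Recog.ThreeSixty.nonempty_equiv h (by
      rw [nat_card_alternatingGroup, Nat.card_fin]; decide)

end Main


/-- Let G be a finite group with an involution z whose centralizer is dihedral of order 8. Then G = C_G(z) O(G) with O(G) the largest normal subgroup of odd order, or G is isomorphic to the symmetric group of degree 4, the symmetric group of degree 5, the group SL₃(2), or the alternating group of degree 6. -/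
theorem result {G : Type*} [Group G] [Finite G] (z : G) (hz : orderOf z = 2)
    (hC : Nonempty (↥(Subgroup.centralizer ({z} : Set G)) ≃* DihedralGroup 4)) :
    Subgroup.centralizer ({z} : Set G) ⊔ Cfsg.oddCore G = ⊤ ∨ Nonempty (G ≃* Equiv.Perm (Fin 4)) ∨ Nonempty (G ≃* Equiv.Perm (Fin 5)) ∨
      Nonempty (G ≃* Matrix.SpecialLinearGroup (Fin 3) (ZMod 2)) ∨ Nonempty (G ≃* ↥(alternatingGroup (Fin 6))) := by
  obtain ⟨e⟩ := hC
  obtain ⟨T, hT, hNT⟩ := exists_sylow z hz e
  by_cases ha : IsConj z (el z e (DihedralGroup.sr 0)) <;>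
    by_cases hb : IsConj z (el z e (DihedralGroup.sr 1))
  · rcases case_both z hz e ha hb T hT hNT with h | h
    · exact Or.inr (Or.inr (Or.inr (Or.inl h)))
    · exact Or.inr (Or.inr (Or.inr (Or.inr h)))
  · rcases case_one z hz e ha hb T hT with h | h
    · exact Or.inr (Or.inl h)
    · exact Or.inr (Or.inr (Or.inl h))
  · let e' := e.trans d4Swap
    have he : ∀ i, el z e' (DihedralGroup.sr (i + 1)) = el z e (DihedralGroup.sr i) := by
      intro i
      simp [el, e', d4Swap]
    have ha' : IsConj z (el z e' (DihedralGroup.sr 2)) := (he 1).symm ▸ hb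
    have h02 : IsConj (el z e' (DihedralGroup.sr 0)) (el z e' (DihedralGroup.sr 2)) :=
      el_conj z e' _ _ _ d4_conj02
    have hb' : ¬ IsConj z (el z e' (DihedralGroup.sr 1)) := (he 0).symm ▸ ha
    rcases case_one z hz e' (ha'.trans h02.symm) hb' T hT with h | h
    · exact Or.inr (Or.inl h)
    · exact Or.inr (Or.inr (Or.inl h))
  · exact Or.inl (case_none z hz e ha hb T hT)

end Cfsg.Agent.S3035
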