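import Cfsg.Statements.S3836
import Mathlib
import Cfsg.Agent.Lib.Solv.Cores
-- import your own Cfsg.Agent.* helpers here

set_option autoImplicit false
open Cfsg

namespace Cfsg.Agent.S3836

/-- Let G be a finite group that is p-stable in the normalizer form: for every p-subgroup Q and every x ∈ N_G(Q) with [Q, x, x] = 1, the image of x in N_G(Q)/C_G(Q) lies in O_p(N_G(Q)/C_G(Q)). Then every subgroup of G is p-stable in the same sense. -/
theorem result {G : Type*} [Group G] [Finite G] {p : ℕ} [Fact p.Prime] (hst : Cfsg.IsNormalizerPStable p G) (H : Subgroup G) : Cfsg.IsNormalizerPStable p ↥H := by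
  intro Q hQ g hg hcom
  set P := Q.map H.subtype with hP
  have hPp : IsPGroup p P := hQ.map _
  have hmem : ∀ n : Subgroup.normalizer (Q : Set H), ((n : H) : G) ∈ Subgroup.normalizer (P : Set G) :=
    fun n => Subgroup.le_normalizer_map H.subtype ⟨n, n.2, rfl⟩
  let ι : Subgroup.normalizer (Q : Set H) →* Subgroup.normalizer (P : Set G) :=
    (H.subtype.comp (Subgroup.normalizer (Q : Set H)).subtype).codRestrict _ hmem
  let f : (↥(Subgroup.normalizer (Q : Set H)) ⧸ (Subgroup.centralizer (Q : Set H)).subgroupOf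
      (Subgroup.normalizer (Q : Set H))) →*
      (↥(Subgroup.normalizer (P : Set G)) ⧸ (Subgroup.centralizer (P : Set G)).subgroupOf
      (Subgroup.normalizer (P : Set G))) :=
    QuotientGroup.map _ _ ι (fun n hn => by
      refine Subgroup.mem_centralizer_iff.2 ?_
      rintro _ ⟨y, hy, rfl⟩
      exact congrArg Subtype.val (Subgroup.mem_centralizer_iff.1 hn y hy))
  have hinj : Function.Injective f := by
    rw [← MonoidHom.ker_eq_bot_iff, eq_bot_iff]
    intro x hx
    obtain ⟨n, rfl⟩ := QuotientGroup.mk_surjective x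
    rw [Subgroup.mem_bot, QuotientGroup.eq_one_iff]
    have h1 : ι n ∈ (Subgroup.centralizer (P : Set G)).subgroupOf _ := (QuotientGroup.eq_one_iff _).1 hx
    refine Subgroup.mem_centralizer_iff.2 fun y hy => Subtype.ext ?_
    exact Subgroup.mem_centralizer_iff.1 h1 _ ⟨y, hy, rfl⟩
  have hG := hst P hPp (g : G) (hmem ⟨g, hg⟩) (by
    have h1 := congrArg (Subgroup.map H.subtype) hcom
    rwa [Subgroup.map_commutator, Subgroup.map_commutator, MonoidHom.map_zpowers, Subgroup.map_bot] at h1)
  haveI : (Cfsg.pCore p (↥(Subgroup.normalizer (P : Set G)) ⧸ (Subgroup.centralizer (P : Set G)).subgroupOf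
      (Subgroup.normalizer (P : Set G)))).Normal := inferInstance
  exact Cfsg.Lib.Solv.le_pCore (Subgroup.Normal.comap inferInstance f)
    ((Cfsg.Lib.Solv.isPGroup_pCore p).comap_of_injective f hinj) (Subgroup.mem_comap.2 hG)

end Cfsg.Agent.S3836
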