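import Cfsg.Statements.S3195
import Mathlib
import Cfsg.Agent.Lib.Invol.Dihedral
import Cfsg.Agent.Lib.ThreeT.Cores
-- import your own Cfsg.Agent.* helpers here

set_option autoImplicit false
open Cfsg

namespace Cfsg.Agent.S3195

open Cfsg.Lib.Invol

variable {G : Type*} [Group G] [Finite G]

theorem odd_pow_two_eq_one {t : G} (ht : Odd (orderOf t)) {k : ℕ} (h : t ^ 2 ^ k = 1) : t = 1 := by
  rw [← orderOf_eq_one_iff]
  exact Nat.eq_one_of_dvd_coprimes ((Nat.coprime_two_right.2 ht).pow_right k) dvd_rfl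
    (orderOf_dvd_of_pow_eq_one h)

theorem commute_of_commute_pow {t u : G} (hu : Odd (orderOf u)) {k : ℕ}
    (h : Commute t (u ^ 2 ^ k)) : Commute t u := by
  have hcop : (orderOf u).Coprime (2 ^ k) := (Nat.coprime_two_right.2 hu).pow_right k
  obtain ⟨m, hm⟩ := exists_pow_eq_self_of_coprime hcop.symm
  rw [← hm]
  exact h.pow_right m

theorem exists_odd_inverted (A : Set G) (a : G) (ha : orderOf a = 2) (hO : a ∉ Cfsg.pCore 2 G)
    (hab : ∀ x ∈ A, Commute x a)
    (h : ∀ g : G, ∃ x ∈ A, Commute x (g⁻¹ * a * g)) :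
    ∃ T : G, T ≠ 1 ∧ Odd (orderOf T) ∧ a * T * a = T⁻¹ ∧ ∃ x ∈ A, x ≠ a ∧ Commute x T := by
  obtain ⟨g, hg⟩ := not_forall.1 (fun hall => hO (Cfsg.Lib.ThreeT.baerSuzuki hall))
  set y := g * a * g⁻¹ with hy
  have hy2 : orderOf y = 2 := orderTwo_conj g ha
  set r := a * y with hr
  have hnot : ¬ ∃ k : ℕ, r ^ 2 ^ k = 1 := by
    rintro ⟨k, hk⟩
    refine hg fun d => ⟨k + 1, ?_⟩
    obtain ⟨j, hj | hj⟩ := (mem_closure_pair_iff ha hy2).1 d.2 <;> apply Subtype.ext <;>
      simp only [Subgroup.coe_pow, Subgroup.coe_one, hj]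
    · rw [← zpow_natCast, ← zpow_mul, mul_comm, zpow_mul, zpow_natCast, pow_succ, pow_mul, hk,
        one_pow, one_zpow]
    · have : ((a * y) ^ j * a) ^ 2 = 1 := by
        rw [pow_two, show (a * y) ^ j * a * ((a * y) ^ j * a) = (a * y) ^ j * (a * (a * y) ^ j) * a by
          group, left_mul_zpow ha hy2, ← mul_assoc ((a * y) ^ j), ← zpow_add, add_neg_cancel,
          zpow_zero, one_mul, mul_self_of_orderTwo ha]
      rw [pow_succ', pow_mul, this, one_pow]
  set k := (orderOf r).factorization 2 with hk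
  set t := r ^ 2 ^ k with ht
  have ht1 : t ≠ 1 := fun e => hnot ⟨k, e⟩
  have htodd : Odd (orderOf t) := by
    rw [ht, hk, orderOf_pow_of_dvd (by positivity) (Nat.ordProj_dvd _ _), ← Nat.coprime_two_right]
    exact (Nat.coprime_ordCompl Nat.prime_two (orderOf_pos r).ne').symm
  have hat : a * t * a = t⁻¹ := by
    have h1 : a * r * a⁻¹ = r⁻¹ := left_conj_mul ha hy2
    calc a * t * a = a * r ^ 2 ^ k * a⁻¹ := by rw [ht, inv_of_orderTwo ha]
      _ = t⁻¹ := by rw [← conj_pow, h1, inv_pow]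
  have hat' : t⁻¹ * a * t = a * t ^ 2 := by
    have : t⁻¹ * a = a * t := by
      rw [← hat, mul_assoc _ a a, mul_self_of_orderTwo ha, mul_one]
    rw [this, pow_two, mul_assoc]
  obtain ⟨x, hx, hxc⟩ := h t
  rw [hat'] at hxc
  have hxT : Commute x (t ^ 2) := by
    have := (hab x hx).mul_right hxc
    rwa [← mul_assoc, mul_self_of_orderTwo ha, one_mul] at this
  have hT2 : t ^ 2 ≠ 1 := fun e => ht1 (odd_pow_two_eq_one htodd (k := 1) (by simpa using e))
  refine ⟨t ^ 2, hT2, ?_, ?_, x, hx, ?_, hxT⟩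
  · exact htodd.of_dvd_nat (orderOf_pow_dvd 2)
  · have := congrArg (fun z => z ^ 2) hat
    simp only [pow_two] at this ⊢
    rw [mul_inv_rev, ← this]
    rw [show a * t * a * (a * t * a) = a * t * (a * a) * t * a by group,
      mul_self_of_orderTwo ha]
    group
  · rintro rfl
    have h2 : x * t ^ 2 * x = t ^ 2 := by
      rw [hxT.eq, mul_assoc, mul_self_of_orderTwo ha, mul_one]
    have h3 : x * t ^ 2 * x = (t ^ 2)⁻¹ := by
      have := congrArg (fun z => z ^ 2) hat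
      simp only [pow_two] at this ⊢
      rw [mul_inv_rev, ← this]
      rw [show x * t * x * (x * t * x) = x * t * (x * x) * t * x by group,
        mul_self_of_orderTwo ha]
      group
    rw [h2, ← mul_eq_one_iff_eq_inv, ← pow_two, ← pow_mul] at h3
    exact ht1 (odd_pow_two_eq_one htodd (k := 2) (by simpa using h3))

/-- `a, b, c = a * b` the involutions of a four group, `t` centralized by `b` and `u` by `a`. -/
theorem no_pair (a b c t u : G) (ha : a * a = 1) (hb : b * b = 1) (hc : c = a * b)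
    (hab : a * b = b * a) (ht : Odd (orderOf t)) (hu : Odd (orderOf u)) (ht1 : t ≠ 1) (hu1 : u ≠ 1)
    (hat : a * t * a = t⁻¹) (hbt : b * t * b = t) (hau : a * u * a = u) (hbu : b * u * b = u⁻¹)
    (h : ∀ x, x = a ∨ x = c → ∀ g : G,
      Commute a (g⁻¹ * x * g) ∨ Commute b (g⁻¹ * x * g) ∨ Commute c (g⁻¹ * x * g)) : False := by
  have hcc : c * c = 1 := by
    rw [hc, mul_assoc, ← mul_assoc b, ← hab, mul_assoc a b b, hb, mul_one, ha]
  let φ : ∀ x : G, x * x = 1 → (G →* G) := fun x hx =>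
    { toFun := fun z => x * z * x
      map_one' := by rw [mul_one, hx]
      map_mul' := fun z w => by
        rw [show x * z * x * (x * w * x) = x * z * (x * x) * w * x by group, hx, mul_one,
          mul_assoc x z w] }
  have hφ : ∀ x hx z, φ x hx z = x * z * x := fun _ _ _ => rfl
  have hcz : ∀ z, φ c hcc z = φ a ha (φ b hb z) := fun z => by
    simp only [hφ, hc]
    calc a * b * z * (a * b) = a * b * z * (b * a) := by rw [hab]
      _ = a * (b * z * b) * a := by group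
  have hfix : ∀ x (hx : x * x = 1) (z w : G), x * w = w * x → (Commute x (w * z) ↔ φ x hx z = z) := by
    intro x hx z w hw
    rw [hφ x hx]
    constructor
    · intro hcm
      have h1 : w * (x * z) = w * (z * x) := by
        calc w * (x * z) = x * (w * z) := by rw [← mul_assoc, ← hw, mul_assoc]
          _ = w * z * x := hcm.eq
          _ = w * (z * x) := mul_assoc _ _ _
      rw [mul_left_cancel h1, mul_assoc, hx, mul_one]
    · intro he
      have h1 : x * z = z * x := by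
        calc x * z = x * z * (x * x) := by rw [hx, mul_one]
          _ = z * x := by rw [← mul_assoc, he]
      show x * (w * z) = w * z * x
      rw [← mul_assoc, hw, mul_assoc, h1, mul_assoc]
  have hat' : t⁻¹ * a = a * t := by rw [← hat, mul_assoc _ a a, ha, mul_one]
  have hau' : u⁻¹ * a = a * u⁻¹ := by
    have h1 : a * u⁻¹ * a = u⁻¹ := by
      have := congrArg (·⁻¹) hau
      simp only [mul_inv_rev, inv_eq_of_mul_eq_one_right ha, ← mul_assoc] at this
      exact this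
    calc u⁻¹ * a = a * u⁻¹ * a * a := by rw [h1]
      _ = a * u⁻¹ := by rw [mul_assoc _ a a, ha, mul_one]
  have hinv : ∀ x (hx : x * x = 1) z, φ x hx z⁻¹ = (φ x hx z)⁻¹ := fun x hx z => map_inv _ z
  -- step 1: `t` and `u` commute
  have htu : Commute t u := by
    have e : (t * u)⁻¹ * a * (t * u) = a * (u⁻¹ * t ^ 2 * u) := by
      calc (t * u)⁻¹ * a * (t * u) = u⁻¹ * (t⁻¹ * a) * t * u := by group
        _ = (u⁻¹ * a) * (t * t) * u := by rw [hat']; group
        _ = a * (u⁻¹ * t ^ 2 * u) := by rw [hau', pow_two]; group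
    have ea : φ a ha (u⁻¹ * t ^ 2 * u) = u⁻¹ * (t ^ 2)⁻¹ * u := by
      rw [map_mul, map_mul, map_inv, map_pow, hφ a ha u, hφ a ha t, hau, hat, inv_pow]
    have eb : φ b hb (u⁻¹ * t ^ 2 * u) = u * t ^ 2 * u⁻¹ := by
      rw [map_mul, map_mul, map_inv, map_pow, hφ b hb u, hφ b hb t, hbu, hbt, inv_inv]
    rcases h a (Or.inl rfl) (t * u) with h1 | h1 | h1 <;> rw [e] at h1
    · have := (hfix a ha _ a rfl).1 h1
      rw [ea, mul_left_inj, mul_right_inj, inv_eq_iff_mul_eq_one, ← pow_two, ← pow_mul] at this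
      exact absurd (odd_pow_two_eq_one ht (k := 2) (by simpa using this)) ht1
    · have := (hfix b hb _ a hab.symm).1 h1
      rw [eb] at this
      have h2 : Commute (t ^ 2) (u ^ 2) := by
        show t ^ 2 * u ^ 2 = u ^ 2 * t ^ 2
        calc t ^ 2 * u ^ 2 = u * (u⁻¹ * t ^ 2 * u) * u := by rw [pow_two u]; group
          _ = u * (u * t ^ 2 * u⁻¹) * u := by rw [← this]
          _ = u ^ 2 * t ^ 2 := by rw [pow_two u]; group
      have h3 : Commute (t ^ 2) u := commute_of_commute_pow hu (k := 1) (by simpa using h2)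
      exact (commute_of_commute_pow ht (k := 1) (by simpa using h3.symm)).symm
    · have hca : c * a = a * c := by rw [hc, mul_assoc, ← hab]
      have := (hfix c hcc _ a hca).1 h1
      rw [hcz, eb, map_mul, map_mul, map_inv, map_pow, hφ a ha u, hφ a ha t, hau, hat, inv_pow] at this
      have h2 : Commute (t ^ 2) (u ^ 4) := by
        have h4 : u ^ 2 * (t ^ 2)⁻¹ * (u ^ 2)⁻¹ = t ^ 2 := by
          calc u ^ 2 * (t ^ 2)⁻¹ * (u ^ 2)⁻¹ = u * (u * (t ^ 2)⁻¹ * u⁻¹) * u⁻¹ := by rw [pow_two u]; group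
            _ = u * (u⁻¹ * t ^ 2 * u) * u⁻¹ := by rw [this]
            _ = t ^ 2 := by group
        have h5 : u ^ 2 * t ^ 2 * (u ^ 2)⁻¹ = (t ^ 2)⁻¹ := by
          calc u ^ 2 * t ^ 2 * (u ^ 2)⁻¹ = (u ^ 2 * (t ^ 2)⁻¹ * (u ^ 2)⁻¹)⁻¹ := by group
            _ = (t ^ 2)⁻¹ := by rw [h4]
        show t ^ 2 * u ^ 4 = u ^ 4 * t ^ 2
        calc t ^ 2 * u ^ 4 = u ^ 2 * (t ^ 2)⁻¹ * (u ^ 2)⁻¹ * u ^ 4 := by rw [h4]
          _ = u ^ 2 * (u ^ 2 * t ^ 2 * (u ^ 2)⁻¹) * (u ^ 2)⁻¹ * u ^ 4 := by rw [h5]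
          _ = u ^ 4 * t ^ 2 := by group
      have h3 : Commute (t ^ 2) u := commute_of_commute_pow hu (k := 2) (by simpa using h2)
      exact (commute_of_commute_pow ht (k := 1) (by simpa using h3.symm)).symm
  -- step 2: a conjugate of `c` commutes with none of `a, b, c`
  have e : (t * u)⁻¹ * c * (t * u) = c * (t ^ 2 * u ^ 2) := by
    have h1 : φ c hcc (t * u)⁻¹ = t * u := by
      rw [map_inv, hcz, map_mul, hφ b hb t, hφ b hb u, hbt, hbu, map_mul, map_inv, hφ a ha t, hφ a ha u, hat, hau,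
        ← mul_inv_rev, inv_inv, htu.eq]
    rw [hφ c hcc] at h1
    calc (t * u)⁻¹ * c * (t * u) = c * c * (t * u)⁻¹ * c * (t * u) := by rw [hcc, one_mul]
      _ = c * (c * (t * u)⁻¹ * c) * (t * u) := by group
      _ = c * ((t * u) * (t * u)) := by rw [h1, mul_assoc]
      _ = c * (t ^ 2 * u ^ 2) := by rw [pow_two, pow_two, htu.symm.mul_mul_mul_comm]
  have hca : a * c = c * a := by rw [hc, mul_assoc, ← hab]
  have hcb : b * c = c * b := by rw [hc, ← mul_assoc, ← hab]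
  rcases h c (Or.inr rfl) (t * u) with h1 | h1 | h1 <;> rw [e] at h1
  · have := (hfix a ha _ c hca).1 h1
    rw [map_mul, map_pow, map_pow, hφ a ha t, hφ a ha u, hat, hau, mul_left_inj, inv_pow,
      inv_eq_iff_mul_eq_one, ← pow_two, ← pow_mul] at this
    exact ht1 (odd_pow_two_eq_one ht (k := 2) (by simpa using this))
  · have := (hfix b hb _ c hcb).1 h1
    rw [map_mul, map_pow, map_pow, hφ b hb t, hφ b hb u, hbt, hbu, mul_right_inj, inv_pow,
      inv_eq_iff_mul_eq_one, ← pow_two, ← pow_mul] at this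
    exact hu1 (odd_pow_two_eq_one hu (k := 2) (by simpa using this))
  · have := (hfix c hcc _ c rfl).1 h1
    rw [hcz, map_mul, map_pow, map_pow, hφ b hb, hφ b hb, hbt, hbu, map_mul, map_pow, map_pow,
      map_inv, hφ a ha t, hφ a ha u, hat, hau, inv_pow, inv_pow] at this
    have h4 : t ^ 4 * u ^ 4 = 1 := by
      have h5 : (t ^ 2 * u ^ 2)⁻¹ = t ^ 2 * u ^ 2 := by
        rw [mul_inv_rev, ((htu.pow_pow 2 2).inv_inv.symm).eq]; exact this
      have h6 := inv_eq_iff_mul_eq_one.1 h5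
      rw [((htu.pow_pow 2 2).symm).mul_mul_mul_comm] at h6
      rwa [← pow_add, ← pow_add] at h6
    have h7 : t ^ 4 = (u ^ 4)⁻¹ := eq_inv_of_mul_eq_one_left h4
    have h8 : φ a ha (t ^ 4) = t ^ 4 := by
      rw [h7, map_inv, map_pow, hφ a ha u, hau]
    rw [map_pow, hφ a ha t, hat, inv_pow, inv_eq_iff_mul_eq_one, ← pow_two, ← pow_mul] at h8
    exact ht1 (odd_pow_two_eq_one ht (k := 3) (by simpa using h8))


/-- Let A be a Klein four-subgroup of a finite group G. If every G-conjugate of every involution of A commutes with some involution of A (its centralizer meets A nontrivially), then A meets the largest normal 2-subgroup O₂(G) nontrivially. -/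
theorem result {G : Type*} [Group G] [Finite G]
    (A : Subgroup G) (hA : IsKleinFour ↥A)
    (h : ∀ a ∈ A, a ≠ 1 → ∀ g : G, A ⊓ Subgroup.centralizer ({g * a * g⁻¹} : Set G) ≠ ⊥) :
    A ⊓ Cfsg.pCore 2 G ≠ ⊥ := by
  classical
  intro hbot
  haveI := hA
  have hord : ∀ x ∈ A, x ≠ 1 → orderOf x = 2 := by
    intro x hx hx1
    refine orderOf_eq_prime ?_ hx1
    have h2 : (⟨x, hx⟩ : A) ^ 2 = 1 := by
      rw [← IsKleinFour.exponent_two (G := A), Monoid.pow_exponent_eq_one]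
    exact congrArg Subtype.val h2
  have hcomm : ∀ x ∈ A, ∀ y ∈ A, x * y = y * x := fun x hx y hy =>
    congrArg Subtype.val (mul_comm_of_exponent_two (IsKleinFour.exponent_two (G := A)) ⟨x, hx⟩ ⟨y, hy⟩)
  have hO : ∀ x ∈ A, x ≠ 1 → x ∉ Cfsg.pCore 2 G := fun x hx hx1 hxO =>
    hx1 (Subgroup.mem_bot.1 (hbot ▸ Subgroup.mem_inf.2 ⟨hx, hxO⟩))
  have hA' : ∀ x ∈ A, x ≠ 1 → ∀ g : G,
      ∃ y ∈ {y : G | y ∈ A ∧ y ≠ 1}, Commute y (g⁻¹ * x * g) := by
    intro x hx hx1 g
    obtain ⟨y, hy, hy1⟩ := (Subgroup.bot_or_exists_ne_one _).resolve_left (h x hx hx1 g⁻¹)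
    rw [inv_inv] at hy
    exact ⟨y, ⟨(Subgroup.mem_inf.1 hy).1, hy1⟩,
      (Subgroup.mem_centralizer_singleton_iff.1 (Subgroup.mem_inf.1 hy).2)⟩
  have hW : ∀ x ∈ A, x ≠ 1 → ∃ T : G, T ≠ 1 ∧ Odd (orderOf T) ∧ x * T * x = T⁻¹ ∧
      ∃ y ∈ A, y ≠ 1 ∧ y ≠ x ∧ y * T * y = T := by
    intro x hx hx1
    obtain ⟨T, hT1, hT2, hT3, y, ⟨hy, hy1⟩, hyx, hyT⟩ :=
      exists_odd_inverted {y : G | y ∈ A ∧ y ≠ 1} x (hord x hx hx1) (hO x hx hx1)
        (fun y hy => hcomm y hy.1 x hx) (hA' x hx hx1)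
    refine ⟨T, hT1, hT2, hT3, y, hy, hy1, hyx, ?_⟩
    rw [hyT.eq, mul_assoc, Cfsg.Lib.Invol.mul_self_of_orderTwo (hord y hy hy1), mul_one]
  have hsq : ∀ x ∈ A, x * x = 1 := fun x hx => by
    by_cases hx1 : x = 1
    · rw [hx1, one_mul]
    · exact Cfsg.Lib.Invol.mul_self_of_orderTwo (hord x hx hx1)
  -- the three involutions
  have hthree : ∀ x y z : G, x ∈ A → y ∈ A → z ∈ A → x ≠ 1 → y ≠ 1 → z ≠ 1 → x ≠ y → z ≠ x →
      z ≠ y → z = x * y := by
    intro x y z hx hy hz hx1 hy1 hz1 hxy hzx hzy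
    have := IsKleinFour.eq_mul_of_ne_all (G := A) (x := ⟨x, hx⟩) (y := ⟨y, hy⟩) (z := ⟨z, hz⟩)
      (by simpa [Subtype.ext_iff] using hx1) (by simpa [Subtype.ext_iff] using hy1)
      (by simpa [Subtype.ext_iff] using hxy) (by simpa [Subtype.ext_iff] using hz1)
      (by simpa [Subtype.ext_iff] using hzx) (by simpa [Subtype.ext_iff] using hzy)
    exact congrArg Subtype.val this
  obtain ⟨a, ha, ha1⟩ : ∃ x ∈ A, x ≠ 1 := by
    refine (Subgroup.bot_or_exists_ne_one A).resolve_left fun h0 => ?_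
    have := IsKleinFour.card_four (G := A)
    rw [h0, Subgroup.card_bot] at this
    omega
  obtain ⟨t, ht1, hto, hat, b, hb, hb1, hba, hbt⟩ := hW a ha ha1
  obtain ⟨u, hu1, huo, hbu, d, hd, hd1, hdb, hdu⟩ := hW b hb hb1
  have hmain : ∀ a c : G, a ∈ A → a ≠ 1 → a ≠ b → c = a * b → c ∈ A → c ≠ 1 →
      a * t * a = t⁻¹ → a * u * a = u → False := by
    intro a c ha ha1 hab hc hcA hc1 hat hau
    refine no_pair a b c t u (hsq a ha) (hsq b hb) hc (hcomm a ha b hb) hto huo ht1 hu1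
      hat hbt hau hbu fun x hx g => ?_
    have hxA : x ∈ A ∧ x ≠ 1 := by rcases hx with rfl | rfl <;> constructor <;> assumption
    obtain ⟨y, ⟨hy, hy1⟩, hyc⟩ := hA' x hxA.1 hxA.2 g
    by_cases hya : y = a
    · exact Or.inl (hya ▸ hyc)
    by_cases hyb : y = b
    · exact Or.inr (Or.inl (hyb ▸ hyc))
    · exact Or.inr (Or.inr (hc ▸ hthree a b y ha hb hy ha1 hb1 hy1 hab hya hyb ▸ hyc))
  have hc1 : a * b ≠ 1 := fun e => hba.symm (by
    calc a = a * (b * b) := by rw [hsq b hb, mul_one]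
      _ = b := by rw [← mul_assoc, e, one_mul])
  by_cases hda : d = a
  · subst hda
    exact hmain d (d * b) hd hd1 hba.symm rfl (mul_mem hd hb) hc1 hat hdu
  · have hd' := hthree a b d ha hb hd ha1 hb1 hd1 hba.symm hda hdb
    refine hmain d a hd hd1 hdb ?_ ha ha1 ?_ hdu
    · rw [hd', mul_assoc, hsq b hb, mul_one]
    · rw [hd', show a * b * t * (a * b) = a * b * t * (b * a) by rw [hcomm a ha b hb],
        show a * b * t * (b * a) = a * (b * t * b) * a by group, hbt, hat]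

end Cfsg.Agent.S3195
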