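import Cfsg.Statements.S3224
import Mathlib
import Cfsg.Agent.Lib.Transfer.TwoMaxClass
import Cfsg.Agent.Lib.Transfer.PGroupFrattini
-- import your own Cfsg.Agent.* helpers here

set_option autoImplicit false
open Cfsg

namespace Cfsg.Agent.S3224

/-- A finite 2-group containing an involution whose centralizer has order 4 is dihedral, quasi-dihedral (semidihedral), or of order 4. -/
theorem result {S : Type*} [Group S] [Finite S] (hS : IsPGroup 2 S)
    (x : S) (hx : orderOf x = 2) (hC : Nat.card ↥(Subgroup.centralizer ({x} : Set S)) = 4) :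
    (∃ n : ℕ, Nonempty (S ≃* DihedralGroup n)) ∨ Cfsg.IsQuasiDihedral S ∨ Nat.card S = 4 := by
  classical
  haveI : Fact (Nat.Prime 2) := ⟨Nat.prime_two⟩
  obtain ⟨n, hn⟩ := hS.exists_card_eq
  have h2 : 2 ≤ n := by
    have h := Subgroup.card_subgroup_dvd_card (Subgroup.centralizer ({x} : Set S))
    rw [hC, hn] at h
    have := Nat.le_of_dvd (by positivity) h
    by_contra hlt
    interval_cases n <;> norm_num at this
  rcases Nat.lt_or_ge n 3 with h3 | h3
  · right; right; rw [hn, show n = 2 by omega]; norm_num
  -- the class of x injects into the derived group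
  set C := Subgroup.centralizer ({x} : Set S) with hCdef
  let f : S ⧸ C → ↥(commutator S) := Quotient.lift (fun g => (⟨g * x * g⁻¹ * x⁻¹,
    Subgroup.commutator_mem_commutator (Subgroup.mem_top g) (Subgroup.mem_top x)⟩ : ↥(commutator S)))
    (fun a b hab => by
      have hab' : a⁻¹ * b ∈ C := QuotientGroup.leftRel_apply.1 hab
      rw [Subgroup.mem_centralizer_singleton_iff] at hab'
      apply Subtype.ext
      show a * x * a⁻¹ * x⁻¹ = b * x * b⁻¹ * x⁻¹
      congr 1
      calc a * x * a⁻¹ = a * (x * (a⁻¹ * b)) * b⁻¹ := by group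
        _ = a * ((a⁻¹ * b) * x) * b⁻¹ := by rw [hab']
        _ = b * x * b⁻¹ := by group)
  have hf : Function.Injective f := by
    intro p q
    induction p using Quotient.inductionOn with
    | h a =>
      induction q using Quotient.inductionOn with
      | h b =>
        intro h
        have h' : a * x * a⁻¹ * x⁻¹ = b * x * b⁻¹ * x⁻¹ := congrArg Subtype.val h
        refine Quotient.sound (QuotientGroup.leftRel_apply.2 ?_)
        rw [Subgroup.mem_centralizer_singleton_iff]
        have h'' := mul_right_cancel h'
        calc a⁻¹ * b * x = a⁻¹ * (b * x * b⁻¹) * b := by group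
          _ = a⁻¹ * (a * x * a⁻¹) * b := by rw [h'']
          _ = x * (a⁻¹ * b) := by group
  have hidxC : C.index ≤ Nat.card ↥(commutator S) := Nat.card_le_card_of_injective f hf
  have hle4 : (commutator S).index ≤ 4 := by
    have h1 := C.card_mul_index
    have h2 := (commutator S).card_mul_index
    rw [hC] at h1
    by_contra hgt
    have h4' : 5 * Nat.card ↥(commutator S) ≤ Nat.card ↥(commutator S) * (commutator S).index := by
      rw [mul_comm 5]; exact Nat.mul_le_mul_left _ (by omega)
    have hpos : 0 < Nat.card ↥(commutator S) := Nat.card_pos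
    omega
  have hgt2 : 2 < (commutator S).index := by
    by_contra hle
    obtain ⟨g, hg⟩ : ∃ g : S, Subgroup.zpowers g ⊔ frattini S = ⊤ := by
      by_cases htop : commutator S = ⊤
      · refine ⟨1, ?_⟩
        rw [eq_top_iff, ← htop]
        exact (Cfsg.Lib.Transfer.commutator_le_frattini hS).trans le_sup_right
      obtain ⟨g, -, hg⟩ := SetLike.exists_of_lt (lt_top_iff_ne_top.2 htop)
      refine ⟨g, eq_top_iff.2 (le_trans ?_ (sup_le_sup_left (Cfsg.Lib.Transfer.commutator_le_frattini hS) _))⟩
      have hidx2 : (commutator S).index = 2 := by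
        have : (commutator S).index ≠ 1 := fun h => htop (Subgroup.index_eq_one.1 h)
        have : (commutator S).index ≠ 0 := Subgroup.index_ne_zero_of_finite
        omega
      intro y _
      rcases em (y ∈ commutator S) with hy | hy
      · exact Subgroup.mem_sup_right hy
      · have h := (Subgroup.mul_mem_iff_of_index_two hidx2 (a := g⁻¹) (b := y)).2
          (by simp [hg, hy, inv_mem_iff])
        rw [show y = g * (g⁻¹ * y) by group]
        exact Subgroup.mul_mem_sup (Subgroup.mem_zpowers g) h
    have hcyc := frattini_nongenerating hg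
    have hcomm : ∀ a b : S, a * b = b * a := fun a b => by
      obtain ⟨i, rfl⟩ := Subgroup.mem_zpowers_iff.1 (hcyc.symm ▸ Subgroup.mem_top a : a ∈ Subgroup.zpowers g)
      obtain ⟨j, rfl⟩ := Subgroup.mem_zpowers_iff.1 (hcyc.symm ▸ Subgroup.mem_top b : b ∈ Subgroup.zpowers g)
      exact zpow_mul_comm g i j
    have : C = ⊤ := eq_top_iff.2 fun y _ => Subgroup.mem_centralizer_singleton_iff.2 (hcomm y x)
    rw [this, Subgroup.card_top, hn] at hC
    have : 2 ^ 3 ≤ 2 ^ n := Nat.pow_le_pow_right (by norm_num) h3
    omega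
  obtain ⟨j, -, hj⟩ := (Nat.dvd_prime_pow Nat.prime_two).1 (hn ▸ Subgroup.index_dvd_card (commutator S) :
    (commutator S).index ∣ 2 ^ n)
  have h4 : (commutator S).index = 4 := by
    rcases Nat.lt_or_ge j 3 with hj3 | hj3
    · interval_cases j <;> omega
    · have : 2 ^ 3 ≤ 2 ^ j := Nat.pow_le_pow_right (by norm_num) hj3
      omega
  rcases Cfsg.Lib.Transfer.classify_four h3 hn h4 with ⟨k, hk⟩ | ⟨k, hk, a, b, ha, hb, hab⟩ | ⟨k, ⟨e⟩⟩
  · exact Or.inl ⟨_, hk⟩
  · refine Or.inr (Or.inl ⟨k + 3, by omega, hk, a, b, ha, hb, ?_⟩)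
    rw [hab]; congr 1
  · exfalso
    have hex : orderOf (e x) = 2 := by rw [e.orderOf_eq, hx]
    have hsq : e x * e x = 1 := by
      have := pow_orderOf_eq_one (e x)
      rwa [hex, pow_two] at this
    have hcomm : ∀ y, y * e x = e x * y := by
      rcases hex' : e x with i | i
      · rw [hex', QuaternionGroup.a_mul_a, QuaternionGroup.one_def] at hsq
        have hii : i + i = 0 := QuaternionGroup.a.inj hsq
        rintro (j | j)
        · simp [add_comm]
        · simp only [QuaternionGroup.a_mul_xa, QuaternionGroup.xa_mul_a]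
          congr 1
          rw [sub_eq_add_neg, add_right_inj]
          exact eq_neg_of_add_eq_zero_left hii
      · exfalso
        rw [hex', QuaternionGroup.orderOf_xa] at hex
        norm_num at hex
    have : C = ⊤ := eq_top_iff.2 fun y _ => Subgroup.mem_centralizer_singleton_iff.2
      (e.injective (by rw [map_mul, map_mul, hcomm]))
    rw [this, Subgroup.card_top, hn] at hC
    have : 2 ^ 3 ≤ 2 ^ n := Nat.pow_le_pow_right (by norm_num) h3
    omega

end Cfsg.Agent.S3224
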