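import Cfsg.Statements.S3266
import Mathlib
import Cfsg.Agent.S2258
-- import your own Cfsg.Agent.* helpers here

set_option autoImplicit false
open Cfsg

namespace Cfsg.Agent.S3266

open Matrix Cfsg.Lib.PStable Cfsg.Lib.PSLTwoOdd Cfsg.Lib.Fusion.PSLTwo Cfsg.Agent.S2258

set_option linter.unusedSectionVars false

variable {F : Type*} [Field F] [Fintype F]

local notation "SL2" => Matrix.SpecialLinearGroup (Fin 2) F
local notation "π" => QuotientGroup.mk' (Subgroup.center (Matrix.SpecialLinearGroup (Fin 2) F))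

theorem uEs (s : F) : upperU s 0 0 = 1 ∧ upperU s 0 1 = s ∧ upperU s 1 0 = 0 ∧ upperU s 1 1 = 1 := by simp [upperU]

theorem trc_jay_mul (W : Matrix.SpecialLinearGroup (Fin 2) F) (h : W 0 1 = W 1 0) : trc (jay * W) = 0 := by
  simp only [trc, mul_entry]; simp [jE, h]

theorem trc_mul_jay (X : Matrix.SpecialLinearGroup (Fin 2) F) (h1 : X 0 1 = 0) (h2 : X 1 0 = 0) : trc (X * jay) = 0 := by
  simp only [trc, mul_entry]; simp [jE, h1, h2]

/-- A real splitting gives odd order in odd characteristic with three mod four. -/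
theorem odd_of_disc (hns : ∀ x : F, x * x ≠ -1) (g : Matrix.SpecialLinearGroup (Fin 2) F) (r : F)
    (e : trc g * trc g - 4 = r * r) : Odd (orderOf (π g)) := by
  classical
  obtain ⟨p, hp⟩ := CharP.exists F
  obtain ⟨n, hpp, hn⟩ := FiniteField.card F p
  have h2' : (2 : F) ≠ 0 := fun e2 => hns 1 (by linear_combination e2)
  have hp2 : p ≠ 2 := fun e2 => h2' (by
    subst e2
    exact_mod_cast CharP.cast_eq_zero F 2)
  haveI : NeZero (2 : F) := ⟨h2'⟩
  by_cases hg : IsScalar2 g
  · rw [show π g = 1 by rw [← map_one π, mk_eq_mk_iff]; exact (isScalar2_iff g).1 hg, orderOf_one]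
    exact odd_one
  by_cases hr : r = 0
  · have hodd : Odd p := hpp.odd_of_ne_two hp2
    obtain ⟨g', hg', ht⟩ : ∃ g' : SL2, π g' = π g ∧ trc g' = 2 := by
      rcases mul_self_eq_mul_self_iff.1 (show trc g * trc g = 2 * 2 by rw [hr] at e; linear_combination e) with t | t
      · exact ⟨g, rfl, t⟩
      · exact ⟨-g, (mk_eq_mk_iff _ _).2 (Or.inr rfl), by rw [trc_neg, t, neg_neg]⟩
    haveI := hp
    exact hodd.of_dvd_nat (orderOf_dvd_of_pow_eq_one (by rw [← hg', ← map_pow, pow_char_of_trc_two (p := p) ht, map_one]))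
  obtain ⟨k, hk⟩ : ∃ k, Fintype.card F = 4 * k + 3 := ⟨Fintype.card F / 4, by
    have h := FiniteField.isSquare_neg_one_iff (F := F)
    have : Fintype.card F % 4 = 3 := by
      by_contra hh
      obtain ⟨x, hx⟩ := h.2 hh
      exact hns x hx.symm
    omega⟩
  let X : SL2 := ⟨!![(trc g + r) / 2, 0; 0, (trc g - r) / 2], by simp [det_fin_two]; field_simp; linear_combination e⟩
  have hX : ¬ IsScalar2 X := fun e' => by
    have := e'.2.2
    simp [X] at this
    field_simp at this
    exact hr ((mul_eq_zero.1 (show (2 : F) * r = 0 by linear_combination this)).resolve_left h2')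
  obtain ⟨φ, hφ⟩ := conj_of_trc hX hg (by simp [X, trc]; field_simp; ring)
  refine Odd.of_dvd_nat (show Odd (2 * k + 1) from odd_two_mul_add_one k) (orderOf_dvd_of_pow_eq_one ?_)
  rw [← map_pow, ← hφ, ← map_pow]
  have key : ∀ m : ℕ, (X ^ m) 0 0 = X 0 0 ^ m ∧ (X ^ m) 0 1 = 0 ∧ (X ^ m) 1 0 = 0 ∧ (X ^ m) 1 1 = X 1 1 ^ m := by
    intro m
    induction m with
    | zero => simp
    | succ m ih =>
      have x1 : X 0 1 = 0 := by simp [X]
      have x2 : X 1 0 = 0 := by simp [X]
      simp [pow_succ, mul_entry, ih.1, ih.2.1, ih.2.2.1, ih.2.2.2, x1, x2]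
  obtain ⟨k1, k2, k3, k4⟩ := key (2 * k + 1)
  have hd := det_eq (g := X ^ (2 * k + 1))
  rw [k1, k2, k4] at hd
  have hne : X 0 0 ≠ 0 := fun e' => by
    have := det_eq (g := X)
    rw [e'] at this
    simp [X] at this
  have hsq : X 0 0 ^ (2 * k + 1) * X 0 0 ^ (2 * k + 1) = 1 := by
    rw [← pow_add, show 2 * k + 1 + (2 * k + 1) = Fintype.card F - 1 by omega]
    exact FiniteField.pow_card_sub_one_eq_one _ hne
  have hs : IsScalar2 (X ^ (2 * k + 1)) := ⟨k2, k3, by
    rw [k1, k4]
    exact (mul_left_cancel₀ (pow_ne_zero (2 * k + 1) hne) (by linear_combination hd - hsq)).symm⟩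
  rcases (isScalar2_iff _).1 hs with e' | e'
  · rw [e', map_one, map_one]
  · rw [← map_one π, mk_eq_mk_iff]
    right
    rw [e']
    refine Matrix.SpecialLinearGroup.ext _ _ fun i j => ?_
    have hneg : φ (-1) * φ (-1) = 1 := by rw [← map_mul, neg_mul_neg, mul_one, map_one]
    rcases sq_cases (φ (-1)) (by rw [pow_two]; exact hneg) with hh | hh
    · exact absurd (φ.injective (hh.trans (map_one φ).symm)) neg_one_ne_one
    · rw [hh]

/-- A pigeonhole on two conics. -/
theorem exists_c (hns : ∀ x : F, x * x ≠ -1) (K : F)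
    (hcirc : Fintype.card F + 1 ≤ Nat.card {p : F × F // p.1 * p.1 + p.2 * p.2 = K}) :
    ∃ c a b : F, c ≠ 0 ∧ a * a = c * c - 1 ∧ b * b = K - c * c := by
  classical
  have h2' : (2 : F) ≠ 0 := fun e2 => hns 1 (by linear_combination e2)
  let S1 : Finset F := Finset.univ.filter fun c => IsSquare (c * c - 1)
  let S2 : Finset F := Finset.univ.filter fun c => IsSquare (K - c * c)
  have h2S : Fintype.card F + 1 ≤ 2 * S2.card := by
    let T : Finset (F × F) := Finset.univ.filter fun p => p.1 * p.1 + p.2 * p.2 = K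
    have hT : Fintype.card F + 1 ≤ T.card := by
      rw [Nat.card_eq_fintype_card, Fintype.card_subtype] at hcirc; exact hcirc
    have hfib : ∀ c ∈ S2, (T.filter fun p => p.1 = c).card ≤ 2 := fun c hc => by
      obtain ⟨d, hd⟩ := (Finset.mem_filter.1 hc).2
      refine (Finset.card_le_card (t := {(c, d), (c, -d)}) fun p hp => ?_).trans Finset.card_le_two
      obtain ⟨hp1, rfl⟩ := Finset.mem_filter.1 hp
      have h := (Finset.mem_filter.1 hp1).2
      rw [Finset.mem_insert, Finset.mem_singleton]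
      exact (mul_self_eq_mul_self_iff.1 (show p.2 * p.2 = d * d by linear_combination h + hd)).imp (fun e => Prod.ext rfl e) (fun e => Prod.ext rfl e)
    have := (Finset.card_eq_sum_card_fiberwise (f := Prod.fst) (s := T) (t := S2) (fun p hp => by
      have h := (Finset.mem_filter.1 hp).2
      exact Finset.mem_filter.2 ⟨Finset.mem_univ _, p.2, by linear_combination -h⟩)).le.trans (Finset.sum_le_sum hfib)
    rw [Finset.sum_const, smul_eq_mul] at this
    omega
  have h1S : Fintype.card F + 1 ≤ 2 * S1.card := by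
    let g : Fˣ → F := fun t => ((t : F) + (t : F)⁻¹) / 2
    have him : ∀ t : Fˣ, g t ∈ S1 := fun t => by
      refine Finset.mem_filter.2 ⟨Finset.mem_univ _, ((t : F) - (t : F)⁻¹) / 2, ?_⟩
      simp only [g]
      have := t.ne_zero
      field_simp
      ring
    have hfib : ∀ c ∈ S1, (Finset.univ.filter fun t => g t = c).card ≤ if c = 1 ∨ c = -1 then 1 else 2 := fun c hc => by
      obtain ⟨d, hd⟩ := (Finset.mem_filter.1 hc).2
      have hroot : ∀ t : Fˣ, g t = c → (t : F) = c + d ∨ (t : F) = c - d := fun t ht => by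
        have := t.ne_zero
        simp only [g] at ht
        field_simp at ht
        rcases mul_self_eq_mul_self_iff.1 (show ((t : F) - c) * ((t : F) - c) = d * d by linear_combination ht + hd) with e | e
        · exact Or.inl (by linear_combination e)
        · exact Or.inr (by linear_combination e)
      split_ifs with hc0
      · refine Finset.card_le_one.2 fun t ht t' ht' => Units.ext ?_
        have hd0 : d = 0 := mul_self_eq_zero.1 (by rcases hc0 with e | e <;> rw [e] at hd <;> linear_combination -hd)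
        subst hd0
        rcases hroot t (Finset.mem_filter.1 ht).2 with e | e <;> rcases hroot t' (Finset.mem_filter.1 ht').2 with e' | e' <;> simp [e, e']
      · rw [← Finset.card_map ⟨fun t : Fˣ => (t : F), fun _ _ => Units.ext⟩]
        refine (Finset.card_le_card (t := {c + d, c - d}) fun x hx => ?_).trans Finset.card_le_two
        obtain ⟨t, ht, rfl⟩ := Finset.mem_map.1 hx
        rw [Finset.mem_insert, Finset.mem_singleton]
        exact hroot t (Finset.mem_filter.1 ht).2
    have := (Finset.card_eq_sum_card_fiberwise (f := g) (s := Finset.univ) (t := S1) (fun t _ => him t)).le.trans (Finset.sum_le_sum hfib)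
    rw [Finset.card_univ, Fintype.card_units] at this
    have hpm : (1 : F) ≠ -1 := fun e => h2' (by linear_combination e)
    have hsub : ({1, -1} : Finset F) ⊆ S1 := fun c hc => by
      simp only [Finset.mem_insert, Finset.mem_singleton] at hc
      exact Finset.mem_filter.2 ⟨Finset.mem_univ _, 0, by rcases hc with rfl | rfl <;> ring⟩
    rw [← Finset.sum_sdiff hsub, Finset.sum_pair hpm, if_pos (Or.inl rfl), if_pos (Or.inr rfl), Finset.sum_congr rfl (fun c hc => if_neg (by
      have := (Finset.mem_sdiff.1 hc).2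
      simpa using this)), Finset.sum_const, smul_eq_mul, Finset.card_sdiff_of_subset hsub, Finset.card_pair hpm] at this
    have := Finset.card_le_card hsub
    rw [Finset.card_pair hpm] at this
    omega
  obtain ⟨c, hc⟩ : (S1 ∩ S2).Nonempty := by
    rw [← Finset.card_pos]
    have := Finset.card_union_add_card_inter S1 S2
    have := Finset.card_le_univ (S1 ∪ S2)
    omega
  obtain ⟨hc1, hc2⟩ := Finset.mem_inter.1 hc
  obtain ⟨a, ha⟩ := (Finset.mem_filter.1 hc1).2
  obtain ⟨b, hb⟩ := (Finset.mem_filter.1 hc2).2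
  exact ⟨c, a, b, fun e => hns a (by rw [e] at ha; linear_combination -ha), ha.symm, hb.symm⟩

def Good (x y z : Matrix.ProjectiveSpecialLinearGroup (Fin 2) F) : Prop :=
  orderOf z = 2 ∧ Odd (orderOf (x * z)) ∧ Odd (orderOf (z * y))

theorem unit_dir (v w b a : F) (h : v * v + w * w ≠ 0) (e : b * b + a * a = v * v + w * w) :
    ∃ d1 d2 : F, v * d1 + w * d2 = b ∧ d1 * d1 + d2 * d2 = 1 := by
  refine ⟨(b * v - a * w) * (v * v + w * w)⁻¹, (b * w + a * v) * (v * v + w * w)⁻¹, ?_, ?_⟩
  · have := mul_inv_cancel₀ h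
    linear_combination b * this
  · have := mul_inv_cancel₀ h
    linear_combination (v * v + w * w) * (v * v + w * w)⁻¹ * (v * v + w * w)⁻¹ * e + ((v * v + w * w) * (v * v + w * w)⁻¹ + 1) * this

theorem good_three (hns : ∀ x : F, x * x ≠ -1) (Y : Matrix.SpecialLinearGroup (Fin 2) F) (hY : trc Y = 0) (h4 : 4 ≤ Fintype.card F) :
    ∃ z, Good (π jay) (π Y) z := by
  classical
  have h2' : (2 : F) ≠ 0 := fun e2 => hns 1 (by linear_combination e2)
  haveI : NeZero (2 : F) := ⟨h2'⟩
  have hd := det_eq (g := Y)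
  have hY11 : Y 1 1 = -Y 0 0 := by simp only [trc] at hY; linear_combination hY
  set u0 := (Y 1 0 - Y 0 1) / 2 with hu0d
  set v := Y 0 0 with hv
  set w := (Y 1 0 + Y 0 1) / 2 with hwd
  have hrho : v * v + w * w = u0 * u0 - 1 := by
    rw [hY11] at hd
    simp only [hu0d, hwd]; field_simp; linear_combination (-4) * hd
  by_cases hsq : IsSquare (u0 * u0 - 1)
  · obtain ⟨r, hr⟩ := hsq
    refine ⟨π jay, (orderOf_mk_eq_two _).2 jay_sq, ?_, ?_⟩
    · rw [pi_sq jay (by simp [trc, jE]), orderOf_one]; exact odd_one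
    · rw [← map_mul]
      refine odd_of_disc hns _ (2 * r) ?_
      have : trc (jay * Y) = -(2 * u0) := by simp only [trc, mul_entry]; simp [jE, hu0d]; field_simp; ring
      rw [this]; linear_combination 4 * hr
  have hq : Fintype.card F % 4 = 3 := by
    by_contra hh
    obtain ⟨x, hx⟩ := (FiniteField.isSquare_neg_one_iff (F := F)).2 hh
    exact hns x hx.symm
  have hmap : ∀ (K l : F), l ≠ 0 → Nat.card (Circ F K) ≤ Nat.card {p : F × F // p.1 * p.1 + p.2 * p.2 = K * (l * l)} := fun K l hl =>
    Nat.card_le_card_of_injective (fun p : Circ F K => ⟨(l * p.1.1, l * p.1.2), by linear_combination (l * l) * p.2⟩)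
      (fun p p' e => Subtype.ext (Prod.ext (mul_left_cancel₀ hl (congrArg (fun z => z.1.1) e)) (mul_left_cancel₀ hl (congrArg (fun z => z.1.2) e))))
  obtain ⟨c, a, b, a', p, δ, hba, e3, e4, ha⟩ : ∃ c a b a' p δ : F, b * b + a' * a' = u0 * u0 - 1 ∧ p * p - δ * δ = 1 ∧ δ * b - u0 * p = -c ∧ a * a = c * c - 1 := by
    by_cases hu : u0 = 0
    · subst_vars
      obtain ⟨t, ht0, ht1, ht2⟩ : ∃ t : F, t ≠ 0 ∧ t ≠ 1 ∧ t ≠ -1 := by
        by_contra hh
        push Not at hh
        have hle := Finset.card_le_card (s := (Finset.univ : Finset F)) (t := {0, 1, -1}) fun x _ => by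
          rcases eq_or_ne x 0 with e | e
          · simp [e]
          · rcases eq_or_ne x 1 with e' | e'
            · simp [e']
            · simp [hh x e e']
        rw [Finset.card_univ] at hle
        have := Finset.card_le_three (a := (0 : F)) (b := 1) (c := -1)
        omega
      obtain ⟨δ, hδ⟩ : ∃ δ : F, δ = (t - t⁻¹) / 2 := ⟨_, rfl⟩
      have hδ0 : δ ≠ 0 := fun e => by
        rw [hδ] at e; field_simp at e
        rcases mul_self_eq_one_iff.1 (show t * t = 1 by linear_combination e) with e' | e'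
        · exact ht1 e'
        · exact ht2 e'
      have hK : Fintype.card F + 1 ≤ Nat.card {p : F × F // p.1 * p.1 + p.2 * p.2 = (-1) * (δ * δ)} :=
        le_trans (by rw [card_circ_neg, card_circ.2 hq]) (hmap (-1) δ hδ0)
      obtain ⟨c, a, b, -, ha, hb⟩ := exists_c hns _ hK
      refine ⟨c, a, -(c / δ), b / δ, (t + t⁻¹) / 2, δ, ?_, ?_, ?_, ha⟩
      · rw [hu]; field_simp; linear_combination hb
      · rw [hδ]; field_simp; ring
      · rw [hu]; field_simp; ring
    · obtain ⟨c, a, b, hc, ha, hb⟩ := exists_c hns (1 * (u0 * u0)) (le_trans (by rw [card_circ.2 hq]) (hmap 1 u0 hu))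
      refine ⟨c, a, b, a, u0 / c, b / c, by linear_combination ha + hb, ?_, ?_, ha⟩
      · field_simp; linear_combination -hb
      · field_simp; linear_combination hb
  have hr0 : v * v + w * w ≠ 0 := fun e => hsq ⟨0, by rw [mul_zero, ← hrho, e]⟩
  obtain ⟨d1, d2, e1, e2⟩ := unit_dir v w b a' hr0 (hba.trans hrho.symm)
  let Z : SL2 := ⟨!![δ * d1, -p + δ * d2; p + δ * d2, -(δ * d1)], by simp [det_fin_two]; linear_combination e3 - (δ * δ) * e2⟩
  have tz : trc Z = 0 := by simp [Z, trc]
  refine ⟨π Z, (orderOf_mk_eq_two _).2 (by rw [pow_two]; exact sq_of_trc_zero tz), ?_, ?_⟩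
  · rw [← map_mul]
    refine odd_of_disc hns _ (2 * δ) ?_
    have : trc (jay * Z) = -(2 * p) := by simp only [trc, mul_entry]; simp [jE, Z]; ring
    rw [this]; linear_combination 4 * e3
  · rw [← map_mul]
    refine odd_of_disc hns _ (2 * a) ?_
    have y1 : Y 0 1 = w - u0 := by simp only [hu0d, hwd]; field_simp; ring
    have y2 : Y 1 0 = w + u0 := by simp only [hu0d, hwd]; field_simp; ring
    have : trc (Z * Y) = -(2 * c) := by
      simp only [trc, mul_entry]
      simp [Z, hY11, y1, y2, ← hv]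
      linear_combination (2 * δ) * e1 + 2 * e4
    rw [this]; linear_combination -4 * ha

theorem odd_of_two (h2' : (2 : F) ≠ 0) (g : Matrix.SpecialLinearGroup (Fin 2) F) (e : trc g = 2) : Odd (orderOf (π g)) := by
  obtain ⟨p, hp⟩ := CharP.exists F
  obtain ⟨n, hpp, hn⟩ := FiniteField.card F p
  have hp2 : p ≠ 2 := fun e2 => h2' (by subst e2; exact_mod_cast CharP.cast_eq_zero F 2)
  haveI := hp
  exact (hpp.odd_of_ne_two hp2).of_dvd_nat (orderOf_dvd_of_pow_eq_one (by rw [← map_pow, pow_char_of_trc_two (p := p) e, map_one]))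

theorem good_one (h2' : (2 : F) ≠ 0) (i : F) (hi : i * i = -1) (X Y : Matrix.SpecialLinearGroup (Fin 2) F)
    (x00 : X 0 0 = i) (x01 : X 0 1 = 0) (x10 : X 1 0 = 0) (x11 : X 1 1 = -i) (hY : trc Y = 0) :
    ∃ z, Good (π X) (π Y) z := by
  haveI : NeZero (2 : F) := ⟨h2'⟩
  have hY11 : Y 1 1 = -Y 0 0 := by simp only [trc] at hY; linear_combination hY
  have hd := det_eq (g := Y)
  have mk : ∀ z1 z2 : F, z1 * z2 = 0 → -(2 * i * Y 0 0) + z1 * Y 1 0 + z2 * Y 0 1 = 2 → ∃ z, Good (π X) (π Y) z := fun z1 z2 h0 h => by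
    let Z : SL2 := ⟨!![-i, z1; z2, i], by simp [det_fin_two]; linear_combination -hi - h0⟩
    have tz : trc Z = 0 := by simp [Z, trc]
    refine ⟨π Z, (orderOf_mk_eq_two _).2 (by rw [pow_two]; exact sq_of_trc_zero tz), ?_, ?_⟩
    · rw [← map_mul]; exact odd_of_two h2' _ (by simp only [trc, mul_entry]; simp [Z, x00, x01, x10, x11]; linear_combination -2 * hi)
    · rw [← map_mul]; exact odd_of_two h2' _ (by simp only [trc, mul_entry]; simp [Z, hY11]; linear_combination h)
  by_cases hc : Y 1 0 = 0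
  · by_cases hb : Y 0 1 = 0
    · have hXY : π Y = π X := by
        rw [mk_eq_mk_iff]
        rw [hY11, hc, hb] at hd
        rcases mul_self_eq_mul_self_iff.1 (show Y 0 0 * Y 0 0 = i * i by linear_combination -hd - hi) with e | e
        · left; refine Matrix.SpecialLinearGroup.ext _ _ fun k l => ?_
          fin_cases k <;> fin_cases l <;> simp [x00, x01, x10, x11, hY11, hb, hc, e]
        · right; refine Matrix.SpecialLinearGroup.ext _ _ fun k l => ?_
          fin_cases k <;> fin_cases l <;> simp [neg_entry, x00, x01, x10, x11, hY11, hb, hc, e]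
      have tX : trc X = 0 := by simp [trc, x00, x11]
      refine ⟨π X, (orderOf_mk_eq_two _).2 (by rw [pow_two]; exact sq_of_trc_zero tX), ?_, ?_⟩
      · rw [pi_sq X tX, orderOf_one]; exact odd_one
      · rw [hXY, pi_sq X tX, orderOf_one]; exact odd_one
    · exact mk 0 ((2 + 2 * i * Y 0 0) / Y 0 1) (by ring) (by field_simp; ring)
  · exact mk ((2 + 2 * i * Y 0 0) / Y 1 0) 0 (by ring) (by field_simp; ring)

theorem even_odd (hF : (2 : F) = 0) (g : Matrix.SpecialLinearGroup (Fin 2) F) (h : trc g ≠ 0) : Odd (orderOf (π g)) := by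
  refine Odd.of_dvd_nat ?_ (orderOf_map_dvd π g)
  by_contra hev
  rw [Nat.not_odd_iff_even, even_iff_two_dvd] at hev
  obtain ⟨k, hk⟩ := hev
  have hpos := orderOf_pos g
  have hh1 : (g ^ k) * (g ^ k) = 1 := by rw [← pow_add, ← two_mul, ← hk, pow_orderOf_eq_one]
  have hh : g ^ k ≠ 1 := pow_ne_one_of_lt_orderOf (by omega) (by omega)
  haveI : CharP F 2 := (CharP.charP_iff_prime_eq_zero Nat.prime_two).2 (by exact_mod_cast hF)
  have hns : ¬ IsScalar2 (g ^ k) := fun e => by
    rcases (isScalar2_iff _).1 e with e | e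
    · exact hh e
    · refine hh (e.trans ?_)
      refine Matrix.SpecialLinearGroup.ext _ _ fun i j => ?_
      rw [neg_entry]; exact CharTwo.neg_eq _
  have ht : trc (g ^ k) = 0 := by
    have := congrArg trc hh1
    rw [trc_sq] at this
    simp [trc] at this
    exact mul_self_eq_zero.1 (by simp only [trc]; linear_combination this + 2 * hF)
  obtain ⟨u, v, b1, b2, b3, b4⟩ := exists_linear_of_commute hns (Commute.self_pow g k).eq
  simp only [trc] at ht h
  exact h (by rw [b1, b4]; linear_combination u * ht + v * hF)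

theorem good_two (hF : (2 : F) = 0) (Y : Matrix.SpecialLinearGroup (Fin 2) F) (hY : trc Y = 0) (hY1 : π Y ≠ 1) :
    ∃ z, IsConj (π (upperU (1 : F))) z ∧ Odd (orderOf (π (upperU (1 : F)) * z)) ∧ Odd (orderOf (z * π Y)) := by
  haveI : CharP F 2 := (CharP.charP_iff_prime_eq_zero Nat.prime_two).2 (by exact_mod_cast hF)
  have hneg : ∀ x : F, -x = x := CharTwo.neg_eq
  by_cases hc : Y 1 0 = 0
  swap
  · refine ⟨π (upperU 1), IsConj.refl _, ?_, ?_⟩
    · rw [← map_mul, show upperU (1 : F) * upperU 1 = 1 from Matrix.SpecialLinearGroup.ext _ _ fun i j => by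
        fin_cases i <;> fin_cases j <;> simp [mul_entry, uE]; linear_combination hF, map_one, orderOf_one]
      exact odd_one
    · rw [← map_mul]; refine even_odd hF _ ?_
      simp only [trc] at hY
      simp [trc, mul_entry, uE]
      intro e; exact hc (by linear_combination e - hY)
  have hd := det_eq (g := Y)
  simp only [trc] at hY
  have h11 : Y 1 1 = Y 0 0 := by linear_combination hY - Y 0 0 * hF
  rw [h11, hc] at hd
  have h00 : Y 0 0 = 1 := sub_eq_zero.1 (mul_self_eq_zero.1 (by linear_combination hd + (1 - Y 0 0) * hF))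
  let J' : SL2 := ⟨!![0, 1; 1, 0], by simp [det_fin_two]; exact hneg 1⟩
  let L : SL2 := ⟨!![1, 0; 1, 1], by simp [det_fin_two]⟩
  have hb : Y 0 1 ≠ 0 := fun hb => hY1 (by
    rw [← map_one π]; congr 1
    refine Matrix.SpecialLinearGroup.ext _ _ fun i j => ?_
    fin_cases i <;> fin_cases j <;> simp [hc, hb, h00, h11])
  refine ⟨π L, isConj_iff.2 ⟨π J', ?_⟩, ?_, ?_⟩
  · rw [mul_inv_eq_iff_eq_mul, ← map_mul, ← map_mul]; congr 1
    refine Matrix.SpecialLinearGroup.ext _ _ fun i j => ?_
    fin_cases i <;> fin_cases j <;> simp only [mul_entry, (inv_entries J').1, (inv_entries J').2.1, (inv_entries J').2.2.1, (inv_entries J').2.2.2] <;> simp [uE, J', L, hneg, Matrix.SpecialLinearGroup.coe_inv, Matrix.adjugate_fin_two]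
  · rw [← map_mul]; refine even_odd hF _ ?_
    simp only [trc, mul_entry]; simp [uE, L]
    intro e; exact one_ne_zero (α := F) (by linear_combination e - hF)
  · rw [← map_mul]; refine even_odd hF _ ?_
    simp only [trc, mul_entry]; simp [L, hc, h00, h11]
    intro e; exact hb (by linear_combination e - hF)

set_option maxHeartbeats 1000000 in
/-- Let F be a finite field with at least 4 elements and let X be a conjugacy class of involutions of PSL(2, F). The graph on X joining two distinct involutions whose product has odd order is connected and has diameter exactly 2. -/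
theorem result {F : Type*} [Field F] [Fintype F] (hF : 4 ≤ Fintype.card F)
    (t : Matrix.ProjectiveSpecialLinearGroup (Fin 2) F) (ht : orderOf t = 2) :
    (SimpleGraph.fromRel fun x y : {x : Matrix.ProjectiveSpecialLinearGroup (Fin 2) F // IsConj t x} =>
        Odd (orderOf (x.1 * y.1))).Connected ∧
      (SimpleGraph.fromRel fun x y : {x : Matrix.ProjectiveSpecialLinearGroup (Fin 2) F // IsConj t x} =>
        Odd (orderOf (x.1 * y.1))).diam = 2 := by
  classical
  have hinv : ∀ X : Matrix.SpecialLinearGroup (Fin 2) F, orderOf ((QuotientGroup.mk' (Subgroup.center (Matrix.SpecialLinearGroup (Fin 2) F))) X) = 2 → trc X = 0 := fun X ho => by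
    have hne : (QuotientGroup.mk' (Subgroup.center (Matrix.SpecialLinearGroup (Fin 2) F))) X ≠ 1 := fun e => by rw [e, orderOf_one] at ho; omega
    have h1 : (QuotientGroup.mk' (Subgroup.center (Matrix.SpecialLinearGroup (Fin 2) F))) (X * X) = (QuotientGroup.mk' (Subgroup.center (Matrix.SpecialLinearGroup (Fin 2) F))) 1 := by
      rw [map_mul, map_one, ← pow_two]; exact orderOf_dvd_iff_pow_eq_one.1 (dvd_of_eq ho)
    rw [mk_eq_mk_iff] at h1
    by_cases hF2 : (2 : F) = 0
    · have e : X * X = 1 := h1.elim id fun e => e.trans (Matrix.SpecialLinearGroup.ext _ _ fun i j => by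
        haveI : CharP F 2 := (CharP.charP_iff_prime_eq_zero Nat.prime_two).2 (by exact_mod_cast hF2)
        rw [neg_entry]; exact CharTwo.neg_eq _)
      have := congrArg trc e
      rw [trc_sq] at this
      simp [trc] at this
      exact mul_self_eq_zero.1 (by simp only [trc]; linear_combination this + 2 * hF2)
    · haveI : NeZero (2 : F) := ⟨hF2⟩
      have := congrArg trc ((orderOf_mk_eq_two X).1 ho)
      rw [pow_two, trc_sq, trc_neg] at this
      simp [trc] at this
      exact mul_self_eq_zero.1 (by simp only [trc]; linear_combination this)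
  obtain ⟨X0, hX0⟩ := QuotientGroup.mk'_surjective _ t
  -- conjugates of `t` and a convenient representative
  have main : (∀ x y : (Matrix.ProjectiveSpecialLinearGroup (Fin 2) F), IsConj t x → IsConj t y → ∃ z, IsConj t z ∧ Odd (orderOf (x * z)) ∧ Odd (orderOf (z * y))) ∧
      ∃ a b : (Matrix.ProjectiveSpecialLinearGroup (Fin 2) F), IsConj t a ∧ IsConj t b ∧ a ≠ b ∧ orderOf (a * b) = 2 := by
    by_cases hF2 : (2 : F) = 0
    · haveI : CharP F 2 := (CharP.charP_iff_prime_eq_zero Nat.prime_two).2 (by exact_mod_cast hF2)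
      have hU : ¬ IsScalar2 (upperU (1 : F)) := fun e => by simpa [uE] using e.1
      have tU : trc (upperU (1 : F)) = 0 := by simp [trc, uE]; linear_combination hF2
      have rep : ∀ x : (Matrix.ProjectiveSpecialLinearGroup (Fin 2) F), IsConj t x → ∃ φ : (Matrix.ProjectiveSpecialLinearGroup (Fin 2) F) ≃* (Matrix.ProjectiveSpecialLinearGroup (Fin 2) F), φ ((QuotientGroup.mk' (Subgroup.center (Matrix.SpecialLinearGroup (Fin 2) F))) (upperU 1)) = x := fun x hx => by
        obtain ⟨g, hg⟩ := isConj_iff.1 hx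
        obtain ⟨X, rfl⟩ := QuotientGroup.mk'_surjective _ x
        have ho : orderOf ((QuotientGroup.mk' (Subgroup.center (Matrix.SpecialLinearGroup (Fin 2) F))) X) = 2 := by rw [← hg]; exact (MulEquiv.orderOf_eq (MulAut.conj g) t).trans ht
        have hs : ¬ IsScalar2 X := fun e => by
          have : (QuotientGroup.mk' (Subgroup.center (Matrix.SpecialLinearGroup (Fin 2) F))) X = 1 := by rw [← map_one (QuotientGroup.mk' (Subgroup.center (Matrix.SpecialLinearGroup (Fin 2) F))), mk_eq_mk_iff]; exact (isScalar2_iff X).1 e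
          rw [this, orderOf_one] at ho; omega
        obtain ⟨φ, hφ⟩ := conj_of_trc hU hs (tU.trans (hinv X ho).symm)
        refine ⟨QuotientGroup.congr _ _ φ ?_, ?_⟩
        · ext z
          constructor
          · rintro ⟨u, hu, rfl⟩
            refine Subgroup.mem_center_iff.2 fun g => ?_
            obtain ⟨g, rfl⟩ := φ.surjective g
            show φ g * φ u = φ u * φ g
            rw [← map_mul, ← map_mul, Subgroup.mem_center_iff.1 hu g]
          · intro hz
            refine ⟨φ.symm z, Subgroup.mem_center_iff.2 fun g => φ.injective ?_, φ.apply_symm_apply z⟩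
            rw [map_mul, map_mul, φ.apply_symm_apply, Subgroup.mem_center_iff.1 hz]
        · show (QuotientGroup.mk' (Subgroup.center (Matrix.SpecialLinearGroup (Fin 2) F))) (φ _) = _; rw [hφ]
      refine ⟨fun x y hx hy => ?_, ?_⟩
      · obtain ⟨φ, rfl⟩ := rep x hx
        obtain ⟨y, rfl⟩ := φ.surjective y
        obtain ⟨Y, rfl⟩ := QuotientGroup.mk'_surjective _ y
        have hoy : orderOf ((QuotientGroup.mk' (Subgroup.center (Matrix.SpecialLinearGroup (Fin 2) F))) Y) = 2 := by
          obtain ⟨g, hg⟩ := isConj_iff.1 hy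
          rw [← MulEquiv.orderOf_eq φ, ← hg]
          exact (MulEquiv.orderOf_eq (MulAut.conj g) t).trans ht
        obtain ⟨z, hz, h1, h2⟩ := good_two hF2 Y (hinv Y hoy) (fun e => by
          rw [show (QuotientGroup.mk' (Subgroup.center (Matrix.SpecialLinearGroup (Fin 2) F))) Y = 1 from e, orderOf_one] at hoy; omega)
        refine ⟨φ z, hx.trans (φ.toMonoidHom.map_isConj hz), ?_, ?_⟩
        · rwa [← map_mul, MulEquiv.orderOf_eq]
        · rwa [← map_mul, MulEquiv.orderOf_eq]
      · obtain ⟨b, hb0, hb1⟩ : ∃ b : F, b ≠ 0 ∧ b ≠ 1 := by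
          by_contra hh
          push Not at hh
          have hle := Finset.card_le_card (s := (Finset.univ : Finset F)) (t := {0, 1}) fun x _ => by
            rcases eq_or_ne x 0 with e | e
            · simp [e]
            · simp [hh x e]
          rw [Finset.card_univ] at hle
          have := Finset.card_le_two (a := (0 : F)) (b := 1)
          omega
        obtain ⟨φ, hφ⟩ := rep t (IsConj.refl t)
        obtain ⟨r, hr⟩ : ∃ r : F, r * r = b := (FiniteField.isSquare_of_char_two (ringChar.eq F 2) b).imp fun r e => e.symm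
        have hr0 : r ≠ 0 := fun e => hb0 (by rw [← hr, e, mul_zero])
        let D : Matrix.SpecialLinearGroup (Fin 2) F := ⟨!![r, 0; 0, r⁻¹], by simp [det_fin_two, hr0]⟩
        have hD : IsConj ((QuotientGroup.mk' (Subgroup.center (Matrix.SpecialLinearGroup (Fin 2) F))) (upperU 1)) ((QuotientGroup.mk' (Subgroup.center (Matrix.SpecialLinearGroup (Fin 2) F))) (upperU b)) := isConj_iff.2 ⟨(QuotientGroup.mk' (Subgroup.center (Matrix.SpecialLinearGroup (Fin 2) F))) D, by
          rw [mul_inv_eq_iff_eq_mul, ← map_mul, ← map_mul]; congr 1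
          refine Matrix.SpecialLinearGroup.ext _ _ fun i j => ?_
          fin_cases i <;> fin_cases j <;> simp only [mul_entry, (inv_entries D).1, (inv_entries D).2.1, (inv_entries D).2.2.1, (inv_entries D).2.2.2] <;> simp [D, uEs, hr0, hr, Matrix.SpecialLinearGroup.coe_inv, Matrix.adjugate_fin_two]; field_simp; linear_combination hr⟩
        have hmul : upperU (1 : F) * upperU b = upperU (1 + b) := Matrix.SpecialLinearGroup.ext _ _ fun i j => by
          fin_cases i <;> fin_cases j <;> simp only [mul_entry] <;> simp [uEs, add_comm]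
        have hne1 : ∀ s : F, s ≠ 0 → (QuotientGroup.mk' (Subgroup.center (Matrix.SpecialLinearGroup (Fin 2) F))) (upperU s) ≠ 1 := fun s hs e => by
          rw [← map_one (QuotientGroup.mk' (Subgroup.center (Matrix.SpecialLinearGroup (Fin 2) F))), mk_eq_mk_iff] at e
          rcases e with e | e <;>
          · have := congrArg (fun m : Matrix.SpecialLinearGroup (Fin 2) F => m 0 1) e
            simp [neg_entry, uEs] at this
            exact hs this
        refine ⟨φ ((QuotientGroup.mk' (Subgroup.center (Matrix.SpecialLinearGroup (Fin 2) F))) (upperU 1)), φ ((QuotientGroup.mk' (Subgroup.center (Matrix.SpecialLinearGroup (Fin 2) F))) (upperU b)), hφ ▸ IsConj.refl t, (hφ ▸ IsConj.refl t : IsConj t (φ ((QuotientGroup.mk' (Subgroup.center (Matrix.SpecialLinearGroup (Fin 2) F))) (upperU 1)))).trans (φ.toMonoidHom.map_isConj hD), fun e => ?_, ?_⟩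
        · have e' := φ.injective e
          rw [mk_eq_mk_iff] at e'
          rcases e' with e' | e' <;>
          · have := congrArg (fun m : Matrix.SpecialLinearGroup (Fin 2) F => m 0 1) e'
            simp [neg_entry, uEs, CharTwo.neg_eq] at this
            exact hb1 this.symm
        · rw [← map_mul, MulEquiv.orderOf_eq, ← map_mul, hmul, orderOf_eq_prime_iff]
          refine ⟨?_, hne1 _ fun e => hb1 (by linear_combination e - hF2)⟩
          rw [← map_pow, pow_two, show upperU (1 + b) * upperU (1 + b) = 1 from Matrix.SpecialLinearGroup.ext _ _ fun i j => by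
            fin_cases i <;> fin_cases j <;> simp [mul_entry, uEs]; linear_combination (1 + b) * hF2, map_one]
    haveI : NeZero (2 : F) := ⟨hF2⟩
    have hall : ∀ z : (Matrix.ProjectiveSpecialLinearGroup (Fin 2) F), orderOf z = 2 → IsConj t z := fun z hz => isConj_involutions t z ht hz
    have hord : ∀ x : (Matrix.ProjectiveSpecialLinearGroup (Fin 2) F), IsConj t x → orderOf x = 2 := fun x hx => by
      obtain ⟨g, hg⟩ := isConj_iff.1 hx
      rw [← hg]; exact (MulEquiv.orderOf_eq (MulAut.conj g) t).trans ht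
    have o2 : ∀ Z : Matrix.SpecialLinearGroup (Fin 2) F, trc Z = 0 → orderOf ((QuotientGroup.mk' (Subgroup.center (Matrix.SpecialLinearGroup (Fin 2) F))) Z) = 2 := fun Z hZ =>
      (orderOf_mk_eq_two Z).2 (by rw [pow_two]; exact sq_of_trc_zero hZ)
    obtain ⟨X, hXz, hgood, W, hW, hXW⟩ : ∃ X : Matrix.SpecialLinearGroup (Fin 2) F, trc X = 0 ∧ (∀ Y, trc Y = 0 → ∃ z, Good ((QuotientGroup.mk' (Subgroup.center (Matrix.SpecialLinearGroup (Fin 2) F))) X) ((QuotientGroup.mk' (Subgroup.center (Matrix.SpecialLinearGroup (Fin 2) F))) Y) z) ∧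
        ∃ W, trc W = 0 ∧ trc (X * W) = 0 := by
      by_cases hns : ∀ x : F, x * x ≠ -1
      · obtain ⟨v, w, hvw⟩ : ∃ v w : F, v * v + w * w = -1 := by
          obtain ⟨p, hp⟩ := (Nat.card_pos_iff.1 (show 0 < Nat.card (Circ F (-1)) by
            have hq : Fintype.card F % 4 = 3 := by
              by_contra hh
              obtain ⟨x, hx⟩ := (FiniteField.isSquare_neg_one_iff (F := F)).2 hh
              exact hns x hx.symm
            rw [card_circ_neg, card_circ.2 hq]; omega)).1
          exact ⟨p.1, p.2, by linear_combination hp⟩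
        exact ⟨jay, by simp [trc, jE], fun Y hY => good_three hns Y hY hF, ⟨!![v, w; w, -v], by simp [det_fin_two]; linear_combination -hvw⟩,
          by simp [trc], trc_jay_mul _ rfl⟩
      · push Not at hns
        obtain ⟨i, hi⟩ := hns
        exact ⟨⟨!![i, 0; 0, -i], by simp [det_fin_two, hi]⟩, by simp [trc], fun Y hY => good_one hF2 i hi _ Y rfl rfl rfl rfl hY,
          jay, by simp [trc, jE], trc_mul_jay _ rfl rfl⟩
    refine ⟨fun x y hx hy => ?_, (QuotientGroup.mk' (Subgroup.center (Matrix.SpecialLinearGroup (Fin 2) F))) X, (QuotientGroup.mk' (Subgroup.center (Matrix.SpecialLinearGroup (Fin 2) F))) W, hall _ (o2 X hXz), hall _ (o2 W hW), fun e => ?_, ?_⟩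
    · obtain ⟨g, hg⟩ := isConj_iff.1 ((hall _ (o2 X hXz)).symm.trans hx)
      subst hg
      obtain ⟨y, rfl⟩ := (MulAut.conj g).surjective y
      obtain ⟨Y, rfl⟩ := QuotientGroup.mk'_surjective _ y
      obtain ⟨z, hz, h1, h2⟩ := hgood Y (hinv Y (by rw [← MulEquiv.orderOf_eq (MulAut.conj g)]; exact hord _ hy))
      refine ⟨MulAut.conj g z, hall _ (by rw [MulEquiv.orderOf_eq]; exact hz), ?_, ?_⟩
      · rw [← MulAut.conj_apply, ← map_mul, MulEquiv.orderOf_eq]; exact h1
      · rw [← map_mul, MulEquiv.orderOf_eq]; exact h2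
    · have := o2 (X * W) hXW
      rw [map_mul, e, ← map_mul, show (QuotientGroup.mk' (Subgroup.center (Matrix.SpecialLinearGroup (Fin 2) F))) (W * W) = 1 by rw [map_mul]; exact pi_sq W hW, orderOf_one] at this
      omega
    · rw [← map_mul]; exact o2 _ hXW
  obtain ⟨hmid, a, b, ha, hb, hab, hab2⟩ := main
  set Γ := SimpleGraph.fromRel fun x y : {x : (Matrix.ProjectiveSpecialLinearGroup (Fin 2) F) // IsConj t x} => Odd (orderOf (x.1 * y.1)) with hΓ
  have hwalk : ∀ x y : {x : (Matrix.ProjectiveSpecialLinearGroup (Fin 2) F) // IsConj t x}, ∃ p : Γ.Walk x y, p.length ≤ 2 := fun x y => by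
    obtain ⟨z, hz, h1, h2⟩ := hmid x y x.2 y.2
    have adj : ∀ u v : {x : (Matrix.ProjectiveSpecialLinearGroup (Fin 2) F) // IsConj t x}, Odd (orderOf (u.1 * v.1)) → ∃ p : Γ.Walk u v, p.length ≤ 1 := fun u v h => by
      by_cases e : u = v
      · subst e; exact ⟨SimpleGraph.Walk.nil, Nat.zero_le _⟩
      · exact ⟨SimpleGraph.Walk.cons ((SimpleGraph.fromRel_adj _ _ _).2 ⟨e, Or.inl h⟩) SimpleGraph.Walk.nil, le_rfl⟩
    obtain ⟨p1, l1⟩ := adj x ⟨z, hz⟩ h1
    obtain ⟨p2, l2⟩ := adj ⟨z, hz⟩ y h2
    exact ⟨p1.append p2, by rw [SimpleGraph.Walk.length_append]; omega⟩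
  haveI : Nonempty {x : (Matrix.ProjectiveSpecialLinearGroup (Fin 2) F) // IsConj t x} := ⟨⟨t, IsConj.refl t⟩⟩
  refine ⟨⟨fun x y => (hwalk x y).elim fun p _ => ⟨p⟩⟩, ?_⟩
  have hle : Γ.ediam ≤ 2 := SimpleGraph.ediam_le_iff.2 fun x y => by
    obtain ⟨p, hp⟩ := hwalk x y
    exact (SimpleGraph.edist_le p).trans (by exact_mod_cast hp)
  have hge : 2 ≤ Γ.ediam := by
    refine le_trans ?_ (SimpleGraph.edist_le_ediam (u := ⟨a, ha⟩) (v := ⟨b, hb⟩))
    by_contra hlt
    rw [not_le] at hlt
    have hne : (⟨a, ha⟩ : {x : (Matrix.ProjectiveSpecialLinearGroup (Fin 2) F) // IsConj t x}) ≠ ⟨b, hb⟩ := fun e => hab (congrArg Subtype.val e)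
    have h0 : Γ.edist ⟨a, ha⟩ ⟨b, hb⟩ ≠ 0 := fun e => hne (SimpleGraph.edist_eq_zero_iff.1 e)
    have h1 : Γ.edist ⟨a, ha⟩ ⟨b, hb⟩ = 1 := le_antisymm (Order.le_of_lt_add_one (by exact_mod_cast hlt)) (Order.one_le_iff_pos.2 (pos_iff_ne_zero.2 h0))
    obtain ⟨-, h | h⟩ := (SimpleGraph.fromRel_adj _ _ _).1 (SimpleGraph.edist_eq_one_iff_adj.1 h1)
    · rw [hab2] at h; exact absurd h (by decide)
    · rw [show b * a = MulAut.conj b (a * b) by rw [MulAut.conj_apply]; group, MulEquiv.orderOf_eq, hab2] at h; exact absurd h (by decide)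
  rw [SimpleGraph.diam, le_antisymm hle hge]; rfl

end Cfsg.Agent.S3266
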