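import Cfsg.Statements.S4150
import Mathlib
import Cfsg.Agent.Lib.PermGroup.ThreePrimes
import Cfsg.Agent.Lib.PermGroup.TwinDegree
import Cfsg.Agent.Lib.PermGroup.JordanPrime

set_option autoImplicit false
set_option maxHeartbeats 1000000
open Cfsg Equiv Equiv.Perm MulAction Cfsg.Lib.PermGroup
open scoped Pointwise

namespace Cfsg.Agent.S4150

/-- A subgroup of index six of the alternating group of degree six. -/
theorem iso_five {β : Type*} [Fintype β] [DecidableEq β] (hβ : Fintype.card β = 6) (K : Subgroup (alternatingGroup β))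
    (hK : K.index = 6) : Nonempty (K ≃* alternatingGroup (Fin 5)) := by
  classical
  haveI : Nontrivial β := Fintype.one_lt_card_iff_nontrivial.1 (by omega)
  haveI := alternatingGroup.isSimpleGroup (α := β) (by rw [Nat.card_eq_fintype_card, hβ]; norm_num)
  have h360 : Nat.card (alternatingGroup β) = 360 := by
    rw [nat_card_alternatingGroup, Nat.card_eq_fintype_card, hβ]; rfl
  haveI := Fintype.ofFinite (alternatingGroup β ⧸ K)
  have hQ : Nat.card (alternatingGroup β ⧸ K) = 6 := hK
  set ψ := MulAction.toPermHom (alternatingGroup β) (alternatingGroup β ⧸ K)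
  have hker : ψ.ker = ⊥ := (Subgroup.Normal.eq_bot_or_eq_top (MonoidHom.normal_ker ψ)).resolve_right fun h => by
    have h1 : K.normalCore = ⊤ := by rw [Subgroup.normalCore_eq_ker]; exact h
    have h2 : K = ⊤ := top_le_iff.1 (h1 ▸ K.normalCore_le)
    rw [h2, Subgroup.index_top] at hK
    omega
  have hinj : Function.Injective ψ := (MonoidHom.ker_eq_bot_iff ψ).1 hker
  haveI : Nontrivial (alternatingGroup β ⧸ K) := Finite.one_lt_card_iff_nontrivial.1 (by omega)
  have hr : ψ.range = alternatingGroup (alternatingGroup β ⧸ K) := by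
    refine Perm.eq_alternatingGroup_of_index_eq_two ?_
    have h1 := ψ.range.card_mul_index
    rw [Nat.card_perm, hQ, ← Nat.card_congr (MonoidHom.ofInjective hinj).toEquiv, h360] at h1
    have : (6 : ℕ).factorial = 720 := rfl
    omega
  set b : alternatingGroup β ⧸ K := ((1 : alternatingGroup β) : alternatingGroup β ⧸ K) with hb
  set E := (alternatingGroup {z : alternatingGroup β ⧸ K // z ≠ b}).map ofSubtype
  have hle : K.map ψ ≤ E := by
    rintro _ ⟨k, hk, rfl⟩
    have hfix : ψ k b = b := by
      show k • b = b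
      rw [hb, MulAction.Quotient.smul_coe, QuotientGroup.eq, smul_eq_mul, mul_one, mul_one]
      exact inv_mem hk
    have hiff : ∀ z, ψ k z ≠ b ↔ z ≠ b := fun z => by
      refine not_congr ⟨fun h => (ψ k).injective (h.trans hfix.symm), fun h => by rw [h, hfix]⟩
    have hsupp : ∀ z, ψ k z ≠ z → z ≠ b := fun z hz h => hz (by rw [h, hfix])
    refine ⟨(ψ k).subtypePerm hiff, ?_, ofSubtype_subtypePerm hiff hsupp⟩
    show _ ∈ alternatingGroup _
    have h1 : ψ k ∈ alternatingGroup _ := hr.le ⟨k, rfl⟩
    rw [mem_alternatingGroup, ← sign_ofSubtype, ofSubtype_subtypePerm hiff hsupp]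
    exact mem_alternatingGroup.1 h1
  have h5 : Fintype.card {z : alternatingGroup β ⧸ K // z ≠ b} = 5 := by
    rw [Fintype.card_subtype_compl, Fintype.card_subtype_eq, ← Nat.card_eq_fintype_card, hQ]
  haveI : Nontrivial {z : alternatingGroup β ⧸ K // z ≠ b} := Fintype.one_lt_card_iff_nontrivial.1 (by omega)
  have hcK : Nat.card (K.map ψ) = 60 := by
    rw [Subgroup.card_map_of_injective hinj]
    have h1 := K.card_mul_index
    rw [hK, h360] at h1
    omega
  have hcE : Nat.card E = 60 := by
    rw [Subgroup.card_map_of_injective ofSubtype_injective, nat_card_alternatingGroup, Nat.card_eq_fintype_card, h5]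
    rfl
  have heq : K.map ψ = E := Subgroup.eq_of_le_of_card_ge hle (by omega)
  exact ⟨((K.equivMapOfInjective ψ hinj).trans (MulEquiv.subgroupCongr heq)).trans
    ((((alternatingGroup _).equivMapOfInjective ofSubtype ofSubtype_injective).symm).trans
      (Equiv.altCongrHom (Fintype.equivFinOfCardEq h5)))⟩

theorem sylow_card {K : Type*} [Group K] [Finite K] {p : ℕ} [Fact p.Prime] (S : Sylow p K) (h30 : Nat.card K = 30)
    (hp : p = 3 ∨ p = 5) : Nat.card (S : Subgroup K) = p := by
  obtain ⟨j, hj⟩ := IsPGroup.iff_card.1 S.isPGroup'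
  have h1 : p ^ j ∣ 30 := h30 ▸ hj ▸ Subgroup.card_subgroup_dvd_card _
  have h2 : p ∣ Nat.card (S : Subgroup K) := S.dvd_card_of_dvd_card (by rw [h30]; rcases hp with rfl | rfl <;> norm_num)
  rcases j with _ | _ | j
  · rw [hj, pow_zero, Nat.dvd_one] at h2
    exact absurd h2 (Fact.out : p.Prime).ne_one
  · rw [hj, pow_one]
  · have h3 := (Nat.pow_dvd_pow p (by omega : 2 ≤ j + 1 + 1)).trans h1
    rcases hp with rfl | rfl <;> norm_num at h3

theorem special {α : Type*} [Fintype α] [DecidableEq α] (hα : Fintype.card α = 6) {K : Subgroup (Perm α)}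
    (hKa : K ≤ alternatingGroup α) (hG : IsPreprimitive K α) (h5 : 5 ∣ Nat.card K) {x : Perm α} (hx : x ∈ K) (hxo : orderOf x = 3) :
    alternatingGroup α ≤ K ∨ Nonempty (K ≃* alternatingGroup (Fin 5)) := by
  classical
  haveI : Nontrivial α := Fintype.one_lt_card_iff_nontrivial.1 (by omega)
  haveI := hG.toIsPretransitive
  haveI := alternatingGroup.isSimpleGroup (α := α) (by rw [Nat.card_eq_fintype_card, hα]; norm_num)
  have h360 : Nat.card (alternatingGroup α) = 360 := by
    rw [nat_card_alternatingGroup, Nat.card_eq_fintype_card, hα]; rfl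
  obtain ⟨a⟩ : Nonempty α := inferInstance
  have h6 : 6 ∣ Nat.card K := by
    have := Subgroup.index_dvd_card (stabilizer K a)
    rwa [MulAction.index_stabilizer_of_transitive, Nat.card_eq_fintype_card (α := α), hα] at this
  set L := K.subgroupOf (alternatingGroup α)
  have hLc : Nat.card L = Nat.card K := Nat.card_congr (Subgroup.subgroupOfEquivOfLe hKa).toEquiv
  have hmul := L.card_mul_index
  rw [hLc, h360] at hmul
  obtain ⟨c, hc⟩ : 30 ∣ Nat.card K := Nat.Coprime.mul_dvd_of_dvd_of_dvd (by norm_num : Nat.Coprime 6 5) h6 h5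
  have h12 : c * L.index = 12 := by
    rw [hc, mul_assoc] at hmul
    omega
  have hidx : L.index ∣ 12 := Dvd.intro_left c h12
  have hsmall : L.index ≤ 4 → L.index = 1 := by
    intro h
    by_contra h1
    have hker : L.normalCore = ⊥ :=
      (Subgroup.Normal.eq_bot_or_eq_top (Subgroup.normalCore_normal L)).resolve_right fun e =>
        h1 (Subgroup.index_eq_one.2 (top_le_iff.1 (e ▸ L.normalCore_le)))
    rw [Subgroup.normalCore_eq_ker, MonoidHom.ker_eq_bot_iff] at hker
    have h2 := Nat.card_le_card_of_injective _ hker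
    rw [h360, Nat.card_perm] at h2
    have h3 : L.index.factorial ≤ (4 : ℕ).factorial := Nat.factorial_le h
    have : (4 : ℕ).factorial = 24 := rfl
    change _ ≤ L.index.factorial at h2
    omega
  have hbound : L.index ≤ 12 := Nat.le_of_dvd (by norm_num) hidx
  have hne12 : L.index ≠ 12 := by
    intro he
    have h30 : Nat.card K = 30 := by
      rw [he] at hmul
      omega
    have key : ∀ p : ℕ, [Fact p.Prime] → (p = 3 ∨ p = 5) → Nat.card (Sylow p K) ≠ 1 := by
      intro p _ hp h1
      obtain ⟨S⟩ : Nonempty (Sylow p K) := inferInstance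
      haveI : Subsingleton (Sylow p K) := (Nat.card_eq_one_iff_unique.1 h1).1
      haveI := S.normal_of_subsingleton
      have hScard : Nat.card (S : Subgroup K) = p := sylow_card S h30 hp
      have hfp : fixedPoints (S : Subgroup K) α ≠ .univ := by
        intro e
        have hbot : (S : Subgroup K) = ⊥ := eq_bot_iff.2 fun k hk => Subgroup.mem_bot.2 (Subtype.ext (Equiv.ext fun z =>
          (Set.eq_univ_iff_forall.1 e z) ⟨k, hk⟩))
        rw [hbot, Subgroup.card_bot] at hScard
        exact (Fact.out : p.Prime).one_lt.ne hScard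
      haveI := IsQuasiPreprimitive.isPretransitive_of_normal (G := K) (X := α) hfp
      have := Subgroup.index_dvd_card (stabilizer (S : Subgroup K) a)
      rw [MulAction.index_stabilizer_of_transitive, Nat.card_eq_fintype_card (α := α), hα, hScard] at this
      rcases hp with rfl | rfl <;> norm_num at this
    haveI : Fact (Nat.Prime 3) := ⟨by norm_num⟩
    haveI : Fact (Nat.Prime 5) := ⟨by norm_num⟩
    have hsize : ∀ p : ℕ, [Fact p.Prime] → (p = 3 ∨ p = 5) → ∀ S : Sylow p K, Nat.card (S : Subgroup K) = p :=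
      fun p _ hp S => sylow_card S h30 hp
    have hn : ∀ p : ℕ, [Fact p.Prime] → (p = 3 ∨ p = 5) → 30 / p ≤ Nat.card (Sylow p K) := by
      intro p _ hp
      obtain ⟨S⟩ : Nonempty (Sylow p K) := inferInstance
      have hd := S.card_dvd_index
      have hi := (S : Subgroup K).card_mul_index
      rw [hsize p hp S, h30] at hi
      have hm := card_sylow_modEq_one p K
      have hle := Nat.le_of_dvd (by rcases hp with rfl | rfl <;> omega) hd
      have hne := key p hp
      rcases hp with rfl | rfl
      · have : (S : Subgroup K).index = 10 := by omega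
        rw [this] at hd hle
        unfold Nat.ModEq at hm
        interval_cases h : Nat.card (Sylow 3 K) <;> omega
      · have : (S : Subgroup K).index = 6 := by omega
        rw [this] at hd hle
        unfold Nat.ModEq at hm
        interval_cases h : Nat.card (Sylow 5 K) <;> omega
    haveI := Fintype.ofFinite K
    have hdis : Nat.card {g : K // orderOf g = 3} + Nat.card {g : K // orderOf g = 5} ≤ 30 := by
      rw [← h30, Nat.card_eq_fintype_card, Nat.card_eq_fintype_card, Nat.card_eq_fintype_card, Fintype.card_subtype,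
        Fintype.card_subtype, ← Finset.card_union_of_disjoint]
      · exact Finset.card_le_univ _
      · rw [Finset.disjoint_left]
        intro g hg hg'
        simp only [Finset.mem_filter, Finset.mem_univ, true_and] at hg hg'
        omega
    rw [card_orderOf_eq_prime (hsize 3 (Or.inl rfl)), card_orderOf_eq_prime (hsize 5 (Or.inr rfl))] at hdis
    have := hn 3 (Or.inl rfl)
    have := hn 5 (Or.inr rfl)
    omega
  have hor : L.index = 1 ∨ L.index = 6 := by
    interval_cases h : L.index <;> simp_all <;> omega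
  rcases hor with h | h
  · exact Or.inl (fun g hg => Subgroup.mem_subgroupOf.1
      ((Subgroup.index_eq_one.1 h).symm ▸ Subgroup.mem_top (⟨g, hg⟩ : alternatingGroup α)))
  · exact Or.inr ((iso_five hα L h).map fun e => (Subgroup.subgroupOfEquivOfLe hKa).symm.trans e)

theorem core {α : Type*} [Fintype α] [DecidableEq α] {m p q : ℕ} (hp : p.Prime) (hq : q.Prime) (hpq : p < q)
    (hcase : (p + 4 ≤ q ∧ m < 2 * p) ∨ (p = 3 ∧ q = 5 ∧ m ≤ 6) ∨ (p = 5 ∧ q = 7 ∧ m ≤ 10) ∨ (p = 11 ∧ q = 13 ∧ m ≤ 16))
    {x y : Perm α} (hxo : orderOf x = p) (hyo : orderOf y = q)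
    (hcover : ∀ z, z ∈ x.support ∨ z ∈ y.support) (hxe : x ∈ alternatingGroup α) (hye : y ∈ alternatingGroup α)
    (hd : Fintype.card α ≤ m) (hm2 : m ≤ 2 * p) :
    ∃ d : ℕ, 5 ≤ d ∧ Nonempty (Subgroup.closure ({x, y} : Set (Perm α)) ≃* alternatingGroup (Fin d)) := by
  classical
  obtain ⟨kx, hkx⟩ := cycleType_prime_order (σ := x) (by rw [hxo]; exact hp)
  obtain ⟨ky, hky⟩ := cycleType_prime_order (σ := y) (by rw [hyo]; exact hq)
  rw [hxo] at hkx
  rw [hyo] at hky
  have hsx : x.support.card = (kx + 1) * p := by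
    rw [← sum_cycleType, hkx, Multiset.sum_replicate, smul_eq_mul]
  have hsy : y.support.card = (ky + 1) * q := by
    rw [← sum_cycleType, hky, Multiset.sum_replicate, smul_eq_mul]
  have hky0 : ky = 0 := by
    by_contra h
    have := Finset.card_le_univ y.support
    have : 2 * q ≤ (ky + 1) * q := Nat.mul_le_mul_right q (by omega)
    omega
  subst hky0
  have hyc : y.IsCycle := card_cycleType_eq_one.1 (by rw [hky, Multiset.card_replicate])
  have hys : y.support.card = q := by rw [hsy]; ring
  have hqd : q ≤ Fintype.card α := hys ▸ Finset.card_le_univ _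
  set K := Subgroup.closure ({x, y} : Set (Perm α))
  have hxK : x ∈ K := Subgroup.subset_closure (by simp)
  have hyK : y ∈ K := Subgroup.subset_closure (by simp)
  have hKa : K ≤ alternatingGroup α := (Subgroup.closure_le _).2 (by
    rintro g (rfl | rfl)
    · exact hxe
    · exact hye)
  obtain ⟨w, hw⟩ := hyc.nonempty_support
  have hy_reach : ∀ z ∈ y.support, ∃ g : K, g • w = z := by
    intro z hz
    obtain ⟨i, hi⟩ := hyc.exists_pow_eq (mem_support.1 hw) (mem_support.1 hz)
    exact ⟨⟨y ^ i, pow_mem hyK i⟩, hi⟩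
  have hreach : ∀ z, ∃ g : K, g • w = z := by
    intro z
    rcases hcover z with hz | hz
    · have hC : (x.cycleOf z).support.card = p := by
        have h1 : (x.cycleOf z) ∈ x.cycleFactorsFinset := cycleOf_mem_cycleFactorsFinset_iff.2 hz
        have h2 : (x.cycleOf z).support.card ∈ x.cycleType := by
          rw [cycleType_def]
          exact Multiset.mem_map.2 ⟨_, h1, rfl⟩
        rw [hkx] at h2
        exact Multiset.eq_of_mem_replicate h2
      obtain ⟨u, hu⟩ : ((x.cycleOf z).support ∩ y.support).Nonempty := by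
        rw [← Finset.card_pos]
        have h1 := Finset.card_union_add_card_inter (x.cycleOf z).support y.support
        have h2 := Finset.card_le_univ ((x.cycleOf z).support ∪ y.support)
        omega
      obtain ⟨hu1, hu2⟩ := Finset.mem_inter.1 hu
      obtain ⟨g, hg⟩ := hy_reach u hu2
      obtain ⟨i, hi⟩ := (mem_support_cycleOf_iff.1 hu1).1
      refine ⟨⟨x ^ (-i), zpow_mem hxK _⟩ * g, ?_⟩
      rw [mul_smul, hg]
      show (x ^ (-i)) u = z
      rw [← hi, zpow_neg]
      simp
    · exact hy_reach z hz
  have htr : IsPretransitive K α := ⟨fun a b => by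
    obtain ⟨g, hg⟩ := hreach a
    obtain ⟨h, hh⟩ := hreach b
    exact ⟨h * g⁻¹, by rw [mul_smul, ← hg, inv_smul_smul, hh]⟩⟩
  have hG : IsPreprimitive K α := isPreprimitive_of_cycle htr hq hyc hys hyK (by omega)
  have hfull : alternatingGroup α ≤ K →
      ∃ d : ℕ, 5 ≤ d ∧ Nonempty (K ≃* alternatingGroup (Fin d)) := fun h =>
    ⟨Fintype.card α, by
      have := hp.two_le
      rcases hcase with h | h | h | h <;> omega,
      ⟨(MulEquiv.subgroupCongr (le_antisymm hKa h)).trans (Equiv.altCongrHom (Fintype.equivFin α))⟩⟩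
  by_cases hJ : q + 3 ≤ Fintype.card α
  · exact hfull (alternatingGroup_le_of_prime_cycle hG hq hJ hyc hys hyK)
  by_cases hkx0 : kx = 0
  · subst hkx0
    have hxc : x.IsCycle := card_cycleType_eq_one.1 (by rw [hkx, Multiset.card_replicate])
    have hxs : x.support.card = p := by rw [hsx]; ring
    rcases hcase with h | h | h | h
    · exact hfull (alternatingGroup_le_of_prime_cycle hG hp (by omega) hxc hxs hxK)
    · exact hfull (alternatingGroup_le_of_isPreprimitive_of_isThreeCycle_mem hG
        (card_support_eq_three_iff.1 (hxs.trans h.1)) hxK)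
    · obtain ⟨rfl, rfl, h3⟩ := h
      by_cases h7 : Fintype.card α = 7
      · exact hfull (le_of_seven hG h7 hKa hyc hys hyK hxc hxs hxK)
      · exact hfull (alternatingGroup_le_of_prime_cycle hG hp (by omega) hxc hxs hxK)
    · obtain ⟨rfl, rfl, h3⟩ := h
      by_cases h13 : Fintype.card α = 13
      · exact hfull (le_of_thirteen hG h13 hKa hxc hxs hxK)
      · exact hfull (alternatingGroup_le_of_prime_cycle hG hp (by omega) hxc hxs hxK)
  · have h2p : 2 * p ≤ (kx + 1) * p := Nat.mul_le_mul_right p (by omega)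
    have := Finset.card_le_univ x.support
    obtain ⟨rfl, rfl, h6⟩ : p = 3 ∧ q = 5 ∧ Fintype.card α = 6 := by
      rcases hcase with h | h | h | h <;> omega
    rcases special h6 hKa hG (by
        have := orderOf_dvd_natCard (⟨y, hyK⟩ : K)
        rwa [Subgroup.orderOf_mk, hyo] at this) hxK hxo with h | h
    · exact hfull h
    · exact ⟨5, le_rfl, h⟩

/-- Let m ≥ 5. Then there are primes p < q with m/2 ≤ p and q ≤ m such that any two elements x, y of the alternating group of degree m with x of order p and y of order q generate a subgroup isomorphic to an alternating group of some degree d ≥ 5. -/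
theorem result (m : ℕ) (hm : 5 ≤ m) :
    ∃ p q : ℕ, p.Prime ∧ q.Prime ∧ m ≤ 2 * p ∧ p < q ∧ q ≤ m ∧
      ∀ x y : alternatingGroup (Fin m), orderOf x = p → orderOf y = q →
        ∃ d : ℕ, 5 ≤ d ∧ Nonempty (Subgroup.closure ({x, y} : Set (alternatingGroup (Fin m))) ≃* alternatingGroup (Fin d)) := by
  classical
  obtain ⟨p, q, hp, hq, hpq, hqm, hm2, hcase⟩ : ∃ p q : ℕ, p.Prime ∧ q.Prime ∧ p < q ∧ q ≤ m ∧ m ≤ 2 * p ∧
      ((p + 4 ≤ q ∧ m < 2 * p) ∨ (p = 3 ∧ q = 5 ∧ m ≤ 6) ∨ (p = 5 ∧ q = 7 ∧ m ≤ 10) ∨ (p = 11 ∧ q = 13 ∧ m ≤ 16)) := by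
    by_cases h6 : m ≤ 6
    · exact ⟨3, 5, by norm_num, by norm_num, by omega, by omega, by omega, by omega⟩
    by_cases h10 : m ≤ 10
    · exact ⟨5, 7, by norm_num, by norm_num, by omega, by omega, by omega, by omega⟩
    by_cases h14 : m = 14 ∨ m = 15 ∨ m = 16
    · exact ⟨11, 13, by norm_num, by norm_num, by omega, by omega, by omega, by omega⟩
    obtain ⟨p, q, hp, hq, h1, h2, h3⟩ := exists_prime_pair (m := m) (by omega) (by omega) (by omega) (by omega)
    exact ⟨p, q, hp, hq, by omega, h3, by omega, Or.inl ⟨h2, h1⟩⟩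
  refine ⟨p, q, hp, hq, hm2, hpq, hqm, fun x y hx hy => ?_⟩
  set X : Perm (Fin m) := (x : Perm (Fin m)) with hXdef
  set Y : Perm (Fin m) := (y : Perm (Fin m)) with hYdef
  set U : Finset (Fin m) := X.support ∪ Y.support with hU
  have hXi : ∀ z, X z ∈ U ↔ z ∈ U := by
    intro z
    simp only [hU, Finset.mem_union, apply_mem_support]
    by_cases hz : X z = z
    · rw [hz]
    · exact iff_of_true (Or.inl (mem_support.2 hz)) (Or.inl (mem_support.2 hz))
  have hYi : ∀ z, Y z ∈ U ↔ z ∈ U := by
    intro z
    simp only [hU, Finset.mem_union, apply_mem_support]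
    by_cases hz : Y z = z
    · rw [hz]
    · exact iff_of_true (Or.inr (mem_support.2 hz)) (Or.inr (mem_support.2 hz))
  have hX' : ofSubtype (X.subtypePerm hXi) = X :=
    ofSubtype_subtypePerm hXi fun z hz => Finset.mem_union_left _ (mem_support.2 hz)
  have hY' : ofSubtype (Y.subtypePerm hYi) = Y :=
    ofSubtype_subtypePerm hYi fun z hz => Finset.mem_union_right _ (mem_support.2 hz)
  set X' : Perm {z // z ∈ U} := X.subtypePerm hXi with hX'def
  set Y' : Perm {z // z ∈ U} := Y.subtypePerm hYi with hY'def
  have hoX : orderOf X' = p := by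
    rw [← orderOf_injective ofSubtype ofSubtype_injective X', hX', hXdef, Subgroup.orderOf_coe, hx]
  have hoY : orderOf Y' = q := by
    rw [← orderOf_injective ofSubtype ofSubtype_injective Y', hY', hYdef, Subgroup.orderOf_coe, hy]
  obtain ⟨d, hd5, ⟨e⟩⟩ := core hp hq hpq hcase hoX hoY (fun z => by
      rcases Finset.mem_union.1 z.2 with h | h
      · exact Or.inl (mem_support.2 fun e => mem_support.1 h (congrArg Subtype.val e))
      · exact Or.inr (mem_support.2 fun e => mem_support.1 h (congrArg Subtype.val e)))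
    (by rw [mem_alternatingGroup, ← sign_ofSubtype, hX']; exact mem_alternatingGroup.1 x.2)
    (by rw [mem_alternatingGroup, ← sign_ofSubtype, hY']; exact mem_alternatingGroup.1 y.2)
    (by
      rw [Fintype.card_coe]
      exact (Finset.card_le_univ U).trans_eq (Fintype.card_fin m)) hm2
  have h1 : (Subgroup.closure ({x, y} : Set (alternatingGroup (Fin m)))).map (alternatingGroup (Fin m)).subtype
      = Subgroup.closure {X, Y} := by
    rw [MonoidHom.map_closure, Set.image_pair]; rfl
  have h2 : (Subgroup.closure ({X', Y'} : Set (Perm {z // z ∈ U}))).map ofSubtype = Subgroup.closure {X, Y} := by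
    rw [MonoidHom.map_closure, Set.image_pair, hX', hY']
  exact ⟨d, hd5, ⟨((((Subgroup.equivMapOfInjective _ _ (alternatingGroup (Fin m)).subtype_injective).trans
    (MulEquiv.subgroupCongr (h1.trans h2.symm))).trans
    (Subgroup.equivMapOfInjective _ _ ofSubtype_injective).symm)).trans e⟩⟩

end Cfsg.Agent.S4150
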