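import Cfsg.Statements.S3378
import Cfsg.Agent.S3377
import Cfsg.Agent.S4150
import Cfsg.Agent.Lib.Recog.BinaryIcosahedral
import Cfsg.Agent.Lib.Characters.Burnside
-- import your own Cfsg.Agent.* helpers here

set_option autoImplicit false
open Cfsg

namespace Cfsg.Agent.S3378

set_option maxHeartbeats 1000000
open Subgroup
open scoped Pointwise

abbrev rels : Set (FreeGroup (Fin 3)) :=
  {FreeGroup.of (0 : Fin 3) ^ 3, FreeGroup.of (1 : Fin 3) ^ 5, FreeGroup.of (2 : Fin 3) ^ 2,
    (FreeGroup.of (2 : Fin 3))⁻¹ * FreeGroup.of 0 * FreeGroup.of 2 * (FreeGroup.of (0 : Fin 3))⁻¹,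
    (FreeGroup.of (2 : Fin 3))⁻¹ * FreeGroup.of 1 * FreeGroup.of 2 * (FreeGroup.of (1 : Fin 3))⁻¹,
    (FreeGroup.of (0 : Fin 3) * FreeGroup.of 1) ^ 2 * (FreeGroup.of (2 : Fin 3))⁻¹}

abbrev P := PresentedGroup rels

theorem card_P : Finite P ∧ Nat.card P ≤ 120 := by
  classical
  let a : P := PresentedGroup.of 0
  let b : P := PresentedGroup.of 1
  let c : P := PresentedGroup.of 2
  have hr : ∀ r ∈ rels, PresentedGroup.mk rels r = 1 := fun r h => PresentedGroup.one_of_mem h
  have ha : a ^ 3 = 1 := (map_pow _ _ _).symm.trans (hr _ (Or.inl rfl))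
  have hb : b ^ 5 = 1 := (map_pow _ _ _).symm.trans (hr _ (Or.inr (Or.inl rfl)))
  have hc : c ^ 2 = 1 := (map_pow _ _ _).symm.trans (hr _ (Or.inr (Or.inr (Or.inl rfl))))
  have hca : c⁻¹ * a * c * a⁻¹ = 1 := by
    have h := hr _ (Or.inr (Or.inr (Or.inr (Or.inl rfl))))
    simp only [map_mul, map_inv] at h
    exact h
  have hcb : c⁻¹ * b * c * b⁻¹ = 1 := by
    have h := hr _ (Or.inr (Or.inr (Or.inr (Or.inr (Or.inl rfl)))))
    simp only [map_mul, map_inv] at h
    exact h
  have hab : (a * b) ^ 2 * c⁻¹ = 1 := by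
    have h := hr _ (Or.inr (Or.inr (Or.inr (Or.inr (Or.inr rfl)))))
    simp only [map_mul, map_inv, map_pow] at h
    exact h
  have hcen : c ∈ center P := by
    rw [mem_center_iff]
    intro g
    have hg : g ∈ closure (Set.range (PresentedGroup.of (rels := rels))) := by
      rw [PresentedGroup.closure_range_of]; trivial
    have hle : closure (Set.range (PresentedGroup.of (rels := rels))) ≤ centralizer ({c} : Set P) := by
      rw [closure_le]
      rintro _ ⟨i, rfl⟩
      rw [SetLike.mem_coe, mem_centralizer_singleton_iff]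
      fin_cases i
      · show a * c = c * a
        calc a * c = c * (c⁻¹ * a * c * a⁻¹) * a := by group
          _ = _ := by rw [hca, mul_one]
      · show b * c = c * b
        calc b * c = c * (c⁻¹ * b * c * b⁻¹) * b := by group
          _ = _ := by rw [hcb, mul_one]
      · rfl
    exact mem_centralizer_singleton_iff.1 (hle hg)
  haveI hZn : (zpowers c).Normal := ⟨fun x hx g => by
    rw [mem_center_iff.1 (zpowers_le.2 hcen hx) g, mul_inv_cancel_right]; exact hx⟩
  let π := QuotientGroup.mk' (zpowers c)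
  have hπc : π c = 1 := (QuotientGroup.eq_one_iff c).2 (mem_zpowers c)
  have hlift : ∀ r ∈ Cfsg.Agent.S3377.rels, FreeGroup.lift ![π a, π b] r = 1 := by
    intro r hr'
    rcases hr' with rfl | rfl | rfl <;> simp only [map_pow, map_mul, FreeGroup.lift_apply_of]
    · exact (map_pow π a 3).symm.trans (by rw [ha, map_one])
    · exact (map_pow π b 5).symm.trans (by rw [hb, map_one])
    · show (π a * π b) ^ 2 = 1
      rw [← map_mul, ← map_pow, eq_of_mul_inv_eq_one hab, hπc]
  let f : Cfsg.Agent.S3377.G →* P ⧸ zpowers c := PresentedGroup.toGroup hlift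
  have hf : Function.Surjective f := by
    rw [← MonoidHom.range_eq_top, eq_top_iff]
    intro y _
    obtain ⟨g, rfl⟩ := QuotientGroup.mk'_surjective (zpowers c) y
    have hg : g ∈ closure (Set.range (PresentedGroup.of (rels := rels))) := by
      rw [PresentedGroup.closure_range_of]; trivial
    have hle : closure (Set.range (PresentedGroup.of (rels := rels))) ≤ f.range.comap π := by
      rw [closure_le]
      rintro _ ⟨i, rfl⟩
      fin_cases i
      · exact ⟨PresentedGroup.of 0, PresentedGroup.toGroup.of hlift⟩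
      · exact ⟨PresentedGroup.of 1, PresentedGroup.toGroup.of hlift⟩
      · exact ⟨1, (map_one f).trans hπc.symm⟩
    exact hle hg
  obtain ⟨e⟩ := Cfsg.Agent.S3377.result
  haveI : Finite Cfsg.Agent.S3377.G := Finite.of_equiv _ e.symm.toEquiv
  haveI : Finite (P ⧸ zpowers c) := Finite.of_surjective f hf
  have hco : IsOfFinOrder c := isOfFinOrder_iff_pow_eq_one.2 ⟨2, by norm_num, hc⟩
  have hZf : Finite (zpowers c) := hco.finite_zpowers.to_subtype
  have hPf : Finite P := (finite_iff_finite_and_finiteIndex (zpowers c)).2 ⟨hZf, finiteIndex_of_finite_quotient⟩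
  refine ⟨hPf, ?_⟩
  rw [← (zpowers c).card_mul_index, index_eq_card]
  have h1 : Nat.card (P ⧸ zpowers c) ≤ 60 := (Nat.card_le_card_of_surjective f hf).trans (le_of_eq (by
    rw [Nat.card_congr e.toEquiv, nat_card_alternatingGroup, Nat.card_eq_fintype_card, Fintype.card_fin]; rfl))
  have h2 : Nat.card (zpowers c) ≤ 2 := by
    rw [Nat.card_zpowers]; exact Nat.le_of_dvd (by norm_num) (orderOf_dvd_of_pow_eq_one hc)
  calc _ ≤ 2 * 60 := Nat.mul_le_mul h2 h1
    _ = _ := rfl

theorem iso_P {Q : Type*} [Group Q] [Finite Q] (hcard : Nat.card Q = 120) (a b z : Q) (ha : a ^ 3 = 1)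
    (hb : b ^ 5 = 1) (hz : z ^ 2 = 1) (hza : a * z = z * a) (hzb : b * z = z * b) (hab : (a * b) ^ 2 = z)
    (hgen : closure ({a, b} : Set Q) = ⊤) : Nonempty (P ≃* Q) := by
  have hlift : ∀ r ∈ rels, FreeGroup.lift ![a, b, z] r = 1 := by
    intro r hr
    rcases hr with rfl | rfl | rfl | rfl | rfl | rfl <;> simp only [map_pow, map_mul, map_inv, FreeGroup.lift_apply_of]
    · exact ha
    · exact hb
    · exact hz
    · show z⁻¹ * a * z * a⁻¹ = 1
      rw [mul_assoc z⁻¹ a z, hza]; group
    · show z⁻¹ * b * z * b⁻¹ = 1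
      rw [mul_assoc z⁻¹ b z, hzb]; group
    · show (a * b) ^ 2 * z⁻¹ = 1
      rw [hab, mul_inv_cancel]
  let f : P →* Q := PresentedGroup.toGroup hlift
  have hf : Function.Surjective f := by
    rw [← MonoidHom.range_eq_top, eq_top_iff, ← hgen, closure_le]
    rintro y (rfl | rfl)
    · exact ⟨PresentedGroup.of 0, PresentedGroup.toGroup.of hlift⟩
    · exact ⟨PresentedGroup.of 1, PresentedGroup.toGroup.of hlift⟩
  obtain ⟨hfin, hle⟩ := card_P
  exact ⟨MulEquiv.ofBijective f ((Nat.bijective_iff_surjective_and_card f).2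
    ⟨hf, le_antisymm (hcard ▸ hle) (Nat.card_le_card_of_surjective f hf)⟩)⟩

theorem q8_sq : ∀ x : QuaternionGroup 2, x * x = 1 → x = 1 ∨ x = QuaternionGroup.a 2 := by decide

/-- Small orders give solvable groups. -/
theorem solvable_small {H : Type*} [Group H] [Finite H] (hd : Nat.card H ∣ 120) (h60 : Nat.card H ≠ 60)
    (h120 : Nat.card H ≠ 120) : Group.IsSolvable H := by
  have hmem : Nat.card H ∈ Nat.divisors 120 := Nat.mem_divisors.2 ⟨hd, by norm_num⟩
  have key : ∀ d ∈ Nat.divisors 120, d = 60 ∨ d = 120 ∨ d = 30 ∨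
      (∃ a < 4, ∃ b < 2, d = 2 ^ a * 3 ^ b) ∨ (∃ a < 4, ∃ b < 2, d = 2 ^ a * 5 ^ b) ∨ (∃ a < 2, ∃ b < 2, d = 3 ^ a * 5 ^ b) := by
    decide +kernel
  rcases key _ hmem with h | h | h | ⟨a, -, b, -, h⟩ | ⟨a, -, b, -, h⟩ | ⟨a, -, b, -, h⟩
  · exact absurd h h60
  · exact absurd h h120
  · haveI : Fact (Nat.Prime 2) := ⟨Nat.prime_two⟩
    have hmin : (Nat.card H).minFac = 2 := by rw [h]; norm_num
    obtain S : Sylow 2 H := default
    have hS : Nat.card (S : Subgroup H) = 2 := by
      rw [S.card_eq_multiplicity, h, Nat.factorization_def _ Nat.prime_two, show (30 : ℕ) = 2 * 15 by norm_num,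
        padicValNat.mul (by norm_num) (by norm_num), padicValNat.self (by norm_num),
        padicValNat.eq_zero_of_not_dvd (by norm_num)]
      norm_num
    haveI : IsCyclic (S : Subgroup H) := isCyclic_of_prime_card hS
    have hcent := IsCyclic.normalizer_le_centralizer hmin (P := S) inferInstance
    have hc := MonoidHom.ker_transferSylow_isComplement' S hcent
    set K := (MonoidHom.transferSylow S hcent).ker
    have hK : Nat.card K = 15 := by
      have := hc.card_mul
      rw [hS, h] at this
      omega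
    haveI : Group.IsSolvable K := Cfsg.Lib.Characters.isSolvable_of_card_eq_pow_mul_pow (p := 3) (q := 5)
      Nat.prime_three Nat.prime_five _ K hK ⟨1, 1, by norm_num⟩
    haveI : Group.IsSolvable (H ⧸ K) := Cfsg.Lib.Characters.isSolvable_of_card_eq_pow_mul_pow (p := 2) (q := 3)
      Nat.prime_two Nat.prime_three 2 (H ⧸ K) (by
        have := K.card_mul_index
        rw [hK, h, index_eq_card] at this
        omega) ⟨1, 0, by norm_num⟩
    exact solvable_of_ker_le_range K.subtype (QuotientGroup.mk' K) (by rw [QuotientGroup.ker_mk', range_subtype])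
  · exact Cfsg.Lib.Characters.isSolvable_of_card_eq_pow_mul_pow Nat.prime_two Nat.prime_three _ H h ⟨a, b, rfl⟩
  · exact Cfsg.Lib.Characters.isSolvable_of_card_eq_pow_mul_pow Nat.prime_two Nat.prime_five _ H h ⟨a, b, rfl⟩
  · exact Cfsg.Lib.Characters.isSolvable_of_card_eq_pow_mul_pow Nat.prime_three Nat.prime_five _ H h ⟨a, b, rfl⟩

theorem solvable_ext {H : Type*} [Group H] (N : Subgroup H) [N.Normal] (h1 : Group.IsSolvable N)
    (h2 : Group.IsSolvable (H ⧸ N)) : Group.IsSolvable H :=
  solvable_of_ker_le_range N.subtype (QuotientGroup.mk' N) (by rw [QuotientGroup.ker_mk', range_subtype])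

theorem part_one {G : Type*} [Group G] [Finite G] (hG : Nat.card G = 120) (hns : ¬ Group.IsSolvable G)
    (hQ : ∀ S : Sylow 2 G, Nonempty ((S : Subgroup G) ≃* QuaternionGroup 2)) : Nonempty (P ≃* G) := by
  classical
  haveI : Fact (Nat.Prime 2) := ⟨Nat.prime_two⟩
  haveI : Fact (Nat.Prime 5) := ⟨Nat.prime_five⟩
  -- two-subgroups have at most one involution
  have uniq : ∀ (U : Subgroup G), IsPGroup 2 U → ∀ x ∈ U, ∀ y ∈ U, x * x = 1 → y * y = 1 → x ≠ 1 → y ≠ 1 → x = y := by
    intro U hU x hx y hy hx2 hy2 hx1 hy1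
    obtain ⟨S, hS⟩ := hU.exists_le_sylow
    obtain ⟨e⟩ := hQ S
    have hone : ∀ (u : G) (hu : u ∈ (S : Subgroup G)), u * u = 1 → u ≠ 1 → e ⟨u, hu⟩ = QuaternionGroup.a 2 := by
      intro u hu h2 h1
      refine (q8_sq _ ?_).resolve_left fun h => h1 ?_
      · rw [← map_mul, show (⟨u, hu⟩ : (S : Subgroup G)) * ⟨u, hu⟩ = 1 from Subtype.ext h2, map_one]
      · exact congrArg Subtype.val (e.injective (h.trans (map_one e).symm))
    exact congrArg Subtype.val (e.injective ((hone x (hS hx) hx2 hx1).trans (hone y (hS hy) hy2 hy1).symm))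
  obtain S5 : Sylow 5 G := default
  have hP5 : Nat.card (S5 : Subgroup G) = 5 := by
    rw [S5.card_eq_multiplicity, hG, Nat.factorization_def _ Nat.prime_five, show (120 : ℕ) = 5 * 24 by norm_num,
      padicValNat.mul (by norm_num) (by norm_num), padicValNat.self (by norm_num),
      padicValNat.eq_zero_of_not_dvd (by norm_num)]
    norm_num
  have hn5 : Nat.card (Sylow 5 G) = 6 := by
    have h1 := card_sylow_modEq_one 5 G
    have h2 : Nat.card (Sylow 5 G) ∣ 24 := by
      have h := S5.card_dvd_index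
      have h' := (S5 : Subgroup G).card_mul_index
      rw [hP5, hG] at h'
      rwa [show (S5 : Subgroup G).index = 24 by omega] at h
    have h3 : Nat.card (Sylow 5 G) ≠ 1 := by
      intro h
      haveI : Subsingleton (Sylow 5 G) := (Nat.card_eq_one_iff_unique.1 h).1
      haveI := Sylow.normal_of_subsingleton S5
      refine hns (solvable_ext (S5 : Subgroup G) (solvable_small (by rw [hP5]; norm_num) (by omega) (by omega)) (solvable_small ?_ ?_ ?_)) <;>
      · have h' := (S5 : Subgroup G).card_mul_index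
        rw [hP5, hG, index_eq_card] at h'
        first
          | rw [show Nat.card (G ⧸ (S5 : Subgroup G)) = 24 by omega]; norm_num
          | omega
    have h4 : Nat.card (Sylow 5 G) ∈ Nat.divisors 24 := Nat.mem_divisors.2 ⟨h2, by norm_num⟩
    have key : ∀ d ∈ Nat.divisors 24, d % 5 = 1 → d = 1 ∨ d = 6 := by decide +kernel
    exact (key _ h4 h1).resolve_left h3
  let φ := MulAction.toPermHom G (Sylow 5 G)
  have hker_dvd : Nat.card φ.ker ∣ 20 := by
    have hle : φ.ker ≤ normalizer ((S5 : Subgroup G) : Set G) := by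
      intro g hg
      exact Sylow.smul_eq_iff_mem_normalizer.1 (Equiv.ext_iff.1 hg S5)
    refine (card_dvd_of_le hle).trans (dvd_of_eq ?_)
    have h := (normalizer ((S5 : Subgroup G) : Set G)).card_mul_index
    have h2 := Sylow.card_eq_index_normalizer S5
    rw [hn5] at h2
    erw [← h2, hG] at h
    omega
  have hmul : Nat.card φ.ker * Nat.card φ.range = 120 := by rw [← index_ker, card_mul_index, hG]
  have hrns : ¬ Group.IsSolvable φ.range := fun h => hns (by
    haveI := h
    haveI : Group.IsSolvable φ.ker := solvable_small (hker_dvd.trans (by norm_num))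
      (fun e => by rw [e] at hker_dvd; norm_num at hker_dvd) (fun e => by rw [e] at hker_dvd; norm_num at hker_dvd)
    exact solvable_of_ker_le_range φ.ker.subtype φ.rangeRestrict (by rw [MonoidHom.ker_rangeRestrict, range_subtype]))
  have hr : Nat.card φ.range = 60 ∨ Nat.card φ.range = 120 := by
    by_contra h
    push Not at h
    exact hrns (solvable_small ⟨_, by rw [mul_comm]; exact hmul.symm⟩ h.1 h.2)
  haveI := Fintype.ofFinite (Sylow 5 G)
  haveI : Nontrivial (Sylow 5 G) := Finite.one_lt_card_iff_nontrivial.1 (by omega)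
  have hA6 : Nat.card (alternatingGroup (Sylow 5 G)) = 360 := by
    rw [nat_card_alternatingGroup, hn5]; rfl
  let σ : φ.range →* ℤˣ := Equiv.Perm.sign.comp φ.range.subtype
  rcases hr with hr | hr
  case inr =>
    exfalso
    by_cases hσ : ∀ y, σ y = 1
    · have hle : φ.range ≤ alternatingGroup (Sylow 5 G) := fun y hy => Equiv.Perm.mem_alternatingGroup.2 (hσ ⟨y, hy⟩)
      have hK : (φ.range.subgroupOf (alternatingGroup (Sylow 5 G))).index = 3 := by
        have h := (φ.range.subgroupOf (alternatingGroup (Sylow 5 G))).card_mul_index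
        rw [Nat.card_congr (subgroupOfEquivOfLe hle).toEquiv, hr, hA6] at h
        omega
      haveI := alternatingGroup.isSimpleGroup (α := Sylow 5 G) (by rw [hn5]; norm_num)
      set K := φ.range.subgroupOf (alternatingGroup (Sylow 5 G))
      rcases (K.normalCore_normal).eq_bot_or_eq_top with h | h
      · have hinj : Function.Injective (MulAction.toPermHom (alternatingGroup (Sylow 5 G)) (alternatingGroup (Sylow 5 G) ⧸ K)) := by
          rw [← MonoidHom.ker_eq_bot_iff, ← normalCore_eq_ker, h]
        have := Nat.card_le_card_of_injective _ hinj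
        rw [hA6, Nat.card_perm, ← index_eq_card, hK] at this
        norm_num [Nat.factorial] at this
      · have : K = ⊤ := top_le_iff.1 (h ▸ K.normalCore_le)
        rw [this, index_top] at hK
        norm_num at hK
    · push Not at hσ
      obtain ⟨y, hy⟩ := hσ
      have hsurj : Function.Surjective σ := by
        intro u
        rcases Int.units_eq_one_or u with rfl | rfl
        · exact ⟨1, map_one σ⟩
        · exact ⟨y, (Int.units_eq_one_or _).resolve_left hy⟩
      have hN : Nat.card σ.ker = 60 := by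
        have h := σ.ker.card_mul_index
        rw [index_ker, MonoidHom.range_eq_top.2 hsurj, Nat.card_congr topEquiv.toEquiv, hr,
          Nat.card_eq_fintype_card (α := ℤˣ), Fintype.card_units_int] at h
        omega
      refine hrns (solvable_ext σ.ker ?_ (solvable_small ?_ ?_ ?_))
      rotate_left
      · have h := σ.ker.card_mul_index
        rw [hN, hr, index_eq_card] at h
        rw [show Nat.card (φ.range ⧸ σ.ker) = 2 by omega]; norm_num
      · have h := σ.ker.card_mul_index
        rw [hN, hr, index_eq_card] at h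
        omega
      · have h := σ.ker.card_mul_index
        rw [hN, hr, index_eq_card] at h
        omega
      have hkφ : Function.Injective φ.rangeRestrict := by
        rw [← MonoidHom.ker_eq_bot_iff, MonoidHom.ker_rangeRestrict, eq_bot_iff_card]
        rw [hr] at hmul
        omega
      let eR : G ≃* φ.range := MulEquiv.ofBijective φ.rangeRestrict ⟨hkφ, φ.rangeRestrict_surjective⟩
      have hmin : (Nat.card σ.ker).minFac = 2 := by rw [hN]; norm_num
      obtain S : Sylow 2 σ.ker := default
      have hS : Nat.card (S : Subgroup σ.ker) = 4 := by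
        rw [S.card_eq_multiplicity, hN, Nat.factorization_def _ Nat.prime_two, show (60 : ℕ) = 2 ^ 2 * 15 by norm_num,
          padicValNat.mul (by norm_num) (by norm_num), padicValNat.prime_pow,
          padicValNat.eq_zero_of_not_dvd (by norm_num)]
        norm_num
      haveI : IsCyclic (S : Subgroup σ.ker) := by
        haveI : Nontrivial (S : Subgroup σ.ker) := Finite.one_lt_card_iff_nontrivial.1 (by omega)
        let j : (S : Subgroup σ.ker) →* G := eR.symm.toMonoidHom.comp (σ.ker.subtype.comp (S : Subgroup σ.ker).subtype)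
        have hj : Function.Injective j := eR.symm.injective.comp (σ.ker.subtype_injective.comp (subtype_injective _))
        have hp : IsPGroup 2 j.range := S.isPGroup'.of_surjective j.rangeRestrict j.rangeRestrict_surjective
        by_contra hnc
        have hall : ∀ x : (S : Subgroup σ.ker), x * x = 1 := by
          intro x
          have hd := orderOf_dvd_natCard x
          rw [hS] at hd
          have : orderOf x ≠ 4 := fun h => hnc (isCyclic_of_orderOf_eq_card x (h.trans hS.symm))
          have hmem : orderOf x ∈ Nat.divisors 4 := Nat.mem_divisors.2 ⟨hd, by norm_num⟩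
          have key : ∀ d ∈ Nat.divisors 4, d ≠ 4 → d ∣ 2 := by decide
          rw [← sq]
          exact orderOf_dvd_iff_pow_eq_one.1 (key _ hmem this)
        obtain ⟨x, hx⟩ := exists_ne (1 : (S : Subgroup σ.ker))
        have huniv : ∀ y : (S : Subgroup σ.ker), y = 1 ∨ y = x := fun y => by
          refine or_iff_not_imp_left.2 fun hy => hj ?_
          exact uniq _ hp _ ⟨y, rfl⟩ _ ⟨x, rfl⟩ (by rw [← map_mul, hall, map_one]) (by rw [← map_mul, hall, map_one])
            (fun h => hy (hj (h.trans (map_one j).symm))) (fun h => hx (hj (h.trans (map_one j).symm)))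
        have : Nat.card (S : Subgroup σ.ker) ≤ 2 := by
          refine (Nat.card_le_card_of_surjective (fun i : Fin 2 => if i = 0 then 1 else x) fun y => ?_).trans (by simp)
          rcases huniv y with rfl | rfl
          · exact ⟨0, rfl⟩
          · exact ⟨1, rfl⟩
        omega
      have hcent := IsCyclic.normalizer_le_centralizer hmin (P := S) inferInstance
      have hc := MonoidHom.ker_transferSylow_isComplement' S hcent
      set K := (MonoidHom.transferSylow S hcent).ker
      have hK : Nat.card K = 15 := by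
        have := hc.card_mul
        rw [hS, hN] at this
        omega
      refine solvable_ext K (solvable_small (by rw [hK]; norm_num) (by omega) (by omega)) (solvable_small ?_ ?_ ?_) <;>
      · have := K.card_mul_index
        rw [hK, hN, index_eq_card] at this
        first
          | rw [show Nat.card (σ.ker ⧸ K) = 4 by omega]; norm_num
          | omega
  -- the centre
  have hk2 : Nat.card φ.ker = 2 := by rw [hr] at hmul; omega
  obtain ⟨⟨z, hzk⟩, hz1, hzu⟩ := (Nat.card_eq_two_iff' (1 : φ.ker)).1 hk2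
  have hz1' : z ≠ 1 := fun h => hz1 (Subtype.ext h)
  have hzcen : ∀ g : G, g * z = z * g := by
    intro g
    have h := hzu ⟨g * z * g⁻¹, (MonoidHom.normal_ker φ).conj_mem z hzk g⟩ (fun h => hz1' (by
      have h' : g * z * g⁻¹ = 1 := congrArg Subtype.val h
      rwa [mul_inv_eq_one, mul_eq_left] at h'))
    exact mul_inv_eq_iff_eq_mul.1 (congrArg Subtype.val h)
  have hz2 : z * z = 1 := by
    have h := pow_card_eq_one' (x := (⟨z, hzk⟩ : φ.ker))
    rw [hk2, sq] at h
    exact congrArg Subtype.val h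
  have hinv : ∀ x : G, x * x = 1 → x ≠ 1 → x = z := by
    intro x hx hx1
    obtain ⟨S, hS⟩ := (IsPGroup.of_card (p := 2) (n := 1) (by
      rw [Nat.card_zpowers, pow_one]
      exact orderOf_eq_prime (by rw [sq, hx]) hx1) : IsPGroup 2 (zpowers x)).exists_le_sylow
    have hzS : z ∈ (S : Subgroup G) := by
      have hp : IsPGroup 2 φ.ker := IsPGroup.of_card (n := 1) (by rw [hk2, pow_one])
      exact hp.le_sylow_of_normal S hzk
    exact uniq _ S.isPGroup' x (hS (mem_zpowers x)) z hzS hx hz2 hx1 hz1'
  -- the quotient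
  have hsimp : IsSimpleGroup φ.range := by
    haveI : Nontrivial φ.range := Finite.one_lt_card_iff_nontrivial.1 (by omega)
    refine ⟨fun N hN => ?_⟩
    by_contra h
    push Not at h
    have h1 := N.card_mul_index
    rw [hr, index_eq_card] at h1
    have hne1 : Nat.card N ≠ 1 := fun e => h.1 (card_eq_one.1 e)
    have hne60 : Nat.card N ≠ 60 := fun e => h.2 (eq_top_of_card_eq _ (e.trans hr.symm))
    have hd1 : Nat.card N ∣ 120 := (Dvd.intro _ h1).trans (by norm_num)
    have hd2 : Nat.card (φ.range ⧸ N) ∣ 120 := (Dvd.intro_left _ h1).trans (by norm_num)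
    refine hrns (solvable_ext N (solvable_small hd1 hne60 fun e => ?_) (solvable_small hd2 (fun e => ?_) fun e => ?_))
    · rw [e] at h1; omega
    · rw [e] at h1; omega
    · rw [e] at h1; omega
  haveI := hsimp
  have hle : φ.range ≤ alternatingGroup (Sylow 5 G) := by
    intro y hy
    rw [Equiv.Perm.mem_alternatingGroup]
    rcases (MonoidHom.normal_ker σ).eq_bot_or_eq_top with h | h
    · have := Nat.card_le_card_of_injective σ ((MonoidHom.ker_eq_bot_iff σ).1 h)
      rw [hr, Nat.card_eq_fintype_card (α := ℤˣ), Fintype.card_units_int] at this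
      omega
    · have : σ ⟨y, hy⟩ = 1 := MonoidHom.mem_ker.1 (h ▸ mem_top _)
      exact this
  obtain ⟨e5⟩ := Cfsg.Agent.S4150.iso_five (by rw [← Nat.card_eq_fintype_card, hn5]) (φ.range.subgroupOf (alternatingGroup (Sylow 5 G))) (by
    have h := (φ.range.subgroupOf (alternatingGroup (Sylow 5 G))).card_mul_index
    rw [Nat.card_congr (subgroupOfEquivOfLe hle).toEquiv, hr, hA6] at h
    omega)
  let ψ : G →* alternatingGroup (Fin 5) := ((subgroupOfEquivOfLe hle).symm.trans e5).toMonoidHom.comp φ.rangeRestrict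
  have hψs : Function.Surjective ψ :=
    ((subgroupOfEquivOfLe hle).symm.trans e5).surjective.comp φ.rangeRestrict_surjective
  have hψk : ∀ x, ψ x = 1 → x = 1 ∨ x = z := by
    intro x hx
    have h1 : φ.rangeRestrict x = 1 := ((subgroupOfEquivOfLe hle).symm.trans e5).injective (hx.trans (map_one _).symm)
    have h2 : x ∈ φ.ker := congrArg Subtype.val h1
    rcases eq_or_ne x 1 with h | h
    · exact Or.inl h
    · exact Or.inr (congrArg Subtype.val (hzu ⟨x, h2⟩ (fun e => h (congrArg Subtype.val e))))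
  obtain ⟨p1, p2, p3, p4, p5, p6, p7, p8⟩ := Cfsg.Agent.S3377.perm_facts
  have lift : ∀ (n : ℕ) (A : alternatingGroup (Fin 5)), Odd n → A ^ n = 1 → ∃ x, ψ x = A ∧ x ^ n = 1 := by
    intro n A hn hA
    obtain ⟨x, rfl⟩ := hψs A
    rcases hψk (x ^ n) (by rw [map_pow, hA]) with h | h
    · exact ⟨x, rfl, h⟩
    · have hψz : ψ z = 1 := by
        show ((subgroupOfEquivOfLe hle).symm.trans e5) (φ.rangeRestrict z) = 1
        rw [show φ.rangeRestrict z = 1 from Subtype.ext (MonoidHom.mem_ker.1 hzk), map_one]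
      refine ⟨x * z, by rw [map_mul, hψz, mul_one], ?_⟩
      rw [(show Commute x z from hzcen x).mul_pow, h]
      obtain ⟨k, rfl⟩ := hn
      rw [pow_succ, pow_mul, sq, hz2, one_pow, one_mul, hz2]
  obtain ⟨a, hψa, ha⟩ := lift 3 ⟨_, Equiv.Perm.mem_alternatingGroup.2 p1⟩ (by decide) (Subtype.ext p3)
  obtain ⟨b, hψb, hb⟩ := lift 5 ⟨_, Equiv.Perm.mem_alternatingGroup.2 p2⟩ (by decide) (Subtype.ext p4)
  have hψab : ψ (a * b) ≠ 1 := by
    rw [map_mul, hψa, hψb]
    exact fun h => p8 (congrArg Subtype.val h)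
  have hab2 : (a * b) ^ 2 = z := by
    refine (hψk _ ?_).resolve_left fun h => hψab ?_
    · rw [map_pow, map_mul, hψa, hψb]; exact Subtype.ext p5
    · by_cases h1 : a * b = 1
      · rw [h1, map_one]
      · rw [hinv _ (by rw [← sq]; exact h) h1]
        show ((subgroupOfEquivOfLe hle).symm.trans e5) (φ.rangeRestrict z) = 1
        rw [show φ.rangeRestrict z = 1 from Subtype.ext (MonoidHom.mem_ker.1 hzk), map_one]
  refine iso_P hG a b z ha hb (by rw [sq, hz2]) (hzcen a) (hzcen b) hab2 ?_
  set L := closure ({a, b} : Set G)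
  have haL : a ∈ L := subset_closure (Or.inl rfl)
  have hbL : b ∈ L := subset_closure (Or.inr rfl)
  have d3 : 3 ∣ Nat.card L := by
    haveI : Fact (Nat.Prime 3) := ⟨Nat.prime_three⟩
    have h := orderOf_dvd_natCard (⟨a, haL⟩ : L)
    rwa [← Subgroup.orderOf_coe, orderOf_eq_prime ha (fun h => p6 (by
      have := congrArg Subtype.val hψa; rw [h, map_one] at this; exact this.symm))] at h
  have d5 : 5 ∣ Nat.card L := by
    have h := orderOf_dvd_natCard (⟨b, hbL⟩ : L)
    rwa [← Subgroup.orderOf_coe, orderOf_eq_prime hb (fun h => p7 (by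
      have := congrArg Subtype.val hψb; rw [h, map_one] at this; exact this.symm))] at h
  have d4 : 4 ∣ Nat.card L := by
    have h := orderOf_dvd_natCard (⟨a * b, L.mul_mem haL hbL⟩ : L)
    rwa [← Subgroup.orderOf_coe, show orderOf (a * b) = 4 from orderOf_eq_prime_pow (p := 2) (n := 1)
      (by rw [pow_one, hab2]; exact hz1') (by rw [show 2 ^ (1 + 1) = 2 * 2 from rfl, pow_mul, hab2, sq, hz2])] at h
  have d60 : 60 ∣ Nat.card L := Nat.Coprime.mul_dvd_of_dvd_of_dvd (m := 12) (n := 5) (by norm_num)
    (Nat.Coprime.mul_dvd_of_dvd_of_dvd (m := 4) (n := 3) (by norm_num) d4 d3) d5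
  by_contra hne
  have hidx : L.index = 2 := by
    have h1 := L.card_mul_index
    have h2 : L.index ≠ 1 := fun e => hne (index_eq_one.1 e)
    obtain ⟨k, hk⟩ := d60
    rw [hk, hG, mul_assoc] at h1
    have h3 : k * L.index = 2 := by omega
    rcases (Nat.dvd_prime Nat.prime_two).1 (Dvd.intro_left _ h3) with h | h
    · exact absurd h h2
    · exact h
  haveI := normal_of_index_eq_two hidx
  haveI := alternatingGroup.isSimpleGroup (α := Fin 5) (by simp)
  rcases ((inferInstance : L.Normal).map ψ hψs).eq_bot_or_eq_top with h | h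
  · have hm : ψ a ∈ L.map ψ := mem_map_of_mem ψ haL
    rw [h, Subgroup.mem_bot, hψa] at hm
    exact p6 (congrArg Subtype.val hm)
  · apply hne
    rw [eq_top_iff]
    intro g _
    obtain ⟨l, hl, hlg⟩ : ψ g ∈ L.map ψ := h ▸ mem_top _
    have hzL : z ∈ L := hab2 ▸ L.pow_mem (L.mul_mem haL hbL) 2
    rcases hψk (l⁻¹ * g) (by rw [map_mul, map_inv, hlg, inv_mul_cancel]) with h' | h'
    · rw [← eq_of_inv_mul_eq_one h'] ; exact hl
    · have := L.mul_mem hl hzL
      rwa [← h', mul_inv_cancel_left] at this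

open Cfsg.Lib.Recog.BinaryIcosahedral in
theorem sl_five : Nonempty (P ≃* Matrix.SpecialLinearGroup (Fin 2) (ZMod 5)) := by
  let a : B := ⟨!![0, 4; 1, 4], by decide +kernel⟩
  let b : B := ⟨!![1, 1; 0, 1], by decide +kernel⟩
  let z : B := ⟨!![4, 0; 0, 4], by decide +kernel⟩
  refine iso_P (Q := B) ?_ a b z (tup_inj ?_) (tup_inj ?_) (tup_inj ?_) (tup_inj ?_) (tup_inj ?_) (tup_inj ?_) ?_
  · rw [Nat.card_eq_fintype_card]; decide +kernel
  · decide +kernel
  · decide +kernel
  · decide +kernel
  · decide +kernel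
  · decide +kernel
  · decide +kernel
  · set L := Subgroup.closure ({a, b} : Set B)
    have haL : a ∈ L := Subgroup.subset_closure (Or.inl rfl)
    have hbL : b ∈ L := Subgroup.subset_closure (Or.inr rfl)
    have hS : a * b ∈ L := L.mul_mem haL hbL
    have hmemgen : ∀ s ∈ gens, ∃ S ∈ L, tup S = s := by
      intro s hs
      simp only [gens, List.mem_cons, List.not_mem_nil, or_false] at hs
      rcases hs with rfl | rfl
      · exact ⟨a * b, hS, by decide +kernel⟩
      · exact ⟨b, hbL, by decide +kernel⟩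
    rw [eq_top_iff]
    intro A _
    have hstep : ∀ s ∈ gens, ∀ x, (∃ A ∈ L, tup A = x) → ∃ A ∈ L, tup A = mul5 s x := by
      rintro s hs x ⟨A, hA, rfl⟩
      obtain ⟨S, hS, rfl⟩ := hmemgen s hs
      exact ⟨S * A, L.mul_mem hS hA, tup_mul S A⟩
    have hone : ∃ A ∈ L, tup A = (1, 0, 0, 1) := ⟨1, L.one_mem, tup_one⟩
    have hP : ∃ A' ∈ L, tup A' = tup A := by
      rcases keys_tree _ (tup_mem A) with h | ⟨r, hr, h⟩
      · rw [h]; exact hone
      · rw [← h]
        exact chk_sound hstep tree _ tree_chk (fun x hx => by rw [List.mem_singleton.1 hx]; exact hone) r hr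
    obtain ⟨A', hA', h⟩ := hP
    rwa [← tup_inj h]


/-- Every non-solvable group of order 120 whose Sylow 2-subgroups are quaternion of order 8 is isomorphic to SL(2,5), and SL(2,5) has the presentation ⟨x, y, z | x³ = y⁵ = z² = 1, z⁻¹xz = x, z⁻¹yz = y, (xy)² = z⟩. -/
theorem result :
    (∀ (G : Type*) [Group G] [Finite G], Nat.card G = 120 → ¬ Group.IsSolvable G →
      (∀ P : Sylow 2 G, Nonempty ((P : Subgroup G) ≃* QuaternionGroup 2)) →
      Nonempty (G ≃* Matrix.SpecialLinearGroup (Fin 2) (ZMod 5))) ∧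
    Nonempty (PresentedGroup ({FreeGroup.of (0 : Fin 3) ^ 3, FreeGroup.of (1 : Fin 3) ^ 5, FreeGroup.of (2 : Fin 3) ^ 2,
        (FreeGroup.of (2 : Fin 3))⁻¹ * FreeGroup.of 0 * FreeGroup.of 2 * (FreeGroup.of (0 : Fin 3))⁻¹,
        (FreeGroup.of (2 : Fin 3))⁻¹ * FreeGroup.of 1 * FreeGroup.of 2 * (FreeGroup.of (1 : Fin 3))⁻¹,
        (FreeGroup.of (0 : Fin 3) * FreeGroup.of 1) ^ 2 * (FreeGroup.of (2 : Fin 3))⁻¹} : Set (FreeGroup (Fin 3)))
      ≃* Matrix.SpecialLinearGroup (Fin 2) (ZMod 5)) := by
  refine ⟨fun G _ _ hG hns hQ => ?_, sl_five⟩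
  obtain ⟨e1⟩ := part_one hG hns hQ
  obtain ⟨e2⟩ := sl_five
  exact ⟨e1.symm.trans e2⟩

end Cfsg.Agent.S3378
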