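import Cfsg.Statements.S3390
import Cfsg.Agent.S3224
-- import your own Cfsg.Agent.* helpers here

set_option autoImplicit false
open Cfsg
open scoped Pointwise

namespace Cfsg.Agent.S3390

/-- The sign of a permutation all of whose non-trivial orbits have the same even length. -/
theorem sign_semiregular {α : Type*} [Fintype α] [DecidableEq α] (σ : Equiv.Perm α) (o : ℕ) (ho : Even o)
    (ho0 : 0 < o) (hper : ∀ z, σ z ≠ z → (σ ^ o) z = z ∧ ∀ j, 0 < j → j < o → (σ ^ j) z ≠ z) :
    ∃ m, m * o = σ.support.card ∧ Equiv.Perm.sign σ = (-1) ^ m := by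
  have hparts : ∀ k ∈ σ.cycleType, k = o := by
    intro k hk
    rw [Equiv.Perm.cycleType_def, Multiset.mem_map] at hk
    obtain ⟨c, hc, rfl⟩ := hk
    rw [Finset.mem_val] at hc
    have hc' := (Equiv.Perm.mem_cycleFactorsFinset_iff.mp hc)
    obtain ⟨z, hz⟩ := hc'.1.nonempty_support
    have hcz : ∀ j : ℕ, (c ^ j) z = (σ ^ j) z := fun j => by
      have : c = σ.cycleOf z := Equiv.Perm.cycle_is_cycleOf hz hc
      rw [this, Equiv.Perm.cycleOf_pow_apply_self]
    have hσz : σ z ≠ z := by
      rw [← hc'.2 z hz]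
      exact Equiv.Perm.mem_support.mp hz
    obtain ⟨h1, h2⟩ := hper z hσz
    have hco : c ^ o = 1 := hc'.1.pow_eq_one_iff.mpr ⟨z, Equiv.Perm.mem_support.mp hz, by rw [hcz, h1]⟩
    show c.support.card = o
    rw [← hc'.1.orderOf]
    refine le_antisymm (Nat.le_of_dvd ho0 (orderOf_dvd_of_pow_eq_one hco)) ?_
    by_contra hlt
    push Not at hlt
    refine h2 (orderOf c) (orderOf_pos c) hlt ?_
    rw [← hcz, pow_orderOf_eq_one]
    rfl
  have hrep := Multiset.eq_replicate_card.mpr hparts
  refine ⟨Multiset.card σ.cycleType, ?_, ?_⟩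
  · conv_rhs => rw [← Equiv.Perm.sum_cycleType, hrep]
    rw [Multiset.sum_replicate, smul_eq_mul]
  · rw [Equiv.Perm.sign_of_cycleType]
    conv_lhs => rw [hrep]
    rw [Multiset.sum_replicate, smul_eq_mul, Multiset.card_replicate, pow_add, ((ho.mul_left _).neg_one_pow), one_mul]

theorem frobenius_of_sign {G Ω : Type*} [Group G] [Finite G] [Fintype Ω] [MulAction G Ω]
    (htr : MulAction.IsPretransitive G Ω) (hfix : ∀ g : G, g ≠ 1 → Nat.card (MulAction.fixedBy Ω g) ≤ 2)
    (f : G →* ℤˣ) (α β : Ω) (hn : Fintype.card Ω % 4 = 2) (T : Subgroup G) (hTne : T ≠ ⊥)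
    (hTα : ∀ t ∈ T, t • α = α) (hTβ : ∀ t ∈ T, t • β = β) (hTf : ∀ t ∈ T, f t = 1) (x : G) (hxf : f x = -1)
    (hxα : x • α = β) (hsyl : ∀ u : G, orderOf u = 2 → u • α = α → ∃ g : G, g • α = α ∧ g * u * g⁻¹ ∈ T)
    (hker : ∀ g : G, g • α = α → f g = 1) (hfaith : ∀ g : G, (∀ ω : Ω, g • ω = ω) → g = 1) :
    f.ker.Normal ∧ f.ker.index = 2 ∧ ∃ H : Subgroup f.ker, Cfsg.IsFrobeniusComplement H := by
  classical
  have hidx : f.ker.index = 2 := by
    rw [Subgroup.index_ker]
    have hr : f.range = ⊤ := by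
      rw [eq_top_iff]
      intro u _
      rcases Int.units_eq_one_or u with rfl | rfl
      · exact f.range.one_mem
      · exact ⟨x, hxf⟩
    rw [hr, Subgroup.card_top, Nat.card_eq_fintype_card]
    rfl
  refine ⟨inferInstance, hidx, (MulAction.stabilizer f.ker α), ?_, ?_, ?_⟩
  · obtain ⟨t, ht, ht1⟩ := T.bot_or_exists_ne_one.resolve_left hTne
    intro h
    have h1 : (⟨t, hTf t ht⟩ : f.ker) ∈ MulAction.stabilizer f.ker α := hTα t ht
    rw [h, Subgroup.mem_bot] at h1
    exact ht1 (congrArg Subtype.val h1)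
  · intro h
    -- the kernel would fix every point
    have hall : ∀ g : G, f g = 1 → g • α = α := fun g hg => by
      have : (⟨g, hg⟩ : f.ker) ∈ MulAction.stabilizer f.ker α := h ▸ Subgroup.mem_top _
      exact this
    obtain ⟨t, ht, ht1⟩ := T.bot_or_exists_ne_one.resolve_left hTne
    have hfixall : ∀ ω : Ω, t • ω = ω := by
      intro ω
      obtain ⟨g, rfl⟩ := htr.exists_smul_eq α ω
      have := hall (g⁻¹ * t * g) (by rw [map_mul, map_mul, hTf t ht, mul_one, ← map_mul, inv_mul_cancel, map_one])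
      rwa [mul_smul, mul_smul, inv_smul_eq_iff] at this
    have h2 := hfix t ht1
    have hu : MulAction.fixedBy Ω t = Set.univ := Set.eq_univ_of_forall hfixall
    rw [hu, Nat.card_coe_set_eq, Set.ncard_univ, Nat.card_eq_fintype_card] at h2
    have hc : Fintype.card Ω = 2 := by omega
    -- a group on two points fixing both
    have : ∀ ω : Ω, ω = α ∨ ω = β := by
      intro ω
      by_contra hne
      push Not at hne
      have hab : α ≠ β := fun e => by
        have := hker x (hxα.trans e.symm)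
        rw [hxf] at this
        exact absurd this (by decide)
      have h3 : ({ω, α, β} : Finset Ω).card = 3 := by
        rw [Finset.card_insert_of_notMem (by simp [hne.1, hne.2]), Finset.card_pair hab]
      have := Finset.card_le_univ ({ω, α, β} : Finset Ω)
      omega
    obtain ⟨g, hg, hgfix⟩ : ∃ g : G, g ≠ 1 ∧ ∀ ω : Ω, g • ω = ω := ⟨t, ht1, hfixall⟩
    exact absurd (hfaith g hgfix) hg
  · intro g hg
    rw [eq_bot_iff]
    rintro y ⟨hy, hy'⟩
    rw [SetLike.mem_coe] at hy hy'
    rw [Subgroup.mem_bot]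
    by_contra hy1
    have hyα : (y : G) • α = α := hy
    have hyγ : (y : G) • ((g : G) • α) = (g : G) • α := by
      have h1 : y ∈ MulAut.conj g • MulAction.stabilizer f.ker α := hy'
      rw [Subgroup.mem_pointwise_smul_iff_inv_smul_mem] at h1
      have h2 : ((g : G)⁻¹ * (y : G) * (g : G)) • α = α := by
        have h3 : ((MulAut.conj g)⁻¹ • y : f.ker) • α = α := h1
        simp only [MulAut.smul_def, MulAut.conj_inv_apply] at h3
        exact h3
      rwa [mul_smul, mul_smul, inv_smul_eq_iff] at h2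
    have hgα : (g : G) • α ≠ α := fun e => hg e
    -- a power of prime order
    obtain ⟨r, hr, hrd⟩ := Nat.exists_prime_and_dvd (show orderOf (y : G) ≠ 1 from fun e =>
      hy1 (Subtype.ext (orderOf_eq_one_iff.mp e)))
    have hd0 := orderOf_pos (y : G)
    set w := (y : G) ^ (orderOf (y : G) / r) with hw
    have hwo : orderOf w = r := orderOf_pow_orderOf_div hd0.ne' hrd
    have hwα : w • α = α := by
      exact Subgroup.pow_mem (MulAction.stabilizer G α) (show (y : G) ∈ _ from hyα) _
    have hwγ : w • ((g : G) • α) = (g : G) • α :=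
      Subgroup.pow_mem (MulAction.stabilizer G ((g : G) • α)) (show (y : G) ∈ _ from hyγ) _
    have hw1 : w ≠ 1 := fun e => by rw [e, orderOf_one] at hwo; exact hr.one_lt.ne hwo
    have honly : ∀ (u : G), u ≠ 1 → ∀ a b c : Ω, a ≠ b → u • a = a → u • b = b → u • c = c → c = a ∨ c = b := by
      intro u hu a b c hab ha hb hc
      by_contra hne
      push Not at hne
      have h1 := hfix u hu
      rw [Nat.card_coe_set_eq] at h1
      have h2 : ({c, a, b} : Set Ω) ⊆ MulAction.fixedBy Ω u := by
        rintro z (rfl | rfl | rfl)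
        exacts [hc, ha, hb]
      have h3 := Set.ncard_le_ncard h2 (Set.toFinite _)
      rw [Set.ncard_insert_of_notMem (by simp [hne.1, hne.2]), Set.ncard_pair hab] at h3
      omega
    -- the two orbits of the kernel
    let A : Finset Ω := Finset.univ.filter fun z => ∃ k : G, f k = 1 ∧ k • α = z
    let B : Finset Ω := Finset.univ \ A
    have hxA : ∀ z ∈ A, x • z ∈ B := by
      intro z hz
      obtain ⟨-, k, hk, rfl⟩ := Finset.mem_filter.mp hz
      refine Finset.mem_sdiff.mpr ⟨Finset.mem_univ _, fun h => ?_⟩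
      obtain ⟨-, k', hk', hkk⟩ := Finset.mem_filter.mp h
      have := hker (k'⁻¹ * x * k) (by rw [mul_smul, mul_smul, inv_smul_eq_iff, hkk])
      rw [map_mul, map_mul, map_inv, hk, hk', hxf] at this
      exact absurd this (by decide)
    have hxB : ∀ z ∈ B, x⁻¹ • z ∈ A := by
      intro z hz
      obtain ⟨k, rfl⟩ := htr.exists_smul_eq α z
      have hk : f k = -1 := (Int.units_eq_one_or (f k)).resolve_left fun e =>
        (Finset.mem_sdiff.mp hz).2 (Finset.mem_filter.mpr ⟨Finset.mem_univ _, k, e, rfl⟩)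
      exact Finset.mem_filter.mpr ⟨Finset.mem_univ _, x⁻¹ * k, by rw [map_mul, map_inv, hxf, hk]; rfl, mul_smul _ _ _⟩
    have hAB : A.card = B.card := Finset.card_bij' (fun z _ => x • z) (fun z _ => x⁻¹ • z) hxA hxB
      (fun z _ => inv_smul_smul _ _) (fun z _ => smul_inv_smul _ _)
    have hsum : B.card + A.card = Fintype.card Ω := by
      rw [Finset.card_sdiff_add_card_eq_card (Finset.subset_univ A), Finset.card_univ]
    have hαA : α ∈ A := Finset.mem_filter.mpr ⟨Finset.mem_univ _, 1, map_one f, one_smul _ _⟩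
    have hγA : (g : G) • α ∈ A := Finset.mem_filter.mpr ⟨Finset.mem_univ _, g, g.2, rfl⟩
    have hwA : ∀ z ∈ A, w • z ∈ A := by
      intro z hz
      obtain ⟨-, k, hk, rfl⟩ := Finset.mem_filter.mp hz
      exact Finset.mem_filter.mpr ⟨Finset.mem_univ _, w * k, by rw [map_mul, hker w hwα, hk, one_mul], mul_smul _ _ _⟩
    -- cycles
    have hcong : ∀ D : Finset Ω, (∀ z ∈ D, w • z ∈ D) → (D.filter fun z => w • z = z).card % r = D.card % r := by
      intro D hD
      have : Fact r.Prime := ⟨hr⟩
      have hpg : IsPGroup r (Subgroup.zpowers w) :=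
        IsPGroup.of_card (n := 1) (by rw [Nat.card_zpowers, hwo, pow_one])
      have hD' : ∀ k : Subgroup.zpowers w, ∀ z ∈ D, (k : G) • z ∈ D := by
        intro k
        obtain ⟨i, hi⟩ := (isOfFinOrder_of_finite w).mem_zpowers_iff_mem_range_orderOf.mp k.2 |> Finset.mem_image.mp
        intro z hz
        rw [← hi.2]
        clear hi
        induction i with
        | zero => simpa using hz
        | succ i ih => rw [pow_succ', mul_smul]; exact hD _ ih
      let _ : MulAction (Subgroup.zpowers w) D :=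
        { smul := fun k z => ⟨(k : G) • (z : Ω), hD' k z z.2⟩
          one_smul := fun z => Subtype.ext (one_smul _ _)
          mul_smul := fun k l z => Subtype.ext (mul_smul (k : G) (l : G) _) }
      have h := hpg.card_modEq_card_fixedPoints D
      rw [Nat.card_eq_fintype_card, Fintype.card_coe] at h
      rw [h]
      congr 1
      rw [← Fintype.card_coe, ← Nat.card_eq_fintype_card]
      let e : MulAction.fixedPoints (Subgroup.zpowers w) D ≃ (D.filter fun z => w • z = z) :=
        { toFun := fun z => ⟨(z.1 : Ω), Finset.mem_filter.mpr ⟨z.1.2,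
            congrArg Subtype.val (MulAction.mem_fixedPoints.mp z.2 ⟨w, Subgroup.mem_zpowers w⟩)⟩⟩
          invFun := fun z => ⟨⟨(z : Ω), (Finset.mem_filter.mp z.2).1⟩, MulAction.mem_fixedPoints.mpr fun k => Subtype.ext
            ((MulAction.mem_stabilizer_iff.mp ((Subgroup.zpowers_le.mpr (show w ∈ MulAction.stabilizer G (z : Ω) from
              (Finset.mem_filter.mp z.2).2)) k.2) : (k : G) • (z : Ω) = z))⟩
          left_inv := fun z => rfl
          right_inv := fun z => rfl }
      exact Nat.card_congr e.symm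
    have hfA : (A.filter fun z => w • z = z) = {α, (g : G) • α} := by
      ext z
      simp only [Finset.mem_filter, Finset.mem_insert, Finset.mem_singleton]
      constructor
      · exact fun h => honly w hw1 α ((g : G) • α) z hgα.symm hwα hwγ h.2
      · rintro (rfl | rfl)
        exacts [⟨hαA, hwα⟩, ⟨hγA, hwγ⟩]
    have hfB : (B.filter fun z => w • z = z) = ∅ := by
      rw [Finset.filter_eq_empty_iff]
      intro z hz h
      rcases honly w hw1 α ((g : G) • α) z hgα.symm hwα hwγ h with rfl | rfl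
      · exact (Finset.mem_sdiff.mp hz).2 hαA
      · exact (Finset.mem_sdiff.mp hz).2 hγA
    have hA := hcong A hwA
    have hB := hcong B (fun z hz => Finset.mem_sdiff.mpr ⟨Finset.mem_univ _, fun h => (Finset.mem_sdiff.mp hz).2 (by
      obtain ⟨-, k, hk, hkz⟩ := Finset.mem_filter.mp h
      exact Finset.mem_filter.mpr ⟨Finset.mem_univ _, w⁻¹ * k, by rw [map_mul, map_inv, hker w hwα, hk, inv_one, one_mul],
        by rw [mul_smul, hkz, inv_smul_smul]⟩)⟩)
    rw [hfA, Finset.card_pair hgα.symm] at hA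
    rw [hfB, Finset.card_empty, Nat.zero_mod, ← hAB, ← hA] at hB
    have hr2 : r = 2 := (Nat.prime_dvd_prime_iff_eq hr Nat.prime_two).mp (Nat.dvd_of_mod_eq_zero hB.symm)
    -- an involution fixes points in both orbits
    rw [hr2] at hwo
    obtain ⟨h, hhα, hT⟩ := hsyl w hwo hwα
    have hb : w • (h⁻¹ • β) = h⁻¹ • β := by
      have := hTβ _ hT
      rw [mul_smul, mul_smul, ← eq_inv_smul_iff] at this
      exact this
    have hbB : h⁻¹ • β ∈ B := by
      refine Finset.mem_sdiff.mpr ⟨Finset.mem_univ _, fun hh => ?_⟩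
      obtain ⟨-, k, hk, hkb⟩ := Finset.mem_filter.mp hh
      have := hker (k⁻¹ * h⁻¹ * x) (by rw [mul_smul, mul_smul, inv_smul_eq_iff, hkb, hxα])
      rw [map_mul, map_mul, map_inv, map_inv, hk, hker h hhα, hxf] at this
      exact absurd this (by decide)
    exact (Finset.eq_empty_iff_forall_notMem.mp hfB) _ (Finset.mem_filter.mpr ⟨hbB, hb⟩)

/-- Let G be a finite group acting faithfully and transitively on a finite set Ω with fixity 2 (every non-identity element fixes at most two points, and some fixes exactly two). Let α ∈ Ω and S a Sylow 2-subgroup of G. Then one of the following holds: the stabilizer S_α of α in S is trivial; S is dihedral or semidihedral and either |S_α| = 2 or |S : S_α| = 2; |S| ≥ 4, S has exactly one orbit of size 2 on Ω, every other S-orbit is regular, and G has a normal subgroup of index 2 or of index |S| which is a Frobenius group; or S ≤ G_α. -/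
theorem result {G : Type*} [Group G] [Finite G] {Ω : Type*} [Fintype Ω] [MulAction G Ω] [FaithfulSMul G Ω] (htr : MulAction.IsPretransitive G Ω)
    (hfix : ∀ g : G, g ≠ 1 → Nat.card (MulAction.fixedBy Ω g) ≤ 2) (hex : ∃ g : G, g ≠ 1 ∧ Nat.card (MulAction.fixedBy Ω g) = 2) (α : Ω) (S : Sylow 2 G) :
    (S : Subgroup G) ⊓ MulAction.stabilizer G α = ⊥ ∨
    (((∃ n : ℕ, Nonempty (↥(S : Subgroup G) ≃* DihedralGroup n)) ∨ Cfsg.IsQuasiDihedral ↥(S : Subgroup G)) ∧
       (Nat.card ↥((S : Subgroup G) ⊓ MulAction.stabilizer G α) = 2 ∨ ((S : Subgroup G) ⊓ MulAction.stabilizer G α).relIndex (S : Subgroup G) = 2)) ∨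
    (4 ≤ Nat.card (S : Subgroup G) ∧
       (∃ ω : Ω, Nat.card (MulAction.orbit ↥(S : Subgroup G) ω) = 2 ∧
          ∀ ω' : Ω, ω' ∉ MulAction.orbit ↥(S : Subgroup G) ω → Nat.card (MulAction.orbit ↥(S : Subgroup G) ω') = Nat.card (S : Subgroup G)) ∧
       ∃ N : Subgroup G, N.Normal ∧ (N.index = 2 ∨ N.index = Nat.card (S : Subgroup G)) ∧ (∃ H : Subgroup ↥N, Cfsg.IsFrobeniusComplement H)) ∨
    (S : Subgroup G) ≤ MulAction.stabilizer G α := by
  classical
  have : Fact (Nat.Prime 2) := ⟨Nat.prime_two⟩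
  have : Fintype (S : Subgroup G) := Fintype.ofFinite _
  set St := MulAction.stabilizer G α with hSt
  set T := (S : Subgroup G) ⊓ St with hT
  by_cases hTb : T = ⊥
  · exact Or.inl hTb
  by_cases hle : (S : Subgroup G) ≤ St
  · exact Or.inr (Or.inr (Or.inr hle))
  have honly : ∀ (u : G), u ≠ 1 → ∀ a b c : Ω, a ≠ b → u • a = a → u • b = b → u • c = c → c = a ∨ c = b := by
    intro u hu a b c hab ha hb hc
    by_contra hne
    push Not at hne
    have h1 := hfix u hu
    rw [Nat.card_coe_set_eq] at h1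
    have h2 : ({c, a, b} : Set Ω) ⊆ MulAction.fixedBy Ω u := by
      rintro z (rfl | rfl | rfl)
      exacts [hc, ha, hb]
    have h3 := Set.ncard_le_ncard h2 (Set.toFinite _)
    rw [Set.ncard_insert_of_notMem (by simp [hne.1, hne.2]), Set.ncard_pair hab] at h3
    omega
  have hfaith : ∀ g : G, (∀ ω : Ω, g • ω = ω) → g = 1 := fun g hg =>
    FaithfulSMul.eq_of_smul_eq_smul fun ω : Ω => by rw [hg ω, one_smul]
  obtain ⟨t, ht, ht1⟩ := T.bot_or_exists_ne_one.resolve_left hTb
  -- the normalizer of T in S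
  have hSp : IsPGroup 2 (S : Subgroup G) := S.isPGroup'
  set TS : Subgroup (S : Subgroup G) := T.subgroupOf (S : Subgroup G) with hTS
  have hTSne : TS ≠ ⊤ := by
    rw [hTS, Ne, Subgroup.subgroupOf_eq_top]
    exact fun h => hle (h.trans inf_le_right)
  have hlt := (@Group.normalizerCondition_of_isNilpotent (S : Subgroup G) _ hSp.isNilpotent) TS (lt_top_iff_ne_top.mpr hTSne)
  obtain ⟨s, hsN, hsT⟩ := SetLike.exists_of_lt hlt
  have hTmem : ∀ y : (S : Subgroup G), y ∈ TS ↔ (y : G) • α = α := fun y => by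
    rw [hTS, Subgroup.mem_subgroupOf, hT, Subgroup.mem_inf]
    exact ⟨fun h => h.2, fun h => ⟨y.2, h⟩⟩
  set β := (s : G) • α with hβ
  have hab : β ≠ α := fun h => hsT ((hTmem s).mpr h)
  have hnorm : ∀ y : (S : Subgroup G), y ∈ Subgroup.normalizer (TS : Set (S : Subgroup G)) → ∀ u ∈ T, u • ((y : G) • α) = (y : G) • α := by
    intro y hy u hu
    have h1 := (Subgroup.mem_normalizer_iff.mp hy (y⁻¹ * ⟨u, (Subgroup.mem_inf.mp hu).1⟩ * y)).mpr (by
      have : y * (y⁻¹ * ⟨u, (Subgroup.mem_inf.mp hu).1⟩ * y) * y⁻¹ = ⟨u, (Subgroup.mem_inf.mp hu).1⟩ := by group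
      rw [this]
      exact (hTmem _).mpr (Subgroup.mem_inf.mp hu).2)
    have h2 := (hTmem _).mp h1
    simp only [Subgroup.coe_mul, Subgroup.coe_inv, mul_smul] at h2
    rwa [inv_smul_eq_iff] at h2
  have hTβ : ∀ u ∈ T, u • β = β := hnorm s hsN
  have hTα : ∀ u ∈ T, u • α = α := fun u hu => (Subgroup.mem_inf.mp hu).2
  set U := Subgroup.normalizer (TS : Set (S : Subgroup G)) with hU
  have hUab : ∀ y ∈ U, (y : G) • α = α ∨ (y : G) • α = β := fun y hy =>
    honly t ht1 α β _ hab.symm (hTα t ht) (hTβ t ht) (hnorm y hy t ht)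
  have hUmem : ∀ y ∈ U, y ∈ TS ∨ s⁻¹ * y ∈ TS := by
    intro y hy
    rcases hUab y hy with h | h
    · exact Or.inl ((hTmem y).mpr h)
    · refine Or.inr ((hTmem _).mpr ?_)
      rw [Subgroup.coe_mul, Subgroup.coe_inv, mul_smul, h, inv_smul_eq_iff]
  have hUcard : Nat.card U = 2 * Nat.card TS := by
    have h1 : TS.relIndex U = 2 := by
      rw [Subgroup.relIndex, Subgroup.index_eq_two_iff]
      refine ⟨⟨s⁻¹, U.inv_mem hsN⟩, fun y => ?_⟩
      have hsα : ((s : G)⁻¹) • α ≠ α := fun e => hab (inv_smul_eq_iff.mp e).symm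
      have key : (((y : (S : Subgroup G)) * s⁻¹ : (S : Subgroup G)) : G) • α = α ↔ ¬ ((y : (S : Subgroup G)) : G) • α = α := by
        simp only [Subgroup.coe_mul, Subgroup.coe_inv, mul_smul]
        constructor
        · intro e e'
          exact hsα (MulAction.injective _ (e.trans e'.symm))
        · intro e
          have e' := (hUab y y.2).resolve_left e
          have h := hUab _ (U.mul_mem y.2 (U.inv_mem hsN))
          rw [Subgroup.coe_mul, Subgroup.coe_inv, mul_smul] at h
          exact h.resolve_right fun e2 => hsα (MulAction.injective _ (e2.trans e'.symm))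
      simp only [Subgroup.mem_subgroupOf, Subgroup.coe_mul, hTmem]
      by_cases hy : ((y : (S : Subgroup G)) : G) • α = α
      · exact Or.inr ⟨hy, fun e => key.mp e hy⟩
      · exact Or.inl ⟨key.mpr hy, hy⟩
    have h2 := Subgroup.index_mul_card (TS.subgroupOf U)
    rw [show (TS.subgroupOf U).index = 2 from h1,
      Nat.card_congr (Subgroup.subgroupOfEquivOfLe (show TS ≤ U from Subgroup.le_normalizer)).toEquiv] at h2
    exact h2.symm
  have hTScard : Nat.card TS = Nat.card T := Nat.card_congr (Subgroup.subgroupOfEquivOfLe (inf_le_left)).toEquiv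
  -- centralizer of an involution
  have hmax : ∀ u : (S : Subgroup G), orderOf u = 2 → Nat.card ↥(Subgroup.centralizer ({u} : Set (S : Subgroup G))) = 4 →
      4 < Nat.card (S : Subgroup G) →
      (∃ n : ℕ, Nonempty (↥(S : Subgroup G) ≃* DihedralGroup n)) ∨ Cfsg.IsQuasiDihedral ↥(S : Subgroup G) := by
    intro u hu hc h4
    rcases Cfsg.Agent.S3224.result hSp u hu hc with h | h | h
    · exact Or.inl h
    · exact Or.inr h
    · omega
  have hT2 : 2 ≤ Nat.card TS := by
    rw [hTScard]
    exact Finite.one_lt_card_iff_nontrivial.mpr ((Subgroup.nontrivial_iff_ne_bot T).mpr hTb)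
  by_cases hUtop : U = ⊤
  swap
  · -- here T has order two
    obtain ⟨y, hyN, hyU⟩ := SetLike.exists_of_lt
      ((@Group.normalizerCondition_of_isNilpotent (S : Subgroup G) _ hSp.isNilpotent) U (lt_top_iff_ne_top.mpr hUtop))
    have hTy : Nat.card TS = 2 := by
      by_contra hne
      have hbig : 2 < Nat.card TS := lt_of_le_of_ne hT2 (Ne.symm hne)
      -- two elements of T with conjugates on the same side
      have hconjU : ∀ v ∈ TS, y⁻¹ * v * y ∈ U := fun v hv => by
        have h := (Subgroup.mem_normalizer_iff.mp ((Subgroup.normalizer (U : Set (S : Subgroup G))).inv_mem hyN) v).mp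
          (Subgroup.le_normalizer hv)
        rwa [inv_inv] at h
      obtain ⟨v, hv, hv1, hvT⟩ : ∃ v ∈ TS, v ≠ 1 ∧ y⁻¹ * v * y ∈ TS := by
        by_contra hno
        push Not at hno
        have : Nat.card TS ≤ 2 := by
          refine le_of_le_of_eq (Nat.card_le_card_of_injective (fun v : TS => if (v : (S : Subgroup G)) = 1 then (0 : Fin 2) else 1) ?_) (by simp)
          intro v w hvw
          by_cases h1 : (v : (S : Subgroup G)) = 1 <;> by_cases h2 : (w : (S : Subgroup G)) = 1 <;> simp [h1, h2] at hvw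
          · exact Subtype.ext (h1.trans h2.symm)
          · have hmv := (hUmem _ (hconjU v v.2)).resolve_left (hno v v.2 h1)
            have hmw := (hUmem _ (hconjU w w.2)).resolve_left (hno w w.2 h2)
            have h3 := TS.mul_mem (TS.inv_mem hmv) hmw
            have h4 : y⁻¹ * ((v : (S : Subgroup G))⁻¹ * w) * y ∈ TS := by convert h3 using 1; group
            have h5 : (v : (S : Subgroup G))⁻¹ * w = 1 := by
              by_contra h6
              exact hno _ (TS.mul_mem (TS.inv_mem v.2) w.2) h6 h4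
            exact Subtype.ext (inv_mul_eq_one.mp h5)
        omega
      have hv' : (v : G) ∈ T := Subgroup.mem_subgroupOf.mp hv
      have hv1' : (v : G) ≠ 1 := fun e => hv1 (Subtype.ext e)
      have h1 := (hTmem _).mp hvT
      simp only [Subgroup.coe_mul, Subgroup.coe_inv, mul_smul] at h1
      rw [inv_smul_eq_iff] at h1
      rcases honly _ hv1' α β _ hab.symm (hTα _ hv') (hTβ _ hv') h1 with e | e
      · exact hyU (Subgroup.le_normalizer ((hTmem y).mpr e))
      · refine hyU ?_
        have h2 : s⁻¹ * y ∈ TS := (hTmem _).mpr (by rw [Subgroup.coe_mul, Subgroup.coe_inv, mul_smul, e, inv_smul_eq_iff])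
        have h3 := U.mul_mem hsN (Subgroup.le_normalizer h2)
        rwa [mul_inv_cancel_left] at h3
    refine Or.inr (Or.inl ⟨?_, Or.inl (hTScard.symm.trans hTy)⟩)
    have ht' : (⟨t, (Subgroup.mem_inf.mp ht).1⟩ : (S : Subgroup G)) ∈ TS := Subgroup.mem_subgroupOf.mpr ht
    set t' : (S : Subgroup G) := ⟨t, (Subgroup.mem_inf.mp ht).1⟩
    have ht'1 : t' ≠ 1 := fun e => ht1 (congrArg Subtype.val e)
    have hto : orderOf t' = 2 := by
      have h1 : orderOf t' ∣ 2 := (Subgroup.orderOf_dvd_natCard TS ht').trans (dvd_of_eq hTy)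
      exact (Nat.prime_two.eq_one_or_self_of_dvd _ h1).resolve_left (fun e => ht'1 (orderOf_eq_one_iff.mp e))
    have ht'sq : t' * t' = 1 := by rw [← sq]; exact orderOf_dvd_iff_pow_eq_one.mp hto.dvd
    have hTSz : TS = Subgroup.zpowers t' := (Subgroup.eq_of_le_of_card_ge (Subgroup.zpowers_le.mpr ht')
      (by rw [Nat.card_zpowers, hto, hTy])).symm
    refine hmax t' hto ?_ ?_
    · suffices hCU : Subgroup.centralizer ({t'} : Set (S : Subgroup G)) = U by rw [hCU, hUcard, hTy]
      refine le_antisymm (fun z hz => ?_) (fun z hz => ?_)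
      · have hzc := Subgroup.mem_centralizer_singleton_iff.mp hz
        rw [hU, hTSz, Subgroup.mem_normalizer_iff]
        intro w
        have hcz : Commute z t' := hzc
        constructor
        · intro hw
          obtain ⟨i, rfl⟩ := Subgroup.mem_zpowers_iff.mp hw
          exact ⟨i, by rw [(hcz.zpow_right i).eq, mul_inv_cancel_right]⟩
        · intro hw
          obtain ⟨i, hi⟩ := Subgroup.mem_zpowers_iff.mp hw
          refine ⟨i, ?_⟩
          calc t' ^ i = z⁻¹ * (t' ^ i) * z := by rw [mul_assoc, ← (hcz.zpow_right i).eq, inv_mul_cancel_left]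
            _ = w := by rw [hi]; group
      · rw [Subgroup.mem_centralizer_singleton_iff]
        have h1 := (Subgroup.mem_normalizer_iff.mp hz t').mp ht'
        have h2 : z * t' * z⁻¹ = t' := by
          by_contra hne
          have h3 : z * t' * z⁻¹ ≠ 1 := fun e => ht'1 (conj_eq_one_iff.mp e)
          rw [hTSz] at h1
          obtain ⟨i, hi⟩ := Subgroup.mem_zpowers_iff.mp h1
          rcases Int.even_or_odd' i with ⟨k, rfl | rfl⟩
          · rw [zpow_mul, zpow_two, ht'sq, one_zpow] at hi
            exact h3 hi.symm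
          · rw [zpow_add, zpow_mul, zpow_two, ht'sq, one_zpow, one_mul, zpow_one] at hi
            exact hne hi.symm
        exact mul_inv_eq_iff_eq_mul.mp h2
    · have h1 : Nat.card U < Nat.card (S : Subgroup G) := by
        refine lt_of_le_of_ne (Nat.le_of_dvd Nat.card_pos (Subgroup.card_subgroup_dvd_card U)) fun e => hUtop ?_
        exact Subgroup.eq_top_of_card_eq U e
      rw [hUcard, hTy] at h1
      exact h1
  -- T has index two
  have hScard : Nat.card (S : Subgroup G) = 2 * Nat.card T := by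
    rw [← hTScard, ← hUcard, hUtop, Subgroup.card_top]
  have hrel : T.relIndex (S : Subgroup G) = 2 := by
    have : T.relIndex (S : Subgroup G) * Nat.card T = Nat.card (S : Subgroup G) := by
      have h := Subgroup.index_mul_card (T.subgroupOf (S : Subgroup G))
      rwa [Nat.card_congr (Subgroup.subgroupOfEquivOfLe (inf_le_left : T ≤ (S : Subgroup G))).toEquiv] at h
    rw [hScard] at this
    exact Nat.eq_of_mul_eq_mul_right Nat.card_pos this
  have hall : ∀ y : G, y ∈ (S : Subgroup G) → y • α = α ∨ y • α = β := fun y hy =>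
    hUab ⟨y, hy⟩ (hUtop ▸ Subgroup.mem_top _)
  have hS4 : 4 ≤ Nat.card (S : Subgroup G) := by rw [hScard, ← hTScard]; omega
  by_cases hsemi : ∀ ω : Ω, ω ≠ α → ω ≠ β → ∀ y ∈ (S : Subgroup G), y • ω = ω → y = 1
  swap
  · push Not at hsemi
    obtain ⟨ω, hωα, hωβ, y, hy, hyω, hy1⟩ := hsemi
    -- a second involution
    refine Or.inr (Or.inl ⟨?_, Or.inr hrel⟩)
    set Sω : Subgroup (S : Subgroup G) := (MulAction.stabilizer G ω).subgroupOf (S : Subgroup G)
    have hSω : ∀ z ∈ Sω, z ∈ TS → z = 1 := by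
      intro z hz hzT
      by_contra hz1
      rcases honly (z : G) (fun e => hz1 (Subtype.ext e)) α β ω hab.symm (hTα _ (Subgroup.mem_subgroupOf.mp hzT))
        (hTβ _ (Subgroup.mem_subgroupOf.mp hzT)) hz with e | e
      · exact hωα e
      · exact hωβ e
    set u : (S : Subgroup G) := ⟨y, hy⟩
    have hu1 : u ≠ 1 := fun e => hy1 (congrArg Subtype.val e)
    have huω : u ∈ Sω := hyω
    have hidx : TS.index = 2 := hrel
    have hu2 : u ^ 2 = 1 := hSω _ (Sω.pow_mem huω 2) (by rw [sq]; exact Subgroup.mul_self_mem_of_index_two hidx u)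
    have huo : orderOf u = 2 := orderOf_eq_prime hu2 hu1
    have huT : u ∉ TS := fun h => hu1 (hSω u huω h)
    rcases hS4.lt_or_eq with hS5 | hS5
    · refine hmax u huo ?_ hS5
      -- the centralizer of u moves ω into the two fixed points of u
      have hC : ∀ z ∈ Subgroup.centralizer ({u} : Set (S : Subgroup G)), (y : G) • ((z : G) • ω) = (z : G) • ω := by
        intro z hz
        have h1 : (z : G) * y = y * z := congrArg Subtype.val (Subgroup.mem_centralizer_singleton_iff.mp hz)
        rw [← mul_smul, ← h1, mul_smul, hyω]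
      obtain ⟨ω', hω'⟩ : ∃ ω', ∀ z : Ω, y • z = z → z = ω ∨ z = ω' := by
        by_cases h : ∃ ω', y • ω' = ω' ∧ ω' ≠ ω
        · obtain ⟨ω', h1, h2⟩ := h
          exact ⟨ω', fun z hz => honly y hy1 ω ω' z h2.symm hyω h1 hz⟩
        · push Not at h
          exact ⟨ω, fun z hz => Or.inl (h z hz)⟩
      set Cu := Subgroup.centralizer ({u} : Set (S : Subgroup G))
      have hle4 : Nat.card Cu ≤ 4 := by
        have hSω2 : ∀ z ∈ Sω, z = 1 ∨ z = u := by
          intro z hz
          by_cases hzT : z ∈ TS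
          · exact Or.inl (hSω z hz hzT)
          · right
            have h1 : z * u ∈ TS := (Subgroup.mul_mem_iff_of_index_two hidx).mpr (iff_of_false hzT huT)
            have h2 := hSω _ (Sω.mul_mem hz huω) h1
            rw [mul_eq_one_iff_eq_inv, inv_eq_of_mul_eq_one_right (by rw [← sq, hu2])] at h2
            exact h2
        have hcard : Nat.card Cu ≤ Nat.card (Fin 2 × Fin 2) := by
          by_cases hex : ∃ z ∈ Cu, ((z : (S : Subgroup G)) : G) • ω ≠ ω
          · obtain ⟨z₀, hz₀, hz₀ω⟩ := hex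
            have hz₀' : (z₀ : G) • ω = ω' := (hω' _ (hC z₀ hz₀)).resolve_left hz₀ω
            refine Nat.card_le_card_of_injective (fun z : Cu =>
              if ((z : (S : Subgroup G)) : G) • ω = ω then ((0 : Fin 2), if (z : (S : Subgroup G)) = 1 then (0 : Fin 2) else 1)
              else (1, if z₀⁻¹ * (z : (S : Subgroup G)) = 1 then 0 else 1)) fun a b hab' => ?_
            have hh : ∀ c : Cu, ((c : (S : Subgroup G)) : G) • ω ≠ ω → z₀⁻¹ * (c : (S : Subgroup G)) ∈ Sω := fun c hc => by
              show ((z₀ : G)⁻¹ * ((c : (S : Subgroup G)) : G)) • ω = ω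
              rw [mul_smul, (hω' _ (hC c c.2)).resolve_left hc, ← hz₀', inv_smul_smul]
            have hpair : ∀ v w : (S : Subgroup G), v ∈ Sω → w ∈ Sω →
                (if v = 1 then (0 : Fin 2) else 1) = (if w = 1 then (0 : Fin 2) else 1) → v = w := by
              intro v w hv hw h
              rcases hSω2 v hv with rfl | rfl <;> rcases hSω2 w hw with rfl | rfl <;>
                first | rfl | (simp only [hu1, if_true, if_false] at h; exact absurd h (by decide))
            by_cases ha : ((a : (S : Subgroup G)) : G) • ω = ω <;> by_cases hb : ((b : (S : Subgroup G)) : G) • ω = ω <;>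
              simp only [ha, hb, if_true, if_false, Prod.mk.injEq] at hab'
            · exact Subtype.ext (hpair _ _ ha hb hab'.2)
            · exact absurd hab'.1 (by decide)
            · exact absurd hab'.1 (by decide)
            · exact Subtype.ext (mul_left_cancel (hpair _ _ (hh a ha) (hh b hb) hab'.2))
          · push Not at hex
            refine (Nat.card_le_card_of_injective (fun z : Cu => if (z : (S : Subgroup G)) = 1 then ((0 : Fin 2), (0 : Fin 2)) else (1, 1))
              fun a b hab' => ?_)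
            rcases hSω2 _ (show (a : (S : Subgroup G)) ∈ Sω from hex a a.2) with e | e <;>
              rcases hSω2 _ (show (b : (S : Subgroup G)) ∈ Sω from hex b b.2) with e' | e' <;>
              first | exact Subtype.ext (e.trans e'.symm) | (simp [e, e', hu1] at hab')
        simpa using hcard
      -- the centre
      have : Nontrivial (S : Subgroup G) := ⟨u, 1, hu1⟩
      have := hSp.center_nontrivial
      obtain ⟨⟨z, hz⟩, hzne⟩ := exists_ne (1 : Subgroup.center (S : Subgroup G))
      have hz1 : z ≠ 1 := fun e => hzne (Subtype.ext e)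
      have hzu : z ≠ u := fun e => by
        subst e
        have h1 : Subgroup.centralizer ({u} : Set (S : Subgroup G)) = ⊤ := by
          rw [Subgroup.eq_top_iff']
          exact fun w => Subgroup.mem_centralizer_singleton_iff.mpr (Subgroup.mem_center_iff.mp hz w)
        have := hle4
        simp only [Cu, h1, Subgroup.card_top] at this
        omega
      obtain ⟨k, hk⟩ := IsPGroup.iff_card.mp (hSp.to_subgroup Cu)
      have hge : 3 ≤ Nat.card Cu := by
        have h1 : ({1, u, z} : Finset (S : Subgroup G)).card = 3 := by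
          rw [Finset.card_insert_of_notMem (by simp [Ne.symm hu1, Ne.symm hz1]), Finset.card_pair (Ne.symm hzu)]
        rw [← h1]
        rw [← Nat.card_eq_finsetCard]
        refine Nat.card_le_card_of_injective (fun w => ⟨w.1, ?_⟩) (fun a b e => Subtype.ext (by simpa using e))
        have hw := w.2
        simp only [Finset.mem_insert, Finset.mem_singleton] at hw
        rcases hw with e | e | e <;> rw [e]
        · exact Cu.one_mem
        · exact Subgroup.mem_centralizer_singleton_iff.mpr rfl
        · exact Subgroup.mem_centralizer_singleton_iff.mpr ((Subgroup.mem_center_iff.mp hz u).symm)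
      rw [hk] at hge hle4 ⊢
      rcases k with _ | _ | _ | k
      · simp at hge
      · simp at hge
      · norm_num
      · have : 2 ^ 3 ≤ 2 ^ (k + 1 + 1 + 1) := Nat.pow_le_pow_right (by norm_num) (by omega)
        omega
    · -- the four group
      left
      refine ⟨2, ?_⟩
      have hnc : ¬ IsCyclic (S : Subgroup G) := by
        intro hcy
        have h1 := IsCyclic.card_pow_eq_one_le (α := (S : Subgroup G)) (n := 2) (by norm_num)
        obtain ⟨t₂, ht₂, ht₂1⟩ : ∃ v : (S : Subgroup G), v ∈ TS ∧ v ≠ 1 :=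
          ⟨⟨t, (Subgroup.mem_inf.mp ht).1⟩, Subgroup.mem_subgroupOf.mpr ht, fun e => ht1 (congrArg Subtype.val e)⟩
        have ht₂2 : t₂ ^ 2 = 1 := by
          have h := Subgroup.orderOf_dvd_natCard TS ht₂
          have hc2 : Nat.card TS = 2 := by rw [hTScard]; omega
          rw [hc2] at h
          exact orderOf_dvd_iff_pow_eq_one.mp h
        have h3 : ({1, u, t₂} : Finset (S : Subgroup G)).card = 3 := by
          rw [Finset.card_insert_of_notMem (by simp [Ne.symm hu1, Ne.symm ht₂1]),
            Finset.card_pair (fun e : u = t₂ => huT (e ▸ ht₂))]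
        have h4 : ({1, u, t₂} : Finset (S : Subgroup G)) ⊆ Finset.univ.filter fun a => a ^ 2 = 1 := by
          intro a ha
          simp only [Finset.mem_insert, Finset.mem_singleton] at ha
          rcases ha with rfl | rfl | rfl <;> simp [hu2, ht₂2]
        have := Finset.card_le_card h4
        omega
      have : IsKleinFour (S : Subgroup G) := ⟨hS5.symm, (not_isCyclic_iff_exponent_eq_prime Nat.prime_two (by rw [← hS5]; norm_num)).mp hnc⟩
      exact IsKleinFour.nonempty_mulEquiv
  -- regular orbits outside the two points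
  obtain ⟨x, hxS, hxα⟩ : ∃ x ∈ (S : Subgroup G), x • α = β := ⟨s, s.2, rfl⟩
  have hSinv : ∀ y ∈ (S : Subgroup G), ∀ ω, ω ≠ α → ω ≠ β → y • ω ≠ α ∧ y • ω ≠ β := by
    intro y hy ω h1 h2
    have key : ∀ c, c = α ∨ c = β → ∀ v ∈ (S : Subgroup G), v • c = α ∨ v • c = β := by
      rintro c (rfl | rfl) v hv
      · exact hall v hv
      · rw [hβ, ← mul_smul]
        exact hall _ (Subgroup.mul_mem _ hv s.2)
    constructor <;> intro e
    · rcases key α (Or.inl rfl) y⁻¹ (Subgroup.inv_mem _ hy) with h | h <;>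
        rw [← e, inv_smul_smul] at h
      · exact h1 (h.trans e)
      · exact h2 h
    · rcases key β (Or.inr rfl) y⁻¹ (Subgroup.inv_mem _ hy) with h | h <;>
        rw [← e, inv_smul_smul] at h
      · exact h1 h
      · exact h2 (h.trans e)
  have hinjω : ∀ ω, ω ≠ α → ω ≠ β → Function.Injective (fun y : (S : Subgroup G) => (y : G) • ω) := by
    intro ω h1 h2 a b e
    have := hsemi ω h1 h2 ((b : G)⁻¹ * a) (Subgroup.mul_mem _ (Subgroup.inv_mem _ b.2) a.2)
      (by rw [mul_smul, show (a : G) • ω = (b : G) • ω from e, inv_smul_smul])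
    exact Subtype.ext (inv_mul_eq_one.mp this).symm
  set m := Nat.card (S : Subgroup G) with hm
  -- the degree
  let R : Finset Ω := (Finset.univ.erase α).erase β
  have hR : ∀ ω, ω ∈ R ↔ ω ≠ α ∧ ω ≠ β := fun ω => by simp [R]; tauto
  have hRcard : R.card = Fintype.card Ω - 2 := by
    simp only [R]
    rw [Finset.card_erase_of_mem (by simp [hab]), Finset.card_erase_of_mem (Finset.mem_univ _), Finset.card_univ]
    omega
  have hRdvd : m ∣ R.card := by
    rw [Finset.card_eq_sum_card_fiberwise (t := R.image fun ω => MulAction.orbit (S : Subgroup G) ω)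
      (fun ω hω => Finset.mem_image_of_mem _ hω)]
    refine Finset.dvd_sum fun O hO => ?_
    obtain ⟨ω, hω, rfl⟩ := Finset.mem_image.mp hO
    obtain ⟨h1, h2⟩ := (hR ω).mp hω
    refine dvd_of_eq ?_
    rw [hm, Nat.card_eq_fintype_card, ← Finset.card_univ, ← Finset.card_image_of_injective _ (hinjω ω h1 h2)]
    congr 1
    ext z
    simp only [Finset.mem_image, Finset.mem_univ, true_and, Finset.mem_filter, hR]
    constructor
    · rintro ⟨y, rfl⟩
      exact ⟨hSinv y y.2 ω h1 h2, MulAction.orbit_eq_iff.mpr ⟨y, rfl⟩⟩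
    · rintro ⟨-, hz⟩
      exact MulAction.orbit_eq_iff.mp hz
  obtain ⟨km, hkm⟩ := IsPGroup.iff_card.mp hSp
  have h4m : 4 ∣ m := by
    rw [hm, hkm] at hS4 ⊢
    rcases km with _ | _ | km
    · simp at hS4
    · simp at hS4
    · exact ⟨2 ^ km, by ring⟩
  have hΩ2 : 2 ≤ Fintype.card Ω := Fintype.one_lt_card_iff_nontrivial.mpr ⟨⟨β, α, hab⟩⟩
  have hn4 : Fintype.card Ω % 4 = 2 := by
    have h1 := h4m.trans hRdvd
    rw [hRcard] at h1
    omega
  refine Or.inr (Or.inr (Or.inl ⟨hS4, ⟨α, ?_, fun ω hω => ?_⟩, ?_⟩))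
  · rw [Nat.card_coe_set_eq, show MulAction.orbit (S : Subgroup G) α = {α, β} from ?_, Set.ncard_pair hab.symm]
    ext z
    constructor
    · rintro ⟨y, rfl⟩
      exact hall y y.2
    · rintro (rfl | rfl)
      · exact MulAction.mem_orbit_self _
      · exact ⟨⟨x, hxS⟩, hxα⟩
  · have h1 : ω ≠ α := fun e => hω (e ▸ MulAction.mem_orbit_self _)
    have h2 : ω ≠ β := fun e => hω ⟨⟨x, hxS⟩, hxα.trans e.symm⟩
    exact (Nat.card_congr (Equiv.ofBijective (fun y : (S : Subgroup G) => (⟨(y : G) • ω, ⟨y, rfl⟩⟩ : MulAction.orbit (S : Subgroup G) ω))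
      ⟨fun a b e => hinjω ω h1 h2 (congrArg Subtype.val e), fun ⟨z, ⟨y, hy⟩⟩ => ⟨y, Subtype.ext hy⟩⟩)).symm
  -- a homomorphism to the signs
  have : Fintype G := Fintype.ofFinite G
  let fΩ : G →* ℤˣ := Equiv.Perm.sign.comp (MulAction.toPermHom G Ω)
  let fG : G →* ℤˣ := Equiv.Perm.sign.comp (MulAction.toPermHom G G)
  have hpow2 : ∀ y ∈ (S : Subgroup G), orderOf y ∣ m := fun y hy => Subgroup.orderOf_dvd_natCard _ hy
  have heven : ∀ y ∈ (S : Subgroup G), y ≠ 1 → Even (orderOf y) := by
    intro y hy hy1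
    obtain ⟨j, -, hj⟩ := (Nat.dvd_prime_pow Nat.prime_two).mp (by rw [← hkm]; exact hpow2 y hy : orderOf y ∣ 2 ^ km)
    rcases j with _ | j
    · exact absurd (orderOf_eq_one_iff.mp (by simpa using hj)) hy1
    · rw [hj]; exact ⟨2 ^ j, by ring⟩
  have hpowfix : ∀ (y : G) (k : ℕ) (z : Ω), ((MulAction.toPermHom G Ω y) ^ k) z = y ^ k • z := fun y k z => by
    rw [← map_pow]; rfl
  have hGreg : ∀ y ∈ (S : Subgroup G), y ≠ 1 → ∃ c, c * orderOf y = Nat.card G ∧ fG y = (-1) ^ c := by
    intro y hy hy1
    obtain ⟨c, hc, hsg⟩ := sign_semiregular (MulAction.toPermHom G G y) (orderOf y) (heven y hy hy1) (orderOf_pos y)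
      (fun z _ => ⟨by rw [← map_pow, pow_orderOf_eq_one, map_one]; rfl, fun j hj0 hjlt e => by
        rw [← map_pow] at e
        exact pow_ne_one_of_lt_orderOf hj0.ne' hjlt (mul_eq_right.mp e)⟩)
    refine ⟨c, hc.trans ?_, hsg⟩
    rw [Nat.card_eq_fintype_card, ← Finset.card_univ]
    congr 1
    refine Finset.eq_univ_of_forall fun z => Equiv.Perm.mem_support.mpr fun e => hy1 (mul_eq_right.mp e)
  -- on the points
  have hΩreg : ∀ y ∈ (S : Subgroup G), y ≠ 1 → ∃ c, c * orderOf y = R.card ∧
      ((y • α = α → fΩ y = (-1) ^ c) ∧ (y • α = β → fΩ y = -(-1) ^ c)) := by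
    intro y hy hy1
    have hyβ : y • α = α → y • β = β := fun e => hTβ y (Subgroup.mem_inf.mpr ⟨hy, e⟩)
    have hyswap : y • α = β → y • β = α := by
      intro e
      rcases hall (y * s) (Subgroup.mul_mem _ hy s.2) with h | h <;> rw [mul_smul, ← hβ] at h
      · exact h
      · exact absurd (MulAction.injective y (e.trans h.symm)) hab.symm
    set σ := MulAction.toPermHom G Ω y with hσ
    set σ' : Equiv.Perm Ω := if y • α = α then σ else σ * Equiv.swap α β with hσ'
    have hσα : σ' α = α := by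
      simp only [σ']
      split
      · assumption
      · rename_i h
        rw [Equiv.Perm.mul_apply, Equiv.swap_apply_left]
        exact hyswap ((hall y hy).resolve_left h)
    have hσβ : σ' β = β := by
      simp only [σ']
      split
      · rename_i h
        exact hyβ h
      · rename_i h
        rw [Equiv.Perm.mul_apply, Equiv.swap_apply_right]
        exact (hall y hy).resolve_left h
    have hσR : ∀ z ∈ R, ∀ j : ℕ, (σ' ^ j) z = y ^ j • z := by
      intro z hz j
      induction j with
      | zero => simp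
      | succ j ih =>
        obtain ⟨h1, h2⟩ := (hR z).mp hz
        obtain ⟨h3, h4⟩ := hSinv _ (Subgroup.pow_mem _ hy j) z h1 h2
        rw [pow_succ', Equiv.Perm.mul_apply, ih, pow_succ', mul_smul]
        simp only [σ']
        split
        · rfl
        · rw [Equiv.Perm.mul_apply, Equiv.swap_apply_of_ne_of_ne h3 h4]
          rfl
    have hnot : ∀ z, σ' z ≠ z → z ∈ R := fun z hz => (hR z).mpr ⟨fun e => hz (e ▸ hσα), fun e => hz (e ▸ hσβ)⟩
    obtain ⟨c, hc, hsg⟩ := sign_semiregular σ' (orderOf y) (heven y hy hy1) (orderOf_pos y) (fun z hz => by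
      refine ⟨by rw [hσR z (hnot z hz), pow_orderOf_eq_one, one_smul], fun j hj0 hjlt e => ?_⟩
      rw [hσR z (hnot z hz)] at e
      obtain ⟨h1, h2⟩ := (hR z).mp (hnot z hz)
      exact pow_ne_one_of_lt_orderOf hj0.ne' hjlt (hsemi z h1 h2 _ (Subgroup.pow_mem _ hy j) e))
    refine ⟨c, hc.trans ?_, fun e => ?_, fun e => ?_⟩
    · congr 1
      ext z
      rw [Equiv.Perm.mem_support]
      refine ⟨hnot z, fun hz e => ?_⟩
      obtain ⟨h1, h2⟩ := (hR z).mp hz
      have h3 := hσR z hz 1
      rw [pow_one, pow_one, e] at h3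
      exact hy1 (hsemi z h1 h2 y hy h3.symm)
    · rw [← hsg]
      simp only [σ', if_pos e]
      rfl
    · have hne : y • α ≠ α := by rw [e]; exact hab
      rw [← hsg]
      simp only [σ', if_neg hne, map_mul, Equiv.Perm.sign_swap hab.symm, mul_neg, mul_one, neg_neg]
      rfl
  have hxne : x • α ≠ α := by rw [hxα]; exact hab
  have hx1 : x ≠ 1 := fun e => hxne (by rw [e, one_smul])
  have hodd : ¬ 2 ∣ (S : Subgroup G).index := S.not_dvd_index
  have hTlt : ∀ y ∈ T, orderOf y * 2 ∣ m := by
    intro y hy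
    rw [hScard, mul_comm 2]
    exact Nat.mul_dvd_mul_right (Subgroup.orderOf_dvd_natCard T hy) 2
  obtain ⟨f, hfx, hfT⟩ : ∃ f : G →* ℤˣ, f x = -1 ∧ ∀ y ∈ T, f y = 1 := by
    have hTgen : ∀ (f : G →* ℤˣ) (M : ℕ), m ∣ M → (∀ y ∈ T, y ≠ 1 → ∃ c, c * orderOf y = M ∧ f y = (-1) ^ c) →
        ∀ y ∈ T, f y = 1 := by
      intro f M hM h y hy
      by_cases hy1 : y = 1
      · rw [hy1, map_one]
      obtain ⟨c, hc, hfc⟩ := h y hy hy1
      obtain ⟨d, hd⟩ := (hTlt y hy).trans hM
      have : c = 2 * d := by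
        refine Nat.eq_of_mul_eq_mul_right (orderOf_pos y) ?_
        rw [hc, hd]; ring
      rw [hfc, this, pow_mul, neg_one_sq, one_pow]
    obtain ⟨e, he⟩ := hpow2 x hxS
    by_cases hcy : orderOf x = m
    · refine ⟨fG, ?_, hTgen fG (Nat.card G) (Subgroup.card_subgroup_dvd_card _) fun y hy h1 =>
        hGreg y (Subgroup.mem_inf.mp hy).1 h1⟩
      obtain ⟨c, hc, hfc⟩ := hGreg x hxS hx1
      have hci : c = (S : Subgroup G).index := by
        refine Nat.eq_of_mul_eq_mul_right (orderOf_pos x) ?_
        rw [hc, hcy, hm, Subgroup.index_mul_card]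
      rw [hfc, hci]
      exact (Nat.not_even_iff_odd.mp fun h => hodd h.two_dvd).neg_one_pow
    · refine ⟨fΩ, ?_, hTgen fΩ R.card hRdvd fun y hy h1 => ?_⟩
      · obtain ⟨c, hc, -, hfc⟩ := hΩreg x hxS hx1
        have he2 : 2 ∣ e := by
          obtain ⟨j, -, hj⟩ := (Nat.dvd_prime_pow Nat.prime_two).mp (by rw [← hkm]; exact Dvd.intro_left _ he.symm : e ∣ 2 ^ km)
          rcases j with _ | j
          · rw [hj, pow_zero, mul_one] at he
            exact absurd he.symm hcy
          · rw [hj]; exact dvd_pow_self 2 (Nat.succ_ne_zero j)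
        obtain ⟨d, hd⟩ := hRdvd
        have hce : c = e * d := by
          refine Nat.eq_of_mul_eq_mul_right (orderOf_pos x) ?_
          rw [hc, hd, he]; ring
        rw [hfc hxα, hce, (even_iff_two_dvd.mpr (he2.mul_right d)).neg_one_pow]
      · obtain ⟨c, hc, hfc, -⟩ := hΩreg y (Subgroup.mem_inf.mp hy).1 h1
        exact ⟨c, hc, hfc (hTα y hy)⟩
  -- the point stabilizer has Sylow subgroup T
  have hidx : ¬ 2 ∣ (T.subgroupOf St).index := by
    intro hd
    have h1 : T.relIndex St * St.index = T.index := Subgroup.relIndex_mul_index inf_le_right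
    have h2 : T.relIndex (S : Subgroup G) * (S : Subgroup G).index = T.index := Subgroup.relIndex_mul_index inf_le_left
    have hSi : St.index = Fintype.card Ω := by
      rw [hSt, MulAction.index_stabilizer_of_transitive]
      exact Nat.card_eq_fintype_card
    obtain ⟨d, hd'⟩ : 2 ∣ T.relIndex St := hd
    rw [hSi, hd', ← h2, hrel] at h1
    obtain ⟨e, he⟩ : 2 ∣ Fintype.card Ω := ⟨Fintype.card Ω / 2, by omega⟩
    exact hodd ⟨d * e, by rw [he] at h1; linarith⟩
  have hTp : IsPGroup 2 (T.subgroupOf St) :=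
    (hSp.to_le inf_le_left).of_equiv (Subgroup.subgroupOfEquivOfLe inf_le_right).symm
  let PT : Sylow 2 St := hTp.toSylow hidx
  have hker : ∀ g : G, g • α = α → f g = 1 := by
    intro g hg
    have h1 : (f.comp St.subtype).ker = ⊤ := by
      by_contra hne
      have hidx2 : (f.comp St.subtype).ker.index = 2 := by
        rw [Subgroup.index_ker]
        have h2 : Nat.card (f.comp St.subtype).range ≤ 2 := by
          refine (Subgroup.card_le_card_group _).trans ?_
          rw [Nat.card_eq_fintype_card]; rfl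
        have h3 : 1 < Nat.card (f.comp St.subtype).range := by
          rw [← Subgroup.index_ker]
          exact Nat.lt_of_le_of_ne (Nat.one_le_iff_ne_zero.mpr Subgroup.index_ne_zero_of_finite)
            (fun e => hne (Subgroup.index_eq_one.mp e.symm))
        omega
      have hle2 : T.subgroupOf St ≤ (f.comp St.subtype).ker := fun z hz => hfT _ (Subgroup.mem_subgroupOf.mp hz)
      exact hidx (hidx2 ▸ Subgroup.index_dvd_of_le hle2)
    exact (h1.symm ▸ Subgroup.mem_top (⟨g, hg⟩ : St) : (⟨g, hg⟩ : St) ∈ (f.comp St.subtype).ker)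
  have hsyl : ∀ u : G, orderOf u = 2 → u • α = α → ∃ g : G, g • α = α ∧ g * u * g⁻¹ ∈ T := by
    intro u hu huα
    have hpg : IsPGroup 2 (Subgroup.zpowers (⟨u, huα⟩ : St)) :=
      IsPGroup.of_card (n := 1) (by rw [Nat.card_zpowers, ← Subgroup.orderOf_coe, hu, pow_one])
    obtain ⟨Q, hQ⟩ := hpg.exists_le_sylow
    obtain ⟨h, hh⟩ := MulAction.exists_smul_eq St Q PT
    refine ⟨h, h.2, ?_⟩
    have h1 : MulAut.conj h • (⟨u, huα⟩ : St) ∈ ((PT : Sylow 2 St) : Subgroup St) := by
      rw [← hh]
      exact Subgroup.smul_mem_pointwise_smul _ _ _ (hQ (Subgroup.mem_zpowers _))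
    exact Subgroup.mem_subgroupOf.mp h1
  obtain ⟨hn1, hn2, hn3⟩ := frobenius_of_sign htr hfix f α β hn4 T hTb hTα hTβ hfT x hfx hxα hsyl hker hfaith
  exact ⟨f.ker, hn1, Or.inl hn2, hn3⟩

end Cfsg.Agent.S3390
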