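import Cfsg.Statements.S3501
import Cfsg.Agent.Lib.Recog.Socle
import Cfsg.Agent.Lib.Recog.DerangementClasses

set_option autoImplicit false
open Cfsg

namespace Cfsg.Agent.S3501

/-- Let a finite group G act faithfully and primitively on a finite set Ω with at least two points, and suppose G is not almost simple (it has no non-abelian simple normal subgroup with trivial centralizer). Then the derangements of G form a single conjugacy class if and only if G is sharply 2-transitive (2-transitive, and no non-identity element fixes two points). -/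
theorem result {G : Type*} [Group G] [Finite G] {Ω : Type*} [Fintype Ω] [MulAction G Ω] [FaithfulSMul G Ω] (hΩ : 2 ≤ Fintype.card Ω) (hprim : MulAction.IsPreprimitive G Ω) (hnas : ¬ ∃ T : Subgroup G, T.Normal ∧ IsSimpleGroup T ∧ ¬ IsMulCommutative T ∧ Subgroup.centralizer (T : Set G) = ⊥) :
    Nat.card {c : ConjClasses G // ∃ g : G, ConjClasses.mk g = c ∧ ∀ ω : Ω, g • ω ≠ ω} = 1 ↔ (MulAction.IsMultiplyPretransitive G Ω 2 ∧ ∀ g : G, g ≠ 1 → ∀ a b : Ω, a ≠ b → g • a = a → g • b ≠ b) := by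
  classical
  rw [← Nat.card_eq_fintype_card] at hΩ
  constructor
  · intro hκ
    obtain ⟨N, hN, hN1, hc, htr, hreg⟩ := Cfsg.Lib.Recog.three_classes hprim hΩ hnas (by omega)
    haveI := hN
    haveI := hc
    haveI := htr
    haveI := (Nat.card_eq_one_iff_unique.mp hκ).1
    have hone : ∀ a b : G, (∀ ω : Ω, a • ω ≠ ω) → (∀ ω : Ω, b • ω ≠ ω) → IsConj a b :=
      fun a b ha hb => ConjClasses.mk_eq_mk_iff_isConj.mp (congrArg Subtype.val
        (Subsingleton.elim (α := {c : ConjClasses G // ∃ g : G, ConjClasses.mk g = c ∧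
          ∀ ω : Ω, g • ω ≠ ω}) ⟨ConjClasses.mk a, a, rfl, ha⟩ ⟨ConjClasses.mk b, b, rfl, hb⟩))
    refine ⟨Cfsg.Lib.Recog.two_transitive_of_conj hreg fun m hm k hk hm1 hk1 =>
      hone m k (Cfsg.Lib.Recog.derangement_of_regular hreg hm hm1)
        (Cfsg.Lib.Recog.derangement_of_regular hreg hk hk1), fun g hg a b hab hga hgb => ?_⟩
    obtain ⟨d, hdN, hd⟩ := Cfsg.Lib.Recog.exists_outside_derangement hreg hg hab hga hgb
    haveI := (Subgroup.nontrivial_iff_ne_bot N).mpr hN1
    obtain ⟨⟨m, hm⟩, hm1⟩ := exists_ne (1 : N)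
    obtain ⟨e, rfl⟩ := isConj_iff.mp (hone m d
      (Cfsg.Lib.Recog.derangement_of_regular hreg hm fun h => hm1 (Subtype.ext h)) hd)
    exact hdN (hN.conj_mem m hm e)
  · rintro ⟨h2, hfree⟩
    obtain ⟨⟨g, hg⟩, hconj⟩ := Cfsg.Lib.Recog.derangements_conj_of_sharply hΩ h2 hfree
    refine Nat.card_eq_one_iff_unique.mpr ⟨⟨?_⟩, ⟨⟨ConjClasses.mk g, g, rfl, hg⟩⟩⟩
    rintro ⟨c, a, rfl, ha⟩ ⟨d, b, rfl, hb⟩
    exact Subtype.ext (ConjClasses.mk_eq_mk_iff_isConj.mpr (hconj a b ha hb))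

end Cfsg.Agent.S3501
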