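import Cfsg.Statements.S3520
import Cfsg.Agent.Lib.Recog.Socle
import Cfsg.Agent.Lib.Recog.DerangementClasses

set_option autoImplicit false
open Cfsg

namespace Cfsg.Agent.S3520

/-- Let a finite group G act faithfully and primitively on a finite set Ω with at least two points, suppose G is not almost simple (no non-abelian simple normal subgroup with trivial centralizer), and suppose the derangements of G form exactly two conjugacy classes. Then either Ω has 3 points and G has order 3; or G has a non-trivial abelian normal subgroup N acting regularly, every non-identity element of G fixes at most one point (so, when n > 3, G is a Frobenius group with kernel N), the number n of points is odd and a point stabilizer has order (n − 1)/2; or G is 2-transitive with a non-trivial abelian regular normal subgroup and some non-identity element fixes at least two points (a non-Frobenius 2-transitive affine group). -/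
theorem result {G : Type*} [Group G] [Finite G] {Ω : Type*} [Fintype Ω] [MulAction G Ω] [FaithfulSMul G Ω] (hΩ : 2 ≤ Fintype.card Ω) (hprim : MulAction.IsPreprimitive G Ω) (hnas : ¬ ∃ T : Subgroup G, T.Normal ∧ IsSimpleGroup T ∧ ¬ IsMulCommutative T ∧ Subgroup.centralizer (T : Set G) = ⊥)
    (hκ : Nat.card {c : ConjClasses G // ∃ g : G, ConjClasses.mk g = c ∧ ∀ ω : Ω, g • ω ≠ ω} = 2) (α : Ω) :
    (Fintype.card Ω = 3 ∧ Nat.card G = 3) ∨
    ((∃ N : Subgroup G, N.Normal ∧ N ≠ ⊥ ∧ IsMulCommutative N ∧ ∀ ω : Ω, MulAction.stabilizer N ω = ⊥) ∧ (∀ g : G, g ≠ 1 → Nat.card (MulAction.fixedBy Ω g) ≤ 1) ∧ ¬ 2 ∣ Fintype.card Ω ∧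
        2 * Nat.card (MulAction.stabilizer G α) = Fintype.card Ω - 1) ∨
    ((∃ N : Subgroup G, N.Normal ∧ N ≠ ⊥ ∧ IsMulCommutative N ∧ ∀ ω : Ω, MulAction.stabilizer N ω = ⊥) ∧ MulAction.IsMultiplyPretransitive G Ω 2 ∧ ∃ g : G, g ≠ 1 ∧ 2 ≤ Nat.card (MulAction.fixedBy Ω g)) := by
  classical
  rw [← Nat.card_eq_fintype_card] at hΩ ⊢
  obtain ⟨N, hN, hN1, hc, htr, hreg⟩ := Cfsg.Lib.Recog.three_classes hprim hΩ hnas hκ.le
  haveI := hN
  haveI := hc
  haveI := htr
  by_cases hfree : ∀ g : G, g ≠ 1 → ∀ a b : Ω, a ≠ b → g • a = a → g • b ≠ b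
  · refine Or.inr (Or.inl ⟨⟨N, hN, hN1, hc, hreg⟩, fun g hg => ?_, ?_⟩)
    · refine Finite.card_le_one_iff_subsingleton.mpr ⟨fun x y => Subtype.ext ?_⟩
      by_contra hne
      exact hfree g hg x y hne x.2 y.2
    have hcardN : Nat.card N = Nat.card Ω := by
      refine Nat.card_eq_of_bijective (fun k => k • α) ⟨fun x y h => ?_,
        fun ω => MulAction.exists_smul_eq N α ω⟩
      have h1 : y⁻¹ * x ∈ MulAction.stabilizer N α := by
        rw [MulAction.mem_stabilizer_iff, mul_smul]
        exact inv_smul_eq_iff.mpr h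
      rw [hreg α, Subgroup.mem_bot, inv_mul_eq_one] at h1
      exact h1.symm
    -- two non-conjugate derangements
    obtain ⟨c₁, c₂, h12, huniv⟩ := Nat.card_eq_two_iff.mp hκ
    obtain ⟨a, hca, ha⟩ := c₁.2
    obtain ⟨b, hcb, hb⟩ := c₂.2
    haveI : Nonempty Ω := ⟨α⟩
    have haN := Cfsg.Lib.Recog.mem_of_derangement hreg hfree ha
    have hbN := Cfsg.Lib.Recog.mem_of_derangement hreg hfree hb
    have ha1 : a ≠ 1 := fun e => ha α (by rw [e, one_smul])
    have hb1 : b ≠ 1 := fun e => hb α (by rw [e, one_smul])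
    have hab : ¬ IsConj a b := fun h => h12 (Subtype.ext (by
      rw [← hca, ← hcb]; exact ConjClasses.mk_eq_mk_iff_isConj.mpr h))
    have hset : (N : Set G) \ {1} = (ConjClasses.mk a).carrier ∪ (ConjClasses.mk b).carrier := by
      ext x
      constructor
      · rintro ⟨hx, hx1⟩
        have hxd := Cfsg.Lib.Recog.derangement_of_regular hreg hx hx1
        rcases Cfsg.Lib.Recog.conj_of_classes_le_two hκ.le ha hb hxd with h | h | h
        · exact absurd h hab
        · exact Or.inl (ConjClasses.mem_carrier_iff_mk_eq.mpr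
            (ConjClasses.mk_eq_mk_iff_isConj.mpr h.symm))
        · exact Or.inr (ConjClasses.mem_carrier_iff_mk_eq.mpr
            (ConjClasses.mk_eq_mk_iff_isConj.mpr h.symm))
      · intro hx
        have key : ∀ y : G, y ∈ N → y ≠ 1 → x ∈ (ConjClasses.mk y).carrier → x ∈ (N : Set G) \ {1} := by
          intro y hy hy1 hxy
          obtain ⟨g, rfl⟩ := isConj_iff.mp
            (ConjClasses.mk_eq_mk_iff_isConj.mp (ConjClasses.mem_carrier_iff_mk_eq.mp hxy)).symm
          exact ⟨hN.conj_mem y hy g, fun e => hy1 (conj_eq_one_iff.mp e)⟩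
        rcases hx with hx | hx
        · exact key a haN ha1 hx
        · exact key b hbN hb1 hx
    have hdis : Disjoint (ConjClasses.mk a).carrier (ConjClasses.mk b).carrier :=
      Set.disjoint_left.mpr fun x hxa hxb => hab (ConjClasses.mk_eq_mk_iff_isConj.mp
        ((ConjClasses.mem_carrier_iff_mk_eq.mp hxa).symm.trans
          (ConjClasses.mem_carrier_iff_mk_eq.mp hxb)))
    have hcnt := congrArg Set.ncard hset
    rw [Set.ncard_union_eq hdis, Cfsg.Lib.Recog.ncard_carrier hreg hfree α haN ha1,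
      Cfsg.Lib.Recog.ncard_carrier hreg hfree α hbN hb1,
      Set.ncard_diff_singleton_of_mem N.one_mem, ← Nat.card_coe_set_eq] at hcnt
    have hcnt' : Nat.card N - 1 = Nat.card (MulAction.stabilizer G α) +
      Nat.card (MulAction.stabilizer G α) := hcnt
    rw [hcardN] at hcnt'
    omega
  · push Not at hfree
    obtain ⟨g, hg, a, b, hab, hga, hgb⟩ := hfree
    refine Or.inr (Or.inr ⟨⟨N, hN, hN1, hc, hreg⟩, ?_, g, hg, ?_⟩)
    · obtain ⟨d, hdN, hd⟩ := Cfsg.Lib.Recog.exists_outside_derangement hreg hg hab hga hgb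
      refine Cfsg.Lib.Recog.two_transitive_of_conj hreg fun m hm k hk hm1 hk1 => ?_
      rcases Cfsg.Lib.Recog.conj_of_classes_le_two hκ.le
        (Cfsg.Lib.Recog.derangement_of_regular hreg hm hm1)
        (Cfsg.Lib.Recog.derangement_of_regular hreg hk hk1) hd with h | h | h
      · exact h
      · obtain ⟨e, rfl⟩ := isConj_iff.mp h
        exact absurd (hN.conj_mem m hm e) hdN
      · obtain ⟨e, rfl⟩ := isConj_iff.mp h
        exact absurd (hN.conj_mem k hk e) hdN
    · haveI : Nontrivial (MulAction.fixedBy Ω g) :=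
        ⟨⟨⟨a, hga⟩, ⟨b, hgb⟩, fun e => hab (congrArg Subtype.val e)⟩⟩
      exact Finite.one_lt_card

end Cfsg.Agent.S3520
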