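import Cfsg.Statements.S3554
import Mathlib

set_option autoImplicit false
open Cfsg

namespace Cfsg.Agent.S3554

/-- Let G act faithfully and transitively on a finite set and suppose G has a non-trivial cyclic normal subgroup. Then some element of G of prime order fixes no point. -/
theorem result {G Ω : Type*} [Group G] [Finite G] [MulAction G Ω] [FaithfulSMul G Ω] [Finite Ω]
    (htrans : MulAction.IsPretransitive G Ω) (C : Subgroup G) (hC : C.Normal) (hC1 : C ≠ ⊥) (hcyc : IsCyclic ↥C) :
    ∃ g : G, (orderOf g).Prime ∧ ∀ ω : Ω, g • ω ≠ ω := by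
  classical
  have : Fintype C := Fintype.ofFinite C
  obtain ⟨p, hp, hpd⟩ := Nat.exists_prime_and_dvd (n := Nat.card C)
    (fun e => hC1 (Subgroup.card_eq_one.mp e))
  have := Fact.mk hp
  obtain ⟨c, hc⟩ := exists_prime_orderOf_dvd_card' p hpd
  have hnorm : ∀ x : G, x * (c : G) * x⁻¹ ∈ Subgroup.zpowers (c : G) := by
    intro x
    have hsub : (Finset.univ.filter fun a : C => a ∈ Subgroup.zpowers c) =
        Finset.univ.filter fun a : C => a ^ p = 1 := by
      refine Finset.eq_of_subset_of_card_le (fun a ha => ?_) ?_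
      · obtain ⟨j, rfl⟩ := (Finset.mem_filter.mp ha).2
        refine Finset.mem_filter.mpr ⟨Finset.mem_univ _, ?_⟩
        show (c ^ j) ^ p = 1
        rw [← zpow_natCast, ← zpow_mul, mul_comm, zpow_mul, zpow_natCast, ← hc, pow_orderOf_eq_one,
          one_zpow]
      · refine (IsCyclic.card_pow_eq_one_le hp.pos).trans (le_of_eq ?_)
        rw [← Fintype.card_subtype, ← Nat.card_eq_fintype_card, ← hc]
        exact (Nat.card_zpowers c).symm
    have hd : (⟨x * c * x⁻¹, hC.conj_mem _ c.2 x⟩ : C) ∈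
        Finset.univ.filter fun a : C => a ^ p = 1 := by
      refine Finset.mem_filter.mpr ⟨Finset.mem_univ _, Subtype.ext ?_⟩
      show (x * (c : G) * x⁻¹) ^ p = 1
      rw [conj_pow, ← hc, ← Subgroup.coe_pow, pow_orderOf_eq_one]
      simp
    rw [← hsub, Finset.mem_filter] at hd
    obtain ⟨j, hj⟩ := hd.2
    exact ⟨j, by simpa using congrArg Subtype.val hj⟩
  refine ⟨c, by rw [Subgroup.orderOf_coe, hc]; exact hp, fun ω hω => ?_⟩
  have hall : ∀ ω' : Ω, (c : G) • ω' = ω' := by
    intro ω'
    obtain ⟨x, rfl⟩ := htrans.exists_smul_eq ω ω'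
    obtain ⟨j, hj⟩ := hnorm x⁻¹
    simp only at hj
    calc (c : G) • x • ω = x • ((x⁻¹ * c * x⁻¹⁻¹) • ω) := by simp [mul_smul]
      _ = x • ω := by
        rw [← hj]
        congr 1
        exact MulAction.mem_stabilizer_iff.mp
          ((MulAction.stabilizer G ω).zpow_mem (MulAction.mem_stabilizer_iff.mpr hω) j)
  have : (c : G) = 1 := FaithfulSMul.eq_of_smul_eq_smul fun ω' : Ω => by rw [hall, one_smul]
  rw [← Subgroup.orderOf_coe, this, orderOf_one] at hc
  exact hp.one_lt.ne hc

end Cfsg.Agent.S3554
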