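import Cfsg.Statements.S3556
import Cfsg.Agent.Lib.Recog.Socle
import Cfsg.Agent.Lib.Solv.Frobenius
-- import your own Cfsg.Agent.* helpers here

set_option autoImplicit false
open Cfsg

namespace Cfsg.Agent.S3556

theorem exists_prime_order {G : Type*} [Group G] [Finite G] {X : Subgroup G}
    (hX : ¬ Group.IsSolvable X) (p : ℕ) (hp : p.Prime) :
    ∃ q, q.Prime ∧ q ≠ p ∧ ∃ x ∈ X, orderOf x = q := by
  by_contra hcon
  push Not at hcon
  refine hX ?_
  haveI := Fact.mk hp
  have hXp : IsPGroup p X := IsPGroup.of_card (Nat.eq_prime_pow_of_unique_prime_dvd Nat.card_pos.ne'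
    fun {d} hd hdd => by
      haveI := Fact.mk hd
      obtain ⟨x, hx⟩ := exists_prime_orderOf_dvd_card' d hdd
      by_contra hne
      exact hcon d hd hne x x.2 (by rw [Subgroup.orderOf_coe]; exact hx))
  haveI := hXp.isNilpotent
  infer_instance


/-- Let G act faithfully and primitively on a finite set with at least two points, and suppose that for some fixed prime p every element of G fixing no point has order a power of p. Then G is of affine type (it has a regular normal subgroup that is an elementary abelian r-group for some prime r) or almost simple (it has a non-abelian simple normal subgroup with trivial centralizer). -/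
theorem result {G Ω : Type*} [Group G] [Finite G] [MulAction G Ω] [FaithfulSMul G Ω] [Finite Ω]
    (hprim : MulAction.IsPreprimitive G Ω) (hΩ : 2 ≤ Nat.card Ω) (p : ℕ) (hp : p.Prime)
    (hder : ∀ g : G, (∀ ω : Ω, g • ω ≠ ω) → ∃ k : ℕ, orderOf g = p ^ k) :
    (∃ (N : Subgroup G) (r : ℕ), r.Prime ∧ N.Normal ∧ Cfsg.IsElementaryAbelian r N ∧
      MulAction.IsPretransitive N Ω ∧ ∀ a : Ω, MulAction.stabilizer N a = ⊥) ∨
    (∃ T : Subgroup G, T.Normal ∧ IsSimpleGroup ↥T ∧ ¬ IsMulCommutative ↥T ∧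
      Subgroup.centralizer (T : Set G) = ⊥) := by
  have key : ∀ q : ℕ, q.Prime → q ≠ p → ∀ g : G, (∀ ω : Ω, g • ω ≠ ω) → ¬ q ∣ orderOf g := by
    intro q hq hqp g hg hd
    obtain ⟨k, hk⟩ := hder g hg
    exact hqp ((Nat.prime_dvd_prime_iff_eq hq hp).mp (hq.dvd_of_dvd_pow (hk ▸ hd)))
  rcases Cfsg.Lib.Recog.socle_cases hprim hΩ with ⟨N, hN, -, hc, ⟨r, hr, hexp⟩, htr, hreg⟩ | h |
    ⟨X, hX, hX'⟩ | ⟨N, T, C, x, -, hTN, hCN, -, hd, -, hcomm, hC, -, hx, hx'⟩
  · exact Or.inl ⟨N, r, hr, hN, ⟨hc, hexp⟩, htr, hreg⟩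
  · exact Or.inr h
  · obtain ⟨q, hq, hqp, y, hy, hyo⟩ := exists_prime_order hX p hp
    exact absurd (dvd_of_eq hyo.symm) (key q hq hqp y (hX' y hy fun e => hq.one_lt.ne' (by
      rw [← hyo, e, orderOf_one])))
  · obtain ⟨q, hq, hqp, c, hc, hco⟩ := exists_prime_order hC p hp
    refine absurd ?_ (key q hq hqp (x * c) (hx' c hc))
    rw [← hco]
    refine orderOf_dvd_of_pow_eq_one ?_
    have h1 : x ^ orderOf (x * c) * c ^ orderOf (x * c) = 1 := by
      rw [← (hcomm x hx c hc).mul_pow, pow_orderOf_eq_one]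
    have h2 : c ^ orderOf (x * c) ∈ T ⊓ C := ⟨by
      rw [eq_inv_of_mul_eq_one_right h1]; exact T.inv_mem (pow_mem hx _), pow_mem hc _⟩
    rwa [hd, Subgroup.mem_bot] at h2

end Cfsg.Agent.S3556
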