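import Cfsg.Statements.S3557
-- import your own Cfsg.Agent.* helpers here

set_option autoImplicit false
open Cfsg

namespace Cfsg.Agent.S3557

open MulAction

section
variable {G Ω : Type*} [Group G] [MulAction G Ω]

theorem fix_orbit (P : Subgroup G) (c : G) (hc : ∀ g ∈ P, c * g = g * c) {x y : Ω} (hx : c • x = x)
    (hy : y ∈ orbit P x) : c • y = y := by
  obtain ⟨⟨g, hg⟩, rfl⟩ := hy
  show c • g • x = g • x
  rw [← mul_smul, hc g hg, mul_smul, hx]

theorem orbit_smul_mem (P : Subgroup G) {g : G} (hg : g ∈ P) {x y : Ω} (hy : y ∈ orbit P x) :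
    g • y ∈ orbit P x := by
  obtain ⟨h, rfl⟩ := hy
  exact ⟨⟨g, hg⟩ * h, mul_smul _ _ _⟩

theorem main [Finite G] [Finite Ω] [FaithfulSMul G Ω] (p : ℕ) [Fact p.Prime] (P : Subgroup G) (hP : IsPGroup p P)
    (a b : Ω) (ha : Nat.card (orbit P a) = p ^ 2) (hb : Nat.card (orbit P b) = p ^ 2)
    (hdisj : ∀ x, x ∈ orbit P a → x ∉ orbit P b) (hcov : ∀ x, x ∈ orbit P a ∨ x ∈ orbit P b)
    (z : G) (hzP : z ∈ P) (hzc : ∀ g ∈ P, z * g = g * z) (hz : orderOf z = p) (hzb : z • b = b)
    (hcl : ∀ σ : Equiv.Perm Ω, (∀ x y : Ω, ∃ g : G, σ x = g • x ∧ σ y = g • y) → ∃ g : G, ∀ x : Ω, σ x = g • x) :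
    ∃ g : G, (orderOf g).Prime ∧ ∀ ω : Ω, g • ω ≠ ω := by
  classical
  have hp := Fact.out (p := p.Prime)
  have hzB : ∀ y ∈ orbit P b, z • y = y := fun y => fix_orbit P z hzc hzb
  have hzA : ∀ x ∈ orbit P a, z • x ≠ x := by
    intro x hx h
    have h1 : z = 1 := FaithfulSMul.eq_of_smul_eq_smul (α := Ω) fun y => by
      rw [one_smul]
      rcases hcov y with hy | hy
      · refine fix_orbit P z hzc h ?_
        rwa [orbit_eq_iff.2 hx]
      · exact hzB y hy
    rw [h1, orderOf_one] at hz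
    exact hp.ne_one hz.symm
  set zz : P := ⟨z, hzP⟩
  haveI hZn : (Subgroup.zpowers zz).Normal := ⟨fun x hx g => by
    obtain ⟨i, rfl⟩ := hx
    refine ⟨i, ?_⟩
    have hg : Commute g zz := Subtype.ext (hzc g.1 g.2).symm
    show zz ^ i = g * zz ^ i * g⁻¹
    rw [(hg.zpow_right i).eq, mul_inv_cancel_right]⟩
  set S := stabilizer P a with hS
  set M := S ⊔ Subgroup.zpowers zz with hM
  have hdecomp : ∀ m ∈ M, ∃ u ∈ S, ∃ i : ℤ, u * zz ^ i = m := by
    intro m hm
    rw [hM, ← SetLike.mem_coe, Subgroup.mul_normal S (Subgroup.zpowers zz)] at hm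
    obtain ⟨u, hu, v, hv, rfl⟩ := hm
    obtain ⟨i, rfl⟩ := hv
    exact ⟨u, hu, i, rfl⟩
  have hSi : S.index = p ^ 2 := by rw [hS, index_stabilizer, ← Nat.card_coe_set_eq, ha]
  have hlt : S < M := lt_of_le_of_ne le_sup_left fun h => hzA a (mem_orbit_self a) (by
    have : zz ∈ S := h ▸ Subgroup.mem_sup_right (Subgroup.mem_zpowers zz)
    exact this)
  have hMi : M.index = 1 ∨ M.index = p := by
    have hd : M.index ∣ p ^ 2 := hSi ▸ Subgroup.index_dvd_of_le hlt.le
    obtain ⟨k, hk, hk'⟩ := (Nat.dvd_prime_pow hp).1 hd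
    interval_cases k
    · exact Or.inl (by simpa using hk')
    · exact Or.inr (by simpa using hk')
    · exact absurd (Subgroup.index_strictAnti hlt) (by rw [hSi, hk']; exact lt_irrefl _)
  haveI hMn : M.Normal := by
    rcases hMi with h | h
    · rw [Subgroup.index_eq_one.1 h]; infer_instance
    · refine Subgroup.normal_of_index_eq_minFac_card ?_
      obtain ⟨k, hk⟩ := hP.exists_card_eq
      have hk0 : k ≠ 0 := fun h0 => by
        have := Subgroup.index_dvd_card M
        rw [h, hk, h0, pow_zero, Nat.dvd_one] at this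
        exact hp.ne_one this
      rw [h, hk, Nat.pow_minFac hk0, hp.minFac_eq]
  have hblock : ∀ w ∈ M, ∀ x ∈ orbit P a, ∃ i : ℤ, (w : G) • x = z ^ i • x := by
    rintro w hw x ⟨g, rfl⟩
    obtain ⟨u, hu, i, hi⟩ := hdecomp _ (hMn.conj_mem w hw g⁻¹)
    refine ⟨i, ?_⟩
    have hu' : (u : G) • a = a := hu
    have e : (w : G) * g = (g : G) * (u * z ^ i) := by
      have := congrArg Subtype.val hi
      simp only [Subgroup.coe_mul, Subgroup.coe_zpow, Subgroup.coe_inv, inv_inv] at this
      show (w : G) * g = (g : G) * (u * (zz : G) ^ i)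
      rw [this]; group
    have hc : ∀ h : G, h ∈ P → z ^ i * h = h * z ^ i := fun h hh =>
      ((show Commute z h from hzc h hh).zpow_left i).eq
    show (w : G) • (g : G) • a = z ^ i • (g : G) • a
    rw [← mul_smul, e, ← mul_smul, hc g g.2, mul_smul (g : G), mul_smul (g : G), ← hc u u.2, mul_smul, hu']
  -- the kernel on the second orbit
  let φ : P →* Equiv.Perm (orbit P b) := toPermHom P (orbit P b)
  have hφ : ∀ w : P, w ∈ φ.ker ↔ ∀ y ∈ orbit P b, (w : G) • y = y := fun w => by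
    rw [MonoidHom.mem_ker]
    exact ⟨fun h y hy => congrArg Subtype.val (Equiv.ext_iff.1 h ⟨y, hy⟩),
      fun h => Equiv.ext fun y => Subtype.ext (h y.1 y.2)⟩
  have hMK : ¬ M ≤ φ.ker := by
    intro h
    have h2 : (stabilizer P b).index = p ^ 2 := by rw [index_stabilizer, ← Nat.card_coe_set_eq, hb]
    have h3 : (stabilizer P b).index ∣ M.index := Subgroup.index_dvd_of_le fun w hw => (hφ w).1 (h hw) b (mem_orbit_self b)
    rw [h2] at h3
    rcases hMi with h | h <;> rw [h] at h3
    · exact hp.ne_one ((Nat.eq_one_of_mul_eq_one_right (sq p ▸ Nat.dvd_one.1 h3)))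
    · have := Nat.le_of_dvd hp.pos h3
      nlinarith [hp.two_le]
  let π := QuotientGroup.mk' φ.ker
  set M' := M.map π with hM'
  haveI hM'n : M'.Normal := hMn.map π (QuotientGroup.mk'_surjective _)
  have hQ : IsPGroup p (P ⧸ φ.ker) := hP.to_quotient _
  have hM'1 : M' ≠ ⊥ := fun h => hMK fun w hw => by
    have : π w ∈ M' := ⟨w, hw, rfl⟩
    rw [h, Subgroup.mem_bot] at this
    exact (QuotientGroup.eq_one_iff w).1 this
  letI : MulAction (P ⧸ φ.ker) M' := MulAction.compHom M' (MulAut.conjNormal : (P ⧸ φ.ker) →* MulAut M')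
  have hdvd : p ∣ Nat.card M' := by
    obtain ⟨k, hk⟩ := (hQ.to_subgroup M').exists_card_eq
    rw [hk]
    refine dvd_pow_self p fun h => hM'1 (Subgroup.card_eq_one.1 ?_)
    rw [hk, h, pow_zero]
  obtain ⟨⟨m, hm⟩, hmf, hm1⟩ := hQ.exists_fixed_point_of_prime_dvd_card_of_fixed_point M' hdvd (a := 1)
    (fun g => map_one ((MulAut.conjNormal g : MulAut M')))
  have hmc : ∀ g, g * m = m * g := fun g => by
    have h := congrArg Subtype.val (hmf g)
    change g * m * g⁻¹ = m at h
    exact mul_inv_eq_iff_eq_mul.1 h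
  have hm1' : m ≠ 1 := fun h => hm1 (Subtype.ext h.symm)
  obtain ⟨j, hj, hjo⟩ : ∃ k : ℕ, (m ^ k) ≠ 1 ∧ (m ^ k) ^ p = 1 := by
    obtain ⟨k, hk⟩ := IsPGroup.iff_orderOf.1 hQ m
    cases k with
    | zero => exact absurd (orderOf_eq_one_iff.1 (by rw [hk, pow_zero])) hm1'
    | succ k =>
      refine ⟨p ^ k, ?_, ?_⟩
      · refine pow_ne_one_of_lt_orderOf (pow_ne_zero _ hp.ne_zero) ?_
        rw [hk]; exact Nat.pow_lt_pow_right hp.one_lt k.lt_succ_self
      · rw [← pow_mul, ← pow_succ, ← hk, pow_orderOf_eq_one]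
  obtain ⟨w, hwM, hwm⟩ := hm
  set v : P := w ^ j with hv
  have hvM : v ∈ M := pow_mem hwM j
  have hπv : π v = m ^ j := by rw [hv, map_pow, hwm]
  have hvK : v ∉ φ.ker := fun h => hj (by rw [← hπv]; exact (QuotientGroup.eq_one_iff v).2 h)
  have hvp : v ^ p ∈ φ.ker := (QuotientGroup.eq_one_iff _).1 (by
    show π (v ^ p) = 1
    rw [map_pow, hπv, hjo])
  have hvc : ∀ g : P, ∀ y ∈ orbit P b, (v : G) • (g : G) • y = (g : G) • (v : G) • y := by
    intro g y hy
    have h : (g * v)⁻¹ * (v * g) ∈ φ.ker := (QuotientGroup.eq_one_iff _).1 (by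
      show π _ = 1
      rw [map_mul, map_inv, map_mul, map_mul, hπv, ((show Commute (π g) m from hmc _).pow_right j).eq, inv_mul_cancel])
    have h' := (hφ _).1 h y hy
    simp only [Subgroup.coe_mul, Subgroup.coe_inv, mul_smul, inv_smul_eq_iff] at h'
    exact h'
  have hvfree : ∀ y ∈ orbit P b, (v : G) • y ≠ y := by
    intro y hy h
    refine hvK ((hφ v).2 fun x hx => ?_)
    rw [← orbit_eq_iff.2 hy] at hx
    obtain ⟨g, rfl⟩ := hx
    show (v : G) • (g : G) • y = (g : G) • y
    rw [hvc g y hy, h]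
  -- glue
  let f : Ω → Ω := fun x => if x ∈ orbit P a then z • x else (v : G) • x
  have hfA : ∀ x ∈ orbit P a, f x = z • x := fun x hx => if_pos hx
  have hfB : ∀ x ∈ orbit P b, f x = (v : G) • x := fun x hx => if_neg fun h => hdisj x h hx
  have hf : Function.Injective f := by
    intro x y h
    rcases hcov x with hx | hx <;> rcases hcov y with hy | hy
    · rw [hfA x hx, hfA y hy] at h; exact smul_left_cancel _ h
    · rw [hfA x hx, hfB y hy] at h
      exact absurd (orbit_smul_mem P v.2 hy) (hdisj _ (h ▸ orbit_smul_mem P hzP hx))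
    · rw [hfB x hx, hfA y hy] at h
      exact absurd (orbit_smul_mem P v.2 hx) (hdisj _ (h ▸ orbit_smul_mem P hzP hy))
    · rw [hfB x hx, hfB y hy] at h; exact smul_left_cancel _ h
  have hmix : ∀ x ∈ orbit P a, ∀ y ∈ orbit P b, ∃ g : G, f x = g • x ∧ f y = g • y := by
    intro x hx y hy
    obtain ⟨i, hi⟩ := hblock v hvM x hx
    refine ⟨z ^ (1 - i) * v, ?_, ?_⟩
    · rw [hfA x hx, mul_smul, hi, ← mul_smul, ← zpow_add, sub_add_cancel, zpow_one]
    · have hfix : z ^ (1 - i) ∈ stabilizer G ((v : G) • y) :=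
        zpow_mem (show z ∈ stabilizer G ((v : G) • y) from hzB _ (orbit_smul_mem P v.2 hy)) _
      rw [hfB y hy, mul_smul]
      exact hfix.symm
  obtain ⟨g, hg⟩ := hcl (Equiv.ofBijective f (Finite.injective_iff_bijective.1 hf)) fun x y => by
    show ∃ g : G, f x = g • x ∧ f y = g • y
    rcases hcov x with hx | hx <;> rcases hcov y with hy | hy
    · exact ⟨z, hfA x hx, hfA y hy⟩
    · exact hmix x hx y hy
    · obtain ⟨g, h1, h2⟩ := hmix y hy x hx
      exact ⟨g, h2, h1⟩
    · exact ⟨v, hfB x hx, hfB y hy⟩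
  have hg' : ∀ x, g • x = f x := fun x => (hg x).symm
  have hiterA : ∀ (k : ℕ), ∀ x ∈ orbit P a, g ^ k • x = z ^ k • x := by
    intro k
    induction k with
    | zero => simp
    | succ k ih =>
      intro x hx
      rw [pow_succ, mul_smul, hg', hfA x hx, ih _ (orbit_smul_mem P hzP hx), pow_succ, mul_smul]
  have hiterB : ∀ (k : ℕ), ∀ y ∈ orbit P b, g ^ k • y = ((v : G) ^ k) • y := by
    intro k
    induction k with
    | zero => simp
    | succ k ih =>
      intro y hy
      rw [pow_succ, mul_smul, hg', hfB y hy, ih _ (orbit_smul_mem P v.2 hy), pow_succ, mul_smul]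
  have hfree : ∀ x, g • x ≠ x := fun x => by
    rw [hg']
    rcases hcov x with hx | hx
    · rw [hfA x hx]; exact hzA x hx
    · rw [hfB x hx]; exact hvfree x hx
  refine ⟨g, ?_, hfree⟩
  rw [orderOf_eq_prime (p := p) ?_ fun h => hfree a (by rw [h, one_smul])]
  · exact hp
  · refine FaithfulSMul.eq_of_smul_eq_smul (α := Ω) fun x => ?_
    rw [one_smul]
    rcases hcov x with hx | hx
    · rw [hiterA p x hx, ← hz, pow_orderOf_eq_one, one_smul]
    · rw [hiterB p x hx]
      have := (hφ _).1 hvp x hx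
      rwa [Subgroup.coe_pow] at this

end

/-- Let G act faithfully and transitively on a finite set with 2p² points, p a prime, and suppose G is 2-closed: every permutation of the set which, on each ordered pair of points, agrees with some element of G, is itself induced by an element of G. Then some element of G of prime order fixes no point. -/
theorem result {G Ω : Type*} [Group G] [Finite G] [MulAction G Ω] [FaithfulSMul G Ω] [Finite Ω]
    (htrans : MulAction.IsPretransitive G Ω) (p : ℕ) (hp : p.Prime) (hcard : Nat.card Ω = 2 * p ^ 2)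
    (hcl : ∀ σ : Equiv.Perm Ω, (∀ a b : Ω, ∃ g : G, σ a = g • a ∧ σ b = g • b) → ∃ g : G, ∀ a : Ω, σ a = g • a) :
    ∃ g : G, (orderOf g).Prime ∧ ∀ ω : Ω, g • ω ≠ ω := by
  classical
  haveI := Fact.mk hp
  haveI : Nonempty Ω := (Nat.card_pos_iff.1 (by rw [hcard]; exact Nat.mul_pos two_pos (pow_pos hp.pos 2))).1
  obtain ⟨a⟩ := (inferInstance : Nonempty Ω)
  obtain P : Sylow p G := default
  have horb : ∀ x : Ω, ∃ k, 2 ≤ k ∧ (p = 2 → 3 ≤ k) ∧ Nat.card (orbit (P : Subgroup G) x) = p ^ k := by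
    intro x
    obtain ⟨k, hk⟩ := P.isPGroup'.card_orbit x
    refine ⟨k, ?_⟩
    have hGi : (stabilizer G x).index = Nat.card Ω := index_stabilizer_of_transitive G x
    have hg := (stabilizer G x).card_mul_index
    rw [hGi, hcard] at hg
    have hm := (stabilizer (P : Subgroup G) x).card_mul_index
    rw [index_stabilizer, ← Nat.card_coe_set_eq, hk] at hm
    have hsd : Nat.card (stabilizer (P : Subgroup G) x) ∣ Nat.card (stabilizer G x) := by
      rw [← Subgroup.card_map_of_injective (P : Subgroup G).subtype_injective]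
      refine Subgroup.card_dvd_of_le ?_
      rintro _ ⟨w, hw, rfl⟩
      exact hw
    obtain ⟨l, hl⟩ := (P.isPGroup'.to_subgroup (stabilizer (P : Subgroup G) x)).exists_card_eq
    rw [hl] at hm hsd
    rw [P.card_eq_multiplicity, ← pow_add] at hm
    have hm' := Nat.pow_right_injective hp.two_le hm
    have hd : p ^ (l + 2) ∣ Nat.card G := by
      rw [← hg, pow_add]
      exact Nat.mul_dvd_mul hsd (Dvd.intro_left _ rfl)
    have h2 := (hp.pow_dvd_iff_le_factorization Nat.card_pos.ne').1 hd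
    refine ⟨by omega, fun hp2 => ?_, hk⟩
    subst hp2
    have hd' : 2 ^ (l + 3) ∣ Nat.card G := by
      rw [← hg, pow_add]
      exact Nat.mul_dvd_mul hsd (dvd_of_eq (by norm_num))
    have := (hp.pow_dvd_iff_le_factorization Nat.card_pos.ne').1 hd'
    omega
  have hle : ∀ x : Ω, Nat.card (orbit (P : Subgroup G) x) ≤ 2 * p ^ 2 := fun x =>
    hcard ▸ Nat.card_le_card_of_injective _ Subtype.val_injective
  obtain ⟨k, hk2, hk3, hk⟩ := horb a
  haveI : Nontrivial (P : Subgroup G) := by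
    rw [← Finite.one_lt_card_iff_nontrivial]
    have := (stabilizer (P : Subgroup G) a).index_dvd_card
    rw [index_stabilizer, ← Nat.card_coe_set_eq, hk] at this
    have h1 := Nat.le_of_dvd Nat.card_pos this
    have : p ^ 1 < p ^ k := Nat.pow_lt_pow_right hp.one_lt (by omega)
    have := hp.two_le
    rw [pow_one] at *
    omega
  haveI := IsPGroup.center_nontrivial P.isPGroup'
  obtain ⟨c, hc⟩ := exists_prime_orderOf_dvd_card' p (show p ∣ Nat.card (Subgroup.center (P : Subgroup G)) by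
    obtain ⟨n, hn⟩ := (P.isPGroup'.to_subgroup (Subgroup.center (P : Subgroup G))).exists_card_eq
    rw [hn]
    refine dvd_pow_self p fun h => ?_
    have := Finite.one_lt_card (α := Subgroup.center (P : Subgroup G))
    rw [hn, h, pow_zero] at this
    exact lt_irrefl _ this)
  rw [← Subgroup.orderOf_coe, ← Subgroup.orderOf_coe] at hc
  have hcc : ∀ g ∈ (P : Subgroup G), ((c.1 : G)) * g = g * c.1 := fun g hg =>
    congrArg Subtype.val (Subgroup.mem_center_iff.1 c.2 ⟨g, hg⟩).symm
  by_cases hfree : ∀ ω : Ω, (c.1 : G) • ω ≠ ω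
  · exact ⟨c.1, by rw [hc]; exact hp, hfree⟩
  push Not at hfree
  obtain ⟨b, hb⟩ := hfree
  by_cases hp2 : p = 2
  · exfalso
    subst hp2
    obtain ⟨kb, -, hkb3, hkb⟩ := horb b
    have hall : ∀ x, x ∈ orbit (P : Subgroup G) b := fun x => by
      have h1 : (orbit (P : Subgroup G) b).ncard = Nat.card Ω := le_antisymm (by
        rw [← Set.ncard_univ]; exact Set.ncard_le_ncard (Set.subset_univ _)) (by
        rw [← Nat.card_coe_set_eq, hkb, hcard]
        exact le_trans (by norm_num) (Nat.pow_le_pow_right (by norm_num) (hkb3 rfl)))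
      rw [← Set.ncard_univ] at h1
      rw [Set.eq_of_subset_of_ncard_le (Set.subset_univ _) h1.ge]
      exact Set.mem_univ x
    have : (c.1 : G) = 1 := FaithfulSMul.eq_of_smul_eq_smul (α := Ω) fun x => by
      rw [one_smul]; exact fix_orbit _ _ hcc hb (hall x)
    rw [this, orderOf_one] at hc
    exact absurd hc (by norm_num)
  have hp3 : 3 ≤ p := by have := hp.two_le; omega
  have hsq : ∀ x : Ω, Nat.card (orbit (P : Subgroup G) x) = p ^ 2 := fun x => by
    obtain ⟨kx, h1, -, h2⟩ := horb x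
    have h3 := hle x
    rw [h2] at h3
    rcases Nat.eq_or_lt_of_le h1 with h | h
    · rw [h2, ← h]
    · exfalso
      have h4 : p ^ 3 ≤ p ^ kx := Nat.pow_le_pow_right hp.pos h
      have h5 : 2 * p ^ 2 < p ^ 3 := by rw [pow_succ' p 2]; exact Nat.mul_lt_mul_of_pos_right (by omega) (pow_pos hp.pos 2)
      omega
  obtain ⟨a', ha'⟩ : ∃ a', a' ∉ orbit (P : Subgroup G) b := by
    by_contra h
    push Not at h
    have h1 := hsq b
    rw [Nat.card_congr (Equiv.subtypeUnivEquiv h), hcard] at h1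
    have := pow_pos hp.pos 2
    omega
  have hdisj : ∀ x, x ∈ orbit (P : Subgroup G) a' → x ∉ orbit (P : Subgroup G) b := fun x h1 h2 =>
    ha' ((orbit_eq_iff.2 h2) ▸ (orbit_eq_iff.2 h1).symm ▸ mem_orbit_self a')
  refine main p (P : Subgroup G) P.isPGroup' a' b (hsq _) (hsq _) hdisj (fun x => ?_) c.1 c.1.2 hcc hc hb hcl
  have hu : (orbit (P : Subgroup G) a' ∪ orbit (P : Subgroup G) b).ncard = Nat.card Ω := by
    rw [Set.ncard_union_eq (Set.disjoint_left.2 hdisj), ← Nat.card_coe_set_eq, ← Nat.card_coe_set_eq, hsq, hsq, hcard]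
    ring
  rw [← Set.ncard_univ] at hu
  have := Set.eq_of_subset_of_ncard_le (Set.subset_univ _) hu.ge
  exact (Set.mem_union _ _ _).1 (this.symm ▸ Set.mem_univ x)

end Cfsg.Agent.S3557
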