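import Cfsg.Statements.S3669
import Cfsg.Agent.S3378
import Cfsg.Agent.S4150
import Cfsg.Agent.Lib.Solv.MinNormal
import Cfsg.Agent.Lib.Solv.SchurZassenhaus
import Cfsg.Agent.Lib.Characters.Degree
import Cfsg.Agent.Lib.Characters.Induction
import Cfsg.Agent.Lib.Blocks.DefectZero
-- import your own Cfsg.Agent.* helpers here

set_option autoImplicit false
open Cfsg

namespace Cfsg.Agent.S3669

open Cfsg.Lib.Characters Subgroup

theorem five_classes : Fintype.card (ConjClasses (alternatingGroup (Fin 5))) = 5 := by decide +kernel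

theorem noncomm : ¬ ∀ a b : alternatingGroup (Fin 5), a * b = b * a := by decide +kernel

theorem key : ∀ a ∈ ({1, 2, 3, 4, 5, 6} : Finset ℕ), ∀ b ∈ ({1, 2, 3, 4, 5, 6} : Finset ℕ), ∀ c ∈ ({1, 2, 3, 4, 5, 6} : Finset ℕ),
    ∀ d ∈ ({1, 2, 3, 4, 5, 6} : Finset ℕ), ∀ e ∈ ({1, 2, 3, 4, 5, 6} : Finset ℕ),
    a * a + b * b + c * c + d * d + e * e = 60 →
    (if a = 1 then 1 else 0) + (if b = 1 then 1 else 0) + (if c = 1 then 1 else 0) + (if d = 1 then 1 else 0) + (if e = 1 then 1 else 0) = 1 →
    (a = 5 ∨ b = 5 ∨ c = 5 ∨ d = 5 ∨ e = 5) ∧ ((3 ∣ a) ∨ (3 ∣ b) ∨ (3 ∣ c) ∨ (3 ∣ d) ∨ (3 ∣ e)) := by decide +kernel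

theorem degree_primes_alt : 5 ∈ Cfsg.degreePrimes (alternatingGroup (Fin 5)) ∧
    3 ∈ Cfsg.degreePrimes (alternatingGroup (Fin 5)) := by
  classical
  set A := alternatingGroup (Fin 5)
  have hA : Nat.card A = 60 := by
    rw [nat_card_alternatingGroup, Nat.card_eq_fintype_card, Fintype.card_fin]; rfl
  letI := Fintype.ofFinite (IrrCharacter A)
  have h5 : Fintype.card (IrrCharacter A) = 5 := by
    rw [← Nat.card_eq_fintype_card, card_irr_eq_card_conjClasses, Nat.card_eq_fintype_card, five_classes]
  have hd : ∀ χ : IrrCharacter A, ∃ d : ℕ, (χ : A → ℂ) 1 = d ∧ 0 < d := fun χ => by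
    obtain ⟨d, h1, h2⟩ := χ.2.exists_degree_pos
    exact ⟨d, h2, h1⟩
  choose d hd hd0 using hd
  have hsq : ∑ χ, d χ * d χ = 60 := by
    have h := sum_sq_degree (G := A)
    rw [hA] at h
    simp only [hd, sq] at h
    exact_mod_cast h
  have hmem : ∀ χ, d χ ∈ ({1, 2, 3, 4, 5, 6} : Finset ℕ) := fun χ => by
    have h1 : d χ * d χ ≤ 60 := hsq ▸ Finset.single_le_sum (f := fun χ => d χ * d χ) (fun i _ => Nat.zero_le _) (Finset.mem_univ χ)
    have h2 : d χ ∣ 60 := hA ▸ degree_dvd_card χ.2 (hd χ)
    have h3 : d χ ≤ 7 := by nlinarith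
    have key : ∀ m ≤ 7, m ∣ 60 → m ∈ ({1, 2, 3, 4, 5, 6} : Finset ℕ) := by decide
    exact key _ h3 h2
  have hlin : ∑ χ, (if d χ = 1 then 1 else 0) = 1 := by
    have h := card_linear_irr (G := A)
    have hperf : commutator A = ⊤ := by
      haveI := alternatingGroup.isSimpleGroup (α := Fin 5) (by simp)
      rcases (inferInstance : (commutator A).Normal).eq_bot_or_eq_top with h | h
      · exfalso
        refine noncomm fun a b => ?_
        have h2 : (centralizer ((⊤ : Subgroup A) : Set A)) = ⊤ := top_le_iff.1 (commutator_eq_bot_iff_le_centralizer.1 h)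
        have h3 : a ∈ centralizer ((⊤ : Subgroup A) : Set A) := h2.symm ▸ mem_top a
        exact (mem_centralizer_iff.1 h3 b (mem_top b)).symm
      · exact h
    rw [hperf, index_top, Nat.card_eq_fintype_card, Fintype.card_subtype] at h
    rw [Finset.sum_boole]
    simp only [Nat.cast_id]
    refine Eq.trans ?_ h
    congr 1
    ext χ
    simp only [Finset.mem_filter, Finset.mem_univ, true_and, hd]
    exact (Nat.cast_eq_one (R := ℂ)).symm
  obtain ⟨e⟩ : Nonempty (Fin 5 ≃ IrrCharacter A) := ⟨(Fintype.equivFinOfCardEq h5).symm⟩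
  rw [← e.sum_comp, Fin.sum_univ_five] at hsq hlin
  obtain ⟨k5, k3⟩ := key _ (hmem (e 0)) _ (hmem (e 1)) _ (hmem (e 2)) _ (hmem (e 3)) _ (hmem (e 4)) hsq hlin
  have mem : ∀ p : ℕ, p.Prime → ∀ i, p ∣ d (e i) → p ∈ Cfsg.degreePrimes A := fun p hp i h =>
    ⟨hp, _, ⟨e i, Cfsg.Lib.Blocks.charDegree_eq (hd (e i))⟩, h⟩
  constructor
  · rcases k5 with h | h | h | h | h <;> exact mem 5 Nat.prime_five _ (dvd_of_eq h.symm)
  · rcases k3 with h | h | h | h | h <;> exact mem 3 Nat.prime_three _ h


/-- The character degree graph of a finite group has as vertices the primes dividing some irreducible complex character degree, two distinct primes being joined when their product divides some irreducible character degree; two groups have the same character degree graph when they have the same vertices and the same joined pairs. A finite group of order 60 with the same character degree graph as the alternating group A₅ (whose character degrees are 1, 3, 4, 5, so the graph has vertices 2, 3, 5 and no edges) is isomorphic to A₅. -/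
theorem result {G : Type*} [Group G] [Finite G] (hcard : Nat.card G = 60)
    (hΓ : Cfsg.degreePrimes G = Cfsg.degreePrimes (alternatingGroup (Fin 5)) ∧ Cfsg.degreeGraph G = Cfsg.degreeGraph (alternatingGroup (Fin 5))) : Nonempty (G ≃* alternatingGroup (Fin 5)) := by
  classical
  haveI := Fintype.ofFinite G
  haveI : Fact (Nat.Prime 5) := ⟨Nat.prime_five⟩
  haveI : Fact (Nat.Prime 3) := ⟨Nat.prime_three⟩
  obtain ⟨h5, h3⟩ := degree_primes_alt
  rw [← hΓ.1] at h5 h3
  -- normal abelian Sylow subgroups are excluded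
  have notn : ∀ p : ℕ, p ∈ Cfsg.degreePrimes G → ∀ P : Subgroup G, Nat.card P = p → P.Normal → ¬ p ∣ P.index → False := by
    rintro p ⟨hp, _, ⟨χ, rfl⟩, hdvd⟩ P hP hn hndvd
    haveI := Fact.mk hp
    haveI : IsCyclic P := isCyclic_of_prime_card hP
    letI := IsCyclic.commGroup (α := P)
    haveI : IsMulCommutative P := ⟨⟨mul_comm⟩⟩
    exact hndvd (hdvd.trans (degree_dvd_index_of_abelian χ.2 P (Cfsg.Lib.Blocks.coe_charDegree χ).symm))
  have hfac : ∀ p : ℕ, p.Prime → ¬ p ∣ 60 / p → p ∣ 60 → ∀ P : Sylow p G, Nat.card (P : Subgroup G) = p := by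
    intro p hp h h' P
    have := Fact.mk hp
    rw [P.card_eq_multiplicity, hcard]
    rw [show (60 : ℕ) = p * (60 / p) from (Nat.mul_div_cancel' h').symm,
      Nat.factorization_def _ hp, padicValNat.mul hp.ne_zero (fun e => h (by rw [e]; exact dvd_zero p)),
      padicValNat.self hp.one_lt, padicValNat.eq_zero_of_not_dvd h, add_zero, pow_one]
  have hnsyl : ∀ p : ℕ, [Fact p.Prime] → p ∈ Cfsg.degreePrimes G → ¬ p ∣ 60 / p → p ∣ 60 →
      ∀ P : Sylow p G, ¬ (P : Subgroup G).Normal := by
    intro p hpf hp h h' P hn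
    refine notn p hp _ (hfac p hpf.out h h' P) hn fun hd => h ?_
    have hm := (P : Subgroup G).card_mul_index
    rw [hfac p hpf.out h h' P, hcard] at hm
    rwa [show 60 / p = (P : Subgroup G).index from Nat.div_eq_of_eq_mul_right hpf.out.pos hm.symm]
  obtain P5 : Sylow 5 G := default
  have hP5 := hfac 5 Nat.prime_five (by norm_num) (by norm_num) P5
  have hnot5 := hnsyl 5 h5 (by norm_num) (by norm_num)
  have hN5 : Nat.card (normalizer ((P5 : Subgroup G) : Set G)) = 10 ∧ Nat.card (Sylow 5 G) = 6 := by
    have h1 := card_sylow_modEq_one 5 G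
    have h2 : Nat.card (Sylow 5 G) ∣ 12 := by
      have h := P5.card_dvd_index
      have h' := (P5 : Subgroup G).card_mul_index
      rw [hP5, hcard] at h'
      rwa [show (P5 : Subgroup G).index = 12 by omega] at h
    have h3 : Nat.card (Sylow 5 G) ≠ 1 := fun h => by
      haveI : Subsingleton (Sylow 5 G) := (Nat.card_eq_one_iff_unique.1 h).1
      exact hnot5 P5 (Sylow.normal_of_subsingleton P5)
    have key : ∀ d ∈ Nat.divisors 12, d % 5 = 1 → d = 1 ∨ d = 6 := by decide +kernel
    have h6 := (key _ (Nat.mem_divisors.2 ⟨h2, by norm_num⟩) h1).resolve_left h3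
    refine ⟨?_, h6⟩
    have h := (normalizer ((P5 : Subgroup G) : Set G)).card_mul_index
    have h7 := Sylow.card_eq_index_normalizer P5
    rw [h6] at h7
    erw [← h7, hcard] at h
    omega
  obtain ⟨hN5, hn5⟩ := hN5
  have hns : ¬ Group.IsSolvable G := by
    intro hsol
    haveI : Nontrivial G := Finite.one_lt_card_iff_nontrivial.1 (by omega)
    obtain ⟨M, hMn, -, hM, hMmin⟩ := Cfsg.Lib.Solv.exists_minimal_normal_le (G := G) (N := ⊤) top_ne_bot
    haveI := hMn
    obtain ⟨hMc, p, hp, hMp, -⟩ := Cfsg.Lib.Solv.minimal_normal_elementary hM (by infer_instance) hMmin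
    haveI := Fact.mk hp
    obtain ⟨k, hk⟩ := hMp.exists_card_eq
    have hk0 : k ≠ 0 := fun h => hM (card_eq_one.1 (by rw [hk, h, pow_zero]))
    have hd : Nat.card M ∣ 60 := hcard ▸ M.card_subgroup_dvd_card
    have hM5 : ¬ 5 ∣ Nat.card M := by
      intro h
      have hp5 : (5 : ℕ) = p := (Nat.prime_dvd_prime_iff_eq Nat.prime_five hp).1 (Nat.prime_five.dvd_of_dvd_pow (hk ▸ h))
      subst hp5
      obtain ⟨Q, hQ⟩ := hMp.exists_le_sylow
      have he : M = (Q : Subgroup G) := eq_of_le_of_card_ge hQ (by
        rw [hfac 5 Nat.prime_five (by norm_num) (by norm_num) Q]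
        exact Nat.le_of_dvd Nat.card_pos h)
      exact hnot5 Q (he ▸ hMn)
    have hmem : Nat.card M ∈ Nat.divisors 60 := Nat.mem_divisors.2 ⟨hd, by norm_num⟩
    have key : ∀ d ∈ Nat.divisors 60, ¬ 5 ∣ d → d = 1 ∨ d = 2 ∨ d = 3 ∨ d = 4 ∨ d = 6 ∨ d = 12 := by decide +kernel
    have h24 : Nat.card M = 2 ∨ Nat.card M = 3 ∨ Nat.card M = 4 := by
      rcases key _ hmem hM5 with h | h | h | h | h | h
      · exact absurd (card_eq_one.1 h) hM
      · exact Or.inl h
      · exact Or.inr (Or.inl h)
      · exact Or.inr (Or.inr h)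
      all_goals
        exfalso
        have h2 : 2 ∣ Nat.card M := by rw [h]; norm_num
        have h3 : 3 ∣ Nat.card M := by rw [h]; norm_num
        rw [hk] at h2 h3
        have e2 := (Nat.prime_dvd_prime_iff_eq Nat.prime_two hp).1 (Nat.prime_two.dvd_of_dvd_pow h2)
        have e3 := (Nat.prime_dvd_prime_iff_eq Nat.prime_three hp).1 (Nat.prime_three.dvd_of_dvd_pow h3)
        omega
    -- five acts trivially, so `M` normalises the Sylow subgroup
    have hMN : Nat.card M ∣ 10 := by
      rw [← hN5]
      refine card_dvd_of_le fun x hx => centralizer_le_normalizer ((P5 : Subgroup G) : Set G) ?_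
      rw [mem_centralizer_iff]
      intro y hy
      have hfix : (MulAut.conjNormal y : MulAut M) = 1 := by
        set α : MulAut M := MulAut.conjNormal y
        have h1 : α ^ 5 = 1 := by
          have hy5 : y ^ 5 = 1 := by
            have := orderOf_dvd_natCard (⟨y, hy⟩ : (P5 : Subgroup G))
            rw [← Subgroup.orderOf_coe, hP5] at this
            exact orderOf_dvd_iff_pow_eq_one.1 this
          rw [← map_pow, hy5, map_one]
        have h2 : orderOf α ∣ Nat.card (Equiv.Perm {m : M // m ≠ 1}) := by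
          let f : MulAut M →* Equiv.Perm {m : M // m ≠ 1} :=
            { toFun := fun β => β.toEquiv.subtypeEquiv fun m => (β.map_ne_one_iff).symm
              map_one' := by ext m; rfl
              map_mul' := fun β γ => by ext m; rfl }
          have hf : Function.Injective f := fun β γ h => MulEquiv.ext fun m => by
            by_cases hm : m = 1
            · rw [hm, map_one, map_one]
            · exact congrArg Subtype.val (Equiv.ext_iff.1 h ⟨m, hm⟩)
          rw [← orderOf_injective f hf]
          exact orderOf_dvd_natCard _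
        have h3 : Nat.card {m : M // m ≠ 1} = Nat.card M - 1 := by
          haveI := Fintype.ofFinite M
          rw [Nat.card_eq_fintype_card, Nat.card_eq_fintype_card, Fintype.card_subtype_compl, Fintype.card_subtype_eq]
        rw [Nat.card_perm, h3] at h2
        have h4 := Nat.dvd_gcd (orderOf_dvd_of_pow_eq_one h1) h2
        rcases h24 with h | h | h <;> rw [h] at h4 <;> norm_num [Nat.factorial] at h4 <;>
          first | exact h4 | exact orderOf_eq_one_iff.1 h4
      have h := congrArg (fun β : MulAut M => ((β ⟨x, hx⟩ : M) : G)) hfix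
      simp only [MulAut.conjNormal_apply, MulAut.one_apply] at h
      exact mul_inv_eq_iff_eq_mul.1 h
    have hM2 : Nat.card M = 2 := by
      rcases h24 with h | h | h
      · exact h
      · rw [h] at hMN; norm_num at hMN
      · rw [h] at hMN; norm_num at hMN
    obtain ⟨⟨z, hzM⟩, hz1, hzu⟩ := (Nat.card_eq_two_iff' (1 : M)).1 hM2
    have hz1' : z ≠ 1 := fun h => hz1 (Subtype.ext h)
    have hzc : ∀ g : G, g * z = z * g := fun g => by
      have h := hzu ⟨g * z * g⁻¹, hMn.conj_mem z hzM g⟩ (fun h => hz1' (by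
        have h' : g * z * g⁻¹ = 1 := congrArg Subtype.val h
        rwa [mul_inv_eq_one, mul_eq_left] at h'))
      exact mul_inv_eq_iff_eq_mul.1 (congrArg Subtype.val h)
    obtain P3 : Sylow 3 G := default
    have hP3 := hfac 3 Nat.prime_three (by norm_num) (by norm_num) P3
    have hnot3 := hnsyl 3 h3 (by norm_num) (by norm_num)
    set W := normalizer ((P3 : Subgroup G) : Set G) with hW
    have hW6 : Nat.card W = 6 := by
      have h1 := card_sylow_modEq_one 3 G
      have h7 : Nat.card (Sylow 3 G) = W.index := Sylow.card_eq_index_normalizer P3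
      have hzW : z ∈ W := by
        refine centralizer_le_normalizer ((P3 : Subgroup G) : Set G) ?_
        exact mem_centralizer_iff.2 fun y _ => hzc y
      have h2 : 2 ∣ Nat.card W := by
        have := orderOf_dvd_natCard (⟨z, hzW⟩ : W)
        rwa [← Subgroup.orderOf_coe, show orderOf z = 2 from orderOf_eq_prime (by
          have h := pow_card_eq_one' (x := (⟨z, hzM⟩ : M))
          rw [hM2] at h
          exact congrArg Subtype.val h) hz1'] at this
      have h3' : 3 ∣ Nat.card W := by
        have := card_dvd_of_le (le_normalizer (H := (P3 : Subgroup G)))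
        rwa [hP3] at this
      have hmul := W.card_mul_index
      rw [hcard] at hmul
      have h4 : Nat.card W ∈ Nat.divisors 60 := Nat.mem_divisors.2 ⟨Dvd.intro _ hmul, by norm_num⟩
      have hne : W.index ≠ 1 := fun h => hnot3 P3 (normalizer_eq_top_iff.1 (index_eq_one.1 h))
      have key : ∀ d ∈ Nat.divisors 60, 2 ∣ d → 3 ∣ d → (60 / d) % 3 = 1 → 60 / d ≠ 1 → d = 6 := by decide +kernel
      have hidx : 60 / Nat.card W = W.index := Nat.div_eq_of_eq_mul_right Nat.card_pos hmul.symm
      exact key _ h4 h2 h3' (hidx ▸ h7 ▸ h1) (hidx ▸ hne)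
    have hWc : W ≤ centralizer ((P3 : Subgroup G) : Set G) := by
      have hle : zpowers z ⊔ (P3 : Subgroup G) ≤ W := sup_le (zpowers_le.2 (centralizer_le_normalizer ((P3 : Subgroup G) : Set G)
        (mem_centralizer_iff.2 fun y _ => hzc y))) le_normalizer
      have heq : zpowers z ⊔ (P3 : Subgroup G) = W := by
        refine eq_of_le_of_card_ge hle ?_
        rw [hW6]
        refine Nat.le_of_dvd Nat.card_pos (Nat.Coprime.mul_dvd_of_dvd_of_dvd (m := 2) (n := 3) (by norm_num) ?_ ?_)
        · have := card_dvd_of_le (le_sup_left : zpowers z ≤ zpowers z ⊔ (P3 : Subgroup G))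
          rwa [Nat.card_zpowers, show orderOf z = 2 from orderOf_eq_prime (by
            have h := pow_card_eq_one' (x := (⟨z, hzM⟩ : M))
            rw [hM2] at h
            exact congrArg Subtype.val h) hz1'] at this
        · have := card_dvd_of_le (le_sup_right : (P3 : Subgroup G) ≤ zpowers z ⊔ (P3 : Subgroup G))
          rwa [hP3] at this
      rw [← heq]
      refine sup_le (zpowers_le.2 (mem_centralizer_iff.2 fun y _ => hzc y)) ?_
      haveI : IsCyclic (P3 : Subgroup G) := isCyclic_of_prime_card hP3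
      letI := IsCyclic.commGroup (α := (P3 : Subgroup G))
      exact fun x hx => mem_centralizer_iff.2 fun y hy => congrArg Subtype.val (mul_comm (⟨y, hy⟩ : (P3 : Subgroup G)) ⟨x, hx⟩)
    have hc := MonoidHom.ker_transferSylow_isComplement' P3 hWc
    set K := (MonoidHom.transferSylow P3 hWc).ker
    have hK : Nat.card K = 20 := by
      have := hc.card_mul
      rw [hP3, hcard] at this
      omega
    obtain ⟨Q⟩ : Nonempty (Sylow 5 K) := inferInstance
    have hQn : (Q : Subgroup K).Normal := by
      haveI : Subsingleton (Sylow 5 K) := by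
        have h1 := card_sylow_modEq_one 5 K
        have h2 := Q.card_dvd_index
        have hQc : Nat.card (Q : Subgroup K) = 5 := by
          rw [Q.card_eq_multiplicity, hK, Nat.factorization_def _ Nat.prime_five, show (20 : ℕ) = 5 * 4 by norm_num,
            padicValNat.mul (by norm_num) (by norm_num), padicValNat.self (by norm_num),
            padicValNat.eq_zero_of_not_dvd (by norm_num)]
          norm_num
        have h3 := (Q : Subgroup K).card_mul_index
        rw [hQc, hK] at h3
        rw [show (Q : Subgroup K).index = 4 by omega] at h2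
        have h4 : Nat.card (Sylow 5 K) ∈ Nat.divisors 4 := Nat.mem_divisors.2 ⟨h2, by norm_num⟩
        have key : ∀ d ∈ Nat.divisors 4, d % 5 = 1 → d = 1 := by decide +kernel
        exact (Nat.card_eq_one_iff_unique.1 (key _ h4 h1)).1
      exact Sylow.normal_of_subsingleton Q
    haveI : (Q : Subgroup K).Characteristic := Sylow.characteristic_of_normal Q hQn
    have hnormal : ((Q : Subgroup K).map K.subtype).Normal := inferInstance
    obtain ⟨R, hR⟩ := (Q.isPGroup'.map K.subtype).exists_le_sylow
    refine hnot5 R ?_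
    have hQc : Nat.card ((Q : Subgroup K).map K.subtype) = 5 := by
      rw [Cfsg.Lib.Solv.card_map_subtype', Q.card_eq_multiplicity, hK, Nat.factorization_def _ Nat.prime_five, show (20 : ℕ) = 5 * 4 by norm_num,
        padicValNat.mul (by norm_num) (by norm_num), padicValNat.self (by norm_num),
        padicValNat.eq_zero_of_not_dvd (by norm_num)]
      norm_num
    rw [← eq_of_le_of_card_ge hR (by rw [hQc, hfac 5 Nat.prime_five (by norm_num) (by norm_num) R])]
    exact hnormal
  -- simplicity
  haveI : Nontrivial G := Finite.one_lt_card_iff_nontrivial.1 (by omega)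
  haveI hsimple : IsSimpleGroup G := by
    refine ⟨fun N hN => ?_⟩
    by_contra h
    push Not at h
    have h1 := N.card_mul_index
    rw [hcard, index_eq_card] at h1
    have hne : Nat.card N ≠ 60 := fun e => h.2 (eq_top_of_card_eq _ (e.trans hcard.symm))
    have hne1 : Nat.card N ≠ 1 := fun e => h.1 (card_eq_one.1 e)
    refine hns (Cfsg.Agent.S3378.solvable_ext N
      (Cfsg.Agent.S3378.solvable_small ((Dvd.intro _ h1).trans (by norm_num)) hne fun e => ?_)
      (Cfsg.Agent.S3378.solvable_small ((Dvd.intro_left _ h1).trans (by norm_num)) (fun e => ?_) fun e => ?_))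
    · rw [e] at h1; omega
    · rw [e] at h1; omega
    · rw [e] at h1; omega
  let φ := MulAction.toPermHom G (Sylow 5 G)
  haveI := Fintype.ofFinite (Sylow 5 G)
  haveI : Nontrivial (Sylow 5 G) := Finite.one_lt_card_iff_nontrivial.1 (by omega)
  have hφ : Function.Injective φ := by
    rw [← MonoidHom.ker_eq_bot_iff]
    refine ((MonoidHom.normal_ker φ).eq_bot_or_eq_top).resolve_right fun h => ?_
    obtain ⟨Q, hQ⟩ := exists_ne P5
    obtain ⟨g, hg⟩ := MulAction.exists_smul_eq G P5 Q
    have : φ g = 1 := MonoidHom.mem_ker.1 (h ▸ mem_top g)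
    exact hQ (hg.symm.trans (Equiv.ext_iff.1 this P5))
  have hr : Nat.card φ.range = 60 := by rw [← Nat.card_congr (MonoidHom.ofInjective hφ).toEquiv, hcard]
  have hle : φ.range ≤ alternatingGroup (Sylow 5 G) := by
    rintro _ ⟨g, rfl⟩
    rw [Equiv.Perm.mem_alternatingGroup]
    rcases (MonoidHom.normal_ker (Equiv.Perm.sign.comp φ)).eq_bot_or_eq_top with h | h
    · have := Nat.card_le_card_of_injective _ ((MonoidHom.ker_eq_bot_iff _).1 h)
      rw [hcard, Nat.card_eq_fintype_card (α := ℤˣ), Fintype.card_units_int] at this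
      omega
    · exact (MonoidHom.mem_ker (f := Equiv.Perm.sign.comp φ)).1 (h ▸ mem_top g)
  obtain ⟨e5⟩ := Cfsg.Agent.S4150.iso_five (by rw [← Nat.card_eq_fintype_card, hn5]) (φ.range.subgroupOf (alternatingGroup (Sylow 5 G))) (by
    have h := (φ.range.subgroupOf (alternatingGroup (Sylow 5 G))).card_mul_index
    have hA : Nat.card (alternatingGroup (Sylow 5 G)) = 360 := by rw [nat_card_alternatingGroup, hn5]; rfl
    rw [Nat.card_congr (subgroupOfEquivOfLe hle).toEquiv, hr, hA] at h
    omega)
  exact ⟨((MonoidHom.ofInjective hφ).trans (subgroupOfEquivOfLe hle).symm).trans e5⟩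

end Cfsg.Agent.S3669
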