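import Cfsg.Statements.S3806
import Cfsg.Agent.Lib.Solv.GroupLieRing

set_option autoImplicit false
open Cfsg
open scoped Pointwise commutatorElement

namespace Cfsg.Agent.S3806

open Cfsg.Lib.Solv.GroupLie

open scoped Classical in
lemma exists_avoid {G : Type*} [Group G] [Finite G] {ι : Type*} (I : Finset ι) (p : ℕ) (C : ι → Subgroup G)
    (hC : ∀ i ∈ I, p * Nat.card (C i) ≤ Nat.card G) (hI : I.card < p) : ∃ s : G, ∀ i ∈ I, s ∉ C i := by
  haveI := Fintype.ofFinite G
  by_contra h
  push Not at h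
  have h1 : (Finset.univ : Finset G) ⊆ I.biUnion (fun i => Finset.univ.filter fun u => u ∈ C i) := fun s _ => by
    obtain ⟨i, hi, hs⟩ := h s
    exact Finset.mem_biUnion.2 ⟨i, hi, Finset.mem_filter.2 ⟨Finset.mem_univ _, hs⟩⟩
  have h2 := Nat.mul_le_mul_left p ((Finset.card_le_card h1).trans Finset.card_biUnion_le)
  rw [Finset.mul_sum, Finset.card_univ, ← Nat.card_eq_fintype_card] at h2
  have h3 : ∑ i ∈ I, p * (Finset.univ.filter fun u => u ∈ C i).card ≤ I.card • Nat.card G :=
    Finset.sum_le_card_nsmul _ _ _ fun i hi => by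
      have h4 := hC i hi
      rw [Nat.card_eq_fintype_card (α := ↥(C i)), Fintype.card_subtype] at h4
      exact h4
  rw [smul_eq_mul] at h3
  have := Nat.le_of_mul_le_mul_right (h2.trans h3) Nat.card_pos
  omega

/-- The geometric sum and the Frobenius congruence. -/
lemma geom_identity (p : ℕ) [Fact p.Prime] : ∃ h : Polynomial ℤ,
    ∑ i ∈ Finset.range p, Polynomial.X ^ i =
      (Polynomial.X - 1) ^ (p - 1) + Polynomial.C (p : ℤ) * (1 + (Polynomial.X - 1) * h) := by
  have hp : p.Prime := Fact.out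
  set f : Polynomial ℤ := ∑ i ∈ Finset.range p, Polynomial.X ^ i - (Polynomial.X - 1) ^ (p - 1) with hf
  have hm : f.map (Int.castRingHom (ZMod p)) = 0 := by
    rw [hf, Polynomial.map_sub, Polynomial.map_sum, Polynomial.map_pow, Polynomial.map_sub, Polynomial.map_X,
      Polynomial.map_one, sub_eq_zero]
    simp only [Polynomial.map_pow, Polynomial.map_X]
    apply mul_right_cancel₀ (Polynomial.X_sub_C_ne_zero (1 : ZMod p))
    rw [map_one, geom_sum_mul, ← pow_succ, Nat.sub_add_cancel hp.one_le, sub_pow_char, one_pow]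
  obtain ⟨g, hg⟩ : Polynomial.C (p : ℤ) ∣ f := by
    rw [Polynomial.C_dvd_iff_dvd_coeff]
    intro i
    have := congrArg (fun r : Polynomial (ZMod p) => r.coeff i) hm
    simp only [Polynomial.coeff_map, Polynomial.coeff_zero, eq_intCast] at this
    exact (ZMod.intCast_zmod_eq_zero_iff_dvd _ p).1 this
  have hg1 : g.eval 1 = 1 := by
    have := congrArg (Polynomial.eval (1 : ℤ)) hg
    simp only [hf, Polynomial.eval_sub, Polynomial.eval_finset_sum, Polynomial.eval_pow, Polynomial.eval_X,
      one_pow, Polynomial.eval_one, sub_self, zero_pow (by have := hp.two_le; omega : p - 1 ≠ 0),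
      Finset.sum_const, Finset.card_range, nsmul_eq_mul, mul_one, sub_zero, Polynomial.eval_mul, Polynomial.eval_C] at this
    have hp0 : (p : ℤ) ≠ 0 := by exact_mod_cast hp.ne_zero
    exact (mul_left_cancel₀ hp0 (by rw [mul_one]; exact this)).symm
  obtain ⟨h, hh⟩ : (Polynomial.X - Polynomial.C 1) ∣ g - 1 := Polynomial.dvd_iff_isRoot.2 (by simp [hg1])
  refine ⟨h, ?_⟩
  rw [map_one] at hh
  rw [← hh, add_sub_cancel, ← hg, hf, add_sub_cancel]

/-- A nilpotent shift kills the `p`-multiple. -/
lemma smul_eq_zero_of_norm {M : Type*} [AddCommGroup M] (p : ℕ) [Fact p.Prime] (T : AddMonoid.End M) (v : M)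
    (hD : (T - 1) ^ (p - 1) = 0) (h : (∑ i ∈ Finset.range p, T ^ i) v = 0) : p • v = 0 := by
  obtain ⟨g, hg⟩ := geom_identity p
  have e : ∑ i ∈ Finset.range p, T ^ i =
      (T - 1) ^ (p - 1) + (p : AddMonoid.End M) * (1 + (T - 1) * Polynomial.aeval T g) := by
    have := congrArg (Polynomial.aeval T) hg
    simpa [map_sum] using this
  have hc : Commute (T - 1) (Polynomial.aeval T g) := by
    have := (Commute.all (Polynomial.X - 1 : Polynomial ℤ) g).map (Polynomial.aeval T)
    simpa using this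
  have hn : IsNilpotent ((T - 1) * Polynomial.aeval T g) := hc.isNilpotent_mul_right ⟨_, hD⟩
  obtain ⟨u, hu⟩ := hn.isUnit_one_add
  rw [e, hD, zero_add, ← hu] at h
  have h2 : (p : AddMonoid.End M) ((u : AddMonoid.End M) v) = 0 := h
  rw [AddMonoid.End.natCast_apply, ← map_nsmul] at h2
  have h3 := congrArg ((↑u⁻¹ : AddMonoid.End M)) h2
  rw [map_zero] at h3
  have h4 : ((↑u⁻¹ : AddMonoid.End M) * (u : AddMonoid.End M)) (p • v) = 0 := h3
  rwa [← Units.val_mul, inv_mul_cancel, Units.val_one] at h4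

lemma pow_eq_one_of_shift {Q : Type*} [Group Q] (p : ℕ) [Fact p.Prime] (A : ℕ → Subgroup Q) [hn : ∀ j, (A j).Normal]
    [IsMulCommutative (A 0)] (s : Q) (m : ℕ) (hm : m ≤ p - 1) (hA : A m = ⊥) (hle : ∀ j, A j ≤ A 0)
    (hshift : ∀ j, ∀ a ∈ A j, ⁅s, a⁆ ∈ A (j + 1)) (x : Q) (hx : x ∈ A 0) (h : (x * s) ^ p = s ^ p) :
    x ^ p = 1 := by
  letI : CommGroup (A 0) := { (inferInstance : Group (A 0)) with mul_comm := fun a b => IsMulCommutative.is_comm.comm a b }
  let T : AddMonoid.End (Additive (A 0)) := MonoidHom.toAdditive (MulAut.conjNormal (H := A 0) s).toMonoidHom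
  have hTv : ∀ c : A 0, T (Additive.ofMul c) = Additive.ofMul (MulAut.conjNormal s c) := fun _ => rfl
  have hD : ∀ j (c : A 0), (c : Q) ∈ A j → ((Additive.toMul ((T - 1) (Additive.ofMul c)) : A 0) : Q) ∈ A (j + 1) := by
    intro j c hc
    rw [show (T - 1) (Additive.ofMul c) = Additive.ofMul (MulAut.conjNormal s c * c⁻¹) by
      show T (Additive.ofMul c) - Additive.ofMul c = _
      rw [hTv, ← ofMul_div, div_eq_mul_inv]]
    show ((MulAut.conjNormal s c * c⁻¹ : A 0) : Q) ∈ A (j + 1)
    rw [Subgroup.coe_mul, MulAut.conjNormal_apply, Subgroup.coe_inv, ← commutatorElement_def]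
    exact hshift j c hc
  have hDpow : ∀ i (v : Additive (A 0)), ((Additive.toMul (((T - 1) ^ i) v) : A 0) : Q) ∈ A i := by
    intro i
    induction i with
    | zero => intro v; exact (Additive.toMul v).2
    | succ i ih =>
      intro v
      rw [pow_succ']
      exact hD i _ (ih v)
  have hnil : (T - 1) ^ (p - 1) = 0 := by
    have h1 : (T - 1) ^ m = 0 := by
      refine AddMonoidHom.ext fun v => ?_
      have := hDpow m v
      rw [hA, Subgroup.mem_bot] at this
      exact Additive.toMul.injective (Subtype.ext this)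
    exact pow_eq_zero_of_le hm h1
  have key : ∀ k, ∃ c : A 0, (c : Q) = (x * s) ^ k * (s ^ k)⁻¹ ∧
      (∑ i ∈ Finset.range k, T ^ i) (Additive.ofMul ⟨x, hx⟩) = Additive.ofMul c := by
    intro k
    induction k with
    | zero => exact ⟨1, by simp, by simp⟩
    | succ k ih =>
      obtain ⟨c, hc, hcs⟩ := ih
      refine ⟨⟨x, hx⟩ * MulAut.conjNormal s c, ?_, ?_⟩
      · rw [Subgroup.coe_mul, MulAut.conjNormal_apply, hc, pow_succ', pow_succ']
        group
      · rw [Finset.sum_range_succ', pow_zero, ofMul_mul, ← hTv, ← hcs]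
        show (∑ i ∈ Finset.range k, T ^ (i + 1)) _ + Additive.ofMul (⟨x, hx⟩ : A 0) = _
        rw [add_comm]
        congr 1
        rw [Finset.sum_congr rfl (fun i _ => pow_succ' T i), ← Finset.mul_sum]
        rfl
  obtain ⟨c, hc, hcs⟩ := key p
  rw [h, mul_inv_cancel] at hc
  rw [show c = 1 from Subtype.ext hc] at hcs
  have := smul_eq_zero_of_norm p T (Additive.ofMul ⟨x, hx⟩) hnil hcs
  rw [← ofMul_pow] at this
  exact congrArg Subtype.val (Additive.ofMul.injective this : (⟨x, hx⟩ : A 0) ^ p = 1)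



/-- Let p be a prime and S a finite p-group of order pⁿ (n ≥ 2) of maximal nilpotency class n − 1 whose sectional p-rank is exactly k (every section has p-rank at most k, and some section has p-rank k). If p ≥ k + 2 then the order of S is at most p^(2k). -/
theorem result {S : Type*} [Group S] [Finite S] (p : ℕ) [Fact p.Prime] (hS : IsPGroup p S) [Group.IsNilpotent S]
    (n : ℕ) (hn : 2 ≤ n) (hcard : Nat.card S = p ^ n) (hmax : Group.nilpotencyClass S = n - 1)
    (k : ℕ) (hk : 1 ≤ k) (hsr : Cfsg.SectionalPRankLE p k S ∧ ¬ Cfsg.SectionalPRankLE p (k - 1) S)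
    (hpk : k + 2 ≤ p) : Nat.card S ≤ p ^ (2 * k) := by
  classical
  have hpp : p.Prime := Fact.out
  haveI : Group.IsNilpotent S := hS.isNilpotent
  set L : ℕ → Subgroup S := fun i => gamma S i with hLdef
  haveI hLn : ∀ i, (L i).Normal := fun i => by simp only [L]; infer_instance
  have hbotL : ∀ i, n - 1 ≤ i → L i = ⊥ := fun i hi => by
    exact (Subgroup.lowerCentralSeries_eq_bot_iff_nilpotencyClass_le).2 (hmax ▸ hi)
  have hneL : ∀ i, i < n - 1 → L i ≠ ⊥ := fun i hi h => by
    have := (Subgroup.lowerCentralSeries_eq_bot_iff_nilpotencyClass_le).1 h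
    omega
  have hanti : ∀ i j, i ≤ j → L j ≤ L i := fun i j h => gamma_mono h
  have hsucc : ∀ i, L (i + 1) = ⁅L i, (⊤ : Subgroup S)⁆ := fun i => Subgroup.lowerCentralSeries_succ _ i
  have hlt : ∀ i, i < n - 1 → L (i + 1) < L i := by
    intro i hi
    refine lt_of_le_of_ne (hanti _ _ (Nat.le_succ i)) fun he => hneL i hi ?_
    have hall : ∀ j, L (i + j) = L i := by
      intro j
      induction j with
      | zero => rfl
      | succ j ih => rw [← add_assoc, hsucc, ih, ← hsucc, he]
    rw [← hall n]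
    exact hbotL _ (by omega)
  by_contra hbig
  rw [hcard, not_le, Nat.pow_lt_pow_iff_right hpp.one_lt] at hbig
  have hn3 : 3 ≤ n := by omega
  -- S/L1 is elementary of order p²
  obtain ⟨a1, ha1⟩ := hS.index (L 1)
  have ha12 : 2 ≤ a1 := by
    by_contra hlt'
    rcases a1 with _ | a1
    · rw [pow_zero, Subgroup.index_eq_one] at ha1
      exact (hlt 0 (by omega)).ne (by rw [show L (0 + 1) = L 1 from rfl, ha1]; rfl)
    · obtain rfl : a1 = 0 := by omega
      haveI : (L 2).Normal := hLn 2
      refine (hlt 1 (by omega)).not_ge ?_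
      rw [hsucc 0, Subgroup.commutator_le]
      intro u _ v _
      rw [← QuotientGroup.eq_one_iff]
      show QuotientGroup.mk' (L 2) ⁅u, v⁆ = 1
      rw [map_commutatorElement, commutatorElement_eq_one_iff_mul_comm]
      let f : S ⧸ L 2 →* S ⧸ L 1 := QuotientGroup.map (L 2) (L 1) (MonoidHom.id S) (hanti 1 2 (by omega))
      haveI : IsCyclic (S ⧸ L 1) := isCyclic_of_prime_card (p := p) (by rw [← Subgroup.index_eq_card, ha1, pow_one])
      refine commutative_of_cyclic_center_quotient f ?_ _ _
      intro w hw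
      obtain ⟨w, rfl⟩ := QuotientGroup.mk'_surjective (L 2) w
      have hw' : w ∈ L 1 := (QuotientGroup.eq_one_iff w).1 hw
      rw [Subgroup.mem_center_iff]
      intro t
      obtain ⟨t, rfl⟩ := QuotientGroup.mk'_surjective (L 2) t
      refine (commutatorElement_eq_one_iff_mul_comm.1 ?_).symm
      rw [← map_commutatorElement]
      exact (QuotientGroup.eq_one_iff _).2 (comm_mem_succ hw' t)
  -- exact orders
  have hcardL : ∀ i, 1 ≤ i → i ≤ n - 1 → Nat.card (L i) = p ^ (n - 1 - i) := by
    have hexp : ∀ i, ∃ e, Nat.card (L i) = p ^ e := fun i => IsPGroup.iff_card.1 (hS.to_subgroup _)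
    choose e he using hexp
    have hstep : ∀ i, i < n - 1 → e (i + 1) < e i := fun i hi => by
      have h1 : Nat.card (L (i + 1)) < Nat.card (L i) := lt_of_not_ge fun h =>
        (hlt i hi).ne (Subgroup.eq_of_le_of_card_ge (hlt i hi).le h)
      rw [he, he, Nat.pow_lt_pow_iff_right hpp.one_lt] at h1
      exact h1
    have he1 : e 1 ≤ n - 2 := by
      have h1 := (L 1).index_mul_card
      rw [ha1, he, hcard, ← pow_add] at h1
      have := Nat.pow_right_injective hpp.two_le h1
      omega
    have hup : ∀ i, i + 1 ≤ n - 1 → e (i + 1) + i ≤ n - 2 := by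
      intro i
      induction i with
      | zero => intro _; simpa using he1
      | succ i ih => intro hi; have := ih (by omega); have := hstep (i + 1) (by omega); omega
    have hdown : ∀ j, j ≤ n - 1 → j ≤ e (n - 1 - j) := by
      intro j
      induction j with
      | zero => intro _; exact Nat.zero_le _
      | succ j ih =>
        intro hj
        have := ih (by omega)
        have := hstep (n - 1 - (j + 1)) (by omega)
        rw [show n - 1 - (j + 1) + 1 = n - 1 - j by omega] at this
        omega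
    intro i hi hi'
    have h1 := hup (i - 1) (by omega)
    have h2 := hdown (n - 1 - i) (by omega)
    rw [show i - 1 + 1 = i by omega] at h1
    rw [show n - 1 - (n - 1 - i) = i by omega] at h2
    rw [he, show e i = n - 1 - i by omega]
  have hidx1 : (L 1).index = p ^ 2 := by
    have h1 := (L 1).index_mul_card
    rw [hcardL 1 le_rfl (by omega), hcard] at h1
    refine Nat.eq_of_mul_eq_mul_right (pow_pos hpp.pos _) (h1.trans ?_)
    rw [← pow_add]; congr 1; omega
  have hpow1 : ∀ g : S, g ^ p ∈ L 1 := by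
    intro g
    rw [← QuotientGroup.eq_one_iff, QuotientGroup.mk_pow]
    have hc : Nat.card (S ⧸ L 1) = p ^ 2 := by rw [← Subgroup.index_eq_card, hidx1]
    obtain ⟨j, hj, hjo⟩ := (Nat.dvd_prime_pow hpp).1 (hc ▸ orderOf_dvd_natCard (QuotientGroup.mk g : S ⧸ L 1))
    rcases Nat.lt_or_ge j 2 with hj2 | hj2
    · exact orderOf_dvd_iff_pow_eq_one.1 (hjo ▸ (pow_dvd_pow p (show j ≤ 1 by omega)).trans (pow_one p).dvd)
    · exfalso
      obtain rfl : j = 2 := by omega
      haveI : IsCyclic (S ⧸ L 1) := isCyclic_of_orderOf_eq_card (QuotientGroup.mk g : S ⧸ L 1) (by rw [hjo, hc])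
      haveI : (L 2).Normal := hLn 2
      refine (hlt 1 (by omega)).not_ge ?_
      rw [hsucc 0, Subgroup.commutator_le]
      intro u _ v _
      rw [← QuotientGroup.eq_one_iff]
      show QuotientGroup.mk' (L 2) ⁅u, v⁆ = 1
      rw [map_commutatorElement, commutatorElement_eq_one_iff_mul_comm]
      refine commutative_of_cyclic_center_quotient
        (QuotientGroup.map (L 2) (L 1) (MonoidHom.id S) (hanti 1 2 (by omega))) ?_ _ _
      intro w hw
      obtain ⟨w, rfl⟩ := QuotientGroup.mk'_surjective (L 2) w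
      have hw' : w ∈ L 1 := (QuotientGroup.eq_one_iff w).1 hw
      rw [Subgroup.mem_center_iff]
      intro t
      obtain ⟨t, rfl⟩ := QuotientGroup.mk'_surjective (L 2) t
      refine (commutatorElement_eq_one_iff_mul_comm.1 ?_).symm
      rw [← map_commutatorElement]
      exact (QuotientGroup.eq_one_iff _).2 (comm_mem_succ hw' t)
  -- the section that is too big
  have hsec : ∀ (H : Subgroup S) (N : Subgroup S) [N.Normal], N ≤ H → (∀ u ∈ H, ∀ v ∈ H, ⁅u, v⁆ ∈ N) →
      (∀ u ∈ H, u ^ p ∈ N) → (N.subgroupOf H).index ≤ p ^ k := by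
    intro H N _ hNH hab hexp'
    rw [Subgroup.index_eq_card, ← Subgroup.card_top]
    refine hsr.1 H (N.subgroupOf H) ⊤ ⟨⟨?_⟩⟩ ?_
    · rintro ⟨a, -⟩ ⟨b, -⟩
      apply Subtype.ext
      show a * b = b * a
      obtain ⟨a, rfl⟩ := QuotientGroup.mk'_surjective _ a
      obtain ⟨b, rfl⟩ := QuotientGroup.mk'_surjective _ b
      rw [← commutatorElement_eq_one_iff_mul_comm, ← map_commutatorElement]
      exact (QuotientGroup.eq_one_iff _).2 (hab a a.2 b b.2)
    · intro a _
      obtain ⟨a, rfl⟩ := QuotientGroup.mk'_surjective _ a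
      rw [← map_pow]
      exact (QuotientGroup.eq_one_iff _).2 (hexp' a a.2)
  rcases eq_or_lt_of_le hk with rfl | hk2
  · have := hsec ⊤ (L 1) le_top (fun u _ v _ => comm_mem_succ (i := 0) (Subgroup.mem_top u) v) (fun u _ => hpow1 u)
    rw [show ((L 1).subgroupOf ⊤).index = (L 1).index from Subgroup.relIndex_top_right _, hidx1,
      Nat.pow_le_pow_iff_right hpp.one_lt] at this
    omega
  let C : ℕ → Subgroup S := fun i =>
    (Subgroup.centralizer (((L i).map (QuotientGroup.mk' (L (i + 2)))) : Set (S ⧸ L (i + 2)))).comap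
      (QuotientGroup.mk' (L (i + 2)))
  have hCn : ∀ i ≤ k, ∀ s, s ∈ C i ↔ ∀ y ∈ L i, ⁅s, y⁆ ∈ L (i + 2) := by
    intro i _ s
    simp only [C, Subgroup.mem_comap, Subgroup.mem_centralizer_iff]
    constructor
    · intro h y hy
      rw [← QuotientGroup.eq_one_iff]
      show QuotientGroup.mk' (L (i + 2)) ⁅s, y⁆ = 1
      rw [map_commutatorElement, commutatorElement_eq_one_iff_mul_comm]
      exact (h _ (Subgroup.mem_map_of_mem _ hy)).symm
    · rintro h _ ⟨y, hy, rfl⟩
      refine (commutatorElement_eq_one_iff_mul_comm.1 ?_).symm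
      rw [← map_commutatorElement]
      exact (QuotientGroup.eq_one_iff _).2 (h y hy)
  set I := insert (k - 2) (Finset.Icc 1 k) with hI
  have hCsmall : ∀ i ∈ I, p * Nat.card (C i) ≤ Nat.card S := by
    intro i hi
    have hik : i ≤ k := by
      rw [hI, Finset.mem_insert, Finset.mem_Icc] at hi
      omega
    obtain ⟨j, hj⟩ := hS.index (C i)
    rw [← (C i).index_mul_card, hj]
    refine Nat.mul_le_mul_right _ ?_
    rcases j with _ | j
    · exfalso
      have htop : C i = ⊤ := Subgroup.index_eq_one.1 (by rw [hj, pow_zero])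
      refine (hlt (i + 1) (by omega)).not_ge ?_
      rw [hsucc i, Subgroup.commutator_le]
      intro y hy t _
      rw [← commutatorElement_inv]
      exact inv_mem ((hCn i hik t).1 (htop ▸ Subgroup.mem_top t) y hy)
    · exact Nat.le_self_pow (by omega) p
  obtain ⟨s, hs⟩ := exists_avoid I p C hCsmall (by
    have := Finset.card_insert_le (k - 2) (Finset.Icc 1 k)
    rw [Nat.card_Icc] at this
    rw [hI]; omega)
  have hsI : ∀ i, 1 ≤ i → i ≤ k → s ∉ C i := fun i h1 h2 => hs i (by rw [hI]; simp [h1, h2])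
  have hs2 : s ∉ C (k - 2) := hs _ (by rw [hI]; simp)
  rw [hCn (k - 2) (by omega), show k - 2 + 2 = k by omega] at hs2
  push Not at hs2
  obtain ⟨y, hy, hsy⟩ := hs2
  -- s^p is deep
  have hgen : ∀ i, 1 ≤ i → i < n - 1 → ∀ z ∈ L i, z ∉ L (i + 1) → L i ≤ L (i + 1) ⊔ Subgroup.zpowers z := by
    intro i h1 h2 z hz hz'
    set W := L (i + 1) ⊔ Subgroup.zpowers z with hW
    have hWle : W ≤ L i := sup_le (hanti _ _ (Nat.le_succ i)) (Subgroup.zpowers_le.2 hz)
    refine (Subgroup.eq_of_le_of_card_ge hWle ?_).ge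
    obtain ⟨e, he⟩ := IsPGroup.iff_card.1 (hS.to_subgroup W)
    have hlt' : Nat.card (L (i + 1)) < Nat.card W := lt_of_not_ge fun h =>
      hz' ((Subgroup.eq_of_le_of_card_ge le_sup_left h).ge (Subgroup.mem_sup_right (Subgroup.mem_zpowers z)))
    rw [hcardL (i + 1) (by omega) (by omega), he, Nat.pow_lt_pow_iff_right hpp.one_lt] at hlt'
    rw [hcardL i h1 (by omega), he]
    exact Nat.pow_le_pow_right hpp.pos (by omega)
  have hzdeep : ∀ j, j ≤ k → s ^ p ∈ L (j + 1) := by
    intro j
    induction j with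
    | zero => intro _; exact hpow1 s
    | succ j ih =>
      intro hj
      by_contra hnot
      refine hsI (j + 1) (by omega) hj ((hCn (j + 1) hj s).2 fun u hu => ?_)
      let U : Subgroup S := (Subgroup.centralizer {QuotientGroup.mk' (L (j + 1 + 2)) s}).comap (QuotientGroup.mk' (L (j + 1 + 2)))
      have hU : ∀ w, w ∈ U → ⁅s, w⁆ ∈ L (j + 1 + 2) := by
        intro w hw
        rw [← QuotientGroup.eq_one_iff]
        show QuotientGroup.mk' (L (j + 1 + 2)) ⁅s, w⁆ = 1
        rw [map_commutatorElement, commutatorElement_eq_one_iff_mul_comm]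
        exact (Subgroup.mem_centralizer_singleton_iff.1 hw).symm
      refine hU u ((hgen (j + 1) (by omega) (by omega) _ (ih (by omega)) hnot).trans (sup_le ?_ ?_) hu)
      · intro w hw
        refine Subgroup.mem_comap.2 ?_
        rw [Subgroup.mem_centralizer_singleton_iff, ← commutatorElement_eq_one_iff_mul_comm, ← map_commutatorElement]
        exact (QuotientGroup.eq_one_iff _).2 (comm_mem_succ hw s)
      · rw [Subgroup.zpowers_le]
        refine Subgroup.mem_comap.2 ?_
        rw [Subgroup.mem_centralizer_singleton_iff, map_pow, ← pow_succ, ← pow_succ']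
  -- the quotient
  set M := L (2 * k) with hM
  let q : S →* S ⧸ M := QuotientGroup.mk' M
  have hq1 : ∀ {u : S}, u ∈ M → q u = 1 := fun h => (QuotientGroup.eq_one_iff _).2 h
  set x := ⁅y, s⁆ with hx
  have hxL : x ∈ L (k - 1) := by
    have := comm_mem_succ hy s
    rwa [show k - 2 + 1 = k - 1 by omega] at this
  have hxnot : x ∉ L k := fun h => hsy (by rw [← commutatorElement_inv]; exact inv_mem h)
  have hxgen : L (k - 1) ≤ L k ⊔ Subgroup.zpowers x := by
    have := hgen (k - 1) (by omega) (by omega) x hxL (by rwa [show k - 1 + 1 = k by omega])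
    rwa [show k - 1 + 1 = k by omega] at this
  let A : ℕ → Subgroup (S ⧸ M) := fun j => (L (k - 1 + j)).map q
  haveI : ∀ j, (A j).Normal := fun j => (hLn _).map q (QuotientGroup.mk'_surjective M)
  haveI hA0 : IsMulCommutative (A 0) := by
    refine ⟨⟨?_⟩⟩
    have hcomm : ∀ u ∈ L (k - 1), ∀ v ∈ L k, q u * q v = q v * q u := fun u hu v hv => by
      rw [← commutatorElement_eq_one_iff_mul_comm, ← map_commutatorElement]
      exact hq1 (gamma_mono (by omega) (comm_mem hu hv))
    have hcx : L (k - 1) ≤ (Subgroup.centralizer {q x}).comap q := hxgen.trans (sup_le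
      (fun v hv => Subgroup.mem_centralizer_singleton_iff.2 (hcomm x hxL v hv).symm)
      (Subgroup.zpowers_le.2 (Subgroup.mem_centralizer_singleton_iff.2 rfl)))
    rintro ⟨_, u, hu, rfl⟩ ⟨_, v, hv, rfl⟩
    apply Subtype.ext
    show q u * q v = q v * q u
    have : L (k - 1) ≤ (Subgroup.centralizer {q u}).comap q := hxgen.trans (sup_le
      (fun w hw => Subgroup.mem_centralizer_singleton_iff.2 (hcomm u hu w hw).symm)
      (Subgroup.zpowers_le.2 (Subgroup.mem_centralizer_singleton_iff.2 (Subgroup.mem_centralizer_singleton_iff.1 (hcx hu)).symm)))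
    exact (Subgroup.mem_centralizer_singleton_iff.1 (this hv)).symm
  have hxp : q x ^ p = 1 := by
    refine pow_eq_one_of_shift p A (q s) (k + 1) (by omega) ?_ ?_ ?_ (q x) ⟨x, hxL, rfl⟩ ?_
    · show (L (k - 1 + (k + 1))).map q = ⊥
      rw [Subgroup.map_eq_bot_iff, QuotientGroup.ker_mk', show k - 1 + (k + 1) = 2 * k by omega]
    · exact fun j => Subgroup.map_mono (hanti _ _ (by omega))
    · rintro j _ ⟨u, hu, rfl⟩
      refine ⟨⁅s, u⁆, ?_, map_commutatorElement q s u⟩
      rw [← commutatorElement_inv]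
      exact inv_mem (show ⁅u, s⁆ ∈ L (k - 1 + (j + 1)) from comm_mem_succ hu s)
    · have e : x * s = y * s * y⁻¹ := by rw [hx, commutatorElement_def]; group
      rw [← map_mul, ← map_pow, ← map_pow, e, conj_pow]
      have hd : ⁅y, s ^ p⁆ ∈ M := gamma_mono (by omega) (comm_mem hy (hzdeep k le_rfl))
      calc q (y * s ^ p * y⁻¹) = q (⁅y, s ^ p⁆ * s ^ p) := by rw [commutatorElement_def]; group
        _ = q (s ^ p) := by rw [map_mul, hq1 hd, one_mul]
  -- the whole section has exponent p
  let K0 : Subgroup (A 0) :=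
    { carrier := {a | a ^ p = 1}
      one_mem' := one_pow p
      mul_mem' := fun {a b} (ha : a ^ p = 1) (hb : b ^ p = 1) => by
        show (a * b) ^ p = 1
        rw [(Commute.mul_pow (IsMulCommutative.is_comm.comm a b : Commute a b)), ha, hb, one_mul]
      inv_mem' := fun {a} (ha : a ^ p = 1) => by show a⁻¹ ^ p = 1; rw [inv_pow, ha, inv_one] }
  let N0 : Subgroup S := (K0.map (A 0).subtype).comap q
  haveI hN0 : N0.Normal := by
    haveI : (K0.map (A 0).subtype).Normal := ⟨by
      rintro _ ⟨a, ha, rfl⟩ g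
      refine ⟨MulAut.conjNormal g a, ?_, MulAut.conjNormal_apply g a⟩
      show MulAut.conjNormal g a ^ p = 1
      rw [← map_pow, show a ^ p = 1 from ha, map_one]⟩
    infer_instance
  have hxN : x ∈ N0 := ⟨⟨q x, x, hxL, rfl⟩, Subtype.ext hxp, rfl⟩
  have hMN : M ≤ N0 := fun u hu => by
    refine Subgroup.mem_comap.2 ?_
    rw [hq1 hu]; exact one_mem _
  have hall : ∀ j, L (k - 1) ≤ N0 ⊔ L (k - 1 + j) := by
    intro j
    induction j with
    | zero => exact le_sup_right
    | succ j ih =>
      refine hxgen.trans (sup_le ?_ (Subgroup.zpowers_le.2 (Subgroup.mem_sup_left hxN)))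
      rw [show k = (k - 1) + 1 by omega, hsucc, Subgroup.commutator_le]
      intro u hu g _
      simp only [Nat.add_sub_cancel] at *
      set M' := N0 ⊔ L (k - 1 + (j + 1)) with hM'
      rw [← QuotientGroup.eq_one_iff]
      show QuotientGroup.mk' M' ⁅u, g⁆ = 1
      rw [map_commutatorElement, commutatorElement_eq_one_iff_mul_comm]
      have hcen : L (k - 1) ≤ (Subgroup.center (S ⧸ M')).comap (QuotientGroup.mk' M') := ih.trans (sup_le
        (fun w hw => by
          refine Subgroup.mem_comap.2 ?_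
          rw [show QuotientGroup.mk' M' w = 1 from (QuotientGroup.eq_one_iff w).2 (Subgroup.mem_sup_left hw)]
          exact one_mem _)
        (fun w hw => Subgroup.mem_center_iff.2 fun t => by
          obtain ⟨t, rfl⟩ := QuotientGroup.mk'_surjective M' t
          refine (commutatorElement_eq_one_iff_mul_comm.1 ?_).symm
          rw [← map_commutatorElement]
          exact (QuotientGroup.eq_one_iff _).2 (Subgroup.mem_sup_right (comm_mem_succ hw t))))
      exact (Subgroup.mem_center_iff.1 (hcen hu) _).symm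
  have hA0N : L (k - 1) ≤ N0 := (hall (k + 1)).trans (sup_le le_rfl (by
    rw [show k - 1 + (k + 1) = 2 * k by omega]; exact hMN))
  have hbound := hsec (L (k - 1)) M (hanti _ _ (by omega))
    (fun u hu v hv => by
      rw [← QuotientGroup.eq_one_iff]
      show q ⁅u, v⁆ = 1
      rw [map_commutatorElement, commutatorElement_eq_one_iff_mul_comm]
      exact congrArg Subtype.val (hA0.is_comm.comm (⟨q u, u, hu, rfl⟩ : A 0) ⟨q v, v, hv, rfl⟩))
    (fun u hu => by
      obtain ⟨a, ha, hau⟩ := hA0N hu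
      rw [← QuotientGroup.eq_one_iff]
      show q (u ^ p) = 1
      rw [map_pow, ← show ((a : A 0) : S ⧸ M) = q u from hau]
      exact congrArg Subtype.val (show a ^ p = 1 from ha))
  have hmul := (M.subgroupOf (L (k - 1))).index_mul_card
  rw [Nat.card_congr (Subgroup.subgroupOfEquivOfLe (hanti _ _ (by omega))).toEquiv, hM,
    hcardL (2 * k) (by omega) (by omega), hcardL (k - 1) (by omega) (by omega)] at hmul
  have h2 := Nat.mul_le_mul_right (p ^ (n - 1 - 2 * k)) hbound
  rw [hmul, ← pow_add, Nat.pow_le_pow_iff_right hpp.one_lt] at h2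
  omega

end Cfsg.Agent.S3806
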