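import Cfsg.Statements.S4003
import Cfsg.Agent.Lib.RankOne.HalfTransitive
import Cfsg.Agent.Lib.Transfer.OmegaCentralizer
import Cfsg.Agent.Lib.Transfer.PGroupNormal

set_option autoImplicit false
open Cfsg
open scoped Pointwise commutatorElement

namespace Cfsg.Agent.S4003
set_option maxHeartbeats 1000000

/-- Elements of order `n` against cyclic subgroups of order `n`. -/
theorem card_order_eq {G : Type*} [Group G] [Finite G] (n : ℕ) (Q : Subgroup G → Prop) :
    Nat.card {g : G // orderOf g = n ∧ Q (Subgroup.zpowers g)} =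
      n.totient * Nat.card {C : Subgroup G // (IsCyclic C ∧ Nat.card C = n) ∧ Q C} := by
  classical
  have := Fintype.ofFinite G
  let T := {C : Subgroup G // (IsCyclic C ∧ Nat.card C = n) ∧ Q C}
  have := Fintype.ofFinite T
  let f : {g : G // orderOf g = n ∧ Q (Subgroup.zpowers g)} → T := fun g =>
    ⟨Subgroup.zpowers g.1, ⟨inferInstance, (Nat.card_zpowers g.1).trans g.2.1⟩, g.2.2⟩
  have hfib : ∀ C : T, Nat.card {g // f g = C} = n.totient := by
    intro C
    have hc := C.2.1
    have := hc.1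
    have key := IsCyclic.card_orderOf_eq_totient (α := C.1) (d := n)
      (by rw [← Nat.card_eq_fintype_card, hc.2])
    have hgen : ∀ c : C.1, orderOf c = n → Subgroup.zpowers (c : G) = C.1 := by
      intro c hcn
      exact Subgroup.eq_of_le_of_card_ge (Subgroup.zpowers_le.2 c.2)
        (by rw [Nat.card_zpowers, Subgroup.orderOf_coe, hcn, hc.2])
    rw [← key, ← Fintype.card_subtype, ← Nat.card_eq_fintype_card]
    refine Nat.card_congr
      { toFun := fun g => ⟨⟨g.1.1, ?_⟩, ?_⟩
        invFun := fun c => ⟨⟨c.1.1, ?_, ?_⟩, ?_⟩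
        left_inv := fun g => rfl
        right_inv := fun c => rfl }
    · have h := congrArg Subtype.val g.2
      exact h ▸ Subgroup.mem_zpowers g.1.1
    · rw [← Subgroup.orderOf_coe]; exact g.1.2.1
    · rw [Subgroup.orderOf_coe]; exact c.2
    · rw [hgen c.1 c.2]; exact C.2.2
    · exact Subtype.ext (hgen c.1 c.2)
  rw [← Nat.card_congr (Equiv.sigmaFiberEquiv f), Nat.card_sigma]
  simp only [hfib, Finset.sum_const, Finset.card_univ, smul_eq_mul, mul_comm,
    Nat.card_eq_fintype_card, T]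

/-- A set partitioned into blocks of equal size. -/
theorem dvd_card_of_blocks {α β : Type*} [Finite α] (f : α → β) (k : ℕ)
    (h : ∀ a, Nat.card {a' // f a' = f a} = k) : k ∣ Nat.card α := by
  classical
  have := Fintype.ofFinite (Set.range f)
  rw [← Nat.card_congr (Equiv.sigmaFiberEquiv (Set.rangeFactorization f)), Nat.card_sigma]
  refine Finset.dvd_sum fun b _ => ?_
  obtain ⟨a, ha⟩ := b.2
  rw [← h a]
  refine (Nat.card_congr (Equiv.subtypeEquivRight fun a' => ?_)).symm.dvd
  constructor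
  · intro h'; exact (congrArg Subtype.val h').trans ha.symm
  · intro h'; exact Subtype.ext (h'.trans ha)

theorem conj_iterate {G : Type*} [Group G] {q x : G} {k : ℕ} (h : q * x * q⁻¹ = x ^ k) (j : ℕ) :
    q ^ j * x * (q ^ j)⁻¹ = x ^ k ^ j := by
  induction j with
  | zero => simp
  | succ j ih =>
    calc q ^ (j + 1) * x * (q ^ (j + 1))⁻¹ = q * (q ^ j * x * (q ^ j)⁻¹) * q⁻¹ := by
          rw [pow_succ']; group
      _ = (q * x * q⁻¹) ^ k ^ j := by rw [ih, conj_pow]
      _ = _ := by rw [h, ← pow_mul, pow_succ', mul_comm]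

/-- In a noncyclic group of odd prime power order, `p ^ s` divides the number of elements of
order `p ^ s` generating normal subgroups. -/
theorem pow_dvd_normal_cyclic {P : Type*} [Group P] [Finite P] {p : ℕ} [Fact p.Prime]
    (hodd : p ≠ 2) (hP : IsPGroup p P) (hnc : ¬ IsCyclic P) (s : ℕ) (hs : 1 < s) :
    p ^ s ∣ Nat.card {u : P // orderOf u = p ^ s ∧ (Subgroup.zpowers u).Normal} := by
  classical
  have hp := (Fact.out : p.Prime)
  obtain ⟨E, hEn, hEab, hEexp, hEcard⟩ :=
    Cfsg.Agent.HalfTrans.exists_normal_rank_two hodd hP hnc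
  obtain ⟨s', rfl⟩ : ∃ t, s = t + 2 := ⟨s - 2, by omega⟩
  let z : P → P := fun u => u ^ p ^ (s' + 1)
  let Cnd : P → Prop := fun u => orderOf u = p ^ (s' + 2) ∧ (Subgroup.zpowers u).Normal
  -- facts on a normal cyclic subgroup
  have hconj : ∀ u, Cnd u → ∀ g : P, ∃ v ∈ Subgroup.zpowers (u ^ p), g * u * g⁻¹ = u * v := by
    intro u hu g
    have hm : g * u * g⁻¹ ∈ Subgroup.zpowers u := hu.2.conj_mem u (Subgroup.mem_zpowers u) g
    obtain ⟨k, hk⟩ := mem_powers_iff_mem_zpowers.2 hm
    simp only at hk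
    obtain ⟨e, he⟩ := hP g
    have h1 := conj_iterate hk.symm (p ^ e)
    rw [he, one_mul, inv_one, mul_one] at h1
    have h2 : u ^ 1 = u ^ k ^ p ^ e := by rw [pow_one]; exact h1
    rw [pow_eq_pow_iff_modEq, hu.1] at h2
    have h3 : (1 : ZMod p) = (k : ZMod p) ^ p ^ e := by
      have := (ZMod.natCast_eq_natCast_iff _ _ _).2
        (h2.of_dvd (dvd_pow_self p (by omega : s' + 2 ≠ 0)))
      simpa using this
    rw [ZMod.pow_card_pow] at h3
    have h4 : (p : ℤ) ∣ (k : ℤ) - 1 := by
      rw [← ZMod.intCast_zmod_eq_zero_iff_dvd]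
      push_cast
      rw [← h3, sub_self]
    obtain ⟨d, hd⟩ := h4
    refine ⟨(u ^ p) ^ d, ⟨d, rfl⟩, ?_⟩
    rw [← hk, ← zpow_natCast u p, ← zpow_mul, ← zpow_one_add, ← hd, ← zpow_natCast]
    congr 1
    ring
  have hz : ∀ u, Cnd u → ∀ g : P, g * z u * g⁻¹ = z u := by
    intro u hu g
    obtain ⟨v, hv, h⟩ := hconj u hu g
    obtain ⟨d, rfl⟩ := Subgroup.mem_zpowers_iff.1 hv
    show g * u ^ p ^ (s' + 1) * g⁻¹ = u ^ p ^ (s' + 1)
    rw [← conj_pow, h, Commute.mul_pow ((Commute.refl u).pow_right p |>.zpow_right d)]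
    have : ((u ^ p) ^ d) ^ p ^ (s' + 1) = 1 := by
      rw [← zpow_natCast ((u ^ p) ^ d), ← zpow_mul, mul_comm, zpow_mul, zpow_natCast, ← pow_mul,
        ← pow_succ', ← hu.1, pow_orderOf_eq_one, one_zpow]
    rw [this, mul_one]
  have hz1 : ∀ u, Cnd u → z u ≠ 1 := fun u hu => by
    refine pow_ne_one_of_lt_orderOf (pow_ne_zero _ hp.ne_zero) ?_
    rw [hu.1]
    exact Nat.pow_lt_pow_right hp.one_lt (by omega)
  have hsmall : ∀ u, Cnd u → ∀ w ∈ Subgroup.zpowers u, w ^ p = 1 →
      w ∈ Subgroup.zpowers (z u) := by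
    intro u hu w hw hwp
    obtain ⟨k, rfl⟩ := mem_powers_iff_mem_zpowers.2 hw
    simp only at hwp ⊢
    rw [← pow_mul, ← orderOf_dvd_iff_pow_eq_one, hu.1, pow_succ p (s' + 1)] at hwp
    obtain ⟨c, rfl⟩ := Nat.dvd_of_mul_dvd_mul_right hp.pos hwp
    rw [pow_mul]
    exact Subgroup.pow_mem _ (Subgroup.mem_zpowers _) c
  -- the element to multiply with
  have hEne : E ≠ ⊥ := by
    intro h
    rw [h, Subgroup.card_bot] at hEcard
    have := Nat.one_lt_pow (two_ne_zero) hp.one_lt
    omega
  obtain ⟨⟨z₀, hz₀⟩, hz₀1'⟩ := (Subgroup.ne_bot_iff_exists_ne_one).1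
    (Lib.Transfer.inf_center_ne_bot hP E hEne)
  have hz₀1 : z₀ ≠ 1 := fun h => hz₀1' (Subtype.ext h)
  obtain ⟨e₀, he₀, he₀z⟩ : ∃ e ∈ E, e ∉ Subgroup.zpowers z₀ := by
    by_contra! h
    have h1 := Subgroup.card_le_of_le (show E ≤ Subgroup.zpowers z₀ from h)
    rw [Nat.card_zpowers, orderOf_eq_prime (hEexp _ hz₀.1) hz₀1, hEcard] at h1
    nlinarith [hp.two_le]
  let ε : P → P := fun u => if z u ∈ Subgroup.zpowers z₀ then e₀ else z₀
  have hεE : ∀ u, ε u ∈ E := fun u => by
    show (if _ then e₀ else z₀) ∈ E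
    split_ifs <;> [exact he₀; exact hz₀.1]
  have hεnot : ∀ u, Cnd u → ε u ∉ Subgroup.zpowers u := by
    intro u hu h
    have h1 := hsmall u hu _ h (hEexp _ (hεE u))
    by_cases hzz : z u ∈ Subgroup.zpowers z₀
    · simp only [ε, if_pos hzz] at h1
      exact he₀z ((Subgroup.zpowers_le.2 hzz) h1)
    · simp only [ε, if_neg hzz] at h1
      apply hzz
      have hord : orderOf z₀ = p := orderOf_eq_prime (hEexp _ hz₀.1) hz₀1
      have hzu : orderOf (z u) = p := orderOf_eq_prime (by
        show (u ^ p ^ (s' + 1)) ^ p = 1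
        rw [← pow_mul, ← pow_succ, ← hu.1, pow_orderOf_eq_one]) (hz1 u hu)
      have := Subgroup.eq_of_le_of_card_ge (Subgroup.zpowers_le.2 h1)
        (by rw [Nat.card_zpowers, Nat.card_zpowers, hord, hzu])
      rw [this]; exact Subgroup.mem_zpowers _
  -- conjugation moves `ε u` inside `⟨z u⟩`
  have hεconj : ∀ u, Cnd u → ∀ g : P, ∃ c ∈ Subgroup.zpowers (z u),
      g * ε u * g⁻¹ = c * ε u := by
    intro u hu g
    by_cases hzz : z u ∈ Subgroup.zpowers z₀
    · refine ⟨g * ε u * g⁻¹ * (ε u)⁻¹, ?_, by group⟩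
      have hsub : Subgroup.zpowers (z u) = Subgroup.zpowers z₀ := by
        refine Subgroup.eq_of_le_of_card_ge (Subgroup.zpowers_le.2 hzz) ?_
        rw [Nat.card_zpowers, Nat.card_zpowers, orderOf_eq_prime (hEexp _ hz₀.1) hz₀1]
        exact Nat.le_of_dvd (orderOf_pos _) (dvd_of_eq (orderOf_eq_prime (by
          show (u ^ p ^ (s' + 1)) ^ p = 1
          rw [← pow_mul, ← pow_succ, ← hu.1, pow_orderOf_eq_one]) (hz1 u hu)).symm)
      rw [hsub]
      -- `⟨z₀⟩` has index `p` in `E`, so the conjugation action on the quotient is trivial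
      let Z := Subgroup.zpowers z₀
      have hZc : Z ≤ Subgroup.center P := Subgroup.zpowers_le.2 hz₀.2
      have hZn : Z.Normal := ⟨fun n hn x => by
        rw [Subgroup.mem_center_iff.1 (hZc hn) x, mul_inv_cancel_right]; exact hn⟩
      let π := QuotientGroup.mk' Z
      have hEmn : (E.map π).Normal := hEn.map π (QuotientGroup.mk'_surjective Z)
      have hEmne : E.map π ≠ ⊥ := by
        rw [Ne, Subgroup.map_eq_bot_iff, QuotientGroup.ker_mk']
        exact fun h => he₀z (h he₀)
      have hm : E.map π ≤ Subgroup.center (P ⧸ Z) := by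
        have h1 := Lib.Transfer.inf_center_ne_bot (hP.to_quotient Z) (E.map π) hEmne
        have hcard : Nat.card (E.map π) = p := by
          have h2 : Z.relIndex E * Nat.card Z = Nat.card E := by
            rw [← Subgroup.relIndex_bot_left, ← Subgroup.relIndex_bot_left, mul_comm]
            exact Subgroup.relIndex_mul_relIndex _ _ _ bot_le (Subgroup.zpowers_le.2 hz₀.1)
          rw [Nat.card_zpowers, orderOf_eq_prime (hEexp _ hz₀.1) hz₀1, hEcard, sq] at h2
          rw [← Subgroup.relIndex_ker, QuotientGroup.ker_mk']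
          exact Nat.eq_of_mul_eq_mul_right hp.pos h2
        refine le_trans (le_of_eq ?_) (inf_le_right (a := E.map π))
        refine (Subgroup.eq_of_le_of_card_ge inf_le_left ?_).symm
        rw [hcard]
        obtain ⟨j, hj⟩ := IsPGroup.iff_card.1 ((hP.to_quotient Z).to_subgroup
          (E.map π ⊓ Subgroup.center _))
        rw [hj]
        refine Nat.le_self_pow ?_ p
        rintro rfl
        rw [pow_zero] at hj
        exact h1 (Subgroup.card_eq_one.1 hj)
      have hc := Subgroup.mem_center_iff.1 (hm ⟨ε u, hεE u, rfl⟩) (π g)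
      show _ ∈ Z
      rw [← QuotientGroup.eq_one_iff]
      show π (g * ε u * g⁻¹ * (ε u)⁻¹) = 1
      simp only [map_mul, map_inv, hc, mul_inv_cancel_right, mul_inv_cancel]
    · refine ⟨1, one_mem _, ?_⟩
      rw [one_mul]
      have : ε u = z₀ := by simp only [ε, if_neg hzz]
      rw [this, Subgroup.mem_center_iff.1 hz₀.2 g, mul_inv_cancel_right]
  -- the blocks
  let W : P → Subgroup P := fun u => Subgroup.zpowers u ⊔ Subgroup.zpowers (ε u)
  have hmem : ∀ u, Cnd u → ∀ (i j : ℕ), i.Coprime (p ^ (s' + 2)) →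
      Cnd (u ^ i * ε u ^ j) ∧ z (u ^ i * ε u ^ j) ∈ Subgroup.zpowers (z u) ∧
        (u ^ i * ε u ^ j) ^ p = u ^ (i * p) := by
    intro u hu i j hi
    set e := ε u with he
    have hep : e ^ p = 1 := hEexp _ (hεE u)
    have hzc : ∀ c ∈ Subgroup.zpowers (z u), ∀ g : P, Commute c g := by
      intro c hc g
      obtain ⟨k, rfl⟩ := Subgroup.mem_zpowers_iff.1 hc
      refine Commute.zpow_left ?_ k
      have h := hz u hu g
      calc z u * g = g * z u * g⁻¹ * g := by rw [h]
        _ = g * z u := by group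
    have hzp : ∀ c ∈ Subgroup.zpowers (z u), c ^ p = 1 := by
      intro c hc
      obtain ⟨k, rfl⟩ := Subgroup.mem_zpowers_iff.1 hc
      have : z u ^ p = 1 := by
        show (u ^ p ^ (s' + 1)) ^ p = 1
        rw [← pow_mul, ← pow_succ, ← hu.1, pow_orderOf_eq_one]
      rw [← zpow_natCast, ← zpow_mul, mul_comm, zpow_mul, zpow_natCast, this, one_zpow]
    obtain ⟨c, hc, hcu⟩ := hεconj u hu (u ^ i)
    -- commutator of the two factors
    have hcomm : ∃ c' ∈ Subgroup.zpowers (z u), e ^ j * u ^ i = u ^ i * e ^ j * c' := by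
      refine ⟨(c ^ j)⁻¹, inv_mem (pow_mem hc j), ?_⟩
      have h1 : u ^ i * e ^ j * (u ^ i)⁻¹ = c ^ j * e ^ j := by
        rw [← conj_pow, hcu, (hzc c hc e).mul_pow]
      calc e ^ j * u ^ i = (c ^ j)⁻¹ * (c ^ j * e ^ j) * u ^ i := by group
        _ = (c ^ j)⁻¹ * (u ^ i * e ^ j) := by rw [← h1]; group
        _ = _ := (hzc _ (inv_mem (pow_mem hc j)) _).eq
    obtain ⟨c', hc', hcc⟩ := hcomm
    have hpw : (u ^ i * e ^ j) ^ p = u ^ (i * p) := by
      rw [Lib.Transfer.mul_pow_class_two hcc (hzc _ hc' _) (hzc _ hc' _) p, ← pow_mul, ← pow_mul,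
        mul_comm j p, pow_mul e, hep, one_pow, mul_one]
      obtain ⟨t, ht⟩ := hp.dvd_choose_self (k := 2) two_ne_zero
        (lt_of_le_of_ne hp.two_le (Ne.symm hodd))
      rw [ht, pow_mul c', hzp c' hc', one_pow, mul_one]
    have hord : orderOf (u ^ i * e ^ j) = p ^ (s' + 2) := by
      refine orderOf_eq_prime_pow (n := s' + 1) ?_ ?_
      · rw [pow_succ' p s', pow_mul, hpw, ← pow_mul, mul_assoc, ← pow_succ',
          ← orderOf_dvd_iff_pow_eq_one, hu.1]
        intro h
        rw [pow_succ' p (s' + 1)] at h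
        have := Nat.dvd_of_mul_dvd_mul_right (pow_pos hp.pos (s' + 1)) h
        exact (hp.coprime_iff_not_dvd.1
          ((Nat.coprime_pow_right_iff (by omega) i p).1 hi).symm) this
      · rw [pow_succ' p (s' + 1), pow_mul, hpw, ← pow_mul, mul_assoc, ← pow_succ', mul_comm,
          pow_mul, ← hu.1, pow_orderOf_eq_one, one_pow]
    refine ⟨⟨hord, ⟨fun w hw g => ?_⟩⟩, ?_, hpw⟩
    · obtain ⟨k, rfl⟩ := Subgroup.mem_zpowers_iff.1 hw
      rw [← conj_zpow]
      refine Subgroup.zpow_mem _ ?_ k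
      -- the `p`-th power generates `⟨u ^ p⟩`
      have hup : Subgroup.zpowers (u ^ p) ≤ Subgroup.zpowers (u ^ i * e ^ j) := by
        have h1 : Subgroup.zpowers (u ^ (i * p)) = Subgroup.zpowers (u ^ p) := by
          refine Subgroup.eq_of_le_of_card_ge (Subgroup.zpowers_le.2 (by
            rw [mul_comm, pow_mul]; exact pow_mem (Subgroup.mem_zpowers _) i)) ?_
          rw [Nat.card_zpowers, Nat.card_zpowers, orderOf_pow, orderOf_pow, hu.1,
            Nat.Coprime.gcd_mul_left_cancel_right p hi]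
        rw [← h1, ← hpw]
        exact Subgroup.zpowers_le.2 (Subgroup.pow_mem _ (Subgroup.mem_zpowers _) p)
      obtain ⟨v, hv, hgu⟩ := hconj u hu g
      obtain ⟨d, hd, hge⟩ := hεconj u hu g
      have hzup : Subgroup.zpowers (z u) ≤ Subgroup.zpowers (u ^ p) := by
        refine Subgroup.zpowers_le.2 ⟨((p ^ s' : ℕ) : ℤ), ?_⟩
        show (u ^ p) ^ ((p ^ s' : ℕ) : ℤ) = u ^ p ^ (s' + 1)
        rw [zpow_natCast, ← pow_mul, ← pow_succ']
      have hvu : Commute u v := by
        obtain ⟨k, rfl⟩ := Subgroup.mem_zpowers_iff.1 hv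
        exact ((Commute.refl u).pow_right p).zpow_right k
      have hve : Commute v (e ^ j) := by
        obtain ⟨k, rfl⟩ := Subgroup.mem_zpowers_iff.1 hv
        refine Commute.zpow_left ?_ k
        refine Commute.pow_right ?_ j
        obtain ⟨c₁, hc₁, h⟩ := hεconj u hu u
        rw [← he] at h
        have h2 : e * u = u * e * c₁⁻¹ := by
          calc e * u = c₁⁻¹ * (c₁ * e) * u := by group
            _ = c₁⁻¹ * (u * e) := by rw [← h]; group
            _ = _ := (hzc _ (inv_mem hc₁) _).eq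
        have h3 : e * u ^ p = u ^ p * e := by
          have h4 : ∀ n : ℕ, e * u ^ n = u ^ n * e * (c₁⁻¹) ^ n := by
            intro n
            induction n with
            | zero => simp
            | succ n ih =>
              calc e * u ^ (n + 1) = e * u ^ n * u := by rw [pow_succ]; group
                _ = u ^ n * e * (u * c₁⁻¹ ^ n) := by
                    rw [ih, mul_assoc, (hzc _ (pow_mem (inv_mem hc₁) n) u).eq]
                _ = u ^ n * (u * e * c₁⁻¹) * c₁⁻¹ ^ n := by rw [← h2]; group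
                _ = _ := by rw [pow_succ, pow_succ']; group
          rw [h4 p, hzp _ (inv_mem hc₁), mul_one]
        exact h3.symm
      have e1 : g * (u ^ i * e ^ j) * g⁻¹ = u ^ i * e ^ j * (v ^ i * d ^ j) := by
        have a1 : g * u ^ i * g⁻¹ = u ^ i * v ^ i := by rw [← conj_pow, hgu, hvu.mul_pow]
        have a2 : g * e ^ j * g⁻¹ = d ^ j * e ^ j := by
          rw [← conj_pow, hge, (hzc d hd e).mul_pow]
        calc g * (u ^ i * e ^ j) * g⁻¹ = (g * u ^ i * g⁻¹) * (g * e ^ j * g⁻¹) := by group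
          _ = u ^ i * (v ^ i * (d ^ j * e ^ j)) := by rw [a1, a2]; group
          _ = u ^ i * ((v ^ i * e ^ j) * d ^ j) := by rw [(hzc _ (pow_mem hd j) _).eq]; group
          _ = _ := by rw [(hve.pow_left i).eq]; group
      rw [e1]
      exact mul_mem (Subgroup.mem_zpowers _) (mul_mem (pow_mem (hup hv) i) (pow_mem (hup (hzup hd)) j))
    · show (u ^ i * e ^ j) ^ p ^ (s' + 1) ∈ _
      rw [pow_succ', pow_mul, hpw, ← pow_mul, mul_assoc, ← pow_succ', mul_comm, pow_mul]
      exact Subgroup.pow_mem _ (Subgroup.mem_zpowers _) i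
  have hεsame : ∀ u v, Cnd u → Cnd v → z v ∈ Subgroup.zpowers (z u) → ε v = ε u := by
    intro u v hu hv hvu
    have hop : ∀ w, Cnd w → orderOf (z w) = p := fun w hw => orderOf_eq_prime (by
      show (w ^ p ^ (s' + 1)) ^ p = 1
      rw [← pow_mul, ← pow_succ, ← hw.1, pow_orderOf_eq_one]) (hz1 w hw)
    have h := Subgroup.eq_of_le_of_card_ge (Subgroup.zpowers_le.2 hvu)
      (by rw [Nat.card_zpowers, Nat.card_zpowers, hop u hu, hop v hv])
    simp only [ε, ← Subgroup.zpowers_le, h]
  -- normal forms in the block of `u`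
  have hform : ∀ u, Cnd u → ∀ v, Cnd v → v ∈ W u → ∃ i < p ^ (s' + 2), ∃ j < p,
      i.Coprime (p ^ (s' + 2)) ∧ v = u ^ i * ε u ^ j := by
    intro u hu v hv hvW
    have hn := hu.2
    obtain ⟨a, ha, b, hb, rfl⟩ := Subgroup.mem_sup_of_normal_left.1 hvW
    obtain ⟨i, rfl⟩ := mem_powers_iff_mem_zpowers.2 ha
    obtain ⟨j, rfl⟩ := mem_powers_iff_mem_zpowers.2 hb
    simp only at hv ⊢
    have hejp : orderOf (ε u) = p := orderOf_eq_prime (hEexp _ (hεE u))
      (fun h => hεnot u hu (h ▸ one_mem _))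
    refine ⟨i % p ^ (s' + 2), Nat.mod_lt _ (pow_pos hp.pos _), j % p, Nat.mod_lt _ hp.pos, ?_, ?_⟩
    · have hi : ¬ p ∣ i := by
        rintro ⟨t, rfl⟩
        -- then `v ^ p ^ (s'+1) = 1`
        obtain ⟨c, hc, hcu⟩ := hεconj u hu (u ^ (p * t))
        have h1 : Commute (u ^ (p * t)) (ε u ^ j) := by
          obtain ⟨c₁, hc₁, h⟩ := hεconj u hu u
          have hz' : ∀ g, Commute (z u) g := fun g => by
            calc z u * g = g * z u * g⁻¹ * g := by rw [hz u hu g]
              _ = g * z u := by group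
          obtain ⟨k, rfl⟩ := Subgroup.mem_zpowers_iff.1 hc₁
          have hkc : ∀ g, Commute (z u ^ k) g := fun g => (hz' g).zpow_left k
          have h4 : ∀ n : ℕ, u ^ n * ε u * (u ^ n)⁻¹ = (z u ^ k) ^ n * ε u := by
            intro n
            induction n with
            | zero => simp
            | succ n ih =>
              calc u ^ (n + 1) * ε u * (u ^ (n + 1))⁻¹ = u * (u ^ n * ε u * (u ^ n)⁻¹) * u⁻¹ := by
                    rw [pow_succ']; group
                _ = (z u ^ k) ^ n * (u * ε u * u⁻¹) := by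
                    rw [ih, ← mul_assoc u, ((hkc u).pow_left n).eq.symm]; group
                _ = _ := by rw [h, pow_succ]; group
          refine Commute.pow_right ?_ j
          have h5 : (z u ^ k) ^ (p * t) = 1 := by
            rw [← zpow_natCast (z u ^ k), ← zpow_mul, mul_comm, zpow_mul, zpow_natCast, pow_mul,
              show z u ^ p = 1 by
                show (u ^ p ^ (s' + 1)) ^ p = 1
                rw [← pow_mul, ← pow_succ, ← hu.1, pow_orderOf_eq_one], one_pow, one_zpow]
          have h6 := h4 (p * t)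
          rw [h5, one_mul] at h6
          calc u ^ (p * t) * ε u = u ^ (p * t) * ε u * (u ^ (p * t))⁻¹ * u ^ (p * t) := by group
            _ = _ := by rw [h6]
        have h2 : (u ^ (p * t) * ε u ^ j) ^ p ^ (s' + 1) = 1 := by
          rw [h1.mul_pow, ← pow_mul, ← pow_mul]
          have e1 : u ^ (p * t * p ^ (s' + 1)) = 1 := by
            rw [show p * t * p ^ (s' + 1) = p ^ (s' + 2) * t by rw [pow_succ' p (s' + 1)]; ring,
              pow_mul, ← hu.1, pow_orderOf_eq_one, one_pow]
          have e2 : ε u ^ (j * p ^ (s' + 1)) = 1 := by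
            rw [pow_succ' p s', show j * (p * p ^ s') = p * (j * p ^ s') by ring, pow_mul,
              hEexp _ (hεE u), one_pow]
          rw [e1, e2, one_mul]
        rw [← orderOf_dvd_iff_pow_eq_one, hv.1,
          Nat.pow_dvd_pow_iff_le_right hp.one_lt] at h2
        omega
      rw [Nat.coprime_iff_gcd_eq_one, ← Nat.gcd_rec, Nat.gcd_comm, ← Nat.coprime_iff_gcd_eq_one]
      exact ((hp.coprime_iff_not_dvd.2 hi).symm.pow_right _)
    · have e1 : u ^ i = u ^ (i % p ^ (s' + 2)) := by rw [← hu.1, pow_mod_orderOf]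
      have e2 : ε u ^ j = ε u ^ (j % p) := by rw [← hejp, pow_mod_orderOf]
      rw [e1, e2]
  have hWeq : ∀ u, Cnd u → ∀ v, Cnd v → v ∈ W u → W v = W u ∧ ε v = ε u := by
    intro u hu v hv hvW
    obtain ⟨i, -, j, -, hi, rfl⟩ := hform u hu v hv hvW
    have he := hεsame u _ hu hv (hmem u hu i j hi).2.1
    refine ⟨le_antisymm (sup_le (Subgroup.zpowers_le.2 hvW) ?_) (sup_le ?_ ?_), he⟩
    · rw [he]; exact le_sup_right
    · have h1 : u ^ i ∈ W (u ^ i * ε u ^ j) := by
        have h2 : (u ^ i * ε u ^ j) * (ε u ^ j)⁻¹ ∈ W (u ^ i * ε u ^ j) :=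
          mul_mem (Subgroup.mem_sup_left (Subgroup.mem_zpowers _))
            (Subgroup.mem_sup_right (inv_mem (pow_mem (by rw [he]; exact Subgroup.mem_zpowers _) j)))
        rwa [mul_inv_cancel_right] at h2
      have : Subgroup.zpowers u = Subgroup.zpowers (u ^ i) :=
        (Subgroup.eq_of_le_of_card_ge (Subgroup.zpowers_le.2 (pow_mem (Subgroup.mem_zpowers u) i)) (by
          rw [Nat.card_zpowers, Nat.card_zpowers, orderOf_pow, hu.1,
            Nat.Coprime.gcd_eq_one hi.symm, Nat.div_one])).symm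
      rw [this]
      exact Subgroup.zpowers_le.2 h1
    · exact (congrArg Subgroup.zpowers he.symm).trans_le le_sup_right
  have hblock : ∀ a : {u : P // Cnd u},
      Nat.card {a' : {u : P // Cnd u} // W a'.1 = W a.1} = (p ^ (s' + 2)).totient * p := by
    rintro ⟨u, hu⟩
    have hcnt : Nat.card {i : Fin (p ^ (s' + 2)) // (i : ℕ).Coprime (p ^ (s' + 2))} =
        (p ^ (s' + 2)).totient := by
      rw [Nat.card_eq_fintype_card, Fintype.card_subtype, Nat.totient_eq_card_coprime,
        ← Finset.card_map Fin.valEmbedding]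
      congr 1
      ext x
      simp only [Finset.mem_map, Finset.mem_filter, Finset.mem_univ, true_and, Finset.mem_range,
        Fin.valEmbedding_apply]
      constructor
      · rintro ⟨a, ha, rfl⟩; exact ⟨a.2, ha.symm⟩
      · rintro ⟨hx, hc⟩; exact ⟨⟨x, hx⟩, hc.symm, rfl⟩
    rw [← hcnt]
    rw [show Nat.card {i : Fin (p ^ (s' + 2)) // (i : ℕ).Coprime (p ^ (s' + 2))} * p =
      Nat.card ({i : Fin (p ^ (s' + 2)) // (i : ℕ).Coprime (p ^ (s' + 2))} × Fin p) by
      rw [Nat.card_prod, Nat.card_fin]]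
    refine (Nat.card_eq_of_bijective (fun x => ⟨⟨u ^ (x.1.1 : ℕ) * ε u ^ (x.2 : ℕ),
      (hmem u hu _ _ x.1.2).1⟩, (hWeq u hu _ (hmem u hu _ _ x.1.2).1 (mul_mem
        (Subgroup.mem_sup_left (pow_mem (Subgroup.mem_zpowers u) _))
        (Subgroup.mem_sup_right (pow_mem (Subgroup.mem_zpowers _) _)))).1⟩) ⟨?_, ?_⟩).symm
    · rintro ⟨⟨i, hi⟩, j⟩ ⟨⟨i', hi'⟩, j'⟩ h
      simp only [Subtype.mk.injEq] at h
      have hd : ε u ^ ((j : ℤ) - (j' : ℤ)) ∈ Subgroup.zpowers u := by
        refine ⟨(i' : ℤ) - (i : ℤ), ?_⟩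
        simp only [zpow_sub, zpow_natCast]
        calc u ^ (i' : ℕ) * (u ^ (i : ℕ))⁻¹
            = (u ^ (i : ℕ))⁻¹ * u ^ (i' : ℕ) :=
              (((Commute.refl u).pow_pow _ _).inv_right).eq
          _ = (u ^ (i : ℕ))⁻¹ * (u ^ (i' : ℕ) * ε u ^ (j' : ℕ)) * (ε u ^ (j' : ℕ))⁻¹ := by group
          _ = _ := by rw [← h]; group
      have hejp : orderOf (ε u) = p := orderOf_eq_prime (hEexp _ (hεE u))
        (fun h => hεnot u hu (h ▸ one_mem _))
      have hjj : j = j' := by
        by_contra hne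
        apply hεnot u hu
        have hcop : IsCoprime ((j : ℤ) - j') (p : ℤ) := by
          rw [isCoprime_comm]
          refine (Nat.prime_iff_prime_int.1 hp).coprime_iff_not_dvd.2 fun hdv => hne ?_
          have := Int.eq_zero_of_dvd_of_natAbs_lt_natAbs hdv (by
            have := j.2; have := j'.2; omega)
          exact Fin.ext (by omega)
        obtain ⟨a, b, hab⟩ := hcop
        have : ε u = (ε u ^ ((j : ℤ) - j')) ^ a := by
          conv_lhs => rw [← zpow_one (ε u), ← hab]
          rw [zpow_add, mul_comm a, zpow_mul, mul_comm b, zpow_mul, zpow_natCast,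
            hEexp _ (hεE u), one_zpow, mul_one]
        rw [this]
        exact zpow_mem hd a
      subst hjj
      have hii := mul_right_cancel h
      rw [pow_eq_pow_iff_modEq, hu.1] at hii
      have : i = i' := Fin.ext (hii.eq_of_lt_of_lt i.2 i'.2)
      subst this; rfl
    · rintro ⟨⟨v, hv⟩, hvW⟩
      simp only at hvW
      obtain ⟨i, hi, j, hj, hic, rfl⟩ := hform u hu v hv
        (hvW ▸ Subgroup.mem_sup_left (Subgroup.mem_zpowers v))
      exact ⟨⟨⟨⟨i, hi⟩, hic⟩, ⟨j, hj⟩⟩, rfl⟩
  refine Dvd.dvd.trans ?_ (dvd_card_of_blocks (fun a : {u : P // Cnd u} => W a.1) _ hblock)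
  rw [Nat.totient_prime_pow hp (by omega)]
  exact ⟨p - 1, by rw [show s' + 2 - 1 = s' + 1 from rfl, pow_succ p (s' + 1)]; ring⟩

/-- Let G be a finite group, p an odd prime dividing the order of G whose Sylow p-subgroups are not cyclic, and n = p^s·m with s > 1 and m coprime to p. Then the number of elements of G of order n is a multiple of p^s. -/
theorem result {G : Type*} [Group G] [Finite G] (p : ℕ) [Fact p.Prime] (hodd : p ≠ 2) (hpG : p ∣ Nat.card G)
    (P : Sylow p G) (hP : ¬ IsCyclic ↥(P : Subgroup G)) (s m : ℕ) (hs : 1 < s) (hm : Nat.Coprime p m) :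
    p ^ s ∣ Nat.card {g : G // orderOf g = p ^ s * m} := by
  classical
  have hp := (Fact.out : p.Prime)
  have hm0 : 0 < m := by
    rcases Nat.eq_zero_or_pos m with rfl | h
    · simp at hm; exact absurd hm hp.one_lt.ne'
    · exact h
  set n := p ^ s * m with hn
  have htot : n.totient = p ^ (s - 1) * (p - 1) * m.totient := by
    rw [hn, Nat.totient_mul (Nat.Coprime.pow_left s hm), Nat.totient_prime_pow hp (by omega)]
  have hps : p ^ s = p ^ (s - 1) * p := by rw [← pow_succ]; congr 1; omega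
  have hX : Nat.card {g : G // orderOf g = n} = n.totient *
      Nat.card {C : Subgroup G // (IsCyclic C ∧ Nat.card C = n) ∧ True} := by
    rw [← card_order_eq n fun _ => True]
    exact Nat.card_congr (Equiv.subtypeEquivRight fun g => by simp)
  by_cases hpm : p ∣ m.totient
  · rw [hX]
    refine Dvd.dvd.mul_right ?_ _
    rw [htot, hps]
    exact mul_dvd_mul (dvd_mul_right _ _) hpm
  let T := {C : Subgroup G // IsCyclic C ∧ Nat.card C = n}
  have hconjT : ∀ (q : G) (C : T), IsCyclic (C.1.map (MulAut.conj q).toMonoidHom) ∧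
      Nat.card (C.1.map (MulAut.conj q).toMonoidHom) = n := by
    intro q C
    have := C.2.1
    have e := Subgroup.equivMapOfInjective C.1 (MulAut.conj q).toMonoidHom (MulAut.conj q).injective
    exact ⟨isCyclic_of_surjective e e.surjective, (Nat.card_congr e.toEquiv).symm.trans C.2.2⟩
  let act : MulAction (P : Subgroup G) T :=
    { smul := fun q C => ⟨C.1.map (MulAut.conj (q : G)).toMonoidHom, hconjT q C⟩
      one_smul := fun C => Subtype.ext (by
        show C.1.map (MulAut.conj ((1 : (P : Subgroup G)) : G)).toMonoidHom = C.1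
        ext x; simp)
      mul_smul := fun a b C => Subtype.ext (by
        show C.1.map (MulAut.conj ((a * b : (P : Subgroup G)) : G)).toMonoidHom =
          (C.1.map (MulAut.conj (b : G)).toMonoidHom).map (MulAut.conj (a : G)).toMonoidHom
        rw [Subgroup.map_map, Subgroup.coe_mul, map_mul]; rfl) }
  have hfix := IsPGroup.card_modEq_card_fixedPoints P.isPGroup' T
  let QF : Subgroup G → Prop := fun C => (P : Subgroup G) ≤ Subgroup.normalizer (C : Set G)
  have hfixcard : Nat.card (MulAction.fixedPoints (P : Subgroup G) T) =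
      Nat.card {C : Subgroup G // (IsCyclic C ∧ Nat.card C = n) ∧ QF C} := by
    refine Nat.card_congr
      { toFun := fun C => ⟨C.1.1, C.1.2, ?_⟩
        invFun := fun C => ⟨⟨C.1, C.2.1⟩, ?_⟩
        left_inv := fun C => rfl
        right_inv := fun C => rfl }
    · intro q hq
      rw [Subgroup.mem_normalizer_iff]
      intro x
      have h : C.1.1.map (MulAut.conj q).toMonoidHom = C.1.1 := congrArg Subtype.val (C.2 ⟨q, hq⟩)
      conv_rhs => rw [← h]
      simp [Subgroup.mem_map]
    · intro q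
      apply Subtype.ext
      show C.1.map (MulAut.conj (q : G)).toMonoidHom = C.1
      ext x
      have h := Subgroup.mem_normalizer_iff.1 (C.2.2 q.2)
      rw [Subgroup.mem_map]
      constructor
      · rintro ⟨y, hy, rfl⟩; simpa using (h y).1 hy
      · intro hx
        refine ⟨(q : G)⁻¹ * x * (q : G), (h _).2 ?_, ?_⟩
        · simpa [mul_assoc] using hx
        · simp [mul_assoc]
  have hT : Nat.card T = Nat.card {C : Subgroup G // (IsCyclic C ∧ Nat.card C = n) ∧ True} :=
    Nat.card_congr (Equiv.subtypeEquivRight fun C => by simp)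
  -- the fixed ones
  have hfixdvd : p ^ s ∣ Nat.card {g : G // orderOf g = n ∧ QF (Subgroup.zpowers g)} := by
    let S := {u : (P : Subgroup G) // orderOf u = p ^ s ∧ (Subgroup.zpowers u).Normal}
    let M := {y : G // orderOf y = m ∧ y ∈ Subgroup.centralizer ((P : Subgroup G) : Set G)}
    suffices h : Nat.card {g : G // orderOf g = n ∧ QF (Subgroup.zpowers g)} =
        Nat.card S * Nat.card M by
      rw [h]; exact (pow_dvd_normal_cyclic hodd P.isPGroup' hP s hs).mul_right _
    rw [← Nat.card_prod]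
    have hcom : ∀ (x : S × M), Commute ((x.1.1 : (P : Subgroup G)) : G) x.2.1 := fun x =>
      Subgroup.mem_centralizer_iff.1 x.2.2.2 _ x.1.1.2
    have hou : ∀ x : S × M, orderOf ((x.1.1 : (P : Subgroup G)) : G) = p ^ s := fun x => by
      rw [Subgroup.orderOf_coe]; exact x.1.2.1
    obtain ⟨a, ha⟩ : ∃ a : ℕ, a ≡ 1 [MOD p ^ s] ∧ a ≡ 0 [MOD m] :=
      ⟨_, (Nat.chineseRemainder (Nat.Coprime.pow_left s hm) 1 0).2⟩
    refine (Nat.card_eq_of_bijective (fun x : S × M =>
      (⟨((x.1.1 : (P : Subgroup G)) : G) * x.2.1, ?_, ?_⟩ :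
        {g : G // orderOf g = n ∧ QF (Subgroup.zpowers g)})) ⟨?_, ?_⟩).symm
    · rw [(hcom x).orderOf_mul_eq_mul_orderOf_of_coprime
        (by rw [hou, x.2.2.1]; exact Nat.Coprime.pow_left s hm), hou, x.2.2.1]
    · intro q hq
      have hu : ((x.1.1 : (P : Subgroup G)) : G) ^ a = x.1.1 := by
        conv_rhs => rw [← pow_one ((x.1.1 : (P : Subgroup G)) : G)]
        rw [pow_eq_pow_iff_modEq, hou]; exact ha.1
      have hy : x.2.1 ^ a = 1 := by
        rw [← orderOf_dvd_iff_pow_eq_one, x.2.2.1]; exact Nat.modEq_zero_iff_dvd.1 ha.2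
      set g := ((x.1.1 : (P : Subgroup G)) : G) * x.2.1 with hg
      have hgu : ((x.1.1 : (P : Subgroup G)) : G) ∈ Subgroup.zpowers g := by
        have : g ^ a = x.1.1 := by rw [hg, (hcom x).mul_pow, hu, hy, mul_one]
        rw [← this]; exact pow_mem (Subgroup.mem_zpowers g) a
      have hgy : x.2.1 ∈ Subgroup.zpowers g := by
        have : x.2.1 = ((x.1.1 : (P : Subgroup G)) : G)⁻¹ * g := by rw [hg, inv_mul_cancel_left]
        rw [this]; exact mul_mem (inv_mem hgu) (Subgroup.mem_zpowers g)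
      have hle : ∀ r ∈ (P : Subgroup G), r * g * r⁻¹ ∈ Subgroup.zpowers g := by
        intro r hr
        obtain ⟨k, hk⟩ := Subgroup.mem_zpowers_iff.1
          (x.1.2.2.conj_mem _ (Subgroup.mem_zpowers x.1.1) ⟨r, hr⟩)
        have hk' : r * ((x.1.1 : (P : Subgroup G)) : G) * r⁻¹
            = ((x.1.1 : (P : Subgroup G)) : G) ^ k := by
          have := congrArg Subtype.val hk
          simpa using this.symm
        have hry : r * x.2.1 * r⁻¹ = x.2.1 := by
          rw [Subgroup.mem_centralizer_iff.1 x.2.2.2 r hr, mul_inv_cancel_right]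
        have e : r * g * r⁻¹ = ((x.1.1 : (P : Subgroup G)) : G) ^ k * x.2.1 := by
          rw [← hk', hg]
          conv_rhs => rw [← hry]
          group
        rw [e]; exact mul_mem (zpow_mem hgu k) hgy
      rw [Subgroup.mem_normalizer_iff]
      intro w
      constructor
      · intro hw
        obtain ⟨k, rfl⟩ := Subgroup.mem_zpowers_iff.1 hw
        rw [← conj_zpow]; exact zpow_mem (hle q hq) k
      · intro hw
        have h1 := hle q⁻¹ (inv_mem hq)
        obtain ⟨k, hk⟩ := Subgroup.mem_zpowers_iff.1 hw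
        have e : w = (q⁻¹ * g * q⁻¹⁻¹) ^ k := by rw [conj_zpow, hk]; group
        rw [e]; exact zpow_mem h1 k
    · intro x y h
      have h' : ((x.1.1 : (P : Subgroup G)) : G) * x.2.1 =
          ((y.1.1 : (P : Subgroup G)) : G) * y.2.1 := congrArg Subtype.val h
      have key : ∀ z : S × M, (((z.1.1 : (P : Subgroup G)) : G) * z.2.1) ^ a = z.1.1 := fun z => by
        have hu : ((z.1.1 : (P : Subgroup G)) : G) ^ a = z.1.1 := by
          conv_rhs => rw [← pow_one ((z.1.1 : (P : Subgroup G)) : G)]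
          rw [pow_eq_pow_iff_modEq, hou]; exact ha.1
        have hy : z.2.1 ^ a = 1 := by
          rw [← orderOf_dvd_iff_pow_eq_one, z.2.2.1]; exact Nat.modEq_zero_iff_dvd.1 ha.2
        rw [(hcom z).mul_pow, hu, hy, mul_one]
      have hu : ((x.1.1 : (P : Subgroup G)) : G) = y.1.1 := by rw [← key x, ← key y, h']
      rw [hu] at h'
      exact Prod.ext (Subtype.ext (Subtype.ext hu)) (Subtype.ext (mul_left_cancel h'))
    · rintro ⟨g, hg, hgn⟩
      obtain ⟨b, hb⟩ : ∃ b : ℕ, b ≡ 0 [MOD p ^ s] ∧ b ≡ 1 [MOD m] :=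
        ⟨_, (Nat.chineseRemainder (Nat.Coprime.pow_left s hm) 0 1).2⟩
      have hgab : g ^ a * g ^ b = g := by
        conv_rhs => rw [← pow_one g]
        rw [← pow_add, pow_eq_pow_iff_modEq, hg, hn]
        exact (Nat.modEq_and_modEq_iff_modEq_mul (Nat.Coprime.pow_left s hm)).1
          ⟨by simpa using ha.1.add hb.1, by simpa using ha.2.add hb.2⟩
      have hua : orderOf (g ^ a) ∣ p ^ s := orderOf_dvd_of_pow_eq_one (by
        rw [← pow_mul, ← orderOf_dvd_iff_pow_eq_one, hg, hn, mul_comm a]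
        exact Nat.mul_dvd_mul_left _ (Nat.modEq_zero_iff_dvd.1 ha.2))
      have hub : orderOf (g ^ b) ∣ m := orderOf_dvd_of_pow_eq_one (by
        rw [← pow_mul, ← orderOf_dvd_iff_pow_eq_one, hg, hn]
        exact Nat.mul_dvd_mul_right (Nat.modEq_zero_iff_dvd.1 hb.1) _)
      have hprod : n = orderOf (g ^ a) * orderOf (g ^ b) := by
        conv_lhs => rw [← hg, ← hgab]
        exact ((Commute.refl g).pow_pow a b).orderOf_mul_eq_mul_orderOf_of_coprime
          ((Nat.Coprime.pow_left s hm).coprime_dvd_left hua |>.coprime_dvd_right hub)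
      have hA : orderOf (g ^ a) = p ^ s := by
        refine Nat.dvd_antisymm hua ?_
        refine ((Nat.Coprime.pow_left s hm).coprime_dvd_right hub).dvd_of_dvd_mul_right ?_
        rw [← hprod, hn]; exact dvd_mul_right _ _
      have hB : orderOf (g ^ b) = m := by
        refine Nat.dvd_antisymm hub ?_
        refine ((Nat.Coprime.pow_left s hm).symm.coprime_dvd_right hua).dvd_of_dvd_mul_left ?_
        rw [← hprod, hn]; exact dvd_mul_left _ _
      -- conjugates of the two parts
      have hk : ∀ q ∈ (P : Subgroup G), ∃ k : ℕ, q * g * q⁻¹ = g ^ k := by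
        intro q hq
        obtain ⟨k, hk⟩ := mem_powers_iff_mem_zpowers.2
          ((Subgroup.mem_normalizer_iff.1 (hgn hq) g).1 (Subgroup.mem_zpowers g))
        exact ⟨k, hk.symm⟩
      have hua' : g ^ a ∈ (P : Subgroup G) := by
        let U := Subgroup.zpowers (g ^ a)
        have hUn : (P : Subgroup G) ≤ Subgroup.normalizer (U : Set G) := by
          intro q hq
          have h1 : ∀ r ∈ (P : Subgroup G), ∀ w ∈ U, r * w * r⁻¹ ∈ U := by
            intro r hr w hw
            obtain ⟨k, hk⟩ := hk r hr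
            obtain ⟨i, rfl⟩ := Subgroup.mem_zpowers_iff.1 hw
            rw [← conj_zpow]
            refine zpow_mem ?_ i
            rw [← conj_pow, hk, ← pow_mul, mul_comm, pow_mul]
            exact pow_mem (Subgroup.mem_zpowers _) k
          rw [Subgroup.mem_normalizer_iff]
          refine fun w => ⟨h1 q hq w, fun hw => ?_⟩
          have := h1 q⁻¹ (inv_mem hq) _ hw
          simpa [mul_assoc] using this
        have hUp : IsPGroup p U := IsPGroup.of_card ((Nat.card_zpowers _).trans hA)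
        have := P.3 ((P.isPGroup').to_sup_of_normal_right' hUp hUn) le_sup_left
        exact this.le (Subgroup.mem_sup_right (Subgroup.mem_zpowers _))
      have hbC : g ^ b ∈ Subgroup.centralizer ((P : Subgroup G) : Set G) := by
        rw [Subgroup.mem_centralizer_iff]
        intro q hq
        obtain ⟨k, hk⟩ := hk q hq
        have hky : q * g ^ b * q⁻¹ = (g ^ b) ^ k := by
          rw [← conj_pow, hk, ← pow_mul, mul_comm, pow_mul]
        obtain ⟨e, he⟩ := P.isPGroup' ⟨q, hq⟩
        have he' : q ^ p ^ e = 1 := by simpa using congrArg Subtype.val he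
        have h1 := conj_iterate hky (p ^ e)
        rw [he', one_mul, inv_one, mul_one] at h1
        have h2 : (g ^ b) ^ 1 = (g ^ b) ^ k ^ p ^ e := by rw [pow_one]; exact h1
        rw [pow_eq_pow_iff_modEq, hB] at h2
        have h3 : ((k : ZMod m)) ^ p ^ e = 1 := by
          have := (ZMod.natCast_eq_natCast_iff _ _ _).2 h2
          simpa using this.symm
        have : NeZero m := ⟨hm0.ne'⟩
        obtain ⟨w, hw⟩ : IsUnit (k : ZMod m) :=
          IsUnit.of_pow_eq_one h3 (pow_ne_zero _ hp.ne_zero)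
        have hw1 : w = 1 := by
          have e1 : w ^ p ^ e = 1 := Units.ext (by rw [Units.val_pow_eq_pow_val, hw, h3]; rfl)
          have e2 : w ^ m.totient = 1 := ZMod.pow_totient w
          have := pow_gcd_eq_one.2 ⟨e1, e2⟩
          rwa [Nat.Coprime.gcd_eq_one (Nat.Coprime.pow_left e (hp.coprime_iff_not_dvd.2 hpm)),
            pow_one] at this
        have hk1 : k ≡ 1 [MOD m] := by
          rw [← ZMod.natCast_eq_natCast_iff, ← hw, hw1]; simp
        have : (g ^ b) ^ k = (g ^ b) ^ 1 := by rw [pow_eq_pow_iff_modEq, hB]; exact hk1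
        rw [pow_one] at this
        calc q * g ^ b = q * g ^ b * q⁻¹ * q := by group
          _ = _ := by rw [hky, this]
      have hnorm : (Subgroup.zpowers (⟨g ^ a, hua'⟩ : (P : Subgroup G))).Normal := by
        refine ⟨fun w hw r => ?_⟩
        obtain ⟨i, rfl⟩ := Subgroup.mem_zpowers_iff.1 hw
        rw [← conj_zpow]
        refine zpow_mem ?_ i
        obtain ⟨k, hk⟩ := hk r.1 r.2
        refine ⟨(k : ℤ), Subtype.ext ?_⟩
        show (((⟨g ^ a, hua'⟩ : (P : Subgroup G)) ^ (k : ℤ) : (P : Subgroup G)) : G) = _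
        rw [zpow_natCast, SubgroupClass.coe_pow]
        show (g ^ a) ^ k = (r : G) * g ^ a * (r : G)⁻¹
        rw [← conj_pow, hk, ← pow_mul, ← pow_mul, mul_comm]
      refine ⟨(⟨⟨g ^ a, hua'⟩, ?_, hnorm⟩, ⟨g ^ b, hB, hbC⟩), Subtype.ext hgab⟩
      rw [← Subgroup.orderOf_coe]; exact hA
  rw [card_order_eq n QF, ← hfixcard] at hfixdvd
  rw [hX, ← hT]
  -- compare
  set N := Nat.card T
  set F := Nat.card (MulAction.fixedPoints (P : Subgroup G) T)
  have hle : F ≤ N := Nat.card_le_card_of_injective Subtype.val Subtype.val_injective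
  obtain ⟨d, hd⟩ := (Nat.modEq_iff_dvd' hle).1 hfix.symm
  have hNd : N = F + p * d := by omega
  rw [hNd, mul_add]
  refine dvd_add hfixdvd ?_
  rw [htot, hps]
  exact ⟨(p - 1) * m.totient * d, by ring⟩

end Cfsg.Agent.S4003
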