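import Cfsg.Statements.S3807
import Cfsg.Agent.S4003

set_option autoImplicit false
open Cfsg
open scoped Pointwise commutatorElement

namespace Cfsg.Agent.S3807

/-- An abelian subgroup of prime index in a nonabelian `p`-group contains the centre. -/
theorem center_le_of_abelian {S : Type*} [Group S] [Finite S] {p : ℕ} [Fact p.Prime]
    (hna : ¬ IsMulCommutative S) {B : Subgroup S} (hB : IsMulCommutative ↥B) (hBi : B.index = p) :
    Subgroup.center S ≤ B := by
  intro z hz
  by_contra hzB
  have hp := (Fact.out : p.Prime)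
  have hBc : IsCoatom B := by
    refine ⟨fun h => ?_, fun K hK => ?_⟩
    · rw [h, Subgroup.index_top] at hBi; exact hp.one_lt.ne hBi
    · have h1 := Subgroup.relIndex_mul_index hK.le
      rw [hBi] at h1
      rcases hp.eq_one_or_self_of_dvd _ (Dvd.intro_left _ h1) with h2 | h2
      · exact Subgroup.index_eq_one.1 h2
      · rw [h2] at h1
        have h3 : B.relIndex K = 1 := Nat.eq_of_mul_eq_mul_right hp.pos (by rw [h1, one_mul])
        exact absurd (Subgroup.relIndex_eq_one.1 h3) (not_le_of_gt hK)
  have htop : B ⊔ Subgroup.zpowers z = ⊤ := hBc.2 _ (left_lt_sup.2 fun h =>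
    hzB (h (Subgroup.mem_zpowers z)))
  have hcomm : ∀ a ∈ B, ∀ b ∈ B, a * b = b * a := fun a ha b hb =>
    congrArg Subtype.val (hB.is_comm.comm ⟨a, ha⟩ ⟨b, hb⟩)
  refine hna ⟨⟨fun a b => ?_⟩⟩
  have hcl : B ⊔ Subgroup.zpowers z ≤ Subgroup.centralizer (B : Set S) :=
    sup_le (fun a ha => Subgroup.mem_centralizer_iff.2 fun b hb => hcomm b hb a ha)
      (Subgroup.zpowers_le.2 (Subgroup.center_le_centralizer _ hz))
  rw [htop] at hcl
  have hBZ : B ⊔ Subgroup.zpowers z ≤ Subgroup.center S := sup_le
    (fun x hx => Subgroup.mem_center_iff.2 fun g =>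
      (Subgroup.mem_centralizer_iff.1 (hcl (Subgroup.mem_top g)) x hx).symm)
    (Subgroup.zpowers_le.2 hz)
  rw [htop] at hBZ
  exact (Subgroup.mem_center_iff.1 (hBZ (Subgroup.mem_top a)) b).symm

/-- Let S be a non-abelian finite p-group with an abelian subgroup A of index p. Then [S : Z(S)] = p·#[S,S], and either [S,S] has order p, S/Z(S) is elementary abelian of order p², and S has exactly p + 1 abelian subgroups of index p; or [S,S] has order at least p² and A is the only abelian subgroup of index p in S. -/
theorem result {S : Type*} [Group S] [Finite S] (p : ℕ) [Fact p.Prime] (hS : IsPGroup p S) (hna : ¬ IsMulCommutative S)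
    (A : Subgroup S) (hA : IsMulCommutative ↥A) (hAi : A.index = p) :
    (Subgroup.center S).index = p * Nat.card (commutator S) ∧
      ((Nat.card (commutator S) = p ∧ Cfsg.IsElementaryAbelian p (⊤ : Subgroup (S ⧸ Subgroup.center S)) ∧
          Nat.card (S ⧸ Subgroup.center S) = p ^ 2 ∧
          Nat.card {B : Subgroup S // IsMulCommutative ↥B ∧ B.index = p} = p + 1) ∨
        (p ^ 2 ≤ Nat.card (commutator S) ∧ ∀ B : Subgroup S, IsMulCommutative ↥B → B.index = p → B = A)) := by
  classical
  have hp := (Fact.out : p.Prime)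
  have hAc : ∀ a ∈ A, ∀ b ∈ A, a * b = b * a := fun a ha b hb =>
    congrArg Subtype.val (hA.is_comm.comm ⟨a, ha⟩ ⟨b, hb⟩)
  have hAn : A.Normal := Subgroup.normal_of_index_eq_minFac_card (by
    obtain ⟨k, hk⟩ := IsPGroup.iff_card.1 hS
    have hk0 : k ≠ 0 := by
      rintro rfl
      have : A.index ∣ Nat.card S := Subgroup.index_dvd_card A
      rw [hAi, hk, pow_zero, Nat.dvd_one] at this
      exact hp.one_lt.ne' this
    rw [hAi, hk, Nat.pow_minFac hk0, hp.minFac_eq])
  have hZA : Subgroup.center S ≤ A := center_le_of_abelian hna hA hAi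
  obtain ⟨s, hs⟩ : ∃ s, s ∉ A := by
    by_contra! h
    exact hna ⟨⟨fun a b => hAc a (h a) b (h b)⟩⟩
  have htop : A ⊔ Subgroup.zpowers s = ⊤ := by
    have hlt : A < A ⊔ Subgroup.zpowers s := left_lt_sup.2 fun h => hs (h (Subgroup.mem_zpowers s))
    have h1 := Subgroup.relIndex_mul_index hlt.le
    rw [hAi] at h1
    rcases hp.eq_one_or_self_of_dvd _ (Dvd.intro_left _ h1) with h2 | h2
    · exact Subgroup.index_eq_one.1 h2
    · rw [h2] at h1
      exact absurd (Subgroup.relIndex_eq_one.1 (Nat.eq_of_mul_eq_mul_right hp.pos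
        (by rw [h1, one_mul]))) (not_le_of_gt hlt)
  -- the commutator map
  let f : A →* S := MonoidHom.mk' (fun a => ⁅(a : S), s⁆) (fun a b => by
    have hb : ⁅(b : S), s⁆ ∈ A := by
      rw [commutatorElement_def, mul_assoc (b : S), mul_assoc (b : S)]
      exact A.mul_mem b.2 (hAn.conj_mem _ (A.inv_mem b.2) s)
    simp only [Subgroup.coe_mul]
    calc ⁅(a : S) * b, s⁆ = a * ⁅(b : S), s⁆ * (a : S)⁻¹ * ⁅(a : S), s⁆ := by
          simp only [commutatorElement_def]; group
      _ = ⁅(b : S), s⁆ * ⁅(a : S), s⁆ := by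
          rw [hAc _ a.2 _ hb, mul_inv_cancel_right]
      _ = _ := by
          have ha : ⁅(a : S), s⁆ ∈ A := by
            rw [commutatorElement_def, mul_assoc (a : S), mul_assoc (a : S)]
            exact A.mul_mem a.2 (hAn.conj_mem _ (A.inv_mem a.2) s)
          exact hAc _ hb _ ha)
  have hker : f.ker = (Subgroup.center S).subgroupOf A := by
    ext a
    rw [MonoidHom.mem_ker, Subgroup.mem_subgroupOf]
    show ⁅(a : S), s⁆ = 1 ↔ _
    rw [commutatorElement_eq_one_iff_mul_comm]
    constructor
    · intro h
      have hle : A ⊔ Subgroup.zpowers s ≤ Subgroup.centralizer ({(a : S)} : Set S) :=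
        sup_le (fun x hx => Subgroup.mem_centralizer_singleton_iff.2 (hAc x hx a a.2))
          (Subgroup.zpowers_le.2 (Subgroup.mem_centralizer_singleton_iff.2 h.symm))
      rw [htop] at hle
      exact Subgroup.mem_center_iff.2 fun g =>
        Subgroup.mem_centralizer_singleton_iff.1 (hle (Subgroup.mem_top g))
    · intro h; exact (Subgroup.mem_center_iff.1 h s).symm
  let I : Subgroup S := f.range
  have hIA : I ≤ A := by
    rintro _ ⟨a, rfl⟩
    show ⁅(a : S), s⁆ ∈ A
    rw [commutatorElement_def, mul_assoc (a : S), mul_assoc (a : S)]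
    exact A.mul_mem a.2 (hAn.conj_mem _ (A.inv_mem a.2) s)
  have hIn : I.Normal := by
    rw [← Subgroup.normalizer_eq_top_iff, eq_top_iff, ← htop]
    have key : ∀ g : S, (∀ x ∈ I, g * x * g⁻¹ ∈ I) → g ∈ Subgroup.normalizer (I : Set S) :=
      fun g hg => by
        rw [Subgroup.mem_normalizer_iff]
        intro x
        refine ⟨hg x, fun hx => ?_⟩
        have hmaps : Set.MapsTo (fun y => g * y * g⁻¹) (I : Set S) (I : Set S) := hg
        obtain ⟨y, hy, e⟩ := ((Set.toFinite (I : Set S)).injOn_iff_bijOn_of_mapsTo hmaps).1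
          (fun a _ b _ h => by simpa using h) |>.surjOn hx
        simp only [mul_left_inj, mul_right_inj] at e
        exact e ▸ hy
    refine sup_le (fun a ha => key a fun x hx => ?_) (Subgroup.zpowers_le.2 (key s ?_))
    · rw [hAc a ha x (hIA hx), mul_inv_cancel_right]; exact hx
    · rintro _ ⟨a, rfl⟩
      refine ⟨⟨s * a * s⁻¹, hAn.conj_mem _ a.2 s⟩, ?_⟩
      show ⁅s * (a : S) * s⁻¹, s⁆ = s * ⁅(a : S), s⁆ * s⁻¹
      simp only [commutatorElement_def]; group
  have hI : I = commutator S := by
    refine le_antisymm ?_ ?_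
    · rintro _ ⟨a, rfl⟩
      exact Subgroup.commutator_mem_commutator (Subgroup.mem_top _) (Subgroup.mem_top _)
    · let π := QuotientGroup.mk' I
      have hca : ∀ a ∈ A, π a * π s = π s * π a := fun a ha => by
        have : π ⁅a, s⁆ = 1 := (QuotientGroup.eq_one_iff _).2 ⟨⟨a, ha⟩, rfl⟩
        rw [map_commutatorElement, commutatorElement_eq_one_iff_mul_comm] at this
        exact this
      have hcent : ∀ g : S, π g ∈ Subgroup.center (S ⧸ I) := by
        have h1 : ∀ a ∈ A, π a ∈ Subgroup.center (S ⧸ I) := by
          intro a ha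
          have hle : A ⊔ Subgroup.zpowers s ≤ (Subgroup.centralizer {π a}).comap π :=
            sup_le (fun x hx => Subgroup.mem_centralizer_singleton_iff.2
              (by rw [← map_mul, ← map_mul, hAc x hx a ha]))
              (Subgroup.zpowers_le.2 (Subgroup.mem_centralizer_singleton_iff.2 (hca a ha).symm))
          rw [htop] at hle
          refine Subgroup.mem_center_iff.2 fun q => ?_
          obtain ⟨g, rfl⟩ := QuotientGroup.mk'_surjective I q
          exact Subgroup.mem_centralizer_singleton_iff.1 (hle (Subgroup.mem_top g))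
        intro g
        have hle : A ⊔ Subgroup.zpowers s ≤ (Subgroup.center (S ⧸ I)).comap π := by
          refine sup_le (fun x hx => h1 x hx) (Subgroup.zpowers_le.2 ?_)
          refine Subgroup.mem_center_iff.2 fun q => ?_
          obtain ⟨g, rfl⟩ := QuotientGroup.mk'_surjective I q
          have hle2 : A ⊔ Subgroup.zpowers s ≤ (Subgroup.centralizer {π s}).comap π :=
            sup_le (fun x hx => Subgroup.mem_centralizer_singleton_iff.2 (hca x hx))
              (Subgroup.zpowers_le.2 (Subgroup.mem_centralizer_singleton_iff.2 rfl))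
          rw [htop] at hle2
          exact Subgroup.mem_centralizer_singleton_iff.1 (hle2 (Subgroup.mem_top g))
        rw [htop] at hle
        exact hle (Subgroup.mem_top g)
      rw [commutator_def, Subgroup.commutator_le]
      intro x _ y _
      rw [← QuotientGroup.eq_one_iff (N := I)]
      show π ⁅x, y⁆ = 1
      rw [map_commutatorElement, commutatorElement_eq_one_iff_mul_comm]
      exact (Subgroup.mem_center_iff.1 (hcent x) (π y)).symm
  have hidx : (Subgroup.center S).index = p * Nat.card (commutator S) := by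
    rw [← hI, ← Subgroup.relIndex_mul_index hZA, hAi, mul_comm]
    congr 1
    show ((Subgroup.center S).subgroupOf A).index = _
    rw [← hker, Subgroup.index_ker]
  refine ⟨hidx, ?_⟩
  obtain ⟨k, hk⟩ := IsPGroup.iff_card.1 (hS.to_subgroup (commutator S))
  rcases k with _ | _ | k
  · exfalso
    rw [pow_zero, Subgroup.card_eq_one] at hk
    refine hna ⟨⟨fun a b => commutatorElement_eq_one_iff_mul_comm.1 ?_⟩⟩
    have := Subgroup.commutator_mem_commutator (H₁ := (⊤ : Subgroup S)) (H₂ := ⊤)
      (Subgroup.mem_top a) (Subgroup.mem_top b)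
    rw [← commutator_def, hk, Subgroup.mem_bot] at this
    exact this
  · left
    rw [zero_add, pow_one] at hk
    rw [hk, ← sq] at hidx
    have hQ : Nat.card (S ⧸ Subgroup.center S) = p ^ 2 := hidx
    have hncyc : ¬ IsCyclic (S ⧸ Subgroup.center S) := fun hc => by
      have := hc
      exact hna ⟨⟨commutative_of_cyclic_center_quotient (QuotientGroup.mk' (Subgroup.center S))
        (by rw [QuotientGroup.ker_mk'])⟩⟩
    have hQc : ∀ a b : S ⧸ Subgroup.center S, a * b = b * a :=
      (IsPGroup.commutative_of_card_eq_prime_sq hQ)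
    have hQe : ∀ a : S ⧸ Subgroup.center S, a ^ p = 1 := by
      intro a
      obtain ⟨i, hi, hord⟩ := (Nat.dvd_prime_pow hp).1
        ((orderOf_dvd_natCard a).trans (dvd_of_eq hQ))
      rcases i with _ | _ | _ | i
      · have h : a = 1 := orderOf_eq_one_iff.1 (by simpa using hord)
        rw [h, one_pow]
      · have h : orderOf a = p := by simpa using hord
        rw [← h, pow_orderOf_eq_one]
      · exact absurd (isCyclic_of_orderOf_eq_card a (hord.trans hQ.symm)) hncyc
      · omega
    refine ⟨hk, ⟨⟨⟨fun a b => Subtype.ext (hQc a b)⟩⟩, fun a _ => hQe a⟩, hQ, ?_⟩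
    let Q := S ⧸ Subgroup.center S
    let π := QuotientGroup.mk' (Subgroup.center S)
    have hsurj := QuotientGroup.mk'_surjective (Subgroup.center S)
    have hN : Nat.card {B : Subgroup S // IsMulCommutative ↥B ∧ B.index = p} =
        Nat.card {C : Subgroup Q // (IsCyclic C ∧ Nat.card C = p) ∧ True} := by
      have hcardC : ∀ C : Subgroup Q, C.index = p ↔ Nat.card C = p := by
        intro C
        have h := C.card_mul_index
        rw [show Nat.card Q = p ^ 2 from hQ] at h
        constructor
        · intro e; rw [e, sq] at h; exact Nat.eq_of_mul_eq_mul_right hp.pos h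
        · intro e; rw [e, sq] at h; exact Nat.eq_of_mul_eq_mul_left hp.pos h
      refine Nat.card_congr
        { toFun := fun B => ⟨B.1.map π, ⟨?_, ?_⟩, trivial⟩
          invFun := fun C => ⟨C.1.comap π, ?_, ?_⟩
          left_inv := fun B => Subtype.ext ?_
          right_inv := fun C => Subtype.ext (Subgroup.map_comap_eq_self_of_surjective hsurj _) }
      · have hc : Nat.card (B.1.map π) = p := by
          refine (hcardC _).1 ?_
          rw [Subgroup.index_map_eq _ hsurj
            (by rw [QuotientGroup.ker_mk']; exact center_le_of_abelian hna B.2.1 B.2.2)]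
          exact B.2.2
        exact isCyclic_of_prime_card hc
      · refine (hcardC _).1 ?_
        rw [Subgroup.index_map_eq _ hsurj
          (by rw [QuotientGroup.ker_mk']; exact center_le_of_abelian hna B.2.1 B.2.2)]
        exact B.2.2
      · refine ⟨⟨?_⟩⟩
        have := C.2.1.1
        exact commutative_of_cyclic_center_quotient
          ((π.comp (C.1.comap π).subtype).codRestrict C.1 (fun x => show π (x : S) ∈ C.1 from x.2)) (fun x hx => by
            rw [MonoidHom.mem_ker] at hx
            have h1 : π (x : S) = 1 := congrArg Subtype.val hx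
            have h2 : (x : S) ∈ Subgroup.center S := (QuotientGroup.eq_one_iff _).1 h1
            exact Subgroup.mem_center_iff.2 fun g =>
              Subtype.ext (Subgroup.mem_center_iff.1 h2 g))
      · rw [Subgroup.index_comap_of_surjective _ hsurj, hcardC]; exact C.2.1.2
      · refine Subgroup.comap_map_eq_self ?_
        rw [QuotientGroup.ker_mk']; exact center_le_of_abelian hna B.2.1 B.2.2
    have hkey := Cfsg.Agent.S4003.card_order_eq (G := Q) p fun _ => True
    have hcount : Nat.card {g : Q // orderOf g = p ∧ True} = p ^ 2 - 1 := by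
      have := Fintype.ofFinite Q
      have e : (Finset.univ.filter fun g : Q => orderOf g = p ∧ True) = Finset.univ.erase 1 := by
        ext g
        simp only [Finset.mem_filter, Finset.mem_univ, true_and, and_true, Finset.mem_erase, ne_eq]
        exact ⟨fun h h1 => by rw [h1, orderOf_one] at h; exact hp.one_lt.ne h,
          fun h => orderOf_eq_prime (hQe g) h⟩
      rw [← hQ, Nat.card_eq_fintype_card, Nat.card_eq_fintype_card, Fintype.card_subtype, e,
        Finset.card_erase_of_mem (Finset.mem_univ _), Finset.card_univ]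
    rw [hcount, Nat.totient_prime hp] at hkey
    rw [hN]
    have h1 : p ^ 2 - 1 = (p - 1) * (p + 1) := by
      rw [show p ^ 2 - 1 = p ^ 2 - 1 ^ 2 by simp, Nat.sq_sub_sq, mul_comm]
    rw [h1] at hkey
    exact (Nat.eq_of_mul_eq_mul_left (Nat.sub_pos_of_lt hp.one_lt) hkey).symm
  · right
    refine ⟨by rw [hk]; exact Nat.pow_le_pow_right hp.pos (by omega), fun B hB hBi => ?_⟩
    by_contra hne
    have hBc : ∀ a ∈ B, ∀ b ∈ B, a * b = b * a := fun a ha b hb =>
      congrArg Subtype.val (hB.is_comm.comm ⟨a, ha⟩ ⟨b, hb⟩)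
    have hnle : ¬ B ≤ A := fun h => hne (Subgroup.eq_of_le_of_card_ge h (by
      have h1 := B.card_mul_index
      have h2 := A.card_mul_index
      rw [hBi] at h1; rw [hAi] at h2
      exact (Nat.eq_of_mul_eq_mul_right hp.pos (h1.trans h2.symm)).ge))
    have hjoin : A ⊔ B = ⊤ := by
      have hlt : A < A ⊔ B := left_lt_sup.2 hnle
      have h1 := Subgroup.relIndex_mul_index hlt.le
      rw [hAi] at h1
      rcases hp.eq_one_or_self_of_dvd _ (Dvd.intro_left _ h1) with h2 | h2
      · exact Subgroup.index_eq_one.1 h2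
      · rw [h2] at h1
        exact absurd (Subgroup.relIndex_eq_one.1 (Nat.eq_of_mul_eq_mul_right hp.pos
          (by rw [h1, one_mul]))) (not_le_of_gt hlt)
    have hAB : A ⊓ B ≤ Subgroup.center S := by
      intro x hx
      have hle : A ⊔ B ≤ Subgroup.centralizer ({x} : Set S) :=
        sup_le (fun y hy => Subgroup.mem_centralizer_singleton_iff.2 (hAc y hy x hx.1))
          (fun y hy => Subgroup.mem_centralizer_singleton_iff.2 (hBc y hy x hx.2))
      rw [hjoin] at hle
      exact Subgroup.mem_center_iff.2 fun g =>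
        Subgroup.mem_centralizer_singleton_iff.1 (hle (Subgroup.mem_top g))
    have h1 : (Subgroup.center S).index ≤ p * p := by
      calc _ ≤ (A ⊓ B).index := Nat.le_of_dvd (Nat.pos_of_ne_zero Subgroup.index_ne_zero_of_finite)
            (Subgroup.index_dvd_of_le hAB)
        _ ≤ A.index * B.index := Subgroup.index_inf_le
        _ = _ := by rw [hAi, hBi]
    rw [hidx, hk] at h1
    have h2 := Nat.le_of_mul_le_mul_left h1 hp.pos
    have h3 : p ^ 2 ≤ p ^ (k + 1 + 1) := Nat.pow_le_pow_right hp.pos (by omega)
    have h4 : p < p ^ 2 := by nlinarith [hp.two_le]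
    omega

end Cfsg.Agent.S3807
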