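import Cfsg.Statements.S3808
import Mathlib
import Mathlib
import Cfsg.Agent.Lib.Solv.ExtraspecialIndex
-- import your own Cfsg.Agent.* helpers here

set_option autoImplicit false
open Cfsg

namespace Cfsg.Agent.S3808

/-- Let S be a finite p-group with an extraspecial subgroup Q of index p. Then either Z(S) = Z(Q), or S = Q·Z(S) and Z(S) has order p². -/
theorem result {S : Type*} [Group S] [Finite S] (p : ℕ) [Fact p.Prime] (hS : IsPGroup p S) (Q : Subgroup S) (hQ : Cfsg.IsExtraspecial p ↥Q) (hQi : Q.index = p) :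
    Subgroup.center S = (Subgroup.center ↥Q).map Q.subtype ∨
      (Q ⊔ Subgroup.center S = ⊤ ∧ Nat.card (Subgroup.center S) = p ^ 2) := by
  classical
  have hp := (Fact.out : p.Prime)
  haveI hQn : Q.Normal := Cfsg.Lib.Solv.normal_of_index_prime hS hQi
  have hinf := Cfsg.Lib.Solv.center_inf_eq hS hQ hQi
  by_cases hle : Subgroup.center S ≤ Q
  · left
    rw [← hinf, inf_eq_left.2 hle]
  right
  have hco : Q < Q ⊔ Subgroup.center S := lt_of_le_of_ne le_sup_left fun h => hle (le_sup_right.trans h.ge)
  have htop : Q ⊔ Subgroup.center S = ⊤ := by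
    rw [← Subgroup.index_eq_one]
    have h1 := Subgroup.relIndex_mul_index hco.le
    rw [hQi] at h1
    rcases hp.eq_one_or_self_of_dvd _ (Dvd.intro_left _ h1) with h2 | h2
    · exact h2
    · exfalso
      rw [h2] at h1
      have h3 : Q.relIndex (Q ⊔ Subgroup.center S) = 1 := (mul_left_eq_self₀.1 h1).resolve_right hp.ne_zero
      exact hco.not_ge (Subgroup.relIndex_eq_one.1 h3)
  refine ⟨htop, ?_⟩
  have h1 : (Q.subgroupOf (Subgroup.center S)).index = p := by
    show Q.relIndex (Subgroup.center S) = p
    rw [← Subgroup.relIndex_sup_right, sup_comm, htop, Subgroup.relIndex_top_right, hQi]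
  have h2 : Nat.card ↥(Q.subgroupOf (Subgroup.center S)) = p := by
    rw [← Subgroup.inf_subgroupOf_left, Nat.card_congr (Subgroup.subgroupOfEquivOfLe inf_le_left).toEquiv,
      hinf, Subgroup.card_map_of_injective Q.subtype_injective, hQ.2]
  rw [← Subgroup.card_mul_index (Q.subgroupOf (Subgroup.center S)), h1, h2, sq]

end Cfsg.Agent.S3808
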