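import Cfsg.Statements.S3809
import Mathlib
import Mathlib
import Cfsg.Agent.Lib.Solv.ExtraspecialIndex
-- import your own Cfsg.Agent.* helpers here

set_option autoImplicit false
open Cfsg
open scoped commutatorElement

namespace Cfsg.Agent.S3809

/-- Let S be a finite p-group with an extraspecial subgroup of index p. Then S has order p^(2+2n) for some n ≥ 1, derived length at most 3, and exponent dividing p³. -/
theorem result {S : Type*} [Group S] [Finite S] (p : ℕ) [Fact p.Prime] (hS : IsPGroup p S) (Q : Subgroup S) (hQ : Cfsg.IsExtraspecial p ↥Q) (hQi : Q.index = p) :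
    (∃ n : ℕ, 1 ≤ n ∧ Nat.card S = p ^ (2 + 2 * n)) ∧ derivedSeries S 3 = ⊥ ∧ ∀ x : S, x ^ (p ^ 3) = 1 := by
  classical
  have hp := (Fact.out : p.Prime)
  obtain ⟨n, hn, hcQ, hcS⟩ := Cfsg.Lib.Solv.card_eq_of_index hS hQ hQi
  haveI hQn : Q.Normal := Cfsg.Lib.Solv.normal_of_index_prime hS hQi
  have hES := Cfsg.Lib.Transfer.ExtraspecialClass.ES.of_extraspecial hQ
  have hquot : ∀ a b : S, QuotientGroup.mk' Q a * QuotientGroup.mk' Q b = QuotientGroup.mk' Q b * QuotientGroup.mk' Q a := by
    have hc : Nat.card (S ⧸ Q) = p := by rw [← Subgroup.index_eq_card]; exact hQi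
    haveI := isCyclic_of_prime_card hc
    letI : CommGroup (S ⧸ Q) := IsCyclic.commGroup
    exact fun a b => mul_comm _ _
  have hcQ' : ∀ a b : S, ⁅a, b⁆ ∈ Q := fun a b => by
    rw [← QuotientGroup.eq_one_iff, ← QuotientGroup.mk'_apply, map_commutatorElement, commutatorElement_eq_one_iff_mul_comm]
    exact hquot a b
  refine ⟨⟨n, hn, hcS⟩, ?_, fun x => ?_⟩
  · have h1 : derivedSeries S 1 ≤ Q := by
      rw [derivedSeries_succ, Subgroup.commutator_le]
      exact fun a _ b _ => hcQ' a b
    have h2 : derivedSeries S 2 ≤ (Subgroup.center ↥Q).map Q.subtype := by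
      rw [derivedSeries_succ]
      refine (Subgroup.commutator_mono h1 h1).trans (Subgroup.commutator_le.2 fun a ha b hb => ?_)
      exact ⟨⁅(⟨a, ha⟩ : Q), ⟨b, hb⟩⁆, hES.comm _ _, map_commutatorElement Q.subtype _ _⟩
    rw [derivedSeries_succ, eq_bot_iff]
    refine (Subgroup.commutator_mono (h2.trans (Cfsg.Lib.Solv.es_center_central hS hQ hQi)) le_rfl).trans ?_
    rw [le_bot_iff, Subgroup.commutator_eq_bot_iff_le_centralizer]
    exact fun z hz => Subgroup.mem_centralizer_iff.2 fun g _ => Subgroup.mem_center_iff.1 hz g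
  · have hxp : x ^ p ∈ Q := by
      have := Subgroup.pow_index_mem Q x
      rwa [hQi] at this
    have h2 := hES.powc (⟨x ^ p, hxp⟩ : Q)
    have h3 : ((⟨x ^ p, hxp⟩ : Q) ^ p) ^ p = 1 := by
      have := pow_card_eq_one' (x := (⟨_, h2⟩ : Subgroup.center ↥Q))
      rw [hES.cardZ] at this
      exact congrArg Subtype.val this
    have h4 : ((x ^ p) ^ p) ^ p = 1 := congrArg Subtype.val h3
    rw [← pow_mul, ← pow_mul] at h4
    rw [pow_succ, pow_succ, pow_one, mul_assoc]
    exact h4

end Cfsg.Agent.S3809
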