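import Cfsg.Statements.S3810
import Mathlib
import Mathlib
import Cfsg.Agent.Lib.Solv.ExtraspecialIndex
-- import your own Cfsg.Agent.* helpers here

set_option autoImplicit false
open Cfsg
open scoped commutatorElement

namespace Cfsg.Agent.S3810

/-- Let S be a finite p-group with an extraspecial subgroup of index p. Then S has an abelian subgroup of index p if and only if S has order p⁴. -/
theorem result {S : Type*} [Group S] [Finite S] (p : ℕ) [Fact p.Prime] (hS : IsPGroup p S) (Q : Subgroup S) (hQ : Cfsg.IsExtraspecial p ↥Q) (hQi : Q.index = p) :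
    (∃ A : Subgroup S, IsMulCommutative ↥A ∧ A.index = p) ↔ Nat.card S = p ^ 4 := by
  classical
  have hp := (Fact.out : p.Prime)
  obtain ⟨n, hn, hcQ, hcS⟩ := Cfsg.Lib.Solv.card_eq_of_index hS hQ hQi
  have hES := Cfsg.Lib.Transfer.ExtraspecialClass.ES.of_extraspecial hQ
  have hQnc : ∃ a b : Q, a * b ≠ b * a := by
    obtain ⟨a, b, h⟩ := Cfsg.Lib.Transfer.ExtraspecialClass.exists_pair hES (by
      rw [hcQ]
      calc p = p ^ 1 := (pow_one p).symm
        _ < _ := Nat.pow_lt_pow_right hp.one_lt (by omega))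
    exact ⟨a, b, fun e => h (commutatorElement_eq_one_iff_mul_comm.2 e)⟩
  constructor
  · rintro ⟨A, hA, hAi⟩
    set B := A.subgroupOf Q with hB
    have hBi : B.index = p := by
      have h1 : B.index ∣ p := by
        rw [← hAi]
        haveI : A.Normal := Cfsg.Lib.Solv.normal_of_index_prime hS hAi
        exact Subgroup.relIndex_dvd_index_of_normal A Q
      refine (hp.eq_one_or_self_of_dvd _ h1).resolve_left fun h => ?_
      rw [Subgroup.index_eq_one] at h
      obtain ⟨a, b, hab⟩ := hQnc
      have ha : a ∈ B := h ▸ Subgroup.mem_top a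
      have hb : b ∈ B := h ▸ Subgroup.mem_top b
      exact hab (Subtype.ext (congrArg (fun z : A => (z : S)) (hA.is_comm.comm (⟨(a : S), ha⟩ : A) ⟨(b : S), hb⟩)))
    obtain ⟨x, hx⟩ : ∃ x : Q, x ∉ B := by
      by_contra h
      push Not at h
      rw [(Subgroup.eq_top_iff' B).2 h, Subgroup.index_top] at hBi
      exact hp.one_lt.ne hBi
    let φ : ↥B →* ↥(Subgroup.center ↥Q) := MonoidHom.mk' (fun b => ⟨⁅(b : Q), x⁆, hES.comm _ _⟩)
      (fun a b => Subtype.ext (by
        show ⁅((a * b : B) : Q), x⁆ = ⁅(a : Q), x⁆ * ⁅(b : Q), x⁆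
        have e : ⁅((a * b : B) : Q), x⁆ = ((a : Q) * ⁅(b : Q), x⁆ * (a : Q)⁻¹) * ⁅(a : Q), x⁆ := by
          simp only [commutatorElement_def, Subgroup.coe_mul]; group
        rw [e, Subgroup.mem_center_iff.1 (hES.comm (b : Q) x) (a : Q), mul_assoc _ (a : Q), mul_inv_cancel, mul_one,
          Subgroup.mem_center_iff.1 (hES.comm (b : Q) x) ⁅(a : Q), x⁆]))
    have hker : ∀ b : B, φ b = 1 → (b : Q) ∈ Subgroup.center ↥Q := by
      intro b hb
      have hbx : (b : Q) * x = x * (b : Q) := commutatorElement_eq_one_iff_mul_comm.1 (congrArg Subtype.val hb)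
      set C := Subgroup.centralizer ({(b : Q)} : Set ↥Q) with hC
      have hBC : B ≤ C := fun c hc => Subgroup.mem_centralizer_singleton_iff.2
        (Subtype.ext (congrArg (fun z : A => (z : S)) (hA.is_comm.comm (⟨(c : S), hc⟩ : A) ⟨((b : Q) : S), b.2⟩)))
      have hlt : B < C := lt_of_le_of_ne hBC fun h => hx (h ▸ Subgroup.mem_centralizer_singleton_iff.2 hbx.symm)
      have htop : C = ⊤ := by
        have h1 := Subgroup.relIndex_mul_index hBC
        rw [hBi] at h1
        rcases hp.eq_one_or_self_of_dvd _ (Dvd.intro_left _ h1) with h2 | h2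
        · exact Subgroup.index_eq_one.1 h2
        · exfalso
          rw [h2] at h1
          exact hlt.not_ge (Subgroup.relIndex_eq_one.1 ((mul_left_eq_self₀.1 h1).resolve_right hp.ne_zero))
      rw [Subgroup.mem_center_iff]
      intro g
      exact Subgroup.mem_centralizer_singleton_iff.1 (htop ▸ Subgroup.mem_top g : g ∈ C)
    have hk : Nat.card ↥φ.ker ≤ p := by
      rw [← hES.cardZ]
      refine Nat.card_le_card_of_injective (fun b => (⟨((b : B) : Q), hker b b.2⟩ : Subgroup.center ↥Q)) ?_
      intro a b hab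
      exact Subtype.ext (Subtype.ext (congrArg (fun z : Subgroup.center ↥Q => (z : Q)) hab))
    have hr : φ.ker.index ≤ p := by
      rw [Subgroup.index_ker, ← hES.cardZ]
      exact Nat.le_of_dvd Nat.card_pos (Subgroup.card_subgroup_dvd_card _)
    have hBc : Nat.card ↥B ≤ p * p := by
      rw [← Subgroup.card_mul_index φ.ker]
      exact Nat.mul_le_mul hk hr
    have hQc : Nat.card ↥Q ≤ p ^ 3 := by
      rw [← Subgroup.card_mul_index B, hBi, pow_succ, sq]
      exact Nat.mul_le_mul_right p hBc
    rw [hcQ] at hQc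
    have := (Nat.pow_le_pow_iff_right hp.one_lt).1 hQc
    obtain rfl : n = 1 := by omega
    exact hcS
  · intro h4
    have hnc : ∃ a b : S, a * b ≠ b * a := by
      obtain ⟨a, b, hab⟩ := hQnc
      exact ⟨a, b, fun e => hab (Subtype.ext e)⟩
    have key : ∀ A : Subgroup S, p ^ 3 ≤ Nat.card A → IsMulCommutative A → A.index = p := by
      intro A hA3 hA
      obtain ⟨k, hk⟩ := IsPGroup.iff_card.1 (hS.to_subgroup A)
      have hd := Subgroup.card_subgroup_dvd_card A
      rw [hk, h4] at hd
      rw [hk] at hA3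
      have hk4 : k ≤ 4 := (Nat.pow_dvd_pow_iff_le_right hp.one_lt).1 hd
      have hk3 : 3 ≤ k := (Nat.pow_le_pow_iff_right hp.one_lt).1 hA3
      have hmul := Subgroup.card_mul_index A
      rw [hk, h4] at hmul
      rcases (show k = 3 ∨ k = 4 by omega) with rfl | rfl
      · exact Nat.eq_of_mul_eq_mul_left (pow_pos hp.pos 3) (hmul.trans (pow_succ p 3))
      · exfalso
        have : A = ⊤ := Subgroup.eq_top_of_le_card A (by rw [hk, h4])
        obtain ⟨a, b, hab⟩ := hnc
        exact hab (congrArg Subtype.val (hA.is_comm.comm (⟨a, this ▸ Subgroup.mem_top a⟩ : A) ⟨b, this ▸ Subgroup.mem_top b⟩))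
    obtain ⟨k, hk⟩ := IsPGroup.iff_card.1 (hS.to_subgroup (Subgroup.center S))
    haveI : Nontrivial S := by
      obtain ⟨a, b, hab⟩ := hnc
      exact nontrivial_of_ne _ _ hab
    haveI : Nontrivial ↥(Subgroup.center S) := hS.center_nontrivial
    have hk1 : 1 ≤ k := by
      by_contra h
      have := Finite.one_lt_card (α := ↥(Subgroup.center S))
      rw [hk, show k = 0 by omega, pow_zero] at this
      exact lt_irrefl _ this
    by_cases hk2 : 2 ≤ k
    · obtain ⟨x, hx⟩ : ∃ x : S, x ∉ Subgroup.center S := by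
        obtain ⟨a, b, hab⟩ := hnc
        exact ⟨a, fun h => hab (Subgroup.mem_center_iff.1 h b).symm⟩
      set A := Subgroup.center S ⊔ Subgroup.zpowers x with hA
      have hAc : IsMulCommutative A := by
        have h1 : A ≤ Subgroup.centralizer (A : Set S) := by
          refine sup_le (Subgroup.center_le_centralizer _) ?_
          rw [Subgroup.zpowers_le, Subgroup.mem_centralizer_iff]
          intro a ha
          have h2 : A ≤ Subgroup.centralizer {x} :=
            sup_le (Subgroup.center_le_centralizer _) (by rw [Subgroup.zpowers_le]; exact Subgroup.mem_centralizer_singleton_iff.2 rfl)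
          exact Subgroup.mem_centralizer_singleton_iff.1 (h2 ha)
        exact ⟨⟨fun a b => Subtype.ext ((Subgroup.mem_centralizer_iff.1 (h1 a.2) b b.2).symm)⟩⟩
      refine ⟨A, hAc, key A ?_ hAc⟩
      obtain ⟨m, hm⟩ := IsPGroup.iff_card.1 (hS.to_subgroup A)
      have hlt : Nat.card ↥(Subgroup.center S) < Nat.card A := by
        refine lt_of_le_of_ne (Nat.le_of_dvd Nat.card_pos (Subgroup.card_dvd_of_le le_sup_left)) fun h => hx ?_
        have := Subgroup.eq_of_le_of_card_ge (le_sup_left : Subgroup.center S ≤ A) h.ge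
        exact this ▸ Subgroup.mem_sup_right (Subgroup.mem_zpowers x)
      rw [hk, hm] at hlt
      rw [hm]
      exact Nat.pow_le_pow_right hp.pos (by have := (Nat.pow_lt_pow_iff_right hp.one_lt).1 hlt; omega)
    · have hkeq : k = 1 := by omega
      rw [hkeq, pow_one] at hk
      haveI : Group.IsNilpotent S := hS.isNilpotent
      obtain ⟨u, hu2, hu⟩ : ∃ u : S, (∀ g, ⁅u, g⁆ ∈ Subgroup.center S) ∧ u ∉ Subgroup.center S := by
        haveI : Nontrivial (S ⧸ Subgroup.center S) := by
          obtain ⟨a, b, hab⟩ := hnc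
          exact QuotientGroup.nontrivial_iff.2 fun h =>
            hab (Subgroup.mem_center_iff.1 (h ▸ Subgroup.mem_top b : b ∈ Subgroup.center S) a)
        haveI := (hS.to_quotient (Subgroup.center S)).center_nontrivial
        obtain ⟨⟨z, hz⟩, hz1⟩ := exists_ne (1 : ↥(Subgroup.center (S ⧸ Subgroup.center S)))
        obtain ⟨u, rfl⟩ := QuotientGroup.mk'_surjective _ z
        refine ⟨u, fun g => ?_, fun h => hz1 (Subtype.ext ((QuotientGroup.eq_one_iff u).2 h))⟩
        rw [← QuotientGroup.eq_one_iff, ← QuotientGroup.mk'_apply, map_commutatorElement, commutatorElement_eq_one_iff_mul_comm]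
        exact (Subgroup.mem_center_iff.1 hz _).symm
      have hu3 : ∀ g, ⁅g, u⁆ ∈ Subgroup.center S := fun g => by
        rw [← commutatorElement_inv]; exact inv_mem (hu2 g)
      let φ : S →* ↥(Subgroup.center S) := MonoidHom.mk' (fun g => ⟨⁅g, u⁆, hu3 g⟩)
        (fun a b => Subtype.ext (by
          show ⁅a * b, u⁆ = ⁅a, u⁆ * ⁅b, u⁆
          have e : ⁅a * b, u⁆ = (a * ⁅b, u⁆ * a⁻¹) * ⁅a, u⁆ := by simp only [commutatorElement_def]; group
          rw [e, Subgroup.mem_center_iff.1 (hu3 b) a, mul_assoc _ a, mul_inv_cancel, mul_one,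
            Subgroup.mem_center_iff.1 (hu3 b) ⁅a, u⁆]))
      have hidx : φ.ker.index ∣ p := by
        rw [Subgroup.index_ker, ← hk]
        exact Subgroup.card_subgroup_dvd_card _
      have hcard : p ^ 3 ≤ Nat.card φ.ker := by
        have h1 := Subgroup.card_mul_index φ.ker
        rw [h4] at h1
        have h2 := Nat.le_of_dvd hp.pos hidx
        have h3 : p ^ 3 * p ≤ Nat.card φ.ker * p := by
          rw [← pow_succ, ← h1]
          exact Nat.mul_le_mul_left _ h2
        exact Nat.le_of_mul_le_mul_right h3 hp.pos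
      have hmemk : ∀ g, g ∈ φ.ker ↔ g * u = u * g := fun g => by
        rw [MonoidHom.mem_ker, ← commutatorElement_eq_one_iff_mul_comm]
        exact ⟨fun h => congrArg Subtype.val h, fun h => Subtype.ext h⟩
      have huK : u ∈ φ.ker := (hmemk u).2 rfl
      refine ⟨φ.ker, ?_⟩
      have hKab : IsMulCommutative φ.ker := by
        by_contra hKn
        set Zk := Subgroup.center ↥φ.ker with hZk
        have hKne : φ.ker ≠ ⊤ := fun h => hu (Subgroup.mem_center_iff.2 fun g =>
          (hmemk g).1 (h ▸ Subgroup.mem_top g))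
        have hc3 : Nat.card φ.ker = p ^ 3 := by
          obtain ⟨m, hm⟩ := IsPGroup.iff_card.1 (hS.to_subgroup φ.ker)
          have h1 := Subgroup.card_subgroup_dvd_card φ.ker
          rw [hm, h4] at h1
          rw [hm] at hcard
          have h2 := (Nat.pow_dvd_pow_iff_le_right hp.one_lt).1 h1
          have h3 := (Nat.pow_le_pow_iff_right hp.one_lt).1 hcard
          have h5 : m ≠ 4 := fun h => hKne (Subgroup.eq_top_of_le_card _ (by rw [hm, h4, h]))
          rw [hm]; congr 1; omega
        obtain ⟨m, hm⟩ := IsPGroup.iff_card.1 ((hS.to_subgroup φ.ker).to_subgroup Zk)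
        have hd := Subgroup.card_subgroup_dvd_card Zk
        rw [hm, hc3] at hd
        have hm3 := (Nat.pow_dvd_pow_iff_le_right hp.one_lt).1 hd
        have hm2 : 2 ≤ m := by
          by_contra hlt
          have h1 : Nat.card ↥Zk ≤ p := by
            rw [hm]; calc p ^ m ≤ p ^ 1 := Nat.pow_le_pow_right hp.pos (by omega)
              _ = p := pow_one p
          have hZK : Subgroup.center S ≤ φ.ker := fun z hz => (hmemk z).2 (Subgroup.mem_center_iff.1 hz u).symm
          have hle : (Subgroup.center S).subgroupOf φ.ker ≤ Zk := fun z hz =>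
            Subgroup.mem_center_iff.2 fun g => Subtype.ext (Subgroup.mem_center_iff.1 hz g)
          have h6 := Subgroup.eq_of_le_of_card_ge hle (by
            rw [Nat.card_congr (Subgroup.subgroupOfEquivOfLe hZK).toEquiv, hk]; exact h1)
          have h7 : (⟨u, huK⟩ : φ.ker) ∈ Zk :=
            Subgroup.mem_center_iff.2 fun g => Subtype.ext ((hmemk g).1 g.2)
          rw [← h6, Subgroup.mem_subgroupOf] at h7
          exact hu h7
        apply hKn
        have hcyc : IsCyclic (↥φ.ker ⧸ Zk) := by
          have h1 := Subgroup.card_mul_index Zk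
          rw [hm, hc3] at h1
          rcases (show m = 2 ∨ m = 3 by omega) with rfl | rfl
          · exact isCyclic_of_prime_card (p := p) (by
              rw [← Subgroup.index_eq_card]
              exact Nat.eq_of_mul_eq_mul_left (pow_pos hp.pos 2) (h1.trans (pow_succ p 2)))
          · haveI : Subsingleton (↥φ.ker ⧸ Zk) := by
              rw [← Finite.card_le_one_iff_subsingleton, ← Subgroup.index_eq_card]
              have : p ^ 3 * Zk.index = p ^ 3 * 1 := by rw [h1, mul_one]
              exact (Nat.eq_of_mul_eq_mul_left (pow_pos hp.pos 3) this).le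
            infer_instance
        exact ⟨⟨fun a b => commutative_of_cyclic_center_quotient (QuotientGroup.mk' Zk)
          (by rw [QuotientGroup.ker_mk']) a b⟩⟩
      exact ⟨hKab, key _ hcard hKab⟩

end Cfsg.Agent.S3810
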