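import Cfsg.Statements.S3824
import Mathlib
import Cfsg.Agent.Lib.Characters.Burnside
import Cfsg.Agent.Lib.Characters.Integrality
import Cfsg.Agent.Lib.Transfer.Frobenius
-- import your own Cfsg.Agent.* helpers here

set_option autoImplicit false
open Cfsg

namespace Cfsg.Agent.S3824

/-- Every finite group having an abelian subgroup whose index is a power of 2 is solvable. -/
theorem result {G : Type*} [Group G] [Finite G]
    (A : Subgroup G) (hA : IsMulCommutative A) (hidx : ∃ k : ℕ, A.index = 2 ^ k) : Group.IsSolvable G := by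
  suffices key : ∀ (n : ℕ) (G : Type _) [Group G] [Finite G], Nat.card G ≤ n →
      ∀ A : Subgroup G, IsMulCommutative A → (∃ k, A.index = 2 ^ k) → Group.IsSolvable G from
    key _ G le_rfl A hA hidx
  intro n
  induction n with
  | zero => intro G _ _ h; exact absurd h (Nat.not_le.2 Nat.card_pos)
  | succ n ih =>
    intro G _ _ hn A hA hidx
    obtain ⟨k, hk⟩ := hidx
    by_cases hex : ∃ N : Subgroup G, N.Normal ∧ N ≠ ⊥ ∧ N ≠ ⊤
    · obtain ⟨N, hNn, hN1, hN2⟩ := hex
      haveI := hNn
      have hc := N.card_mul_index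
      have h1 := (Subgroup.one_lt_card_iff_ne_bot N).2 hN1
      have h2 : 1 < N.index := by
        have h0 : N.index ≠ 0 := Subgroup.index_ne_zero_of_finite
        have h3 : N.index ≠ 1 := fun e => hN2 (Subgroup.index_eq_one.1 e)
        omega
      haveI : Group.IsSolvable N := ih N (by nlinarith) (A.subgroupOf N)
        ⟨⟨fun a b => by
          apply Subtype.ext; apply Subtype.ext
          simp only [Subgroup.coe_mul]
          exact congrArg Subtype.val (hA.is_comm.comm ⟨(a : N), a.2⟩ ⟨(b : N), b.2⟩)⟩⟩ (by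
        obtain ⟨j, -, hj⟩ := (Nat.dvd_prime_pow Nat.prime_two).1
          (hk ▸ Cfsg.Lib.Transfer.relIndex_dvd_index_of_normal_right A N)
        exact ⟨j, hj⟩)
      haveI : Group.IsSolvable (G ⧸ N) := ih (G ⧸ N) (by rw [← Subgroup.index_eq_card]; nlinarith)
        (A.map (QuotientGroup.mk' N)) ⟨⟨by
          rintro ⟨_, a, ha, rfl⟩ ⟨_, b, hb, rfl⟩
          refine Subtype.ext ?_
          show QuotientGroup.mk' N a * QuotientGroup.mk' N b = _ * QuotientGroup.mk' N a
          rw [← map_mul, ← map_mul]
          exact congrArg _ (congrArg Subtype.val (hA.is_comm.comm ⟨a, ha⟩ ⟨b, hb⟩))⟩⟩ (by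
        obtain ⟨j, -, hj⟩ := (Nat.dvd_prime_pow Nat.prime_two).1
          (hk ▸ A.index_map_dvd (QuotientGroup.mk'_surjective N))
        exact ⟨j, hj⟩)
      exact Group.isSolvable_of_ker_le_range N.subtype (QuotientGroup.mk' N)
        (by rw [QuotientGroup.ker_mk', Subgroup.range_subtype])
    · push Not at hex
      haveI : Fact (Nat.Prime 2) := ⟨Nat.prime_two⟩
      by_cases hA1 : A = ⊥
      · rw [hA1, Subgroup.index_bot] at hk
        haveI := (IsPGroup.of_card hk : IsPGroup 2 G).isNilpotent
        infer_instance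
      haveI : Nontrivial G := by
        obtain ⟨a, -, ha1⟩ := A.bot_or_exists_ne_one.resolve_left hA1
        exact nontrivial_of_ne a 1 ha1
      haveI : IsSimpleGroup G := ⟨fun N hN => or_iff_not_imp_left.2 (hex N hN)⟩
      obtain ⟨a, haA, ha1⟩ := A.bot_or_exists_ne_one.resolve_left hA1
      have hle : A ≤ Subgroup.centralizer {a} := fun b hb =>
        Subgroup.mem_centralizer_singleton_iff.2 (congrArg Subtype.val (hA.is_comm.comm ⟨b, hb⟩ ⟨a, haA⟩))
      obtain ⟨j, -, hj⟩ := (Nat.dvd_prime_pow Nat.prime_two).1 (hk ▸ Subgroup.index_dvd_of_le hle)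
      have hprime := Cfsg.Lib.Characters.prime_card_of_prime_pow_class Nat.prime_two ha1
        (k := j) (by rw [Cfsg.Lib.Characters.card_conj_eq_index, hj])
      haveI := Fact.mk hprime
      haveI : IsCyclic G := isCyclic_of_prime_card rfl
      letI := IsCyclic.commGroup (α := G)
      exact Group.isSolvable_of_comm fun x y => mul_comm x y

end Cfsg.Agent.S3824
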