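import Cfsg.Statements.S3835
import Cfsg.Agent.Lib.PStable.Stable
import Cfsg.Agent.Lib.PStable.QdAct
-- import your own Cfsg.Agent.* helpers here

set_option autoImplicit false
open Cfsg
open Cfsg.Lib.PStable
open scoped Matrix

namespace Cfsg.Agent.S3835

/-- `p`-subgroups of `Perm (Fin n)` are commutative when `n < p ^ 2`. -/
theorem commute_of_small {p n : ℕ} [hp : Fact p.Prime] (hn : n < p ^ 2)
    (P : Subgroup (Equiv.Perm (Fin n))) (hP : IsPGroup p P) (x : Equiv.Perm (Fin n)) (hx : x ∈ P)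
    (y : Equiv.Perm (Fin n)) (hy : y ∈ P) : x * y = y * x := by
  classical
  ext a
  let O := MulAction.orbit P a
  let ρ : ↥P →* Equiv.Perm ↥O := MulAction.toPermHom ↥P ↥O
  have hO : Nat.card O = 1 ∨ Nat.card O = p := by
    obtain ⟨k, hk⟩ := hP.card_orbit a
    have hle : Nat.card O ≤ n := by
      calc Nat.card O ≤ Nat.card (Fin n) := Nat.card_le_card_of_injective _ Subtype.val_injective
        _ = n := Nat.card_fin n
    rw [hk] at hle ⊢
    have : p ^ k < p ^ 2 := lt_of_le_of_lt hle hn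
    have hk2 := (Nat.pow_lt_pow_iff_right hp.out.one_lt).1 this
    interval_cases k
    · exact Or.inl (pow_zero p)
    · exact Or.inr (pow_one p)
  have himg : IsPGroup p ρ.range := hP.of_surjective ρ.rangeRestrict ρ.rangeRestrict_surjective
  obtain ⟨k, hk⟩ := IsPGroup.iff_card.1 himg
  have hd : p ^ k ∣ (Nat.card O).factorial := by
    rw [← hk, ← Nat.card_perm]
    exact Subgroup.card_subgroup_dvd_card _
  have hk1 : k ≤ 1 := by
    by_contra hlt
    have h2 : p ^ 2 ∣ (Nat.card O).factorial := (pow_dvd_pow p (by omega)).trans hd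
    rcases hO with h | h
    · rw [h, Nat.factorial_one, Nat.dvd_one] at h2
      have := Nat.one_lt_pow (two_ne_zero) hp.out.one_lt
      omega
    · rw [h, pow_two, ← Nat.mul_factorial_pred hp.out.ne_zero] at h2
      have := (Nat.mul_dvd_mul_iff_left hp.out.pos).1 h2
      have := (hp.out.dvd_factorial).1 this
      have := hp.out.pos
      omega
  haveI : IsCyclic ρ.range := by
    interval_cases k
    · haveI : Subsingleton ρ.range := (Nat.card_eq_one_iff_unique.1 (by simpa using hk)).1
      exact isCyclic_of_subsingleton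
    · exact isCyclic_of_prime_card (p := p) (by simpa using hk)
  have hc : ρ (⟨x, hx⟩ * ⟨y, hy⟩) = ρ (⟨y, hy⟩ * ⟨x, hx⟩) := by
    rw [map_mul, map_mul]
    have := IsCyclic.commGroup (α := ρ.range) |>.mul_comm (ρ.rangeRestrict ⟨x, hx⟩) (ρ.rangeRestrict ⟨y, hy⟩)
    exact congrArg Subtype.val this
  have := congrArg Subtype.val (Equiv.ext_iff.1 hc ⟨a, MulAction.mem_orbit_self a⟩)
  simpa [ρ, MulAction.toPermHom_apply, MulAction.orbit.coe_smul, Subgroup.smul_def, O] using congrArg Fin.val this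

/-- lower unitriangular matrices -/
def loW {p : ℕ} (a : ZMod p) : Matrix.SpecialLinearGroup (Fin 2) (ZMod p) :=
  ⟨!![1, 0; a, 1], by simp [Matrix.det_fin_two]⟩

theorem loW_add {p : ℕ} [Fact p.Prime] (a b : ZMod p) : loW (a + b) = loW a * loW b := by
  refine Subtype.ext ?_
  ext i j
  rw [Matrix.SpecialLinearGroup.coe_mul]
  fin_cases i <;> fin_cases j <;> simp [loW, Matrix.mul_apply, Fin.sum_univ_two]

theorem sign_trivial {p : ℕ} [hp : Fact p.Prime] (hp2 : p ≠ 2) {A : Type*} [AddGroup A]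
    (hA : ∀ a : A, p • a = 0) (χ : Multiplicative A →* ℤˣ) (a : A) : χ (Multiplicative.ofAdd a) = 1 := by
  have h1 : χ (Multiplicative.ofAdd a) ^ p = 1 := by
    rw [← map_pow, ← ofAdd_nsmul, hA, ofAdd_zero, map_one]
  obtain ⟨j, hj⟩ := hp.out.odd_of_ne_two hp2
  rw [hj, pow_succ, pow_mul, Int.units_sq, one_pow, one_mul] at h1
  exact h1

theorem sl2_sign {p : ℕ} [hp : Fact p.Prime] (hp2 : p ≠ 2)
    (χ : Matrix.SpecialLinearGroup (Fin 2) (ZMod p) →* ℤˣ) (m) : χ m = 1 := by
  have hz : ∀ a : ZMod p, p • a = 0 := fun a => by rw [nsmul_eq_mul, ZMod.natCast_self, zero_mul]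
  let U : Multiplicative (ZMod p) →* Matrix.SpecialLinearGroup (Fin 2) (ZMod p) :=
    { toFun := fun a => upU (Multiplicative.toAdd a)
      map_one' := by ext i j; fin_cases i <;> fin_cases j <;> simp [upU]
      map_mul' := fun a b => upU_add _ _ }
  let L : Multiplicative (ZMod p) →* Matrix.SpecialLinearGroup (Fin 2) (ZMod p) :=
    { toFun := fun a => loW (Multiplicative.toAdd a)
      map_one' := by ext i j; fin_cases i <;> fin_cases j <;> simp [loW]
      map_mul' := fun a b => loW_add _ _ }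
  have hU : ∀ a, χ (upU a) = 1 := fun a => sign_trivial hp2 hz (χ.comp U) a
  have hL : ∀ a, χ (loW a) = 1 := fun a => sign_trivial hp2 hz (χ.comp L) a
  have key : ∀ m : Matrix.SpecialLinearGroup (Fin 2) (ZMod p), m 1 0 ≠ 0 → χ m = 1 := by
    intro m hc
    have hdet : m 0 0 * m 1 1 - m 0 1 * m 1 0 = 1 := by
      have := m.det_coe
      rwa [Matrix.det_fin_two] at this
    have e : m = upU ((m 0 0 - 1) / m 1 0) * loW (m 1 0) * upU ((m 1 1 - 1) / m 1 0) := by
      ext i j
      rw [Matrix.SpecialLinearGroup.coe_mul, Matrix.SpecialLinearGroup.coe_mul]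
      fin_cases i <;> fin_cases j <;>
        simp [upU, loW, Matrix.mul_apply, Fin.sum_univ_two] <;> field_simp <;>
        first | linear_combination (0 : ZMod p) * hdet | linear_combination hdet | linear_combination -hdet
    rw [e, map_mul, map_mul, hU, hU, hL, one_mul, one_mul]
  by_cases hc : m 1 0 = 0
  · have h2 := key (loW 1 * m) (by
      rw [Matrix.SpecialLinearGroup.coe_mul]
      have hdet := m.det_coe
      rw [Matrix.det_fin_two, hc, mul_zero, sub_zero] at hdet
      simp [loW, Matrix.mul_apply, Fin.sum_univ_two, hc]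
      exact left_ne_zero_of_mul_eq_one hdet)
    rwa [map_mul, hL, one_mul] at h2
  · exact key m hc

/-- the affine action -/
def act {p : ℕ} (M : Matrix.SpecialLinearGroup (Fin 3) (ZMod p)) (x : Fin 2 → ZMod p) :
    Fin 2 → ZMod p :=
  ![M 0 0 * x 0 + M 0 1 * x 1 + M 0 2, M 1 0 * x 0 + M 1 1 * x 1 + M 1 2]

theorem act_mul {p : ℕ} [Fact p.Prime] (M N : Matrix.SpecialLinearGroup (Fin 3) (ZMod p))
    (hN : N ∈ Cfsg.qd p) (x : Fin 2 → ZMod p) : act (M * N) x = act M (act N x) := by
  obtain ⟨m, c, rfl⟩ := exists_aff hN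
  funext i
  have e := fun i j => mul_entry_three M (aff m c) i j
  fin_cases i <;> simp [act, e] <;> simp [aff] <;> ring

theorem act_one {p : ℕ} (x : Fin 2 → ZMod p) : act (1 : Matrix.SpecialLinearGroup (Fin 3) (ZMod p)) x = x := by
  funext i
  fin_cases i <;> simp [act]

/-- the permutation representation of `Qd(p)` on the affine plane -/
def permHom (p : ℕ) [Fact p.Prime] : ↥(Cfsg.qd p) →* Equiv.Perm (Fin 2 → ZMod p) where
  toFun M :=
    { toFun := act (M : Matrix.SpecialLinearGroup (Fin 3) (ZMod p))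
      invFun := act ((M⁻¹ : ↥(Cfsg.qd p)) : Matrix.SpecialLinearGroup (Fin 3) (ZMod p))
      left_inv := fun x => by
        rw [← act_mul _ _ M.2, ← Subgroup.coe_mul, inv_mul_cancel, Subgroup.coe_one, act_one]
      right_inv := fun x => by
        rw [← act_mul _ _ (M⁻¹).2, ← Subgroup.coe_mul, mul_inv_cancel, Subgroup.coe_one, act_one] }
  map_one' := Equiv.ext fun x => act_one x
  map_mul' := fun M N => Equiv.ext fun x => act_mul _ _ N.2 x

theorem permHom_injective (p : ℕ) [Fact p.Prime] : Function.Injective (permHom p) := by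
  rw [injective_iff_map_eq_one]
  intro M hM
  obtain ⟨m, c, hmc⟩ := exists_aff M.2
  have h : ∀ x, act (M : Matrix.SpecialLinearGroup (Fin 3) (ZMod p)) x = x := fun x =>
    Equiv.ext_iff.1 hM x
  rw [← hmc] at h
  have h0 := h 0
  have h1 := h ![1, 0]
  have h2 := h ![0, 1]
  simp only [funext_iff, Fin.forall_fin_two] at h0 h1 h2
  simp [act, aff] at h0 h1 h2
  obtain ⟨e0, e1⟩ := h0
  apply Subtype.ext
  rw [← hmc]
  apply Subtype.ext
  ext i j
  fin_cases i <;> fin_cases j <;> simp_all [aff]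

/-- Let p be an odd prime and n a natural number. The alternating group of degree n has a subgroup isomorphic to Qd(p) (the natural semidirect product of an elementary abelian group of order p² by SL₂(p)) if and only if n ≥ p²; and if n < p² then Qd(p) is not even involved in it. -/
theorem result {p : ℕ} [Fact p.Prime] (hp : p ≠ 2) (n : ℕ) : ((∃ H : Subgroup (alternatingGroup (Fin n)), Nonempty (↥H ≃* ↥(Cfsg.qd p))) ↔ p ^ 2 ≤ n) ∧ (n < p ^ 2 → ¬ Cfsg.Involves ↥(Cfsg.qd p) ↥(alternatingGroup (Fin n))) := by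
  have hpp := (inferInstance : Fact p.Prime).out
  have hno : n < p ^ 2 → ¬ Cfsg.Involves ↥(Cfsg.qd p) ↥(alternatingGroup (Fin n)) := by
    rintro hn ⟨K, R, hR, ⟨e⟩⟩
    let f : ↥K →* ↥(Cfsg.qd p) := e.toMonoidHom.comp (QuotientGroup.mk' (R.subgroupOf K))
    have hf : Function.Surjective f := e.surjective.comp (QuotientGroup.mk'_surjective _)
    let t : ↥(Cfsg.qd p) := ⟨aff 1 ![0, 1], aff_mem _ _⟩
    let u : ↥(Cfsg.qd p) := ⟨aff (upU 1) 0, aff_mem _ _⟩
    have hupw : ∀ k : ℕ, ((u ^ k : ↥(Cfsg.qd p)) : Matrix.SpecialLinearGroup (Fin 3) (ZMod p)) =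
        aff (upU (k : ZMod p)) 0 := by
      intro k
      induction k with
      | zero =>
        rw [pow_zero, Subgroup.coe_one, ← aff_one_zero, Nat.cast_zero]
        congr 1
        ext i j
        fin_cases i <;> fin_cases j <;> simp [upU]
      | succ k ih =>
        rw [pow_succ, Subgroup.coe_mul, ih, Nat.cast_succ, upU_add, ← aff_mul]
        simp
    have hu : u ^ p = 1 := by
      apply Subtype.ext
      rw [hupw, ZMod.natCast_self, Subgroup.coe_one, ← aff_one_zero]
      congr 1
      ext i j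
      fin_cases i <;> fin_cases j <;> simp [upU]
    have hz : IsPGroup p ↥(Subgroup.zpowers u) := by
      obtain ⟨k, -, hk⟩ := (Nat.dvd_prime_pow hpp (i := orderOf u) (m := 1)).1
        (by rw [pow_one]; exact orderOf_dvd_of_pow_eq_one hu)
      exact IsPGroup.of_card (n := k) (by rw [Nat.card_zpowers, hk])
    haveI := transl_normal (MulEquiv.refl ↥(Cfsg.qd p))
    have hS := hz.to_sup_of_normal_right (isPGroup_transl (MulEquiv.refl ↥(Cfsg.qd p)))
    obtain ⟨S, hSle⟩ := hS.exists_le_sylow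
    obtain PK : Sylow p K := default
    obtain ⟨g, hg⟩ := MulAction.exists_smul_eq ↥(Cfsg.qd p) (PK.mapSurjective hf) S
    have hcomm : ∀ a ∈ (S : Subgroup ↥(Cfsg.qd p)), ∀ b ∈ (S : Subgroup ↥(Cfsg.qd p)),
        a * b = b * a := by
      intro a ha b hb
      rw [← hg, Sylow.coe_subgroup_smul, Sylow.coe_mapSurjective] at ha hb
      obtain ⟨a1, ha1, rfl⟩ := ha
      obtain ⟨b1, hb1, rfl⟩ := hb
      obtain ⟨a', ha', rfl⟩ := Subgroup.mem_map.1 ha1
      obtain ⟨b', hb', rfl⟩ := Subgroup.mem_map.1 hb1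
      have hc : a' * b' = b' * a' := by
        apply Subtype.ext
        apply Subtype.ext
        exact commute_of_small hn
          (((PK : Subgroup K).map K.subtype).map (alternatingGroup (Fin n)).subtype)
          ((PK.isPGroup'.map _).map _) _ ⟨_, ⟨_, ha', rfl⟩, rfl⟩ _ ⟨_, ⟨_, hb', rfl⟩, rfl⟩
      show g * f a' * g⁻¹ * (g * f b' * g⁻¹) = g * f b' * g⁻¹ * (g * f a' * g⁻¹)
      rw [conj_mul, conj_mul, ← map_mul, ← map_mul, hc]
    have h := congrArg Subtype.val (hcomm t (hSle (Subgroup.mem_sup_right ⟨![0, 1], rfl⟩)) u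
      (hSle (Subgroup.mem_sup_left (Subgroup.mem_zpowers u))))
    rw [Subgroup.coe_mul, Subgroup.coe_mul, ← aff_mul, ← aff_mul] at h
    have h2 := congrFun (aff_inj h).2 0
    simp [upU] at h2
  refine ⟨⟨fun ⟨H, ⟨e⟩⟩ => ?_, fun hn => ?_⟩, hno⟩
  · by_contra hlt
    refine hno (not_le.1 hlt) ⟨H, ⊥, ?_, ⟨?_⟩⟩
    · rw [Subgroup.bot_subgroupOf]; infer_instance
    · exact (QuotientGroup.quotientMulEquivOfEq (Subgroup.bot_subgroupOf H)).trans
        ((QuotientGroup.quotientBot).trans e)
  · classical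
    have hcard : Nat.card (Fin 2 → ZMod p) ≤ Nat.card (Fin n) := by simpa [Nat.card_fun] using hn
    rw [Nat.card_eq_fintype_card, Nat.card_eq_fintype_card] at hcard
    obtain ⟨ι⟩ := Function.Embedding.nonempty_of_card_le hcard
    let φ : ↥(Cfsg.qd p) →* Equiv.Perm (Fin n) :=
      (Equiv.Perm.viaEmbeddingHom ι).comp (permHom p)
    have hφ : Function.Injective φ :=
      (Equiv.Perm.viaEmbeddingHom_injective ι).comp (permHom_injective p)
    have hmem : ∀ M, φ M ∈ alternatingGroup (Fin n) := by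
      intro M
      rw [Equiv.Perm.mem_alternatingGroup]
      obtain ⟨m, c, hmc⟩ := exists_aff M.2
      let A : Matrix.SpecialLinearGroup (Fin 2) (ZMod p) →* ↥(Cfsg.qd p) :=
        { toFun := fun m => ⟨aff m 0, aff_mem _ _⟩
          map_one' := Subtype.ext (by rw [Subgroup.coe_one, ← aff_one_zero])
          map_mul' := fun a b => Subtype.ext (by rw [Subgroup.coe_mul, ← aff_mul]; simp) }
      let T : Multiplicative (Fin 2 → ZMod p) →* ↥(Cfsg.qd p) :=
        { toFun := fun c => ⟨aff 1 (Multiplicative.toAdd c), aff_mem _ _⟩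
          map_one' := Subtype.ext (by rw [Subgroup.coe_one, ← aff_one_zero]; rfl)
          map_mul' := fun a b => Subtype.ext (by rw [Subgroup.coe_mul]; exact (aff_trans_mul _ _).symm) }
      have e : M = T (Multiplicative.ofAdd c) * A m := by
        apply Subtype.ext
        rw [Subgroup.coe_mul]
        show _ = aff 1 c * aff m 0
        rw [← aff_mul, ← hmc]
        simp
      rw [e, map_mul, map_mul]
      have h1 := sl2_sign hp (Equiv.Perm.sign.comp (φ.comp A)) m
      have h2 := sign_trivial hp (A := Fin 2 → ZMod p) (fun a => funext fun i => by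
        rw [Pi.smul_apply, nsmul_eq_mul, ZMod.natCast_self, zero_mul, Pi.zero_apply])
        (Equiv.Perm.sign.comp (φ.comp T)) c
      simp only [MonoidHom.comp_apply] at h1 h2
      rw [h1, h2, one_mul]
    refine ⟨(φ.codRestrict (alternatingGroup (Fin n)) hmem).range, ⟨(MonoidHom.ofInjective ?_).symm⟩⟩
    exact fun a b h => hφ (congrArg Subtype.val h)

end Cfsg.Agent.S3835
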