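import Cfsg.Statements.S3868
import Mathlib
import Cfsg.Agent.Lib.Solv.MinimalNotPClosed
-- import your own Cfsg.Agent.* helpers here

set_option autoImplicit false
open Cfsg

namespace Cfsg.Agent.S3868

/-- Structure of the non-simple minimal non-p-closed groups. Call a finite group p-closed when its Sylow p-subgroups are normal, and minimal non-p-closed when it is not p-closed but every proper subgroup and every proper quotient is. If such a group G is not simple, then there is a prime q ≠ p such that G has order p · q^e, where e is the multiplicative order of q modulo p, and G has a normal subgroup A of order q^e that is elementary abelian and is a minimal normal subgroup of G (so G is the semidirect product of A by a group of order p acting irreducibly). -/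
theorem result {G : Type*} [Group G] [Finite G] {p : ℕ} [Fact p.Prime]
    (hnc : ¬ Cfsg.IsPClosed p G) (hsub : ∀ H : Subgroup G, H ≠ ⊤ → Cfsg.IsPClosed p ↥H)
    (hquo : ∀ (N : Subgroup G) [N.Normal], N ≠ ⊥ → Cfsg.IsPClosed p (G ⧸ N)) (hns : ¬ IsSimpleGroup G) :
    ∃ q : ℕ, q.Prime ∧ q ≠ p ∧ Nat.card G = p * q ^ orderOf (q : ZMod p) ∧
      ∃ A : Subgroup G, A.Normal ∧ Nat.card ↥A = q ^ orderOf (q : ZMod p) ∧ Cfsg.IsElementaryAbelian q A ∧
        ∀ B : Subgroup G, B.Normal → B ≤ A → B = ⊥ ∨ B = A := by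
  classical
  have hp := (inferInstance : Fact p.Prime).out
  haveI : Nontrivial G := by
    by_contra h
    rw [not_nontrivial_iff_subsingleton] at h
    exact hnc fun P => ⟨fun n hn g => by rw [Subsingleton.elim (g * n * g⁻¹) n]; exact hn⟩
  obtain ⟨S, hS, hS1, hS2⟩ : ∃ S : Subgroup G, S.Normal ∧ S ≠ ⊥ ∧ S ≠ ⊤ := by
    by_contra h
    push_neg at h
    exact hns ⟨fun N hN => or_iff_not_imp_left.2 (h N hN)⟩
  obtain ⟨N, hNn, hNS, hN1, hmin⟩ := Cfsg.Lib.Solv.exists_minimal_normal_le (hn := hS) hS1
  haveI := hNn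
  have hNt : N ≠ ⊤ := fun h => hS2 (top_le_iff.1 (h ▸ hNS))
  have hnormal_pcore : ∀ R : Subgroup G, R.Normal → IsPGroup p R → R = ⊥ := by
    intro R hRn hR
    by_contra hR1
    haveI := hRn
    apply hnc
    intro P
    have hRP : R ≤ (P : Subgroup G) := hR.le_sylow_of_normal P
    have hn := hquo R hR1 (P.mapSurjective (QuotientGroup.mk'_surjective R))
    rw [Sylow.coe_mapSurjective] at hn
    have h2 := hn.comap (QuotientGroup.mk' R)
    rwa [Subgroup.comap_map_eq, QuotientGroup.ker_mk', sup_eq_left.2 hRP] at h2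
  obtain P : Sylow p G := default
  have hPN : IsPGroup p (G ⧸ N) := by
    have hn := hquo N hN1 (P.mapSurjective (QuotientGroup.mk'_surjective N))
    set H := ((P.mapSurjective (QuotientGroup.mk'_surjective N)) : Subgroup (G ⧸ N)).comap (QuotientGroup.mk' N) with hH
    haveI : H.Normal := hn.comap _
    by_cases hHt : H = ⊤
    · have : ((P.mapSurjective (QuotientGroup.mk'_surjective N)) : Subgroup (G ⧸ N)) = ⊤ := by
        rw [← Subgroup.map_comap_eq_self_of_surjective (QuotientGroup.mk'_surjective N)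
          ((P.mapSurjective (QuotientGroup.mk'_surjective N)) : Subgroup (G ⧸ N)), ← hH, hHt,
          Subgroup.map_top_of_surjective _ (QuotientGroup.mk'_surjective N)]
      exact (this ▸ (P.mapSurjective (QuotientGroup.mk'_surjective N)).isPGroup').of_equiv Subgroup.topEquiv
    · exfalso
      have hPH : (P : Subgroup G) ≤ H := fun y hy => by
        rw [hH, Subgroup.mem_comap, Sylow.coe_mapSurjective]
        exact Subgroup.mem_map_of_mem _ hy
      haveI := hsub H hHt (P.subtype hPH)
      haveI : Unique (Sylow p H) := Sylow.unique_of_normal (P.subtype hPH) inferInstance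
      haveI : ((P.subtype hPH : Sylow p H) : Subgroup H).Characteristic :=
        Sylow.characteristic_of_normal _ inferInstance
      have hn' : (((P.subtype hPH : Sylow p H) : Subgroup H).map H.subtype).Normal :=
        ConjAct.normal_of_characteristic_of_normal
      have e : ((P.subtype hPH : Sylow p H) : Subgroup H).map H.subtype = (P : Subgroup G) := by
        rw [Sylow.coe_subtype, Subgroup.subgroupOf_map_subtype, inf_eq_left.2 hPH]
      rw [e] at hn'
      apply hnc
      intro Q
      haveI := Sylow.unique_of_normal P hn'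
      rw [Subsingleton.elim Q P]
      exact hn'
  obtain ⟨L, hLn, hNL, hLi⟩ := Cfsg.Lib.Solv.exists_normal_index_prime_of_isPGroup_quotient N hNt hPN
  haveI := hLn
  have hLne : L ≠ ⊤ := fun h => hp.ne_one (by rw [← hLi, h, Subgroup.index_top])
  have hpL : ¬ p ∣ Nat.card L := by
    intro hd
    obtain Q : Sylow p L := default
    have hQn := hsub L hLne Q
    haveI : (Q : Subgroup L).Characteristic := Sylow.characteristic_of_normal _ hQn
    have hn' : ((Q : Subgroup L).map L.subtype).Normal := ConjAct.normal_of_characteristic_of_normal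
    have := hnormal_pcore _ hn' (Q.isPGroup'.map _)
    rw [Subgroup.map_eq_bot_iff_of_injective _ L.subtype_injective] at this
    exact Q.ne_bot_of_dvd_card hd this
  have hLN : L = N := by
    refine le_antisymm (fun l hl => (QuotientGroup.eq_one_iff l).1 ?_) hNL
    obtain ⟨k, hk⟩ := IsPGroup.iff_orderOf.1 hPN (QuotientGroup.mk l)
    refine orderOf_eq_one_iff.1 (Nat.eq_one_of_dvd_coprimes (a := p ^ k) (b := orderOf l) ?_ (dvd_of_eq hk) ?_)
    · exact ((hp.coprime_iff_not_dvd.2 hpL).coprime_dvd_right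
        (Subgroup.orderOf_dvd_natCard L hl)).pow_left k
    · exact orderOf_map_dvd (QuotientGroup.mk' N) l
  have hpN : ¬ p ∣ Nat.card N := hLN ▸ hpL
  have hidx : N.index = p := hLN ▸ hLi
  obtain ⟨x, hx⟩ := exists_prime_orderOf_dvd_card' (G := G) p (hidx ▸ N.index_dvd_card)
  have hxN : x ∉ N := fun h => hpN (hx ▸ Subgroup.orderOf_dvd_natCard N h)
  have hz : IsPGroup p ↥(Subgroup.zpowers x) :=
    IsPGroup.of_card (n := 1) (by rw [Nat.card_zpowers, hx, pow_one])
  refine Cfsg.Lib.Solv.structure_of_centralizes N hN1 hmin hpN hidx x hx ?_ ?_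
  · intro hle
    refine (fun h => hp.ne_one (by rw [← hx, orderOf_eq_one_iff.2 h]))
      (Subgroup.mem_bot.1 ((hnormal_pcore _ ?_ hz) ▸ Subgroup.mem_zpowers x))
    rw [← Subgroup.normalizer_eq_top_iff, eq_top_iff]
    have htop : N ⊔ Subgroup.zpowers x = ⊤ := by
      rw [← Subgroup.index_eq_one]
      refine (hp.eq_one_or_self_of_dvd _ (hidx ▸ Subgroup.index_dvd_of_le le_sup_left)).resolve_right fun h2 => ?_
      apply hxN
      have heq : N = N ⊔ Subgroup.zpowers x := by
        refine Subgroup.eq_of_le_of_card_ge le_sup_left ?_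
        have e1 := (N ⊔ Subgroup.zpowers x).card_mul_index
        rw [h2, ← N.card_mul_index, hidx] at e1
        exact (Nat.eq_of_mul_eq_mul_right hp.pos e1).le
      exact heq.symm.le (Subgroup.mem_sup_right (Subgroup.mem_zpowers x))
    rw [← htop]
    refine sup_le (fun n hn => ?_) Subgroup.le_normalizer
    refine Subgroup.centralizer_le_normalizer _ (Subgroup.mem_centralizer_iff.2 ?_)
    rintro _ ⟨j, rfl⟩
    exact ((show Commute x n from (Subgroup.mem_centralizer_singleton_iff.1 (hle hn)).symm).zpow_left j).eq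
  · intro R hRN hRne hxR r hr
    set H := R ⊔ Subgroup.zpowers x with hH
    have hHt : H ≠ ⊤ := by
      intro h
      apply hRne
      refine le_antisymm hRN fun n hn => ?_
      have hmem : n ∈ H := h ▸ Subgroup.mem_top n
      rw [hH, ← SetLike.mem_coe, Subgroup.coe_mul_of_right_le_normalizer_left R _ ((Subgroup.zpowers_le).2 hxR)] at hmem
      obtain ⟨a, ha, b, hb, rfl⟩ := hmem
      have hbN : b ∈ N := by simpa using N.mul_mem (N.inv_mem (hRN ha)) hn
      obtain ⟨k, hk⟩ := IsPGroup.iff_orderOf.1 hz ⟨b, hb⟩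
      rw [← Subgroup.orderOf_coe] at hk
      have hb1 : b = 1 := orderOf_eq_one_iff.1 (Nat.eq_one_of_dvd_coprimes
        ((hp.coprime_iff_not_dvd.2 hpN).pow_left k) (hk ▸ dvd_rfl) (Subgroup.orderOf_dvd_natCard N hbN))
      simp only [hb1, mul_one]
      exact ha
    have hxH : x ∈ H := Subgroup.mem_sup_right (Subgroup.mem_zpowers x)
    obtain ⟨Q, hQ⟩ := (hz.comap_subtype (K := H)).exists_le_sylow
    have hQn := hsub H hHt Q
    have hxQ : (⟨x, hxH⟩ : H) ∈ (Q : Subgroup H) := hQ (Subgroup.mem_zpowers x)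
    set c : H := ⟨x, hxH⟩ * ⟨r, Subgroup.mem_sup_left hr⟩ * (⟨x, hxH⟩ : H)⁻¹ *
      (⟨r, Subgroup.mem_sup_left hr⟩ : H)⁻¹ with hc
    have hcQ : c ∈ (Q : Subgroup H) := by
      rw [hc, mul_assoc, mul_assoc]
      refine (Q : Subgroup H).mul_mem hxQ ?_
      rw [← mul_assoc]
      exact hQn.conj_mem _ ((Q : Subgroup H).inv_mem hxQ) _
    obtain ⟨k, hk⟩ := IsPGroup.iff_orderOf.1 Q.isPGroup' ⟨c, hcQ⟩
    rw [← Subgroup.orderOf_coe] at hk
    have hcN : (c : G) ∈ N := N.mul_mem (hNn.conj_mem r (hRN hr) x) (N.inv_mem (hRN hr))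
    have hc1 : (c : G) = 1 := orderOf_eq_one_iff.1 (Nat.eq_one_of_dvd_coprimes
      ((hp.coprime_iff_not_dvd.2 hpN).pow_left k) (dvd_of_eq ((Subgroup.orderOf_coe c).trans hk))
      (Subgroup.orderOf_dvd_natCard N hcN))
    refine Subgroup.mem_centralizer_singleton_iff.2 ?_
    have hc1' : x * r * x⁻¹ * r⁻¹ = 1 := hc1
    rw [mul_inv_eq_one, mul_inv_eq_iff_eq_mul] at hc1'
    exact hc1'.symm

end Cfsg.Agent.S3868
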