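import Cfsg.Statements.S3869
import Mathlib
import Cfsg.Agent.Lib.Solv.MinimalNotPClosed
-- import your own Cfsg.Agent.* helpers here

set_option autoImplicit false
open Cfsg
open scoped Pointwise

namespace Cfsg.Agent.S3869

/-- Let p and q be distinct primes and G a finite non-abelian group with a normal elementary abelian q-subgroup A that is a minimal normal subgroup of G and has index p. Then A has order q^e with e the multiplicative order of q modulo p, and G is minimal non-p-closed: its Sylow p-subgroups are not normal, while in every proper subgroup and in every proper quotient of G the Sylow p-subgroups are normal. -/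
theorem result {G : Type*} [Group G] [Finite G] {p q : ℕ} [Fact p.Prime] (hq : q.Prime) (hpq : q ≠ p)
    (hna : ¬ IsMulCommutative G) (A : Subgroup G) [A.Normal] (hA : Cfsg.IsElementaryAbelian q A) (hidx : A.index = p)
    (hmin : ∀ B : Subgroup G, B.Normal → B ≤ A → B = ⊥ ∨ B = A) :
    Nat.card ↥A = q ^ orderOf (q : ZMod p) ∧ ¬ Cfsg.IsPClosed p G ∧ (∀ H : Subgroup G, H ≠ ⊤ → Cfsg.IsPClosed p ↥H) ∧
      ∀ (N : Subgroup G) [N.Normal], N ≠ ⊥ → Cfsg.IsPClosed p (G ⧸ N) := by
  classical
  have hp := (inferInstance : Fact p.Prime).out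
  have hAc : IsMulCommutative A := hA.1
  haveI := hAc
  have he : ∀ a ∈ A, a ^ q = 1 := fun a ha => hA.2 a ha
  obtain ⟨hcard, x, hx, hgen, hfix⟩ := Cfsg.Lib.Solv.card_minimal_normal_index_prime hq hpq hna A hAc he hidx hmin
  have hAne : A ≠ ⊥ := by
    intro h
    refine hna ⟨⟨fun g k => ?_⟩⟩
    obtain ⟨b, hb, n, rfl⟩ := hgen g
    obtain ⟨c, hcA, j, rfl⟩ := hgen k
    rw [h, Subgroup.mem_bot] at hb hcA
    rw [hb, hcA, one_mul, one_mul, ← zpow_add, ← zpow_add, add_comm]
  have hpA : ¬ p ∣ Nat.card A := by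
    rw [hcard]
    exact fun h => hpq ((Nat.prime_dvd_prime_iff_eq hp hq).1 (hp.dvd_of_dvd_pow h)).symm
  have hSyl : ∀ (P : Sylow p G), Nat.card P = p := by
    intro P
    rw [P.card_eq_multiplicity, ← A.card_mul_index, hidx,
      Nat.factorization_mul Nat.card_pos.ne' hp.ne_zero, Finsupp.add_apply,
      Nat.factorization_eq_zero_of_not_dvd hpA, zero_add, hp.factorization_self, pow_one]
  refine ⟨hcard, ?_, ?_, ?_⟩
  · intro hcl
    have hz : IsPGroup p ↥(Subgroup.zpowers x) := IsPGroup.of_card (n := 1) (by rw [Nat.card_zpowers, hx, pow_one])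
    obtain ⟨P, hP⟩ := hz.exists_le_sylow
    have hPeq : Subgroup.zpowers x = (P : Subgroup G) :=
      Subgroup.eq_of_le_of_card_ge hP (by rw [Nat.card_zpowers, hx, hSyl P])
    have hn := hcl P
    obtain ⟨a, ha, ha1⟩ : ∃ a ∈ A, a ≠ 1 := by
      by_contra h
      push_neg at h
      exact hAne (eq_bot_iff.2 fun a ha => Subgroup.mem_bot.2 (h a ha))
    apply ha1 (hfix a ha ?_)
    have h1 : x * a * x⁻¹ * a⁻¹ ∈ A :=
      A.mul_mem ((inferInstance : A.Normal).conj_mem a ha x) (A.inv_mem ha)
    have h2 : x * a * x⁻¹ * a⁻¹ ∈ (P : Subgroup G) := by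
      rw [show x * a * x⁻¹ * a⁻¹ = x * (a * x⁻¹ * a⁻¹) by group]
      exact (P : Subgroup G).mul_mem (hP (Subgroup.mem_zpowers x))
        (hn.conj_mem _ ((P : Subgroup G).inv_mem (hP (Subgroup.mem_zpowers x))) a)
    obtain ⟨k, hk⟩ := IsPGroup.iff_orderOf.1 P.isPGroup' ⟨_, h2⟩
    rw [← Subgroup.orderOf_coe] at hk
    have h3 : orderOf (x * a * x⁻¹ * a⁻¹) = 1 :=
      Nat.eq_one_of_dvd_coprimes (((Nat.coprime_primes hq hp).2 hpq).pow_right k)
        (orderOf_dvd_of_pow_eq_one (he _ h1)) (hk ▸ dvd_rfl)
    rwa [orderOf_eq_one_iff, mul_inv_eq_one] at h3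
  · intro H hH P
    by_cases hHA : H ≤ A
    · have : (P : Subgroup H) = ⊥ := by
        apply Subgroup.eq_bot_of_card_eq
        rw [P.card_eq_multiplicity,
          Nat.factorization_eq_zero_of_not_dvd (fun h => hpA (h.trans (Subgroup.card_dvd_of_le hHA))), pow_zero]
      rw [this]
      infer_instance
    · obtain ⟨h, hhH, hhA⟩ := SetLike.not_le_iff_exists.1 hHA
      have hsup : A ⊔ H = ⊤ := by
        rw [← Subgroup.index_eq_one]
        have hd : (A ⊔ H).index ∣ p := hidx ▸ Subgroup.index_dvd_of_le le_sup_left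
        refine (hp.eq_one_or_self_of_dvd _ hd).resolve_right fun h2 => ?_
        have heq : A = A ⊔ H := by
          refine Subgroup.eq_of_le_of_card_ge le_sup_left ?_
          have e1 := (A ⊔ H).card_mul_index
          rw [h2, ← A.card_mul_index, hidx] at e1
          exact (Nat.eq_of_mul_eq_mul_right hp.pos e1).le
        exact hhA (heq.symm.le (Subgroup.mem_sup_right hhH))
      have hHA' : (H ⊓ A).Normal := by
        rw [← Subgroup.normalizer_eq_top_iff, ← top_le_iff, ← hsup]
        refine sup_le (fun a ha => ?_) (fun k hk => ?_)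
        · refine Subgroup.centralizer_le_normalizer _ (Subgroup.mem_centralizer_iff.2 fun b hb => ?_)
          exact congrArg Subtype.val (mul_comm' (⟨b, hb.2⟩ : A) ⟨a, ha⟩)
        · rw [← Cfsg.Lib.Solv.conj_smul_eq_self_iff]
          refine Subgroup.eq_of_le_of_card_ge ?_ (Cfsg.Lib.Solv.card_conj_smul _ _).ge
          rintro _ ⟨b, hb, rfl⟩
          exact ⟨H.mul_mem (H.mul_mem hk hb.1) (H.inv_mem hk), (inferInstance : A.Normal).conj_mem b hb.2 k⟩
      rcases hmin _ hHA' inf_le_right with h1 | h1
      · have hcardH : Nat.card H ∣ p := by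
          let f : ↥H →* G ⧸ A := (QuotientGroup.mk' A).comp H.subtype
          have hf : Function.Injective f := by
            rw [injective_iff_map_eq_one]
            intro y hy
            have : (y : G) ∈ H ⊓ A := ⟨y.2, (QuotientGroup.eq_one_iff _).1 hy⟩
            rw [h1, Subgroup.mem_bot] at this
            exact Subtype.ext this
          have hd := Subgroup.card_subgroup_dvd_card f.range
          rw [← Nat.card_congr (MonoidHom.ofInjective hf).toEquiv, ← Subgroup.index_eq_card, hidx] at hd
          exact hd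
        have htop : (P : Subgroup H) = ⊤ := by
          rcases hp.eq_one_or_self_of_dvd _ hcardH with h2 | h2
          · exact Subgroup.eq_top_of_card_eq _ (Nat.dvd_antisymm (Subgroup.card_subgroup_dvd_card _) (h2 ▸ one_dvd _))
          · refine Subgroup.eq_top_of_card_eq _ ?_
            rw [P.card_eq_multiplicity, h2, hp.factorization_self, pow_one]
        rw [htop]
        infer_instance
      · exfalso
        apply hH
        rw [← hsup, eq_comm, sup_eq_right]
        exact inf_eq_right.1 h1
  · intro N hN hN1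
    have hAN : A ≤ N := by
      rcases hmin (N ⊓ A) inferInstance inf_le_right with h | h
      · exfalso
        have hNA : ¬ N ≤ A := fun hle => hN1 (by rwa [inf_eq_left.2 hle] at h)
        obtain ⟨n, hn, hnA⟩ := SetLike.not_le_iff_exists.1 hNA
        obtain ⟨a, ha, j, hj⟩ := hgen n
        have hcomm : ∀ b ∈ A, n * b = b * n := fun b hb =>
          (Subgroup.commute_of_normal_of_disjoint N A hN inferInstance (disjoint_iff.2 h) n b hn hb).eq
        have hj' : ¬ (p : ℤ) ∣ j := by
          rintro ⟨c, rfl⟩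
          rw [zpow_mul, zpow_natCast, ← hx, pow_orderOf_eq_one, one_zpow, mul_one] at hj
          exact hnA (hj ▸ ha)
        obtain ⟨u, v, huv⟩ : IsCoprime j (p : ℤ) :=
          ((Nat.prime_iff_prime_int.1 hp).coprime_iff_not_dvd.2 hj').symm
        obtain ⟨b, hb, hb1⟩ : ∃ b ∈ A, b ≠ 1 := by
          by_contra h'
          push_neg at h'
          exact hAne (eq_bot_iff.2 fun b hb => Subgroup.mem_bot.2 (h' b hb))
        apply hb1 (hfix b hb ?_)
        have h1 : Commute (a⁻¹ * n) b :=
          (show Commute a b from congrArg Subtype.val (mul_comm' (⟨a, ha⟩ : A) ⟨b, hb⟩)).inv_left.mul_left (hcomm b hb)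
        rw [hj, inv_mul_cancel_left] at h1
        have h2 : Commute x b := by
          have h3 := h1.zpow_left u
          rwa [← zpow_mul, show j * u = 1 + (p : ℤ) * (-v) by linear_combination huv, zpow_add, zpow_one,
            zpow_mul, zpow_natCast, ← hx, pow_orderOf_eq_one, one_zpow, mul_one] at h3
        rw [h2.eq, mul_inv_cancel_right]
      · exact inf_eq_right.1 h
    intro P
    have hd : Nat.card (G ⧸ N) ∣ p := by
      rw [← Subgroup.index_eq_card, ← hidx]
      exact Subgroup.index_dvd_of_le hAN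
    have htop : (P : Subgroup (G ⧸ N)) = ⊤ := by
      rcases hp.eq_one_or_self_of_dvd _ hd with h2 | h2
      · exact Subgroup.eq_top_of_card_eq _ (Nat.dvd_antisymm (Subgroup.card_subgroup_dvd_card _) (h2 ▸ one_dvd _))
      · refine Subgroup.eq_top_of_card_eq _ ?_
        rw [P.card_eq_multiplicity, h2, hp.factorization_self, pow_one]
    rw [htop]
    infer_instance

end Cfsg.Agent.S3869
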