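import Cfsg.Statements.S3870
import Mathlib
import Mathlib
import Cfsg.Agent.Lib.Solv.Coprime
-- import your own Cfsg.Agent.* helpers here

set_option autoImplicit false
open Cfsg
open scoped Pointwise

namespace Cfsg.Agent.S3870

/-- Let G be a finite simple group whose Sylow p-subgroups are not normal but such that every proper subgroup of G has a normal Sylow p-subgroup. Then any two distinct Sylow p-subgroups of G intersect trivially, and for every Sylow p-subgroup P the normalizer of every non-identity subgroup of P lies in the normalizer of P. -/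
theorem result {G : Type*} [Group G] [Finite G] [IsSimpleGroup G] {p : ℕ} [Fact p.Prime]
    (hnc : ¬ Cfsg.IsPClosed p G) (hsub : ∀ H : Subgroup G, H ≠ ⊤ → Cfsg.IsPClosed p ↥H) :
    (∀ P Q : Sylow p G, P ≠ Q → (P : Subgroup G) ⊓ (Q : Subgroup G) = ⊥) ∧
      ∀ (P : Sylow p G) (R : Subgroup G), R ≤ P → R ≠ ⊥ →
        Subgroup.normalizer (R : Set G) ≤ Subgroup.normalizer ((P : Subgroup G) : Set G) := by
  classical
  have hp := (Fact.out : p.Prime)
  have hprop : ∀ R : Subgroup G, IsPGroup p ↥R → R ≠ ⊥ → Subgroup.normalizer (R : Set G) ≠ ⊤ := by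
    intro R hR hR1 htop
    rw [Subgroup.normalizer_eq_top_iff] at htop
    rcases htop.eq_bot_or_eq_top with h | h
    · exact hR1 h
    · refine hnc fun P => ?_
      have hle : (⊤ : Subgroup G) ≤ (P : Subgroup G) := by
        have hG : IsPGroup p G := by rw [h] at hR; exact hR.of_equiv Subgroup.topEquiv
        have := P.is_maximal' (hG.to_subgroup ⊤) le_top
        exact this ▸ le_rfl
      rw [top_le_iff.1 hle]
      infer_instance
  have key : ∀ n : ℕ, ∀ P Q : Sylow p G, Nat.card G ≤ Nat.card ↥((P : Subgroup G) ⊓ Q : Subgroup G) + n →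
      P ≠ Q → (P : Subgroup G) ⊓ (Q : Subgroup G) = ⊥ := by
    intro n
    induction n using Nat.strong_induction_on with
    | _ n ih =>
      intro P Q hn hPQ
      by_contra hne
      set R := (P : Subgroup G) ⊓ (Q : Subgroup G) with hR
      set N := Subgroup.normalizer (R : Set G) with hN
      have hRp : IsPGroup p ↥R := P.isPGroup'.to_inf_left
      have hNc := hsub N (hprop R hRp hne)
      obtain ⟨S⟩ : Nonempty (Sylow p ↥N) := inferInstance
      haveI := (Sylow.unique_of_normal S (hNc S)).instSubsingleton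
      have hcontain : ∀ U : Subgroup G, IsPGroup p ↥U → U ≤ N → U ≤ (S : Subgroup N).map N.subtype := by
        intro U hU hUN x hx
        obtain ⟨S', hS'⟩ := (hU.comap_subtype : IsPGroup p ↥(U.subgroupOf N)).exists_le_sylow
        exact ⟨⟨x, hUN hx⟩, (Subsingleton.elim S' S) ▸ hS' hx, rfl⟩
      obtain ⟨T, hT⟩ := (S.isPGroup'.map N.subtype).exists_le_sylow
      have hgrow : ∀ P' : Sylow p G, R ≤ P' → R ≠ P' → T = P' := by
        intro P' hle hne'
        by_contra hTP
        haveI : Group.IsNilpotent ↥(P' : Subgroup G) := P'.isPGroup'.isNilpotent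
        have h1 : R.subgroupOf P' < ⊤ := lt_top_iff_ne_top.2 fun h =>
          hne' (le_antisymm hle (Subgroup.subgroupOf_eq_top.1 h))
        obtain ⟨⟨x, hxP⟩, hxN, hxR⟩ := SetLike.exists_of_lt (Group.normalizerCondition_of_isNilpotent _ h1)
        have hxN' : x ∈ N := by
          rw [hN, ← Cfsg.Lib.Solv.conj_smul_eq_self_iff]
          refine Subgroup.eq_of_le_of_card_ge ?_ (Cfsg.Lib.Solv.card_conj_smul _ _).ge
          rintro _ ⟨v, hv, rfl⟩
          exact (Subgroup.mem_normalizer_iff.1 hxN ⟨v, hle hv⟩).1 hv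
        have hxT : x ∈ (T : Subgroup G) :=
          hT (hcontain ((P' : Subgroup G) ⊓ N) P'.isPGroup'.to_inf_left inf_le_right ⟨hxP, hxN'⟩)
        have hRT : R ≤ (T : Subgroup G) :=
          (hcontain R hRp Subgroup.le_normalizer).trans hT
        have hlt : R < (P' : Subgroup G) ⊓ T :=
          lt_of_le_of_ne (le_inf hle hRT) fun h => hxR (show x ∈ R from h ▸ ⟨hxP, hxT⟩)
        have hc : Nat.card ↥R < Nat.card ↥((P' : Subgroup G) ⊓ T : Subgroup G) := by
          refine lt_of_le_of_ne (Nat.le_of_dvd Nat.card_pos (Subgroup.card_dvd_of_le hlt.le)) fun h => ?_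
          exact hlt.ne (Subgroup.eq_of_le_of_card_ge hlt.le h.ge)
        have hb := ih (n - 1) (by
            have := Nat.le_of_dvd Nat.card_pos (Subgroup.card_subgroup_dvd_card ((P' : Subgroup G) ⊓ T : Subgroup G))
            omega) P' T (by omega) (fun h => hTP h.symm)
        exact hne (le_bot_iff.1 (hb ▸ hlt.le))
      have hRP : R ≠ P := fun h => hPQ (Sylow.ext (P.is_maximal' Q.isPGroup' (h ▸ inf_le_right)).symm)
      have hRQ : R ≠ Q := fun h => hPQ (Sylow.ext (Q.is_maximal' P.isPGroup' (h ▸ inf_le_left)))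
      exact hPQ ((hgrow P inf_le_left hRP).symm.trans (hgrow Q inf_le_right hRQ))
  have hTI : ∀ P Q : Sylow p G, P ≠ Q → (P : Subgroup G) ⊓ (Q : Subgroup G) = ⊥ :=
    fun P Q => key (Nat.card G) P Q (Nat.le_add_left _ _)
  refine ⟨hTI, fun P R hR hR1 g hg => ?_⟩
  by_contra hgP
  have hne : g • P ≠ P := fun h => hgP ((Sylow.smul_eq_iff_mem_normalizer).1 h)
  refine hR1 (le_bot_iff.1 ((hTI _ _ hne) ▸ le_inf ?_ hR))
  rw [Sylow.coe_subgroup_smul]
  exact (Cfsg.Lib.Solv.conj_smul_eq_self_iff.2 hg).ge.trans (Subgroup.pointwise_smul_le_pointwise_smul_iff.2 hR)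

end Cfsg.Agent.S3870
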