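import Cfsg.Statements.S4209
import Mathlib
import Cfsg.Agent.Lib.Transfer.Regular
import Cfsg.Agent.Lib.Transfer.PolySeq
-- import your own Cfsg.Agent.* helpers here

set_option autoImplicit false
open Cfsg

namespace Cfsg.Agent.S4209

/-- A finite `p`-group of nilpotency class less than `p` (the term of index `p - 1` of the lower central series of the whole group, indexed from `0`, is trivial) is a regular `p`-group. -/
theorem result {G : Type*} [Group G] [Finite G] {p : ℕ} [Fact p.Prime] (hG : IsPGroup p G) (hcl : (⊤ : Subgroup G).lowerCentralSeries (p - 1) = ⊥) : Cfsg.IsRegularPGroup p G := by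
  refine Cfsg.Lib.Transfer.Regular.isRegular hG fun a b => ?_
  set L := Subgroup.closure ({a, b} : Set G) with hL
  have ha : a ∈ L := Subgroup.subset_closure (Set.mem_insert a _)
  have hb : b ∈ L := Subgroup.subset_closure (Set.mem_insert_of_mem a rfl)
  have hbot : Cfsg.Lib.Transfer.PolySeq.gamma L p = ⊥ := by
    apply Subgroup.map_injective L.subtype_injective
    rw [Subgroup.map_bot, eq_bot_iff, ← hcl]
    refine (Subgroup.top_subtype_lowerCentralSeries L (p - 1)).le.trans ?_
    induction (p - 1) with
    | zero => exact le_top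
    | succ m ih => exact Subgroup.commutator_mono ih le_top
  obtain ⟨c, hc, he⟩ := Cfsg.Lib.Transfer.PolySeq.mul_pow_prime Cfsg.Lib.Transfer.PolySeq.filt_gamma rfl rfl
    (Fact.out : p.Prime) hbot (Cfsg.powerClosure p 1 (commutator L))
    (fun c hc => Subgroup.subset_closure ⟨c, hc, by rw [pow_one]⟩) ⟨a, ha⟩ ⟨b, hb⟩
  refine ⟨(c : G), ?_, congrArg Subtype.val he⟩
  have hm := Subgroup.mem_map_of_mem L.subtype hc
  rw [Cfsg.Lib.Transfer.Regular.map_powerClosure, Subgroup.map_subtype_commutator] at hm
  exact hm

end Cfsg.Agent.S4209
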