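import Cfsg.Statements.S3872
import Mathlib
import Cfsg.Agent.S4209
import Cfsg.Agent.S4225
import Cfsg.Agent.Lib.Transfer.PGroupFrattini
import Cfsg.Agent.Lib.Solv.Coprime2
-- import your own Cfsg.Agent.* helpers here

set_option autoImplicit false
open Cfsg
open scoped commutatorElement

namespace Cfsg.Agent.S3872

/-- Say that a finite group is p-exponent closed when its elements of order dividing p form a subgroup. Let G be a finite p-group that is not p-exponent closed, but all of whose proper subgroups and proper quotients are. Then G is generated by two elements, has nilpotency class at least p, has exponent p², has cyclic center, and has order at least p^(p+1). -/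
theorem result {G : Type*} [Group G] [Finite G] {p : ℕ} [Fact p.Prime] (hG : IsPGroup p G)
    (hnc : ¬ (∃ H : Subgroup G, (H : Set G) = {g : G | g ^ p = 1})) (hsub : ∀ K : Subgroup G, K ≠ ⊤ → (∃ H : Subgroup ↥K, (H : Set ↥K) = {g : ↥K | g ^ p = 1}))
    (hquo : ∀ (N : Subgroup G) [N.Normal], N ≠ ⊥ → (∃ H : Subgroup (G ⧸ N), (H : Set (G ⧸ N)) = {g : (G ⧸ N) | g ^ p = 1})) :
    (∃ x y : G, Subgroup.closure ({x, y} : Set G) = ⊤) ∧ (⊤ : Subgroup G).lowerCentralSeries (p - 1) ≠ ⊥ ∧
      Monoid.exponent G = p ^ 2 ∧ IsCyclic ↥(Subgroup.center G) ∧ p ^ (p + 1) ≤ Nat.card G := by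
  classical
  have hp := (inferInstance : Fact p.Prime).out
  obtain ⟨x, y, hx, hy, hxy⟩ : ∃ x y : G, x ^ p = 1 ∧ y ^ p = 1 ∧ (x * y) ^ p ≠ 1 := by
    by_contra h
    push_neg at h
    exact hnc ⟨{ carrier := {g : G | g ^ p = 1}
                 one_mem' := one_pow p
                 mul_mem' := fun {a b} ha hb => h a b ha hb
                 inv_mem' := fun {a} (ha : a ^ p = 1) => by show a⁻¹ ^ p = 1; rw [inv_pow, ha, inv_one] }, rfl⟩
  haveI : Nontrivial G := ⟨⟨x * y, 1, fun h => hxy (by rw [h, one_pow])⟩⟩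
  haveI hnil : Group.IsNilpotent G := hG.isNilpotent
  have hgen : Subgroup.closure ({x, y} : Set G) = ⊤ := by
    by_contra h
    obtain ⟨H, hH⟩ := hsub _ h
    have hmem : ∀ z : ↥(Subgroup.closure ({x, y} : Set G)), z ∈ H ↔ z ^ p = 1 := fun z => by
      rw [← SetLike.mem_coe, hH]; rfl
    have hxm : x ∈ Subgroup.closure ({x, y} : Set G) := Subgroup.subset_closure (by simp)
    have hym : y ∈ Subgroup.closure ({x, y} : Set G) := Subgroup.subset_closure (by simp)
    have h2 := (hmem _).1 (H.mul_mem ((hmem ⟨x, hxm⟩).2 (Subtype.ext hx)) ((hmem ⟨y, hym⟩).2 (Subtype.ext hy)))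
    exact hxy (congrArg Subtype.val h2)
  -- every proper quotient has exponent dividing p
  have hquot : ∀ N : Subgroup G, N.Normal → N ≠ ⊥ → ∀ g : G, g ^ p ∈ N := by
    intro N hN hN1 g
    haveI := hN
    obtain ⟨H, hH⟩ := hquo N hN1
    have hmem : ∀ z : G ⧸ N, z ∈ H ↔ z ^ p = 1 := fun z => by rw [← SetLike.mem_coe, hH]; rfl
    have htop : H.comap (QuotientGroup.mk' N) = ⊤ := by
      rw [eq_top_iff, ← hgen, Subgroup.closure_le]
      intro z hz
      rw [SetLike.mem_coe, Subgroup.mem_comap, hmem, ← map_pow]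
      rcases hz with rfl | rfl
      · rw [hx, map_one]
      · rw [hy, map_one]
    have h1 : g ∈ H.comap (QuotientGroup.mk' N) := htop ▸ trivial
    rw [Subgroup.mem_comap, hmem, ← map_pow] at h1
    exact (QuotientGroup.eq_one_iff _).1 h1
  obtain ⟨z, hzc, hzord⟩ : ∃ z ∈ Subgroup.center G, orderOf z = p := by
    haveI := hG.center_nontrivial
    have hd : p ∣ Nat.card (Subgroup.center G) := by
      obtain ⟨k, hk⟩ := IsPGroup.iff_card.1 (hG.to_subgroup (Subgroup.center G))
      rcases k with _ | k
      · exact absurd hk (by simpa using (Finite.one_lt_card (α := Subgroup.center G)).ne')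
      · rw [hk]; exact dvd_pow_self _ (Nat.succ_ne_zero k)
    obtain ⟨z, hz⟩ := exists_prime_orderOf_dvd_card' p hd
    exact ⟨z, z.2, by rw [Subgroup.orderOf_coe, hz]⟩
  have hzn : ∀ w : G, w ∈ Subgroup.center G → (Subgroup.zpowers w).Normal := fun w hw =>
    ⟨fun a ha g => by
      rw [Subgroup.mem_center_iff.1 ((Subgroup.zpowers_le (H := Subgroup.center G)).2 hw ha) g,
        mul_inv_cancel_right]
      exact ha⟩
  have hp2 : ∀ g : G, g ^ p ^ 2 = 1 := by
    intro g
    obtain ⟨j, hj⟩ := hquot _ (hzn z hzc) (fun h => by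
      rw [Subgroup.zpowers_eq_bot] at h; rw [h, orderOf_one] at hzord; exact hp.one_lt.ne hzord) g
    have hj' : z ^ j = g ^ p := hj
    rw [pow_two, pow_mul, ← hj', ← zpow_natCast, ← zpow_mul, mul_comm, zpow_mul, zpow_natCast, ← hzord,
      pow_orderOf_eq_one, one_zpow]
  have hexp : Monoid.exponent G = p ^ 2 := by
    have hd := Monoid.exponent_dvd_of_forall_pow_eq_one hp2
    obtain ⟨i, hi, heq⟩ := (Nat.dvd_prime_pow hp).1 hd
    rw [heq]
    have h2 : (x * y) ^ p ^ i = 1 := heq ▸ Monoid.pow_exponent_eq_one (x * y)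
    interval_cases i
    · rw [pow_zero, pow_one] at h2; exact absurd (by rw [h2, one_pow]) hxy
    · rw [pow_one] at h2; exact absurd h2 hxy
    · rfl
  have hcyc : IsCyclic ↥(Subgroup.center G) := by
    set u := (x * y) ^ p with hu
    have huz : ∀ w ∈ Subgroup.center G, orderOf w = p → w ∈ Subgroup.zpowers u := by
      intro w hw hword
      have hwne : Subgroup.zpowers w ≠ ⊥ := fun h => by
        rw [Subgroup.zpowers_eq_bot] at h; rw [h, orderOf_one] at hword; exact hp.one_lt.ne hword
      haveI : Fact (Nat.card ↥(Subgroup.zpowers w)).Prime := ⟨by rw [Nat.card_zpowers, hword]; exact hp⟩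
      have hmem := hquot _ (hzn w hw) hwne (x * y)
      rcases Subgroup.eq_bot_or_eq_top_of_prime_card ((Subgroup.zpowers u).subgroupOf (Subgroup.zpowers w)) with h | h
      · exfalso
        apply hxy
        have : (⟨u, hmem⟩ : ↥(Subgroup.zpowers w)) ∈ (Subgroup.zpowers u).subgroupOf (Subgroup.zpowers w) :=
          Subgroup.mem_zpowers u
        rw [h, Subgroup.mem_bot] at this
        exact congrArg Subtype.val this
      · exact Subgroup.subgroupOf_eq_top.1 h (Subgroup.mem_zpowers w)
    have hsmall : ∀ a : ↥(Subgroup.center G), a ^ p = 1 → (a : G) ∈ Subgroup.zpowers u := by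
      intro a ha
      by_cases ha1 : a = 1
      · rw [ha1]; exact one_mem _
      · exact huz a a.2 (by rw [Subgroup.orderOf_coe]; exact orderOf_eq_prime ha ha1)
    haveI : IsMulCommutative ↥(Subgroup.center G) := inferInstance
    by_contra hnc'
    obtain ⟨r, a, b, hr, har, hbr, ha1, hb1, hba⟩ := Cfsg.Lib.Solv.exists_two_gen_of_not_cyclic hnc'
    haveI := Fact.mk hr
    have hrp : r = p := by
      obtain ⟨k, hk⟩ := IsPGroup.iff_orderOf.1 (hG.to_subgroup (Subgroup.center G)) a
      have h1 : orderOf a = r := orderOf_eq_prime har ha1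
      rw [h1] at hk
      exact (Nat.prime_dvd_prime_iff_eq hr hp).1 (hr.dvd_of_dvd_pow (dvd_of_eq hk))
    subst hrp
    apply hba
    -- both lie in the group of order p generated by u
    haveI : Fact (Nat.card ↥(Subgroup.zpowers u)).Prime := ⟨by
      rw [Nat.card_zpowers, show orderOf u = r from orderOf_eq_prime (by
        rw [hu, ← pow_mul, ← pow_two]; exact hp2 _) hxy]
      exact hp⟩
    have hau := hsmall a har
    have hbu := hsmall b hbr
    rcases Subgroup.eq_bot_or_eq_top_of_prime_card ((Subgroup.zpowers (a : G)).subgroupOf (Subgroup.zpowers u)) with h | h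
    · exfalso
      apply ha1
      have : (⟨(a : G), hau⟩ : ↥(Subgroup.zpowers u)) ∈ (Subgroup.zpowers (a : G)).subgroupOf (Subgroup.zpowers u) :=
        Subgroup.mem_zpowers _
      rw [h, Subgroup.mem_bot] at this
      have h' : (a : G) = 1 := congrArg Subtype.val this
      exact Subtype.ext h'
    · obtain ⟨j, hj⟩ := Subgroup.mem_zpowers_iff.1 (Subgroup.subgroupOf_eq_top.1 h hbu)
      exact Subgroup.mem_zpowers_iff.2 ⟨j, Subtype.ext hj⟩
  have hcl : (⊤ : Subgroup G).lowerCentralSeries (p - 1) ≠ ⊥ := by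
    intro h
    obtain ⟨H, -, hH⟩ := Cfsg.Agent.S4225.result (Cfsg.Agent.S4209.result hG h) 1
    exact hnc ⟨H, by rw [hH, pow_one]⟩
  refine ⟨⟨x, y, hgen⟩, hcl, hexp, hcyc, ?_⟩
  set γ := fun j => (⊤ : Subgroup G).lowerCentralSeries j with hγ
  have hstep : ∀ j, γ (j + 1) = γ j → γ j = ⊥ := by
    intro j hj
    have hall : ∀ i, γ (j + i) = γ j := by
      intro i
      induction i with
      | zero => rfl
      | succ i ih =>
        show ⁅γ (j + i), ⊤⁆ = _
        rw [ih]
        exact hj
    obtain ⟨n, hn⟩ := (Subgroup.nilpotent_iff_lowerCentralSeries (G := G)).1 hnil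
    exact le_bot_iff.1 ((hall n).symm.le.trans (((⊤ : Subgroup G).lowerCentralSeries_antitone (Nat.le_add_left n j)).trans hn.le))
  have hbig : ∀ i, i ≤ p - 1 → p ^ (i + 1) ≤ Nat.card (γ (p - 1 - i)) := by
    intro i
    induction i with
    | zero =>
      intro _
      obtain ⟨k, hk⟩ := IsPGroup.iff_card.1 (hG.to_subgroup (γ (p - 1)))
      rw [Nat.sub_zero, hk]
      rcases k with _ | k
      · exact absurd (Subgroup.eq_bot_of_card_eq _ (by simpa using hk)) hcl
      · exact Nat.pow_le_pow_right hp.pos (by omega)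
    | succ i ih =>
      intro hi
      have h1 := ih (by omega)
      obtain ⟨k, hk⟩ := IsPGroup.iff_card.1 (hG.to_subgroup (γ (p - 1 - i)))
      obtain ⟨l, hl⟩ := IsPGroup.iff_card.1 (hG.to_subgroup (γ (p - 1 - (i + 1))))
      have e : p - 1 - i = p - 1 - (i + 1) + 1 := by omega
      have hle : γ (p - 1 - i) ≤ γ (p - 1 - (i + 1)) :=
        (⊤ : Subgroup G).lowerCentralSeries_antitone (by omega)
      rw [hk] at h1
      have hik := (Nat.pow_le_pow_iff_right hp.one_lt).1 h1
      rw [hl]
      refine Nat.pow_le_pow_right hp.pos ?_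
      by_contra hlt
      rw [not_le] at hlt
      have heq : γ (p - 1 - i) = γ (p - 1 - (i + 1)) :=
        Subgroup.eq_of_le_of_card_ge hle (by rw [hk, hl]; exact Nat.pow_le_pow_right hp.pos (by omega))
      have hb := hstep _ (e ▸ heq)
      rw [hb, Subgroup.card_bot] at hl
      have hb2 : γ (p - 1 - i) = ⊥ := heq.trans hb
      rw [hb2, Subgroup.card_bot] at hk
      have : k = 0 := by
        by_contra hk0
        exact (Nat.one_lt_pow hk0 hp.one_lt).ne hk
      omega
  have h1 : p ^ (p - 1) ≤ Nat.card (γ 1) := by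
    have h := hbig (p - 2) (by have := hp.two_le; omega)
    rwa [show p - 1 - (p - 2) = 1 by have := hp.two_le; omega,
      show p - 2 + 1 = p - 1 by have := hp.two_le; omega] at h
  have h2 : p ^ 2 ≤ (γ 1).index := by
    obtain ⟨k, hk⟩ := IsPGroup.index hG (γ 1)
    rw [hk]
    refine Nat.pow_le_pow_right hp.pos ?_
    by_contra hlt
    have hk1 : k ≤ 1 := by omega
    -- the quotient by the derived group would be cyclic
    apply hcl
    have hcomm : ∀ g h : G, g * h = h * g := by
      have hγ1 : γ 1 = commutator G := Subgroup.top_lowerCentralSeries_one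
      have hidx : Nat.card (G ⧸ commutator G) = p ^ k := by
        rw [← Subgroup.index_eq_card, ← hγ1, hk]
      haveI : IsCyclic (G ⧸ commutator G) := by
        interval_cases k
        · haveI : Subsingleton (G ⧸ commutator G) := (Nat.card_eq_one_iff_unique.1 (by simpa using hidx)).1
          exact isCyclic_of_subsingleton
        · exact isCyclic_of_prime_card (p := p) (by simpa using hidx)
      obtain ⟨w, hw⟩ := IsCyclic.exists_generator (α := G ⧸ commutator G)
      obtain ⟨w, rfl⟩ := QuotientGroup.mk'_surjective (commutator G) w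
      have hW : Subgroup.zpowers w = ⊤ := by
        by_contra hne
        obtain ⟨M, hM, hle⟩ := (eq_top_or_exists_le_coatom _).resolve_left hne
        have hcM := Cfsg.Lib.Transfer.commutator_le_frattini hG
        have hM' : frattini G ≤ M := frattini_le_coatom hM
        apply hM.1
        rw [eq_top_iff]
        intro g _
        obtain ⟨j, hj⟩ := Subgroup.mem_zpowers_iff.1 (hw (QuotientGroup.mk' _ g))
        have : g * (w ^ j)⁻¹ ∈ commutator G := (QuotientGroup.eq_one_iff _).1 (by
          show QuotientGroup.mk' (commutator G) (g * (w ^ j)⁻¹) = 1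
          rw [map_mul, map_inv, map_zpow, hj, mul_inv_cancel])
        have := M.mul_mem (hM' (hcM this)) (M.zpow_mem (hle (Subgroup.mem_zpowers w)) j)
        rwa [inv_mul_cancel_right] at this
      intro g h
      obtain ⟨i, rfl⟩ := Subgroup.mem_zpowers_iff.1 (hW ▸ Subgroup.mem_top g : g ∈ Subgroup.zpowers w)
      obtain ⟨j, rfl⟩ := Subgroup.mem_zpowers_iff.1 (hW ▸ Subgroup.mem_top h : h ∈ Subgroup.zpowers w)
      exact (Commute.zpow_zpow_self w i j).eq
    have h0 : γ 1 = ⊥ := by
      rw [show γ 1 = commutator G from Subgroup.top_lowerCentralSeries_one, eq_bot_iff]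
      show ⁅(⊤ : Subgroup G), (⊤ : Subgroup G)⁆ ≤ ⊥
      rw [Subgroup.commutator_le]
      intro g _ h _
      rw [Subgroup.mem_bot, commutatorElement_eq_one_iff_mul_comm]
      exact hcomm g h
    exact le_bot_iff.1 (h0 ▸ (⊤ : Subgroup G).lowerCentralSeries_antitone (by have := hp.two_le; omega))
  calc p ^ (p + 1) = p ^ (p - 1) * p ^ 2 := by
        rw [← pow_add]; congr 1; have := hp.two_le; omega
    _ ≤ Nat.card (γ 1) * (γ 1).index := Nat.mul_le_mul h1 h2
    _ = Nat.card G := Subgroup.card_mul_index _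

end Cfsg.Agent.S3872
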