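import Cfsg.Statements.S3873
import Mathlib
import Cfsg.Agent.Lib.Solv.MinimalNotPClosed
-- import your own Cfsg.Agent.* helpers here

set_option autoImplicit false
open Cfsg

namespace Cfsg.Agent.S3873

/-- Say that a finite group is p-exponent closed when its elements of order dividing p form a subgroup. Let G be a finite group that is not p-exponent closed, but all of whose proper subgroups and proper quotients are, and suppose G is neither simple nor a p-group. Then there is a prime q ≠ p such that G has order p · q^e, where e is the multiplicative order of q modulo p, and G has a normal elementary abelian subgroup of order q^e that is a minimal normal subgroup of G. -/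
theorem result {G : Type*} [Group G] [Finite G] {p : ℕ} [Fact p.Prime]
    (hnc : ¬ (∃ H : Subgroup G, (H : Set G) = {g : G | g ^ p = 1})) (hsub : ∀ K : Subgroup G, K ≠ ⊤ → (∃ H : Subgroup ↥K, (H : Set ↥K) = {g : ↥K | g ^ p = 1}))
    (hquo : ∀ (N : Subgroup G) [N.Normal], N ≠ ⊥ → (∃ H : Subgroup (G ⧸ N), (H : Set (G ⧸ N)) = {g : (G ⧸ N) | g ^ p = 1}))
    (hns : ¬ IsSimpleGroup G) (hnp : ¬ IsPGroup p G) :
    ∃ q : ℕ, q.Prime ∧ q ≠ p ∧ Nat.card G = p * q ^ orderOf (q : ZMod p) ∧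
      ∃ A : Subgroup G, A.Normal ∧ Nat.card ↥A = q ^ orderOf (q : ZMod p) ∧ Cfsg.IsElementaryAbelian q A ∧
        ∀ B : Subgroup G, B.Normal → B ≤ A → B = ⊥ ∨ B = A := by
  classical
  have hp := (inferInstance : Fact p.Prime).out
  haveI : Nontrivial G := by
    by_contra h
    rw [not_nontrivial_iff_subsingleton] at h
    exact hnc ⟨⊤, Set.ext fun g => ⟨fun _ => Subsingleton.elim _ _, fun _ => trivial⟩⟩
  -- the elements of order dividing `p` lie in no proper subgroup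
  have hall : ∀ H : Subgroup G, (∀ g : G, g ^ p = 1 → g ∈ H) → H = ⊤ := by
    intro H hH
    by_contra hHt
    obtain ⟨K, hK⟩ := hsub H hHt
    refine hnc ⟨K.map H.subtype, Set.ext fun g => ?_⟩
    constructor
    · rintro ⟨k, hk, rfl⟩
      have h1 : k ∈ (K : Set H) := hk
      rw [hK] at h1
      exact congrArg Subtype.val (h1 : k ^ p = 1)
    · intro hg
      refine ⟨⟨g, hH g hg⟩, ?_, rfl⟩
      show (⟨g, hH g hg⟩ : H) ∈ (K : Set H)
      rw [hK]
      exact Subtype.ext hg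
  -- elements of order dividing `p` of a proper normal subgroup form a normal subgroup
  have hroot : ∀ L : Subgroup G, L.Normal → L ≠ ⊤ →
      ∃ R : Subgroup G, R.Normal ∧ R ≤ L ∧ ∀ g : G, g ∈ R ↔ g ∈ L ∧ g ^ p = 1 := by
    intro L hL hLt
    obtain ⟨K, hK⟩ := hsub L hLt
    have hmem : ∀ g : G, g ∈ K.map L.subtype ↔ g ∈ L ∧ g ^ p = 1 := by
      intro g
      constructor
      · rintro ⟨k, hk, rfl⟩
        have h1 : k ∈ (K : Set L) := hk
        rw [hK] at h1
        exact ⟨k.2, congrArg Subtype.val (h1 : k ^ p = 1)⟩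
      · rintro ⟨hg, hgp⟩
        refine ⟨⟨g, hg⟩, ?_, rfl⟩
        show (⟨g, hg⟩ : L) ∈ (K : Set L)
        rw [hK]
        exact Subtype.ext hgp
    refine ⟨K.map L.subtype, ⟨fun g hg y => ?_⟩, Subgroup.map_subtype_le _, hmem⟩
    rw [hmem] at hg ⊢
    exact ⟨hL.conj_mem g hg.1 y, by rw [conj_pow, hg.2, mul_one, mul_inv_cancel]⟩
  obtain ⟨S, hS, hS1, hS2⟩ : ∃ S : Subgroup G, S.Normal ∧ S ≠ ⊥ ∧ S ≠ ⊤ := by
    by_contra h
    push_neg at h
    exact hns ⟨fun N hN => or_iff_not_imp_left.2 (h N hN)⟩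
  -- every minimal normal subgroup has `p`-group quotient and is a `p'`-group
  have hmn : ∀ N : Subgroup G, ∀ hNn : N.Normal, N ≠ ⊥ → N ≠ ⊤ →
      (∀ B : Subgroup G, B.Normal → B ≤ N → B = ⊥ ∨ B = N) →
      IsPGroup p (G ⧸ N) ∧ ¬ p ∣ Nat.card N := by
    intro N hNn hN1 hNt hmin
    haveI := hNn
    obtain ⟨K, hK⟩ := hquo N hN1
    have hKtop : K.comap (QuotientGroup.mk' N) = ⊤ := hall _ fun g hg => by
      show QuotientGroup.mk' N g ∈ (K : Set (G ⧸ N))
      rw [hK]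
      show (QuotientGroup.mk' N g) ^ p = 1
      rw [← map_pow, hg, map_one]
    have hexp : ∀ w : G ⧸ N, w ^ p = 1 := by
      intro w
      obtain ⟨g, rfl⟩ := QuotientGroup.mk'_surjective N w
      have h1 : QuotientGroup.mk' N g ∈ (K : Set (G ⧸ N)) := by
        have : g ∈ K.comap (QuotientGroup.mk' N) := hKtop ▸ trivial
        exact this
      rw [hK] at h1
      exact h1
    have hq : IsPGroup p (G ⧸ N) := fun w => ⟨1, by rw [pow_one]; exact hexp w⟩
    refine ⟨hq, fun hd => ?_⟩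
    obtain ⟨R, hRn, hRN, hRmem⟩ := hroot N hNn hNt
    obtain ⟨z, hz⟩ := exists_prime_orderOf_dvd_card' p hd
    have hzR : (z : G) ∈ R := (hRmem z).2 ⟨z.2, by
      rw [← Subgroup.coe_pow, ← hz, pow_orderOf_eq_one, Subgroup.coe_one]⟩
    rcases hmin R hRn hRN with h | h
    · rw [h, Subgroup.mem_bot] at hzR
      rw [← Subgroup.orderOf_coe, hzR, orderOf_one] at hz
      exact hp.one_lt.ne hz
    · apply hnp
      intro g
      obtain ⟨k, hk⟩ := hq (g : G ⧸ N)
      have hgk : g ^ p ^ k ∈ N := (QuotientGroup.eq_one_iff _).1 hk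
      rw [← h] at hgk
      exact ⟨k + 1, by rw [pow_succ, pow_mul]; exact ((hRmem _).1 hgk).2⟩
  obtain ⟨N, hNn, hNS, hN1, hmin⟩ := Cfsg.Lib.Solv.exists_minimal_normal_le (hn := hS) hS1
  haveI := hNn
  have hNt : N ≠ ⊤ := fun h => hS2 (top_le_iff.1 (h ▸ hNS))
  obtain ⟨hPN, hpN⟩ := hmn N hNn hN1 hNt hmin
  obtain ⟨L, hLn, hNL, hLi⟩ := Cfsg.Lib.Solv.exists_normal_index_prime_of_isPGroup_quotient N hNt hPN
  have hLne : L ≠ ⊤ := fun h => hp.ne_one (by rw [← hLi, h, Subgroup.index_top])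
  have hpL : ¬ p ∣ Nat.card L := by
    intro hd
    obtain ⟨R, hRn, hRL, hRmem⟩ := hroot L hLn hLne
    obtain ⟨z, hz⟩ := exists_prime_orderOf_dvd_card' p hd
    have hzR : (z : G) ∈ R := (hRmem z).2 ⟨z.2, by
      rw [← Subgroup.coe_pow, ← hz, pow_orderOf_eq_one, Subgroup.coe_one]⟩
    have hR1 : R ≠ ⊥ := fun h => by
      rw [h, Subgroup.mem_bot] at hzR
      rw [← Subgroup.orderOf_coe, hzR, orderOf_one] at hz
      exact hp.one_lt.ne hz
    obtain ⟨M, hMn, hMR, hM1, hMmin⟩ := Cfsg.Lib.Solv.exists_minimal_normal_le (hn := hRn) hR1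
    have hMt : M ≠ ⊤ := fun h => hLne (top_le_iff.1 (h ▸ hMR.trans hRL))
    obtain ⟨-, hpM⟩ := hmn M hMn hM1 hMt hMmin
    obtain ⟨m, hm, hm1⟩ : ∃ m ∈ M, m ≠ 1 := by
      by_contra h
      push_neg at h
      exact hM1 (eq_bot_iff.2 fun a ha => Subgroup.mem_bot.2 (h a ha))
    refine hm1 (orderOf_eq_one_iff.1 (Nat.eq_one_of_dvd_coprimes (a := p) ?_
      (orderOf_dvd_of_pow_eq_one ((hRmem m).1 (hMR hm)).2) (Subgroup.orderOf_dvd_natCard M hm)))
    exact hp.coprime_iff_not_dvd.2 hpM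
  have hLN : L = N := by
    refine le_antisymm (fun l hl => (QuotientGroup.eq_one_iff l).1 ?_) hNL
    obtain ⟨k, hk⟩ := IsPGroup.iff_orderOf.1 hPN (QuotientGroup.mk l)
    refine orderOf_eq_one_iff.1 (Nat.eq_one_of_dvd_coprimes (a := p ^ k) (b := orderOf l) ?_ (dvd_of_eq hk) ?_)
    · exact ((hp.coprime_iff_not_dvd.2 hpL).coprime_dvd_right
        (Subgroup.orderOf_dvd_natCard L hl)).pow_left k
    · exact orderOf_map_dvd (QuotientGroup.mk' N) l
  have hidx : N.index = p := hLN ▸ hLi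
  obtain ⟨x, hx⟩ := exists_prime_orderOf_dvd_card' (G := G) p (hidx ▸ N.index_dvd_card)
  have hxN : x ∉ N := fun h => hpN (hx ▸ Subgroup.orderOf_dvd_natCard N h)
  refine Cfsg.Lib.Solv.structure_of_centralizes N hN1 hmin hpN hidx x hx ?_ ?_
  · intro hle
    -- the elements of order `p` then form the subgroup generated by `x`
    apply hnc
    refine ⟨Subgroup.zpowers x, Set.ext fun g => ?_⟩
    constructor
    · rintro ⟨j, rfl⟩
      show (x ^ j) ^ p = 1
      rw [← zpow_natCast, ← zpow_mul, mul_comm, zpow_mul, zpow_natCast, ← hx, pow_orderOf_eq_one, one_zpow]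
    · intro hg
      have hc' : Nat.card (G ⧸ N) = p := by rw [← Subgroup.index_eq_card, hidx]
      have hne : QuotientGroup.mk' N x ≠ 1 := fun h => hxN ((QuotientGroup.eq_one_iff x).1 h)
      obtain ⟨j, hj⟩ := Subgroup.mem_zpowers_iff.1 (mem_zpowers_of_prime_card hc' (g' := QuotientGroup.mk' N g) hne)
      set n := g * (x ^ j)⁻¹ with hn
      have hnN : n ∈ N := (QuotientGroup.eq_one_iff _).1 (show QuotientGroup.mk' N n = 1 by
        rw [hn, map_mul, map_inv, map_zpow, hj, mul_inv_cancel])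
      have hcomm : Commute n (x ^ j) :=
        (show Commute n x from Subgroup.mem_centralizer_singleton_iff.1 (hle hnN)).zpow_right j
      have hgn : g = n * x ^ j := by rw [hn, inv_mul_cancel_right]
      have h1 : n ^ p = 1 := by
        have h2 : g ^ p = 1 := hg
        rw [hgn, hcomm.mul_pow, ← zpow_natCast (x ^ j), ← zpow_mul, mul_comm, zpow_mul, zpow_natCast,
          ← hx, pow_orderOf_eq_one, one_zpow, mul_one, hx] at h2
        exact h2
      have hn1 : n = 1 := orderOf_eq_one_iff.1 (Nat.eq_one_of_dvd_coprimes (hp.coprime_iff_not_dvd.2 hpN)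
        (orderOf_dvd_of_pow_eq_one h1) (Subgroup.orderOf_dvd_natCard N hnN))
      rw [hgn, hn1, one_mul]
      exact ⟨j, rfl⟩
  · intro R hRN hRne hxR r hr
    set H := R ⊔ Subgroup.zpowers x with hH
    have hHt : H ≠ ⊤ := by
      intro h
      apply hRne
      refine le_antisymm hRN fun n hn => ?_
      have hmem : n ∈ H := h ▸ Subgroup.mem_top n
      rw [hH, ← SetLike.mem_coe, Subgroup.coe_mul_of_right_le_normalizer_left R _ ((Subgroup.zpowers_le).2 hxR)] at hmem
      obtain ⟨a, ha, b, ⟨j, rfl⟩, rfl⟩ := hmem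
      have hbN : x ^ j ∈ N := by simpa using N.mul_mem (N.inv_mem (hRN ha)) hn
      have hb1 : x ^ j = 1 := orderOf_eq_one_iff.1 (Nat.eq_one_of_dvd_coprimes
        (hp.coprime_iff_not_dvd.2 hpN) (orderOf_dvd_of_pow_eq_one (by
          rw [← zpow_natCast, ← zpow_mul, mul_comm, zpow_mul, zpow_natCast, ← hx, pow_orderOf_eq_one, one_zpow]))
        (Subgroup.orderOf_dvd_natCard N hbN))
      simp only [hb1, mul_one]
      exact ha
    obtain ⟨K, hK⟩ := hsub H hHt
    have hxH : x ∈ H := Subgroup.mem_sup_right (Subgroup.mem_zpowers x)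
    have hrH : r ∈ H := Subgroup.mem_sup_left hr
    have hKmem : ∀ y : H, y ∈ K ↔ y ^ p = 1 := fun y => by
      rw [← SetLike.mem_coe, hK]; rfl
    have hxK : (⟨x, hxH⟩ : H) ∈ K := (hKmem _).2 (Subtype.ext (by
      show x ^ p = 1
      rw [← hx, pow_orderOf_eq_one]))
    have hcK : (⟨x, hxH⟩ : H) * (⟨r, hrH⟩ * (⟨x, hxH⟩ : H)⁻¹ * (⟨r, hrH⟩ : H)⁻¹) ∈ K := by
      refine K.mul_mem hxK ((hKmem _).2 ?_)
      rw [conj_pow, inv_pow, (hKmem _).1 hxK, inv_one, mul_one, mul_inv_cancel]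
    have hpow : (x * (r * x⁻¹ * r⁻¹)) ^ p = 1 := congrArg Subtype.val ((hKmem _).1 hcK)
    have hcN : x * (r * x⁻¹ * r⁻¹) ∈ N := by
      rw [show x * (r * x⁻¹ * r⁻¹) = x * r * x⁻¹ * r⁻¹ by group]
      exact N.mul_mem (hNn.conj_mem r (hRN hr) x) (N.inv_mem (hRN hr))
    have hc1 : x * (r * x⁻¹ * r⁻¹) = 1 := orderOf_eq_one_iff.1 (Nat.eq_one_of_dvd_coprimes
      (hp.coprime_iff_not_dvd.2 hpN) (orderOf_dvd_of_pow_eq_one hpow) (Subgroup.orderOf_dvd_natCard N hcN))
    rw [show x * (r * x⁻¹ * r⁻¹) = x * r * x⁻¹ * r⁻¹ by group, mul_inv_eq_one, mul_inv_eq_iff_eq_mul] at hc1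
    exact Subgroup.mem_centralizer_singleton_iff.2 hc1.symm

end Cfsg.Agent.S3873
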