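import Cfsg.Statements.S3890
import Cfsg.Agent.Lib.Solv.NilpotentCoverAbelian

set_option autoImplicit false
open Cfsg
open scoped Pointwise commutatorElement

namespace Cfsg.Agent.S3890



/-- A cover of a group is a finite set of proper subgroups whose union is the whole group; it is minimal when no cover has fewer members, and nilpotent when all its members are nilpotent. Let G be a finite group with trivial center admitting a nilpotent minimal cover 𝓐, and let P be an abelian Sylow p-subgroup of G that is not normal. Then either P is elementary abelian of order greater than p, or P is a Sylow p-subgroup of some member A of 𝓐, the normalizer N of P is a maximal subgroup of G, N meets each of its conjugates by elements outside N in a subgroup of order prime to p, and the centralizer of P equals A. -/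
theorem result {G : Type*} [Group G] [Finite G] (hZ : Subgroup.center G = ⊥) (𝓐 : Finset (Subgroup G))
    (h𝓐 : ((∀ A ∈ 𝓐, A ≠ ⊤) ∧ (∀ g : G, ∃ A ∈ 𝓐, g ∈ A)) ∧ (∀ 𝓑 : Finset (Subgroup G), (∀ A ∈ 𝓑, A ≠ ⊤) ∧ (∀ g : G, ∃ A ∈ 𝓑, g ∈ A) → 𝓐.card ≤ 𝓑.card) ∧ (∀ A ∈ 𝓐, Group.IsNilpotent ↥A)) {p : ℕ} [Fact p.Prime] (P : Sylow p G) (hab : IsMulCommutative ↥(P : Subgroup G))
    (hnn : ¬ (P : Subgroup G).Normal) :
    (Cfsg.IsElementaryAbelian p (P : Subgroup G) ∧ p < Nat.card ↥(P : Subgroup G)) ∨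
    (∃ A ∈ 𝓐, (P : Subgroup G) ≤ A ∧ ¬ p ∣ ((P : Subgroup G).subgroupOf A).index ∧
      IsCoatom (Subgroup.normalizer ((P : Subgroup G) : Set G)) ∧
      (∀ g : G, g ∉ Subgroup.normalizer ((P : Subgroup G) : Set G) →
        ¬ p ∣ Nat.card ↥(Subgroup.normalizer ((P : Subgroup G) : Set G) ⊓
          (Subgroup.normalizer ((P : Subgroup G) : Set G)).map (MulAut.conj g).toMonoidHom)) ∧
      Subgroup.centralizer ((P : Subgroup G) : Set G) = A) := by
  by_cases hel : Cfsg.IsElementaryAbelian p (P : Subgroup G) ∧ p < Nat.card ↥(P : Subgroup G)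
  · exact Or.inl hel
  refine Or.inr ?_
  have hP : IsCyclic ↥(P : Subgroup G) ∨ ∃ z ∈ (P : Subgroup G), z ^ p ≠ 1 := by
    by_cases h : ∃ z ∈ (P : Subgroup G), z ^ p ≠ 1
    · exact Or.inr h
    push Not at h
    left
    have hle : Nat.card ↥(P : Subgroup G) ≤ p := not_lt.1 fun hlt => hel ⟨⟨hab, h⟩, hlt⟩
    obtain ⟨k, hk⟩ := IsPGroup.iff_card.1 P.isPGroup'
    rcases k with _ | _ | k
    · rw [pow_zero] at hk
      haveI : Subsingleton ↥(P : Subgroup G) := (Nat.card_eq_one_iff_unique.1 hk).1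
      infer_instance
    · exact isCyclic_of_prime_card (p := p) (by rw [hk, pow_one])
    · exfalso
      have hlt : p ^ 1 < p ^ (k + 1 + 1) := Nat.pow_lt_pow_right (Fact.out : p.Prime).one_lt (by omega)
      rw [pow_one, ← hk] at hlt
      omega
  obtain ⟨A, hA, hPA, hCA, hco, -, hTI⟩ := Cfsg.Lib.Solv.NilCover.main hZ 𝓐 h𝓐 P hab hnn hP
  refine ⟨A, hA, hPA, ?_, hco, hTI, hCA⟩
  intro hd
  refine P.not_dvd_index (hd.trans ?_)
  exact Subgroup.relIndex_dvd_index_of_le hPA

end Cfsg.Agent.S3890
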