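import Cfsg.Statements.S3894
import Cfsg.Agent.Lib.Solv.NilpotentCoverTwo

set_option autoImplicit false
open Cfsg

namespace Cfsg.Agent.S3894

open Cfsg.Lib.Solv Cfsg.Lib.Solv.NilCover

section two

variable {F : Type*} [Field F] [Fintype F]

local notation "M2" => Matrix (Fin 2) (Fin 2) F
local notation "qq" => QuotientGroup.mk' (Subgroup.center (GL (Fin 2) F))

theorem center_witness {G : Subgroup (GL (Fin 2) F ⧸ Subgroup.center (GL (Fin 2) F))} {A : Subgroup ↥G}
    (hA : Group.IsNilpotent A) {y : ↥G} (hy : y ∈ A) (hy1 : y ≠ 1) :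
    ∃ zl : GL (Fin 2) F, zl ∉ Subgroup.center (GL (Fin 2) F) ∧
      ∀ w ∈ A, ∀ wl : GL (Fin 2) F, qq wl = ((w : ↥G) : GL (Fin 2) F ⧸ _) →
        (∃ d : F, (zl : M2) * wl = d • ((wl : M2) * zl)) ∧
        (∃ d : F, (wl : M2) * zl = d • ((zl : M2) * wl)) := by
  haveI := hA
  haveI : Nontrivial A := ⟨⟨y, hy⟩, 1, fun e => hy1 (congrArg Subtype.val e)⟩
  obtain ⟨z, hz, hz1⟩ := (Subgroup.bot_or_exists_ne_one (Subgroup.center A)).resolve_left
    (Group.IsNilpotent.center_ne_bot A)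
  obtain ⟨zl, hzl⟩ := QuotientGroup.mk'_surjective (Subgroup.center (GL (Fin 2) F))
    ((z : ↥G) : GL (Fin 2) F ⧸ _)
  refine ⟨zl, fun h => hz1 (Subtype.ext (Subtype.ext (by rw [← hzl]; exact (QuotientGroup.eq_one_iff _).2 h))), ?_⟩
  intro w hw wl hwl
  have h : qq zl * qq wl = qq wl * qq zl := by
    rw [hzl, hwl]
    exact congrArg (fun t : A => t.1.1) (Subgroup.mem_center_iff.1 hz ⟨w, hw⟩).symm
  obtain ⟨d, -, hd⟩ := exists_smul_of_commute h
  obtain ⟨d', -, hd'⟩ := exists_smul_of_commute h.symm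
  exact ⟨⟨d, hd⟩, d', hd'⟩

theorem mem_line {g : GL (Fin 2) F} {w : Fin 2 → F} (hw : w ∈ W g 1) :
    ∃ t : F, w = t • ((g : M2).mulVec (Pi.single 0 1)) := by
  refine ⟨((↑g⁻¹ : M2).mulVec w) 0, ?_⟩
  rw [← Matrix.mulVec_smul]
  conv_lhs => rw [← mulVec_inv_mulVec g w]
  congr 1
  funext i
  fin_cases i
  · simp
  · simpa using hw 1 le_rfl

theorem centralizer_noncentral {a : GL (Fin 2) F}
    (hno : ∀ v : Fin 2 → F, v ≠ 0 → ∀ t : F, (a : M2).mulVec v ≠ t • v)
    {c : GL (Fin 2) F} (hc : c ∈ Subgroup.centralizer ({a} : Set (GL (Fin 2) F)))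
    (hcn : c ∉ Subgroup.center (GL (Fin 2) F)) :
    (c : M2) 1 0 ≠ 0 ∧ ∀ g : GL (Fin 2) F, c ∉ stabGL (W g 1) := by
  have ha : (a : M2) 1 0 ≠ 0 := by
    intro h
    refine hno (Pi.single 0 1) (by simp) ((a : M2) 0 0) ?_
    funext i
    fin_cases i <;> simp [h]
  obtain ⟨x, y, hxy⟩ := commutant ha (congrArg Units.val (Subgroup.mem_centralizer_singleton_iff.1 hc))
  have hy : y ≠ 0 := fun hy => hcn (mem_center_iff_smul.2 ⟨x, by rw [hxy, hy, zero_smul, add_zero]⟩)
  refine ⟨by simp [hxy, hy, ha], fun g hg => ?_⟩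
  set v := (g : M2).mulVec (Pi.single 0 1) with hv
  have hvW : v ∈ W g 1 := by
    rw [hv, mem_W, inv_mulVec_mulVec]
    intro j hj
    rw [Pi.single_apply, if_neg]
    rintro rfl
    simp at hj
  have hv0 : v ≠ 0 := fun h => by
    have := congrArg ((↑g⁻¹ : M2).mulVec) h
    rw [hv, inv_mulVec_mulVec, Matrix.mulVec_zero] at this
    simp at this
  obtain ⟨t, ht⟩ := mem_line (hg v hvW)
  rw [← hv, hxy, Matrix.add_mulVec, Matrix.smul_mulVec, Matrix.smul_mulVec, Matrix.one_mulVec,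
    ← eq_sub_iff_add_eq', ← sub_smul] at ht
  refine hno v hv0 (y⁻¹ * (t - x)) ?_
  rw [← smul_smul, ← ht, inv_smul_smul₀ hy]

theorem orderOf_qq {p : ℕ} [Fact p.Prime] {G : Subgroup (GL (Fin 2) F ⧸ Subgroup.center (GL (Fin 2) F))}
    {x : ↥G} {xl : GL (Fin 2) F} (hx : qq xl = ((x : ↥G) : GL (Fin 2) F ⧸ _))
    (hp : xl ^ p ∈ Subgroup.center (GL (Fin 2) F)) (hn : xl ∉ Subgroup.center (GL (Fin 2) F)) :
    orderOf x = p ^ 1 := by
  rw [pow_one]
  refine orderOf_eq_prime (Subtype.ext ?_) (fun e => hn ((QuotientGroup.eq_one_iff _).1 ?_))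
  · rw [SubmonoidClass.coe_pow, ← hx, ← map_pow]
    exact (QuotientGroup.eq_one_iff _).2 hp
  · show qq xl = 1
    rw [hx, e, Subgroup.coe_one]

theorem central_pow {c : GL (Fin 2) F} (hc : c ∈ Subgroup.center (GL (Fin 2) F)) :
    c ^ (Fintype.card F - 1) = 1 := by
  obtain ⟨t, ht⟩ := mem_center_iff_smul.1 hc
  have ht0 : t ≠ 0 := fun h => c.ne_zero (by rw [ht, h, zero_smul])
  refine Units.ext ?_
  rw [Units.val_pow_eq_pow_val, ht, smul_pow, one_pow, FiniteField.pow_card_sub_one_eq_one t ht0, one_smul,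
    Units.val_one]

theorem no_cover_two (hq4 : 4 ≤ Fintype.card F)
    (G : Subgroup (GL (Fin 2) F ⧸ Subgroup.center (GL (Fin 2) F)))
    (hG : ((Matrix.SpecialLinearGroup.toGL : Matrix.SpecialLinearGroup (Fin 2) F →* GL (Fin 2) F).range).map
      qq ≤ G)
    (𝓐 : Finset (Subgroup ↥G)) (hprop : ∀ A ∈ 𝓐, A ≠ ⊤)
    (hmin : ∀ 𝓑 : Finset (Subgroup ↥G), (∀ A ∈ 𝓑, A ≠ ⊤) ∧ (∀ g : ↥G, ∃ A ∈ 𝓑, g ∈ A) → 𝓐.card ≤ 𝓑.card)
    (hnil : ∀ A ∈ 𝓐, Group.IsNilpotent ↥A)
    (mem : ↥G → Subgroup ↥G) (hmem : ∀ x, mem x ∈ 𝓐) (hmem' : ∀ x, x ∈ mem x)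
    (hrepl : ∀ M : Subgroup ↥G, M ≠ ⊤ → ∀ A ∈ 𝓐, ∀ A' ∈ 𝓐, A ≤ M → A' ≤ M → A = A') : False := by
  classical
  let xg : GL (Fin 2) F → ↥G := fun g => ⟨qq (uu g), mem_G_of_det hG (uu_det g)⟩
  have hle : ∀ g, mem (xg g) ≤ stabG G (W g 1) := by
    intro g
    obtain ⟨s, hs0, hs2, hs⟩ := member_fix le_rfl (hnil _ (hmem (xg g))) (hmem' (xg g)) rfl
    obtain rfl : s = 1 := by omega
    exact hs
  let L : Finset (Submodule F (Fin 2 → F)) := Finset.univ.image fun g : GL (Fin 2) F => W g 1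
  let memU : Submodule F (Fin 2 → F) → Subgroup ↥G := fun U =>
    if h : ∃ g : GL (Fin 2) F, W g 1 = U then mem (xg h.choose) else ⊤
  have hmemU : ∀ g, memU (W g 1) = mem (xg g) := by
    intro g
    have h : ∃ g' : GL (Fin 2) F, W g' 1 = W g 1 := ⟨g, rfl⟩
    simp only [memU, dif_pos h]
    exact hrepl _ (stab_ne_top hG g one_pos one_lt_two) _ (hmem _) _ (hmem _)
      (le_of_le_of_eq (hle _) (by rw [h.choose_spec])) (hle g)
  have hinj : Set.InjOn memU L := by
    intro U hU V hV e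
    simp only [L, Finset.coe_image, Finset.coe_univ, Set.image_univ, Set.mem_range] at hU hV
    obtain ⟨g, rfl⟩ := hU
    obtain ⟨g', rfl⟩ := hV
    rw [hmemU, hmemU] at e
    exact same_flag le_rfl (hnil _ (hmem (xg g))) (hmem' _) (e ▸ hmem' (xg g')) rfl rfl 1 (by omega)
  -- the torus element
  obtain ⟨lu, hlu⟩ := IsCyclic.exists_generator (α := Fˣ)
  have hlo : orderOf lu = Fintype.card F - 1 := by
    rw [orderOf_eq_card_of_forall_mem_zpowers hlu, Nat.card_eq_fintype_card, Fintype.card_units]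
  have hl2 : (lu : F) ^ 2 ≠ 1 := fun h => by
    have := orderOf_le_of_pow_eq_one two_pos (show lu ^ 2 = 1 from Units.ext (by rw [Units.val_pow_eq_pow_val, h, Units.val_one]))
    omega
  have hl0 : (lu : F) ≠ 0 := lu.ne_zero
  have hdety : Matrix.det !![(lu : F), 0; 0, (lu : F)⁻¹] = 1 := by simp [Matrix.det_fin_two, hl0]
  let yl : GL (Fin 2) F := Matrix.GeneralLinearGroup.mkOfDetNeZero !![(lu : F), 0; 0, (lu : F)⁻¹]
    (by rw [hdety]; exact one_ne_zero)
  let y : ↥G := ⟨qq yl, mem_G_of_det hG hdety⟩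
  have y01 : (yl : M2) 0 1 = 0 := rfl
  have y10 : (yl : M2) 1 0 = 0 := rfl
  have y00 : (yl : M2) 0 0 = lu := rfl
  have y11 : (yl : M2) 1 1 = (lu : F)⁻¹ := rfl
  have yne : (yl : M2) 0 0 ≠ (yl : M2) 1 1 := by
    rw [y00, y11]
    intro h
    exact hl2 (by rw [pow_two]; nth_rewrite 2 [h]; rw [mul_inv_cancel₀ hl0])
  have yn : yl ∉ Subgroup.center (GL (Fin 2) F) := fun h => by
    obtain ⟨t, ht⟩ := mem_center_iff_smul.1 h
    exact yne (by simp [ht])
  have hy1 : y ≠ 1 := fun h => yn ((QuotientGroup.eq_one_iff _).1 (congrArg Subtype.val h))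
  let Ay := mem y
  have hAy := hnil _ (hmem y)
  -- either a general diagonal element or the field with five elements
  have hcase : (∀ w ∈ Ay, ∀ wl : GL (Fin 2) F, qq wl = ((w : ↥G) : GL (Fin 2) F ⧸ _) →
        ∃ D : GL (Fin 2) F, (D : M2) 0 1 = 0 ∧ (D : M2) 1 0 = 0 ∧ (D : M2) 0 0 ≠ (D : M2) 1 1 ∧
          (∃ d : F, (D : M2) * wl = d • ((wl : M2) * D)) ∧
          (∃ d : F, (wl : M2) * D = d • ((D : M2) * wl))) ∨
      (Fintype.card F = 5 ∧ orderOf y = 2 ^ 1) := by
    by_cases h4 : (lu : F) ^ 4 = 1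
    · right
      have h5 : Fintype.card F = 5 := by
        have h := orderOf_le_of_pow_eq_one (by norm_num : 0 < 4)
          (show lu ^ 4 = 1 from Units.ext (by rw [Units.val_pow_eq_pow_val, h4, Units.val_one]))
        have h' : orderOf lu ∣ 4 := orderOf_dvd_of_pow_eq_one (show lu ^ 4 = 1 from Units.ext (by rw [Units.val_pow_eq_pow_val, h4, Units.val_one]))
        interval_cases hh : orderOf lu
        all_goals omega
      haveI : Fact (Nat.Prime 2) := ⟨Nat.prime_two⟩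
      refine ⟨h5, orderOf_qq (xl := yl) rfl (mem_center_iff_smul.2 ⟨(lu : F) ^ 2, ?_⟩) yn⟩
      rw [Units.val_pow_eq_pow_val, pow_two]
      ext i j
      fin_cases i <;> fin_cases j <;> simp [Matrix.mul_apply, Fin.sum_univ_two, y00, y01, y10, y11]
      · ring
      · field_simp
        linear_combination -h4
    · left
      obtain ⟨zl, hzn, hz⟩ := center_witness hAy (hmem' y) hy1
      intro w hw wl hwl
      obtain ⟨⟨d, hd⟩, -⟩ := hz y (hmem' y) yl rfl
      obtain ⟨z01, z10⟩ := diag_of_commute y01 y10 (by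
        rw [y00, y11]
        intro h
        apply h4
        field_simp at h
        linear_combination h) hd
      refine ⟨zl, z01, z10, fun h => hzn (mem_center_iff_smul.2 ⟨(zl : M2) 0 0, ?_⟩), (hz w hw wl hwl).1,
        (hz w hw wl hwl).2⟩
      ext i j
      fin_cases i <;> fin_cases j <;> simp [z01, z10, h]
  have hyuu : ∀ g, xg g ∉ Ay := by
    intro g hg
    rcases hcase with h | ⟨h5, hy2⟩
    · obtain ⟨D, D01, D10, Dne, ⟨d, hd⟩, -⟩ := h _ hg (uu g) rfl
      exact diag_not_commute D01 D10 Dne g hd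
    · haveI : Fact (Nat.Prime 5) := ⟨by norm_num⟩
      have h5' : uu g ^ 5 = 1 := by
        have hN : shift F 2 * shift F 2 = 0 := by rw [← pow_two]; exact shift_pow_n
        have key : ∀ m : ℕ, (1 + shift F 2) ^ m = 1 + (m : F) • shift F 2 := by
          intro m
          induction m with
          | zero => simp
          | succ m ih =>
            rw [pow_succ, ih, add_mul, one_mul, mul_add, mul_one, smul_mul_assoc, hN, smul_zero, add_zero,
              Nat.cast_succ, add_smul, one_smul]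
            abel
        have h50 : ((5 : ℕ) : F) = 0 := by rw [← h5]; exact FiniteField.cast_card_eq_zero F
        have h1 : u1 F 2 ^ 5 = 1 := Units.ext (by
          rw [Units.val_pow_eq_pow_val, coe_u1, key, h50, zero_smul, add_zero, Units.val_one])
        rw [uu, conj_pow, h1, mul_one, mul_inv_cancel]
      have hc : Commute y (xg g) := commute_of_nilpotent_subgroup hAy Nat.prime_two
        (by norm_num : Nat.Prime 5) (by norm_num) (hmem' y) hg hy2
        (orderOf_qq (p := 5) (xl := uu g) rfl (h5' ▸ one_mem _) (uu_not_center le_rfl g))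
      obtain ⟨d, -, hd⟩ := exists_smul_of_commute (a := yl) (z := uu g) (congrArg Subtype.val hc.eq)
      exact diag_not_commute y01 y10 yne g hd
  have hAyL : Ay ∉ L.image memU := by
    intro h
    obtain ⟨U, hU, hUe⟩ := Finset.mem_image.1 h
    obtain ⟨g, -, rfl⟩ := Finset.mem_image.1 hU
    rw [hmemU] at hUe
    exact hyuu g (hUe ▸ hmem' (xg g))
  -- the smaller cover
  let 𝓑 := L.image (fun U => stabG G U) ∪ (𝓐 \ L.image memU).erase Ay
  have hsub : L.image memU ⊆ 𝓐 := by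
    intro A hA
    obtain ⟨U, hU, rfl⟩ := Finset.mem_image.1 hA
    obtain ⟨g, -, rfl⟩ := Finset.mem_image.1 hU
    rw [hmemU]; exact hmem _
  have hcard : 𝓑.card < 𝓐.card := by
    have h1 := Finset.card_union_le (L.image fun U => stabG G U) ((𝓐 \ L.image memU).erase Ay)
    have h2 : (L.image fun U => stabG G U).card ≤ L.card := Finset.card_image_le
    have h3 : (L.image memU).card = L.card := Finset.card_image_of_injOn hinj
    have h4 := Finset.card_sdiff_add_card_eq_card hsub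
    have h5 := Finset.card_erase_add_one (Finset.mem_sdiff.2 ⟨hmem y, hAyL⟩)
    show (L.image (fun U => stabG G U) ∪ (𝓐 \ L.image memU).erase Ay).card < 𝓐.card
    simp only [Ay] at h1 h5 ⊢
    omega
  refine absurd (hmin 𝓑 ⟨fun B hB => ?_, fun x => ?_⟩) (not_le.2 hcard)
  · rcases Finset.mem_union.1 hB with hB | hB
    · obtain ⟨U, hU, rfl⟩ := Finset.mem_image.1 hB
      obtain ⟨g, -, rfl⟩ := Finset.mem_image.1 hU
      exact stab_ne_top hG g one_pos one_lt_two
    · exact hprop B (Finset.mem_sdiff.1 (Finset.mem_of_mem_erase hB)).1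
  have hstab : ∀ g, x ∈ stabG G (W g 1) → ∃ A ∈ 𝓑, x ∈ A := fun g hx =>
    ⟨_, Finset.mem_union_left _ (Finset.mem_image_of_mem _ (Finset.mem_image_of_mem _ (Finset.mem_univ g))), hx⟩
  obtain ⟨al, hal⟩ := QuotientGroup.mk'_surjective (Subgroup.center (GL (Fin 2) F)) (x : GL (Fin 2) F ⧸ _)
  by_cases hex : ∃ v : Fin 2 → F, v ≠ 0 ∧ ∃ t : F, (al : M2).mulVec v = t • v
  · obtain ⟨v, hv, t, ht⟩ := hex
    obtain ⟨g, hg⟩ := exists_line v hv
    refine hstab g ((mem_stabG G hal).2 fun w hw => ?_)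
    obtain ⟨c, rfl⟩ := (hg w).1 hw
    rw [Matrix.mulVec_smul, ht, smul_smul]
    exact (hg _).2 ⟨_, rfl⟩
  push Not at hex
  obtain ⟨hC0, hR⟩ := elliptic_centralizer al hex
  obtain ⟨R, iR, iD, φ, hφ⟩ := hR
  set C0 := Subgroup.centralizer ({al} : Set (GL (Fin 2) F))
  haveI : IsCyclic C0 := by
    exact isCyclic_of_injective_ringHom _ hφ
  set C := C0 ⊓ G.comap qq
  haveI : IsCyclic C := isCyclic_of_injective (Subgroup.inclusion (inf_le_left : C ≤ C0))
    (Subgroup.inclusion_injective _)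
  obtain ⟨⟨el, hel0, helG⟩, hel⟩ := IsCyclic.exists_generator (α := C)
  let ε : ↥G := ⟨qq el, helG⟩
  have hpow : ∀ c ∈ C, ∀ w : ↥G, qq c = ((w : ↥G) : GL (Fin 2) F ⧸ _) → w ∈ mem ε := by
    intro c hc w hw
    obtain ⟨k, hk⟩ := Subgroup.mem_zpowers_iff.1 (hel ⟨c, hc⟩)
    have : w = ε ^ k := Subtype.ext (by
      rw [← hw, SubgroupClass.coe_zpow, ← map_zpow]
      exact congrArg _ (congrArg Subtype.val hk).symm)
    exact this ▸ Subgroup.zpow_mem _ (hmem' ε) k
  have hdet1 : ∀ c ∈ C0, Matrix.det (c : M2) = 1 → c ∈ C := fun c hc h => ⟨hc, mem_G_of_det hG h⟩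
  have he2 : el ^ 2 ∉ Subgroup.center (GL (Fin 2) F) := by
    intro h
    let f : C0 →* Fˣ := (Matrix.GeneralLinearGroup.det).comp C0.subtype
    have h4 : ∀ c : f.ker, c ^ 4 = 1 := by
      rintro ⟨⟨c, hc⟩, hck⟩
      have hd : Matrix.det (c : M2) = 1 := congrArg Units.val hck
      obtain ⟨k, hk⟩ := Subgroup.mem_zpowers_iff.1 (hel ⟨c, hdet1 c hc hd⟩)
      have hk' : el ^ k = c := congrArg Subtype.val hk
      have hc2 : c ^ 2 ∈ Subgroup.center (GL (Fin 2) F) := by
        rw [← hk', ← zpow_natCast, ← zpow_mul, mul_comm, zpow_mul, zpow_natCast]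
        exact Subgroup.zpow_mem _ h k
      obtain ⟨t, ht⟩ := mem_center_iff_smul.1 hc2
      have ht2 : t ^ 2 = 1 := by
        have := congrArg Matrix.det ht
        rw [Units.val_pow_eq_pow_val, Matrix.det_pow, hd, one_pow, Matrix.det_smul, Matrix.det_one,
          mul_one, Fintype.card_fin] at this
        exact this.symm
      refine Subtype.ext (Subtype.ext (Units.ext ?_))
      show ((c ^ 4 : GL (Fin 2) F) : M2) = 1
      rw [show c ^ 4 = (c ^ 2) ^ 2 by rw [← pow_mul], Units.val_pow_eq_pow_val, ht, smul_pow, one_pow, ht2,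
        one_smul]
    haveI : IsCyclic f.ker := Subgroup.isCyclic f.ker
    obtain ⟨k0, hk0⟩ := IsCyclic.exists_ofOrder_eq_natCard (α := f.ker)
    have hker : Nat.card f.ker ≤ 4 := hk0 ▸ orderOf_le_of_pow_eq_one (by norm_num) (h4 k0)
    have hidx := Subgroup.card_mul_index f.ker
    rw [Subgroup.index_ker, hC0] at hidx
    have hr : Nat.card f.range ≤ Fintype.card F - 1 :=
      (Subgroup.card_le_card_group f.range).trans_eq (by rw [Nat.card_eq_fintype_card, Fintype.card_units])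
    have h1 := Nat.mul_le_mul hker hr
    rw [hidx] at h1
    obtain ⟨m, hm⟩ : ∃ m, Fintype.card F = m + 4 := ⟨Fintype.card F - 4, by omega⟩
    rw [hm, show m + 4 - 1 = m + 3 by omega, Nat.sub_le_iff_le_add] at h1
    nlinarith
  have heln : el ∉ Subgroup.center (GL (Fin 2) F) := fun h => he2 (Subgroup.pow_mem _ h 2)
  have hεAy : ε ∉ Ay := by
    intro hε
    rcases hcase with h | ⟨h5, hy2⟩
    · obtain ⟨D, D01, D10, Dne, -, ⟨d, hd⟩⟩ := h _ hε el rfl
      exact he2 (sq_center_of_diag D01 D10 Dne (centralizer_noncentral hex hel0 heln).1 hd)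
    · haveI : Fact (Nat.Prime 3) := ⟨Nat.prime_three⟩
      obtain ⟨⟨c, hc⟩, hc3⟩ := exists_prime_orderOf_dvd_card' (G := C0) 3 (by rw [hC0, h5]; norm_num)
      have hc3' : orderOf c = 3 := by rw [← hc3, Subgroup.orderOf_mk]
      have hcn : c ∉ Subgroup.center (GL (Fin 2) F) := fun h => by
        have := orderOf_dvd_of_pow_eq_one (central_pow h)
        rw [hc3', h5] at this
        norm_num at this
      have hd : Matrix.det (c : M2) = 1 := by
        have e3 : Matrix.det (c : M2) ^ 3 = 1 := by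
          rw [← Matrix.det_pow, ← Units.val_pow_eq_pow_val, ← hc3', pow_orderOf_eq_one, Units.val_one,
            Matrix.det_one]
        have e4 : Matrix.det (c : M2) ^ 4 = 1 := by
          have := FiniteField.pow_card_sub_one_eq_one (Matrix.det (c : M2))
            ((Matrix.isUnit_iff_isUnit_det _).1 c.isUnit).ne_zero
          rwa [h5] at this
        rwa [pow_succ, e3, one_mul] at e4
      let w : ↥G := ⟨qq c, mem_G_of_det hG hd⟩
      have hwA : w ∈ Ay := by
        obtain ⟨k, hk⟩ := Subgroup.mem_zpowers_iff.1 (hel ⟨c, hdet1 c hc hd⟩)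
        have : w = ε ^ k := Subtype.ext (by
          rw [SubgroupClass.coe_zpow]
          show qq c = (qq el) ^ k
          rw [← map_zpow]
          exact congrArg _ (congrArg Subtype.val hk).symm)
        exact this ▸ Subgroup.zpow_mem _ hε k
      have hcomm : Commute w y := commute_of_nilpotent_subgroup hAy Nat.prime_three Nat.prime_two
        (by norm_num) hwA (hmem' y)
        (orderOf_qq (p := 3) (xl := c) rfl (by rw [← hc3', pow_orderOf_eq_one]; exact one_mem _) hcn) hy2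
      obtain ⟨d, -, hd'⟩ := exists_smul_of_commute (a := c) (z := yl) (congrArg Subtype.val hcomm.eq)
      have hsq := central_pow (sq_center_of_diag y01 y10 yne (centralizer_noncentral hex hc hcn).1 hd')
      rw [← pow_mul, ← orderOf_dvd_iff_pow_eq_one, hc3', h5] at hsq
      norm_num at hsq
  refine ⟨mem ε, Finset.mem_union_right _ (Finset.mem_erase.2 ⟨fun e => hεAy (e ▸ hmem' ε),
    Finset.mem_sdiff.2 ⟨hmem ε, fun h => ?_⟩⟩), hpow al ⟨Subgroup.mem_centralizer_singleton_iff.2 rfl,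
    (show qq al ∈ G by rw [hal]; exact x.2)⟩ x hal⟩
  obtain ⟨U, hU, hUe⟩ := Finset.mem_image.1 h
  obtain ⟨g, -, rfl⟩ := Finset.mem_image.1 hU
  rw [hmemU] at hUe
  have h1 := hle g (hUe ▸ hmem' ε)
  exact (centralizer_noncentral hex hel0 heln).2 g ((mem_stabG G (x := ε) (a := el) rfl).1 h1)

end two

theorem two_pow_lt_factorial' {n : ℕ} (hn : 4 ≤ n) : 2 ^ n < n.factorial := by
  induction n, hn using Nat.le_induction with
  | base => decide
  | succ m hm ih =>
    rw [pow_succ', Nat.factorial_succ]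
    exact Nat.mul_lt_mul_of_le_of_lt (by omega) ih (by omega)

theorem key_card_three :
    Fintype.card {x : Finset (Fin 3) × Bool // x.1 ≠ ∅ ∧ x.1 ≠ Finset.univ ∧
        (x.2 = true → (1 : Fin 3) ∈ x.1 ∧ (0 : Fin 3) ∉ x.1)} <
      Fintype.card {p : Equiv.Perm (Fin 3) × Bool // p.2 = true → p.1.symm (1 : Fin 3) < p.1.symm 0} := by
  decide

/-- A cover of a group is a finite set of proper subgroups whose union is the whole group; it is minimal when no cover has fewer members, and nilpotent when all its members are nilpotent. Let F be a finite field with q elements and n ≥ 3, or n = 2 and q ≥ 4. Then no subgroup of PGL_n(F) = GL_n(F)/Z(GL_n(F)) containing the image of SL_n(F) has a nilpotent minimal cover. -/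
theorem result {F : Type*} [Field F] [Fintype F] (n : ℕ) (hn : 3 ≤ n ∨ (n = 2 ∧ 4 ≤ Fintype.card F))
    (G : Subgroup (GL (Fin n) F ⧸ Subgroup.center (GL (Fin n) F)))
    (hG : ((Matrix.SpecialLinearGroup.toGL : Matrix.SpecialLinearGroup (Fin n) F →* GL (Fin n) F).range).map
      (QuotientGroup.mk' (Subgroup.center (GL (Fin n) F))) ≤ G) :
    ¬ ∃ 𝓐 : Finset (Subgroup ↥G), ((∀ A ∈ 𝓐, A ≠ ⊤) ∧ (∀ g : ↥G, ∃ A ∈ 𝓐, g ∈ A)) ∧ (∀ 𝓑 : Finset (Subgroup ↥G), (∀ A ∈ 𝓑, A ≠ ⊤) ∧ (∀ g : ↥G, ∃ A ∈ 𝓑, g ∈ A) → 𝓐.card ≤ 𝓑.card) ∧ (∀ A ∈ 𝓐, Group.IsNilpotent ↥A) := by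
  rintro ⟨𝓐, ⟨hprop, hcov⟩, hmin, hnil⟩
  classical
  choose mem hmem hmem' using hcov
  have hrepl : ∀ M : Subgroup ↥G, M ≠ ⊤ → ∀ A ∈ 𝓐, ∀ A' ∈ 𝓐, A ≤ M → A' ≤ M → A = A' := by
    intro M hM A hA A' hA' hAM hA'M
    by_contra hne
    have hB := hmin (insert M ((𝓐.erase A).erase A')) ⟨fun B hB => by
      rcases Finset.mem_insert.1 hB with rfl | hB
      · exact hM
      · exact hprop B (Finset.mem_of_mem_erase (Finset.mem_of_mem_erase hB)), fun x => by
      by_cases h1 : mem x = A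
      · exact ⟨M, Finset.mem_insert_self _ _, hAM (h1 ▸ hmem' x)⟩
      by_cases h2 : mem x = A'
      · exact ⟨M, Finset.mem_insert_self _ _, hA'M (h2 ▸ hmem' x)⟩
      exact ⟨mem x, Finset.mem_insert_of_mem (Finset.mem_erase.2 ⟨h2, Finset.mem_erase.2 ⟨h1, hmem x⟩⟩), hmem' x⟩⟩
    have h3 := Finset.card_erase_add_one (Finset.mem_erase.2 ⟨Ne.symm hne, hA'⟩ : A' ∈ 𝓐.erase A)
    have h4 := Finset.card_erase_add_one hA
    have h5 := Finset.card_insert_le M ((𝓐.erase A).erase A')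
    omega
  rcases hn with h3 | ⟨rfl, hq4⟩
  swap
  · exact no_cover_two hq4 G hG 𝓐 hprop hmin hnil mem hmem hmem' hrepl
  have hn2 : 2 ≤ n := by omega
  let xg : GL (Fin n) F → ↥G := fun g => ⟨_, mem_G_of_det hG (uu_det g)⟩
  have hfix : ∀ g, ∃ s, 0 < s ∧ s < n ∧ mem (xg g) ≤ stabG G (W g s) :=
    fun g => member_fix hn2 (hnil _ (hmem _)) (hmem' _) rfl
  choose s hs0 hsn hle using hfix
  have hflag : ∀ g g', W g (s g) = W g' (s g') → ∀ i ≤ n, W g i = W g' i := by
    intro g g' h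
    have := hrepl (stabG G (W g (s g))) (stab_ne_top hG g (hs0 g) (hsn g)) _ (hmem (xg g)) _ (hmem (xg g'))
      (hle g) (h ▸ hle g')
    exact same_flag hn2 (hnil _ (hmem (xg g))) (hmem' _) (this ▸ hmem' (xg g')) rfl rfl
  obtain ⟨m, rfl⟩ : ∃ m, n = m + 3 := ⟨n - 3, by omega⟩
  have h01 : (0 : Fin (m + 3)) ≠ 1 := by simp
  let g : {p : Equiv.Perm (Fin (m + 3)) × Bool // p.2 = true → p.1.symm 1 < p.1.symm 0} → GL (Fin (m + 3)) F :=
    fun p => tb 0 1 h01 p.1.2 * gperm p.1.1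
  let S := fun p => Finset.univ.filter fun k => ((p.1.1 : Equiv.Perm (Fin (m + 3))).symm k : ℕ) < s (g p)
  let key := fun p => (S p, p.1.2 && decide ((1 : Fin (m + 3)) ∈ S p ∧ (0 : Fin (m + 3)) ∉ S p))
  have hinj : Function.Injective key := by
    intro p p' h
    obtain ⟨hS, hb⟩ := Prod.ext_iff.1 h
    simp only [key] at hS hb
    have h1 : W (g p) (s (g p)) = W (g p') (s (g p')) := by
      ext v
      rw [W_eq_coord 0 1 h01 _ _ _ (S p) rfl, W_eq_coord 0 1 h01 _ _ _ (S p') rfl, hb, hS]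
    obtain ⟨hσ, hb'⟩ := flag_injective 0 1 h01 p.2 p'.2 (hflag _ _ h1)
    exact Subtype.ext (Prod.ext hσ hb')
  rcases Nat.eq_zero_or_pos m with rfl | hm
  · have hS : ∀ p, S p ≠ ∅ ∧ S p ≠ Finset.univ := by
      intro p
      refine ⟨Finset.ne_empty_of_mem (a := p.1.1 0) (by simp [S, hs0]), fun h => ?_⟩
      have h2 : p.1.1 2 ∈ S p := h ▸ Finset.mem_univ _
      simp [S] at h2
      have := hsn (g p)
      omega
    have hle' := Fintype.card_le_of_injective
      (fun p => (⟨key p, (hS p).1, (hS p).2, fun hb => by simp [key] at hb; exact hb.2⟩ :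
        {x : Finset (Fin 3) × Bool // x.1 ≠ ∅ ∧ x.1 ≠ Finset.univ ∧
          (x.2 = true → (1 : Fin 3) ∈ x.1 ∧ (0 : Fin 3) ∉ x.1)}))
      (fun p p' h => hinj (congrArg Subtype.val h))
    exact absurd hle' (not_le.2 (by convert key_card_three))
  · have hle' := Fintype.card_le_of_injective
      (fun σ : Equiv.Perm (Fin (m + 3)) => S ⟨(σ, false), fun h => absurd h (by simp)⟩)
      (fun σ τ h => by
        have := hinj (a₁ := ⟨(σ, false), fun h => absurd h (by simp)⟩)
          (a₂ := ⟨(τ, false), fun h => absurd h (by simp)⟩) (Prod.ext h rfl)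
        exact congrArg (fun p => p.1.1) this)
    rw [Fintype.card_perm, Fintype.card_fin, Fintype.card_finset, Fintype.card_fin] at hle'
    exact absurd hle' (not_le.2 (two_pow_lt_factorial' (by omega)))

end Cfsg.Agent.S3894
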