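import Cfsg.Statements.S3908
import Cfsg.Agent.Lib.ZStar.UniqueInvolution

set_option autoImplicit false
open Cfsg
open scoped Pointwise commutatorElement

namespace Cfsg.Agent.S3908

/-- A `p`-group with two subgroups of order `p` has a noncyclic abelian subgroup of order `p ^ 2`. -/
theorem exists_square {S : Type*} [Group S] [Finite S] {p : ℕ} [Fact p.Prime] (hS : IsPGroup p S)
    (hne : ¬ ∀ x y : S, orderOf x = p → orderOf y = p → y ∈ Subgroup.zpowers x) :
    ∃ E : Subgroup S, IsMulCommutative E ∧ Nat.card E = p ^ 2 ∧ ∀ e ∈ E, e ^ p = 1 := by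
  classical
  have hp := (Fact.out : p.Prime)
  push Not at hne
  obtain ⟨x, y, hx, hy, hxy⟩ := hne
  have : Nontrivial S := ⟨x, 1, fun h => by rw [h, orderOf_one] at hx; exact hp.one_lt.ne hx⟩
  have hdvd : p ∣ Nat.card (Subgroup.center S) := by
    obtain ⟨k, hk⟩ := IsPGroup.iff_card.1 (hS.to_subgroup (Subgroup.center S))
    rw [hk]
    refine dvd_pow_self _ fun h => ?_
    rw [h, pow_zero, Subgroup.card_eq_one] at hk
    exact (IsPGroup.bot_lt_center hS).ne' hk
  obtain ⟨⟨z, hzc⟩, hz⟩ := exists_prime_orderOf_dvd_card' p hdvd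
  rw [Subgroup.orderOf_mk] at hz
  obtain ⟨w, hw, hwz⟩ : ∃ w, orderOf w = p ∧ w ∉ Subgroup.zpowers z := by
    by_contra! h
    apply hxy
    have h1 := h x hx
    have h2 : Subgroup.zpowers x = Subgroup.zpowers z :=
      Subgroup.eq_of_le_of_card_ge (Subgroup.zpowers_le.2 h1)
        (by rw [Nat.card_zpowers, Nat.card_zpowers, hx, hz])
    rw [h2]; exact h y hy
  have hzw : Commute w z := Subgroup.mem_center_iff.1 hzc w
  refine ⟨Subgroup.zpowers z ⊔ Subgroup.zpowers w, ?_, ?_, ?_⟩
  · rw [← Subgroup.le_centralizer_iff_isMulCommutative]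
    refine sup_le (Subgroup.zpowers_le.2 (Subgroup.center_le_centralizer _ hzc))
      (Subgroup.zpowers_le.2 ?_)
    rw [Subgroup.zpowers_eq_closure, Subgroup.zpowers_eq_closure, ← Subgroup.closure_union,
      Subgroup.centralizer_closure, Subgroup.mem_centralizer_iff]
    rintro g (rfl | rfl)
    · exact hzw.symm.eq
    · rfl
  · have hn : (Subgroup.zpowers z).Normal := ⟨fun a ha g => by
      have : Subgroup.zpowers z ≤ Subgroup.center S := Subgroup.zpowers_le.2 hzc
      rw [Subgroup.mem_center_iff.1 (this ha) g, mul_inv_cancel_right]; exact ha⟩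
    have hdisj : Subgroup.zpowers z ⊓ Subgroup.zpowers w = ⊥ := by
      by_contra hne
      have h1 := Subgroup.card_dvd_of_le (inf_le_right (a := Subgroup.zpowers z) (b := Subgroup.zpowers w))
      rw [Nat.card_zpowers, hw] at h1
      rcases hp.eq_one_or_self_of_dvd _ h1 with h2 | h2
      · exact hne (Subgroup.card_eq_one.1 h2)
      · have h3 := Subgroup.eq_of_le_of_card_ge (inf_le_right (a := Subgroup.zpowers z) (b := Subgroup.zpowers w))
          (by rw [h2, Nat.card_zpowers, hw])
        exact hwz ((h3.ge (Subgroup.mem_zpowers w)).1)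
    have h1 : (Subgroup.zpowers z).relIndex (Subgroup.zpowers w ⊔ Subgroup.zpowers z) =
        (Subgroup.zpowers z).relIndex (Subgroup.zpowers w) := Subgroup.relIndex_sup_right _ _
    have h2 : (Subgroup.zpowers z).relIndex (Subgroup.zpowers w) = p := by
      rw [← Subgroup.inf_relIndex_right, hdisj, Subgroup.relIndex_bot_left, Nat.card_zpowers, hw]
    have h3 := (Subgroup.zpowers z).subgroupOf (Subgroup.zpowers z ⊔ Subgroup.zpowers w) |>.card_mul_index
    rw [Nat.card_congr (Subgroup.subgroupOfEquivOfLe le_sup_left).toEquiv, Nat.card_zpowers, hz] at h3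
    rw [← h3, sq]
    congr 1
    rw [sup_comm] at h1
    exact h1.trans h2
  · intro e he
    refine (Subgroup.closure_induction (p := fun g _ => g ^ p = 1 ∧ ∀ u ∈ ({z, w} : Set S), Commute g u)
      ?_ ?_ ?_ ?_ (show e ∈ Subgroup.closure ({z, w} : Set S) by
        rw [Set.insert_eq, Subgroup.closure_union, ← Subgroup.zpowers_eq_closure,
          ← Subgroup.zpowers_eq_closure]; exact he)).1
    · intro g hg
      rcases hg with rfl | rfl
      · exact ⟨hz ▸ pow_orderOf_eq_one _, fun u hu => by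
          rcases hu with rfl | rfl
          · rfl
          · exact hzw.symm⟩
      · exact ⟨hw ▸ pow_orderOf_eq_one _, fun u hu => by
          rcases hu with rfl | rfl
          · exact hzw
          · rfl⟩
    · exact ⟨one_pow _, fun u _ => Commute.one_left u⟩
    · rintro a b ha hb ⟨ha1, ha2⟩ ⟨hb1, hb2⟩
      have hab : Commute a b := by
        refine Subgroup.closure_induction (p := fun g _ => Commute a g) ha2 (Commute.one_right a)
          (fun _ _ _ _ h1 h2 => h1.mul_right h2) (fun _ _ h => h.inv_right) hb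
      exact ⟨by rw [hab.mul_pow, ha1, hb1, one_mul], fun u hu => (ha2 u hu).mul_left (hb2 u hu)⟩
    · rintro a _ ⟨ha1, ha2⟩
      exact ⟨by rw [inv_pow, ha1, inv_one], fun u hu => (ha2 u hu).inv_left⟩

/-- No element of order `p ^ 2` as soon as `P` has two subgroups of order `p`. -/
theorem exponent_prime {G : Type*} [Group G] [Finite G] {p : ℕ} [Fact p.Prime] (P : Sylow p G)
    (hconj : ∀ A B : Subgroup G, A ≤ P → B ≤ P → IsMulCommutative A → IsMulCommutative B →
      Nat.card A = p ^ 2 → Nat.card B = p ^ 2 → ∃ g : G, B = A.map (MulAut.conj g).toMonoidHom)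
    (hne : ¬ ∀ x y : (P : Subgroup G), orderOf x = p → orderOf y = p → y ∈ Subgroup.zpowers x) :
    ∀ x ∈ (P : Subgroup G), x ^ p = 1 := by
  classical
  have hp := (Fact.out : p.Prime)
  obtain ⟨E, hEab, hEc, hEe⟩ := exists_square P.isPGroup' hne
  intro x hx
  by_contra hxp
  obtain ⟨k, hk⟩ := IsPGroup.iff_orderOf.1 P.isPGroup' ⟨x, hx⟩
  rw [Subgroup.orderOf_mk] at hk
  obtain ⟨k, rfl⟩ : ∃ j, k = j + 2 := ⟨k - 2, by
    rcases k with _ | _ | k
    · rw [pow_zero, orderOf_eq_one_iff] at hk; exact absurd (by rw [hk, one_pow]) hxp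
    · rw [zero_add, pow_one] at hk; exact absurd (hk ▸ pow_orderOf_eq_one x) hxp
    · omega⟩
  set y := x ^ p ^ k with hy
  have hyo : orderOf y = p ^ 2 := by
    rw [hy, orderOf_pow, hk, Nat.gcd_eq_right (pow_dvd_pow p (by omega)), Nat.pow_div (by omega) hp.pos]
    congr 1; omega
  obtain ⟨g, hg⟩ := hconj (Subgroup.zpowers y) (E.map (P : Subgroup G).subtype)
    (Subgroup.zpowers_le.2 (pow_mem hx _)) (Subgroup.map_subtype_le E) inferInstance
    (Subgroup.map_isMulCommutative E (P : Subgroup G).subtype)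
    (by rw [Nat.card_zpowers, hyo])
    (by rw [Subgroup.card_map_of_injective (P : Subgroup G).subtype_injective, hEc])
  have hmem : MulAut.conj g y ∈ E.map (P : Subgroup G).subtype :=
    hg ▸ Subgroup.mem_map_of_mem _ (Subgroup.mem_zpowers y)
  obtain ⟨e, he, heq⟩ := hmem
  have h1 : orderOf (MulAut.conj g y) ∣ p := by
    rw [← heq, orderOf_dvd_iff_pow_eq_one, ← map_pow, hEe e he, map_one]
  rw [MulEquiv.orderOf_eq, hyo] at h1
  have := Nat.le_of_dvd hp.pos h1
  nlinarith [hp.two_le]

/-- Let G be a finite group in which any two abelian subgroups of the same order are conjugate. Then a Sylow 2-subgroup of G is cyclic, elementary abelian or generalized quaternion, and for an odd prime p a Sylow p-subgroup of G is cyclic or has exponent dividing p. -/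
theorem result {G : Type*} [Group G] [Finite G] (hB : ∀ A B : Subgroup G, IsMulCommutative ↥A → IsMulCommutative ↥B → Nat.card ↥A = Nat.card ↥B → ∃ g : G, B = A.map (MulAut.conj g).toMonoidHom) :
    (∀ P : Sylow 2 G, IsCyclic ↥(P : Subgroup G) ∨ Cfsg.IsElementaryAbelian 2 (P : Subgroup G) ∨ ∃ k : ℕ, Nonempty (↥(P : Subgroup G) ≃* QuaternionGroup (2 ^ k))) ∧
    ∀ (p : ℕ) [Fact p.Prime], p ≠ 2 → ∀ P : Sylow p G, IsCyclic ↥(P : Subgroup G) ∨ ∀ x ∈ (P : Subgroup G), x ^ p = 1 := by
  classical
  have hconj : ∀ (p : ℕ) [Fact p.Prime] (P : Sylow p G), ∀ A B : Subgroup G, A ≤ P → B ≤ P →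
      IsMulCommutative A → IsMulCommutative B → Nat.card A = p ^ 2 → Nat.card B = p ^ 2 →
      ∃ g : G, B = A.map (MulAut.conj g).toMonoidHom := fun p _ P A B _ _ hA hA' hAc hBc =>
    hB A B hA hA' (hAc.trans hBc.symm)
  refine ⟨fun P => ?_, fun p _ hp2 P => ?_⟩
  · by_cases hu : ∀ x y : (P : Subgroup G), orderOf x = 2 → orderOf y = 2 → y ∈ Subgroup.zpowers x
    · rcases Lib.ZStar.isCyclic_or_inverted P.isPGroup' hu with h | ⟨-, a, g, ha4, hidx, hg, hinv, hg2⟩
      · exact Or.inl h
      · right; right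
        obtain ⟨k, hk⟩ := IsPGroup.iff_orderOf.1 P.isPGroup' a
        obtain ⟨k, rfl⟩ : ∃ j, k = j + 1 := ⟨k - 1, by
          rcases k with _ | k
          · rw [pow_zero] at hk; omega
          · omega⟩
        refine ⟨k, Lib.ZStar.nonempty_quaternion_of_inverted (pow_ne_zero _ two_ne_zero) ?_ hidx hg hinv ?_⟩
        · rw [hk, pow_succ']
        · rw [hg2, hk, pow_succ', Nat.mul_div_cancel_left _ two_pos]
    · right; left
      have he := exponent_prime P (hconj 2 P) hu
      refine ⟨⟨⟨fun a b => ?_⟩⟩, he⟩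
      have h : ∀ c : (P : Subgroup G), c⁻¹ = c := fun c => by
        rw [inv_eq_iff_mul_eq_one, ← sq]
        exact Subtype.ext (he c c.2)
      calc a * b = (a * b)⁻¹ := (h _).symm
        _ = b * a := by rw [mul_inv_rev, h, h]
  · by_cases hu : ∀ x y : (P : Subgroup G), orderOf x = p → orderOf y = p → y ∈ Subgroup.zpowers x
    · rcases Lib.ZStar.isCyclic_or_inverted P.isPGroup' hu with h | ⟨h, -⟩
      · exact Or.inl h
      · exact absurd h hp2
    · exact Or.inr (exponent_prime P (hconj p P) hu)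

end Cfsg.Agent.S3908
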