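import Cfsg.Statements.S4018
import Mathlib
import Cfsg.Agent.Lib.Solv.Friendship
-- import your own Cfsg.Agent.* helpers here

set_option autoImplicit false
open Cfsg

namespace Cfsg.Agent.S4018

/-- Let G be a finite group with an abelian Sylow 3-subgroup P such that the normalizer of P has order 4·#P, the centralizer C of P has order 2·#P, C meets each of its conjugates by elements outside its normalizer trivially, and every proper subgroup of G of even order has order dividing 4·#P. Then G is not simple. -/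
theorem result {G : Type*} [Group G] [Finite G]
    (P : Sylow 3 G) (hab : IsMulCommutative P)
    (hN : Nat.card (Subgroup.normalizer ((P : Subgroup G) : Set G)) = 4 * Nat.card P)
    (hC : Nat.card (Subgroup.centralizer (P : Set G)) = 2 * Nat.card P)
    (hTI : Cfsg.IsTISubset (Subgroup.centralizer (P : Set G) : Set G))
    (heven : ∀ H : Subgroup G, H ≠ ⊤ → 2 ∣ Nat.card H → Nat.card H ∣ 4 * Nat.card P) :
    ¬ IsSimpleGroup G := by
  intro hsimp
  haveI := Fact.mk Nat.prime_two
  classical
  set C := Subgroup.centralizer (P : Set G) with hCdef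
  set N := Subgroup.normalizer ((P : Subgroup G) : Set G) with hNdef
  set k := Nat.card (P : Subgroup G) with hk
  obtain ⟨a', ha'⟩ := P.isPGroup'.exists_card_eq
  have hkodd : Odd k := by rw [hk, ha']; exact Odd.pow (by decide)
  have hk0 : 0 < k := Nat.card_pos
  have hPC : (P : Subgroup G) ≤ C := Subgroup.le_centralizer (P : Subgroup G)
  have hCN : C ≤ N := Subgroup.centralizer_le_normalizer _
  have hNle : Nat.card N ≤ Nat.card G := Subgroup.card_le_card_group N
  -- `P` is nontrivial
  have hk3 : 3 ≤ k := by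
    rcases a' with _ | a'
    · exfalso
      have h1 : (P : Subgroup G) = ⊥ := Subgroup.eq_bot_of_card_eq _ (by rw [← hk] at *; simpa using ha')
      have e1 : Nat.card C = Nat.card G := by
        have hCt : C = ⊤ := eq_top_iff.2 fun x _ => Subgroup.mem_centralizer_iff.2 fun y hy => by
          have hy1 : y ∈ (⊥ : Subgroup G) := h1 ▸ hy
          rw [Subgroup.mem_bot.1 hy1, one_mul, mul_one]
        rw [hCt, Subgroup.card_top]
      have : Nat.card C ≤ Nat.card N := Subgroup.card_le_of_le hCN
      have h2 : Nat.card C = 2 * k := hC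
      have h3 : Nat.card N = 4 * k := hN
      omega
    · rw [hk, ha', pow_succ]
      have : 1 ≤ 3 ^ a' := Nat.one_le_pow _ _ (by omega)
      omega
  have hGcomm : ¬ ∀ x y : G, x * y = y * x := by
    intro hc
    have : C = ⊤ := eq_top_iff.2 fun x _ => Subgroup.mem_centralizer_iff.2 fun y _ => hc y x
    have h2 : Nat.card C = 2 * k := hC
    have h3 : Nat.card N = 4 * k := hN
    rw [this, Subgroup.card_top] at h2
    omega
  have hcenter : Subgroup.center G = ⊥ := by
    rcases (inferInstance : (Subgroup.center G).Normal).eq_bot_or_eq_top with h | h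
    · exact h
    · exact absurd (fun x y => (Subgroup.mem_center_iff.1 (h ▸ Subgroup.mem_top y) x)) hGcomm
  have hcent : ∀ u : G, u ≠ 1 → Subgroup.centralizer ({u} : Set G) ≠ ⊤ := by
    intro u hu h
    refine hu ((Subgroup.mem_bot).1 (hcenter ▸ Subgroup.mem_center_iff.2 fun y => ?_))
    exact (Subgroup.mem_centralizer_singleton_iff.1 (h ▸ Subgroup.mem_top y))
  -- the involution of `C`
  obtain ⟨z', hz'⟩ := exists_prime_orderOf_dvd_card' 2 (show 2 ∣ Nat.card C from hC ▸ dvd_mul_right 2 _)
  set z : G := (z' : G) with hzdef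
  have hzC : z ∈ C := z'.2
  have hzo : orderOf z = 2 := by rw [hzdef, Subgroup.orderOf_coe, hz']
  have hz1 : z ≠ 1 := fun h => by rw [h, orderOf_one] at hzo; omega
  have hz2 : z * z = 1 := by have := pow_orderOf_eq_one z; rwa [hzo, pow_two] at this
  have hzP : z ∉ (P : Subgroup G) := fun h => by
    have := Subgroup.orderOf_dvd_natCard _ h
    rw [hzo] at this
    exact Nat.not_even_iff_odd.2 hkodd (even_iff_two_dvd.2 (hk ▸ this))
  have hrelPC : (P : Subgroup G).relIndex C = 2 := by
    have h := Subgroup.relIndex_mul_relIndex ⊥ (P : Subgroup G) C bot_le hPC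
    rw [Subgroup.relIndex_bot_left, Subgroup.relIndex_bot_left] at h
    have h2 : Nat.card C = 2 * k := hC
    rw [← hk, h2, mul_comm 2 k] at h
    exact Nat.eq_of_mul_eq_mul_left hk0 h
  have hCmem : ∀ c ∈ C, c ∈ (P : Subgroup G) ∨ c * z ∈ (P : Subgroup G) := by
    intro c hc
    by_cases h : c ∈ (P : Subgroup G)
    · exact Or.inl h
    · refine Or.inr ?_
      have h2 := Subgroup.mul_mem_iff_of_index_two (H := (P : Subgroup G).subgroupOf C) hrelPC
        (a := ⟨c, hc⟩) (b := ⟨z, hzC⟩)
      simp only [Subgroup.mem_subgroupOf] at h2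
      exact h2.2 (iff_of_false h hzP)
  have hCcomm : ∀ x ∈ C, ∀ y ∈ C, x * y = y * x := by
    intro x hx y hy
    have hp : ∀ u ∈ C, ∀ v ∈ (P : Subgroup G), v * u = u * v := fun u hu v hv =>
      Subgroup.mem_centralizer_iff.1 hu v hv
    rcases hCmem y hy with h | h
    · exact (hp x hx y h).symm
    · have hxz : x * z = z * x := by
        rcases hCmem x hx with h' | h'
        · exact hp z hzC x h'
        · have e := hp z hzC _ h'
          calc x * z = z⁻¹ * (z * (x * z)) := by group
            _ = z⁻¹ * ((x * z) * z) := by rw [e]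
            _ = z * x := by rw [mul_assoc x, hz2, mul_one, inv_eq_of_mul_eq_one_right hz2]
      have e := hp x hx _ h
      calc x * y = x * (y * z) * z := by rw [mul_assoc, mul_assoc, hz2, mul_one]
        _ = (y * z) * x * z := by rw [e]
        _ = y * x := by rw [mul_assoc (y * z), hxz, ← mul_assoc, mul_assoc y, hz2, mul_one]
  have hCinv : ∀ c ∈ C, c * c = 1 → c = 1 ∨ c = z := by
    intro c hc hcc
    have hodd : ∀ q ∈ (P : Subgroup G), q * q = 1 → q = 1 := by
      intro q hq hqq
      have h1 : orderOf q ∣ 2 := orderOf_dvd_of_pow_eq_one (by rw [pow_two, hqq])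
      have h2 := Subgroup.orderOf_dvd_natCard _ hq
      rw [← hk] at h2
      have h3 : orderOf q ∣ Nat.gcd 2 k := Nat.dvd_gcd h1 h2
      rw [(Nat.coprime_two_left.2 hkodd).gcd_eq_one, Nat.dvd_one, orderOf_eq_one_iff] at h3
      exact h3
    rcases hCmem c hc with h | h
    · exact Or.inl (hodd c h hcc)
    · right
      have hh : (c * z) * (c * z) = 1 := by
        calc (c * z) * (c * z) = c * (z * c) * z := by group
          _ = c * (c * z) * z := by rw [hCcomm z hzC c hc]
          _ = 1 := by rw [← mul_assoc, hcc, one_mul, hz2]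
      have := hodd _ h hh
      rw [eq_inv_of_mul_eq_one_left this, inv_eq_of_mul_eq_one_right hz2]
  -- `N = C(z)`
  have hCnorm : ∀ g ∈ Subgroup.normalizer (C : Set G), g * z * g⁻¹ = z := by
    intro g hg
    rcases hCinv (g * z * g⁻¹) ((Subgroup.mem_normalizer_iff.1 hg z).1 hzC)
      (by rw [conj_mul, hz2, mul_one, mul_inv_cancel]) with h | h
    · exact absurd (conj_eq_one_iff.1 h) hz1
    · exact h
  have hNC : N ≤ Subgroup.normalizer (C : Set G) := by
    intro g hg
    rw [Subgroup.mem_normalizer_iff]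
    have key : ∀ g ∈ N, ∀ c ∈ C, g * c * g⁻¹ ∈ C := by
      intro g hg c hc
      rw [hCdef, Subgroup.mem_centralizer_iff]
      intro q hq
      have hq' : g⁻¹ * q * g ∈ (P : Subgroup G) := by
        have := (Subgroup.mem_normalizer_iff.1 (inv_mem hg) q).1 hq
        simpa using this
      have h := Subgroup.mem_centralizer_iff.1 hc _ hq'
      calc q * (g * c * g⁻¹) = g * ((g⁻¹ * q * g) * c) * g⁻¹ := by group
        _ = g * (c * (g⁻¹ * q * g)) * g⁻¹ := by rw [h]
        _ = (g * c * g⁻¹) * q := by group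
    intro c
    refine ⟨key g hg c, fun h => ?_⟩
    have := key g⁻¹ (inv_mem hg) _ h
    simpa [mul_assoc] using this
  have hNCz : N ≤ Subgroup.centralizer ({z} : Set G) := fun g hg => by
    rw [Subgroup.mem_centralizer_singleton_iff]
    have := hCnorm g (hNC hg)
    exact mul_inv_eq_iff_eq_mul.1 this
  have hCz : Subgroup.centralizer ({z} : Set G) = N := by
    refine (Subgroup.eq_of_le_of_card_ge hNCz ?_).symm
    rw [show Nat.card N = 4 * k from hN]
    refine Nat.le_of_dvd (by omega) (heven _ (hcent z hz1) ?_)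
    have := Subgroup.orderOf_dvd_natCard (Subgroup.centralizer ({z} : Set G))
      (Subgroup.mem_centralizer_singleton_iff.2 rfl)
    rwa [hzo] at this
  -- Sylow 2-subgroups
  obtain ⟨S0⟩ : Nonempty (Sylow 2 N) := inferInstance
  obtain ⟨S, hS⟩ := (S0.isPGroup'.map N.subtype).exists_le_sylow
  have hS04 : Nat.card (S0 : Subgroup N) = 4 := by
    rw [S0.card_eq_multiplicity, show Nat.card N = 4 * k from hN, Nat.factorization_mul (by omega) (by omega)]
    have h1 : k.factorization 2 = 0 := Nat.factorization_eq_zero_of_not_dvd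
      (by rw [Nat.dvd_iff_mod_eq_zero]; have := Nat.odd_iff.1 hkodd; omega)
    have h2 : (4 : ℕ).factorization 2 = 2 := by
      rw [show (4 : ℕ) = 2 ^ 2 by norm_num, Nat.Prime.factorization_pow Nat.prime_two, Finsupp.single_eq_same]
    simp [h1, h2]
  have hS4 : Nat.card (S : Subgroup G) = 4 := by
    have h1 : 4 ≤ Nat.card (S : Subgroup G) := by
      rw [← hS04, ← Subgroup.card_map_of_injective (f := N.subtype) (Subgroup.subtype_injective _)]
      exact Subgroup.card_le_of_le hS
    refine le_antisymm ?_ h1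
    obtain ⟨e, he⟩ := S.isPGroup'.exists_card_eq
    have h2 : (S : Subgroup G) ≠ ⊤ := fun h => by
      have h3 : k ∣ Nat.card G := hk ▸ Subgroup.card_subgroup_dvd_card _
      rw [← Subgroup.card_top (G := G), ← h, he] at h3
      have h4 := ((Nat.coprime_two_left.2 hkodd).symm.pow_right e).eq_one_of_dvd h3
      omega
    have h3 := heven _ h2 (by
      rw [he]; refine dvd_pow_self 2 ?_
      rintro rfl; rw [he] at h1; omega)
    rw [he] at h3 ⊢
    have hcop : Nat.Coprime (2 ^ e) k := Nat.Coprime.pow_left e (Nat.coprime_two_left.2 hkodd)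
    exact Nat.le_of_dvd (by norm_num) (hcop.dvd_of_dvd_mul_right h3)
  have hSN : (S : Subgroup G) ≤ N := by
    refine le_of_eq_of_le (Subgroup.eq_of_le_of_card_ge hS ?_).symm (Subgroup.map_subtype_le _)
    rw [hS4, Subgroup.card_map_of_injective (Subgroup.subtype_injective _), hS04]
  have hScomm : ∀ x ∈ (S : Subgroup G), ∀ y ∈ (S : Subgroup G), x * y = y * x := by
    intro x hx y hy
    have := IsPGroup.commutative_of_card_eq_prime_sq (p := 2) (G := (S : Subgroup G)) (by rw [hS4]; norm_num)
    exact congrArg Subtype.val (this ⟨x, hx⟩ ⟨y, hy⟩)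
  -- Burnside: some element of `N(S)` does not centralize `S`
  obtain ⟨g0, hg0N, hg0C⟩ : ∃ g, g ∈ Subgroup.normalizer ((S : Subgroup G) : Set G) ∧
      g ∉ Subgroup.centralizer ((S : Subgroup G) : Set G) := by
    by_contra! hcon
    have hc := MonoidHom.ker_transferSylow_isComplement' S hcon
    rcases (MonoidHom.normal_ker (MonoidHom.transferSylow S hcon)).eq_bot_or_eq_top with h | h
    · have h4 := hc.card_mul
      rw [h, Subgroup.card_bot, one_mul, hS4] at h4
      have h3 : Nat.card N = 4 * k := hN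
      omega
    · have h4 := hc.card_mul
      rw [h, Subgroup.card_top, hS4] at h4
      have : 0 < Nat.card G := Nat.card_pos
      omega
  set K := Subgroup.centralizer ((S : Subgroup G) : Set G) with hK
  have hSK : (S : Subgroup G) ≤ K := fun x hx => Subgroup.mem_centralizer_iff.2 fun y hy => hScomm y hy x hx
  have hg2 : g0 * g0 ∉ K ∨ ∃ g ∈ Subgroup.normalizer ((S : Subgroup G) : Set G), g ∉ K ∧ g * g ∉ K := by
    by_contra! hcon
    obtain ⟨hc1, hc2⟩ := hcon
    -- then the automizer has exponent two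
    haveI : (K.subgroupOf (Subgroup.normalizer ((S : Subgroup G) : Set G))).Normal :=
      Subgroup.normal_subgroupOf_of_le_normalizer (by
        intro g hg
        rw [Subgroup.mem_normalizer_iff]
        have key : ∀ g ∈ Subgroup.normalizer ((S : Subgroup G) : Set G), ∀ c ∈ K, g * c * g⁻¹ ∈ K := by
          intro g hg c hc
          rw [hK, Subgroup.mem_centralizer_iff]
          intro q hq
          have hq' : g⁻¹ * q * g ∈ (S : Subgroup G) := by
            have := (Subgroup.mem_normalizer_iff.1 (inv_mem hg) q).1 hq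
            simpa using this
          have h := Subgroup.mem_centralizer_iff.1 hc _ hq'
          calc q * (g * c * g⁻¹) = g * ((g⁻¹ * q * g) * c) * g⁻¹ := by group
            _ = g * (c * (g⁻¹ * q * g)) * g⁻¹ := by rw [h]
            _ = (g * c * g⁻¹) * q := by group
        intro c
        refine ⟨key g hg c, fun h => ?_⟩
        have := key g⁻¹ (inv_mem hg) _ h
        simpa [mul_assoc] using this)
    set M := Subgroup.normalizer ((S : Subgroup G) : Set G)
    have h2 : orderOf (QuotientGroup.mk ⟨g0, hg0N⟩ : ↥M ⧸ K.subgroupOf M) = 2 := by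
      apply orderOf_eq_prime
      · rw [pow_two, ← QuotientGroup.mk_mul, QuotientGroup.eq_one_iff]
        exact hc1
      · rw [Ne, QuotientGroup.eq_one_iff]
        exact hg0C
    have h3 : 2 ∣ (S : Subgroup G).index := by
      have := h2 ▸ orderOf_dvd_natCard (QuotientGroup.mk ⟨g0, hg0N⟩ : ↥M ⧸ K.subgroupOf M)
      refine this.trans (dvd_trans ?_ (Dvd.intro _ (Subgroup.relIndex_mul_index (Subgroup.le_normalizer : (S : Subgroup G) ≤ M))))
      change K.relIndex M ∣ (S : Subgroup G).relIndex M
      exact Subgroup.relIndex_dvd_of_le_left M hSK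
    exact S.not_dvd_index h3
  obtain ⟨g, hgN, hgC, hggC⟩ : ∃ g ∈ Subgroup.normalizer ((S : Subgroup G) : Set G), g ∉ K ∧ g * g ∉ K := by
    rcases hg2 with h | h
    · exact ⟨g0, hg0N, hg0C, h⟩
    · exact h
  have hzS : z ∈ (S : Subgroup G) := by
    have hp : IsPGroup 2 ↥(Subgroup.zpowers z) := IsPGroup.of_card (n := 1) (by rw [Nat.card_zpowers, hzo, pow_one])
    have hle : Subgroup.zpowers z ≤ Subgroup.normalizer ((S : Subgroup G) : Set G) := by
      rw [Subgroup.zpowers_le, Subgroup.mem_normalizer_iff]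
      have key : ∀ x ∈ (S : Subgroup G), z * x * z⁻¹ = x := by
        intro x hx
        have := Subgroup.mem_centralizer_singleton_iff.1 (hNCz (hSN hx))
        rw [← this, mul_inv_cancel_right]
      intro x
      refine ⟨fun hx => (key x hx).symm ▸ hx, fun hx => ?_⟩
      have h := key _ hx
      have hx' : x = z * x * z⁻¹ := by
        calc x = z⁻¹ * (z * x * z⁻¹) * z := by group
          _ = z⁻¹ * (z * (z * x * z⁻¹) * z⁻¹) * z := by rw [h]
          _ = z * x * z⁻¹ := by group
      exact hx' ▸ hx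
    exact (S.is_maximal' (hp.to_sup_of_normal_right' S.isPGroup' hle) le_sup_right).le
      (Subgroup.mem_sup_left (Subgroup.mem_zpowers z))
  set a := g * z * g⁻¹ with hadef
  have haS : a ∈ (S : Subgroup G) := (Subgroup.mem_normalizer_iff.1 hgN z).1 hzS
  have ha2 : a * a = 1 := by rw [hadef, conj_mul, hz2, mul_one, mul_inv_cancel]
  have hSfour : ∀ u v : G, u ∈ (S : Subgroup G) → v ∈ (S : Subgroup G) → u ≠ 1 → v ≠ 1 → u ≠ v →
      ∀ x ∈ (S : Subgroup G), u * u = 1 → v * v = 1 → x = 1 ∨ x = u ∨ x = v ∨ x = u * v := by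
    intro u v hu hv hu1 hv1 huv x hx huu hvv
    have hcard : ({1, u, v, u * v} : Finset G).card = 4 := by
      have h1 : u * v ≠ 1 := fun h => huv (by rw [eq_inv_of_mul_eq_one_left h, inv_eq_of_mul_eq_one_right hvv])
      have h2 : u * v ≠ u := fun h => hv1 (mul_left_cancel (h.trans (mul_one u).symm))
      have h3 : u * v ≠ v := fun h => hu1 (mul_right_cancel (h.trans (one_mul v).symm))
      simp [Finset.card_insert_of_notMem, hu1.symm, hv1.symm, h1.symm, huv, h2.symm, h3.symm]
    have := Fintype.ofFinite G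
    have heq : ({1, u, v, u * v} : Finset G) = Finset.univ.filter (· ∈ (S : Subgroup G)) := by
      refine Finset.eq_of_subset_of_card_le ?_ ?_
      · intro y hy
        simp only [Finset.mem_insert, Finset.mem_singleton] at hy
        simp only [Finset.mem_filter, Finset.mem_univ, true_and]
        rcases hy with rfl | rfl | rfl | rfl
        · exact one_mem _
        · exact hu
        · exact hv
        · exact mul_mem hu hv
      · rw [hcard, ← hS4, Nat.card_eq_fintype_card, Fintype.card_subtype]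
    have hx' : x ∈ ({1, u, v, u * v} : Finset G) := by rw [heq]; simpa using hx
    simpa using hx'
  have ha1 : a ≠ 1 := fun h => hz1 (conj_eq_one_iff.1 h)
  have haz : a ≠ z := by
    intro haz
    -- `g` fixes `z`; then its square centralizes `S`
    have hfix : g * z = z * g := mul_inv_eq_iff_eq_mul.1 haz
    by_cases hex : ∃ v ∈ (S : Subgroup G), v ≠ 1 ∧ v ≠ z ∧ v * v = 1
    · obtain ⟨v, hv, hv1, hvz, hvv⟩ := hex
      refine hggC (Subgroup.mem_centralizer_iff.2 fun x hx => ?_)
      have hgv : g * v * g⁻¹ ∈ (S : Subgroup G) := (Subgroup.mem_normalizer_iff.1 hgN v).1 hv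
      have hz' : g * z * g⁻¹ = z := haz
      have hcases : g * v * g⁻¹ = v ∨ g * v * g⁻¹ = z * v := by
        rcases hSfour z v hzS hv hz1 hv1 hvz.symm _ hgv hz2 hvv with h | h | h | h
        · exact absurd (conj_eq_one_iff.1 h) hv1
        · exact absurd (mul_left_cancel (mul_right_cancel (h.trans hz'.symm))) hvz
        · exact Or.inl h
        · exact Or.inr h
      have hv2 : g * g * v = v * (g * g) := by
        rcases hcases with h | h
        · rw [mul_inv_eq_iff_eq_mul] at h
          rw [mul_assoc, h, ← mul_assoc, h, mul_assoc]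
        · have h' := mul_inv_eq_iff_eq_mul.1 h
          calc g * g * v = g * (g * v) := mul_assoc _ _ _
            _ = g * (z * v * g) := by rw [h']
            _ = (g * z) * v * g := by group
            _ = z * (g * v) * g := by rw [hfix]; group
            _ = z * (z * v * g) * g := by rw [h']
            _ = v * (g * g) := by rw [← mul_assoc z, ← mul_assoc z, hz2, one_mul, mul_assoc]
      have hz3 : g * g * z = z * (g * g) := by rw [mul_assoc, hfix, ← mul_assoc, hfix, mul_assoc]
      rcases hSfour z v hzS hv hz1 hv1 hvz.symm x hx hz2 hvv with rfl | rfl | rfl | rfl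
      · rw [one_mul, mul_one]
      · exact hz3.symm
      · exact hv2.symm
      · calc z * v * (g * g) = z * (g * g * v) := by rw [hv2, mul_assoc]
          _ = z * (g * g) * v := by group
          _ = g * g * (z * v) := by rw [← hz3, mul_assoc]
    · -- cyclic case: a generator squares to `z`
      push Not at hex
      obtain ⟨v, hv, hv1, hvz⟩ : ∃ v ∈ (S : Subgroup G), v ≠ 1 ∧ v ≠ z := by
        by_contra! hcon
        have hall : ∀ x : (S : Subgroup G), x = 1 ∨ x = ⟨z, hzS⟩ := fun x => by
          rcases eq_or_ne (x : G) 1 with h | h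
          · exact Or.inl (Subtype.ext h)
          · exact Or.inr (Subtype.ext (hcon x x.2 h))
        letI := Fintype.ofFinite (S : Subgroup G)
        have h2 : (Finset.univ : Finset (S : Subgroup G)) ⊆ {1, ⟨z, hzS⟩} := fun x _ => by
          rcases hall x with h | h <;> simp [h]
        have h3 := (Finset.card_le_card h2).trans (Finset.card_le_two)
        rw [Finset.card_univ, ← Nat.card_eq_fintype_card, hS4] at h3
        omega
      have hcyc : Subgroup.zpowers v = (S : Subgroup G) := by
        refine Subgroup.eq_of_le_of_card_ge (Subgroup.zpowers_le.2 hv) ?_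
        rw [hS4, Nat.card_zpowers]
        have hd := Subgroup.orderOf_dvd_natCard _ hv
        rw [hS4] at hd
        rcases (Nat.dvd_prime_pow Nat.prime_two).1 (show orderOf v ∣ 2 ^ 2 by simpa using hd) with ⟨j, hj, hj'⟩
        interval_cases j
        · exact absurd (orderOf_eq_one_iff.1 hj') hv1
        · refine absurd (hex v hv hv1 hvz) (fun h => ?_)
          exact h (by rw [← pow_two]; exact hj'.trans (pow_one 2) ▸ pow_orderOf_eq_one v)
        · rw [hj']; norm_num
      have hgv : g * v * g⁻¹ ∈ Subgroup.zpowers v := hcyc.symm ▸ (Subgroup.mem_normalizer_iff.1 hgN v).1 hv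
      obtain ⟨j, hj⟩ := hgv
      have hj : v ^ j = g * v * g⁻¹ := hj
      have hv4 : v ^ (4 : ℕ) = 1 := by
        rw [← orderOf_dvd_iff_pow_eq_one, ← Nat.card_zpowers, hcyc, hS4]
      have hord : orderOf v = 4 := by rw [← Nat.card_zpowers, hcyc, hS4]
      refine hggC (Subgroup.mem_centralizer_iff.2 fun x hx => ?_)
      rw [SetLike.mem_coe, ← hcyc] at hx
      obtain ⟨i, rfl⟩ := hx
      suffices h : Commute v (g * g) from (h.zpow_left i).eq
      have hconj : g * g * v * (g * g)⁻¹ = v ^ (j * j) := by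
        calc g * g * v * (g * g)⁻¹ = g * (g * v * g⁻¹) * g⁻¹ := by group
          _ = g * v ^ j * g⁻¹ := by rw [hj]
          _ = (g * v * g⁻¹) ^ j := conj_zpow.symm
          _ = v ^ (j * j) := by rw [← hj, ← zpow_mul]
      have hodd : Odd j := by
        by_contra hev
        obtain ⟨i', rfl⟩ := Int.not_odd_iff_even.1 hev
        have : (g * v * g⁻¹) ^ (2 : ℕ) = 1 := by
          rw [← hj, ← zpow_natCast, ← zpow_mul, show (i' + i') * ((2 : ℕ) : ℤ) = ((4 : ℕ) : ℤ) * i' by push_cast; ring,
            zpow_mul, zpow_natCast, hv4, one_zpow]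
        rw [conj_pow, conj_eq_one_iff, ← orderOf_dvd_iff_pow_eq_one, hord] at this
        omega
      obtain ⟨i', rfl⟩ := hodd
      have : v ^ ((2 * i' + 1) * (2 * i' + 1)) = v := by
        rw [show (2 * i' + 1) * (2 * i' + 1) = ((4 : ℕ) : ℤ) * (i' * i' + i') + 1 by push_cast; ring,
          zpow_add, zpow_mul, zpow_natCast, hv4, one_zpow, one_mul, zpow_one]
      rw [this, mul_inv_eq_iff_eq_mul] at hconj
      exact hconj.symm
  -- all 2-elements of order two are conjugate to `z`
  have hinvconj : ∀ u : G, u ≠ 1 → u * u = 1 → ∃ x : G, x * z * x⁻¹ = u := by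
    intro u hu huu
    have hp : IsPGroup 2 ↥(Subgroup.zpowers u) := IsPGroup.of_card (n := 1) (by
      rw [Nat.card_zpowers, orderOf_eq_prime (by rw [pow_two, huu]) hu, pow_one])
    obtain ⟨Q, hQ⟩ := hp.exists_le_sylow
    obtain ⟨x, rfl⟩ := MulAction.exists_smul_eq G S Q
    obtain ⟨w, hw, hwu⟩ := hQ (Subgroup.mem_zpowers u)
    have hwu : x * w * x⁻¹ = u := hwu
    have hw1 : w ≠ 1 := fun h => hu (by rw [← hwu, h, mul_one, mul_inv_cancel])
    have hb : g * a * g⁻¹ ≠ a := fun h => haz (by
      have : g * a * g⁻¹ = g * z * g⁻¹ := h.trans hadef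
      exact mul_left_cancel (mul_right_cancel this))
    have hbS : g * a * g⁻¹ ∈ (S : Subgroup G) := (Subgroup.mem_normalizer_iff.1 hgN a).1 haS
    rcases hSfour z a hzS haS hz1 ha1 haz.symm w hw hz2 ha2 with h | h | h | h
    · exact absurd h hw1
    · exact ⟨x, h ▸ hwu⟩
    · refine ⟨x * g, ?_⟩
      rw [← hwu, h, hadef]; group
    · refine ⟨x * (g * g), ?_⟩
      have e : g * a * g⁻¹ = z * a := by
        rcases hSfour z a hzS haS hz1 ha1 haz.symm _ hbS hz2 ha2 with h' | h' | h' | h'
        · exact absurd (conj_eq_one_iff.1 h') ha1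
        · exfalso
          -- `g` would swap `z` and `a`
          refine hggC (Subgroup.mem_centralizer_iff.2 fun y hy => ?_)
          have h1 : g * g * z = z * (g * g) := by
            rw [← mul_inv_eq_iff_eq_mul]
            calc g * g * z * (g * g)⁻¹ = g * (g * z * g⁻¹) * g⁻¹ := by group
              _ = z := h'
          have h2 : g * g * a = a * (g * g) := by
            rw [← mul_inv_eq_iff_eq_mul]
            calc g * g * a * (g * g)⁻¹ = g * (g * a * g⁻¹) * g⁻¹ := by group
              _ = g * z * g⁻¹ := by rw [h']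
              _ = a := rfl
          rcases hSfour z a hzS haS hz1 ha1 haz.symm y hy hz2 ha2 with rfl | rfl | rfl | rfl
          · rw [one_mul, mul_one]
          · exact h1.symm
          · exact h2.symm
          · exact ((Commute.mul_left (show Commute z (g * g) from h1.symm) (show Commute a (g * g) from h2.symm))).eq
        · exact absurd h' hb
        · exact h'
      rw [← hwu, h, ← e, hadef]; group
  -- the outer elements of `N` invert `C`
  have haN : a ∈ N := hSN haS
  have haC : a ∉ C := fun h => by rcases hCinv a h ha2 with h' | h'; exacts [ha1 h', haz h']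
  have hCTI : ∀ x : G, ∀ c ∈ C, c ≠ 1 → x * c * x⁻¹ ∈ C → x * z * x⁻¹ = z := by
    intro x c hc hc1 hxc
    by_contra hne
    exact hc1 (hTI x (fun h => hne (hCnorm x h)) c hc hxc)
  have hfree : ∀ q ∈ (P : Subgroup G), a * q * a⁻¹ = q → q = 1 := by
    intro q hq hqa
    by_contra hq1
    have hqC : q ∈ C := hPC hq
    -- `q` lies in the conjugate centralizer of `a`
    have hgq : g⁻¹ * q * g ∈ Subgroup.centralizer ({z} : Set G) := by
      rw [Subgroup.mem_centralizer_singleton_iff]
      have : a * q = q * a := mul_inv_eq_iff_eq_mul.1 hqa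
      calc g⁻¹ * q * g * z = g⁻¹ * (q * a) * g := by rw [hadef]; group
        _ = g⁻¹ * (a * q) * g := by rw [this]
        _ = z * (g⁻¹ * q * g) := by rw [hadef]; group
    rw [hCz] at hgq
    have hgqP : g⁻¹ * q * g ∈ (P : Subgroup G) := by
      have hp : IsPGroup 3 ↥((Subgroup.zpowers (g⁻¹ * q * g)) ⊔ (P : Subgroup G)) := by
        refine IsPGroup.to_sup_of_normal_right' ?_ P.isPGroup' (Subgroup.zpowers_le.2 hgq)
        obtain ⟨e, he⟩ := (P.isPGroup' ⟨q, hq⟩)
        obtain ⟨e', -, he'⟩ := (Nat.dvd_prime_pow Nat.prime_three).1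
          (orderOf_dvd_of_pow_eq_one (congrArg Subtype.val he) : orderOf q ∣ 3 ^ e)
        refine IsPGroup.of_card (n := e') ?_
        rw [Nat.card_zpowers, show g⁻¹ * q * g = MulAut.conj g⁻¹ q by simp, MulEquiv.orderOf_eq, he']
      exact (P.is_maximal' hp le_sup_right).le (Subgroup.mem_sup_left (Subgroup.mem_zpowers _))
    refine haz (hCTI g _ (hPC hgqP) ?_ ?_)
    · intro h; exact hq1 (conj_eq_one_iff.1 (show g⁻¹ * q * (g⁻¹)⁻¹ = 1 by rw [inv_inv]; exact h))
    · rw [show g * (g⁻¹ * q * g) * g⁻¹ = q by group]; exact hqC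
  have hainv : ∀ c ∈ C, a * c * a⁻¹ = c⁻¹ := by
    have hP : ∀ q ∈ (P : Subgroup G), a * q * a⁻¹ = q⁻¹ := by
      intro q hq
      have hq' : a * q * a⁻¹ ∈ (P : Subgroup G) := (Subgroup.mem_normalizer_iff.1 haN q).1 hq
      refine eq_inv_of_mul_eq_one_left (hfree _ (mul_mem hq' hq) ?_)
      rw [← conj_mul, show a * (a * q * a⁻¹) * a⁻¹ = (a * a) * q * (a * a)⁻¹ by group, ha2, inv_one,
        one_mul, mul_one]
      exact hCcomm q (hPC hq) _ (hPC hq')
    intro c hc
    have haz' : a * z * a⁻¹ = z := hCnorm a (hNC haN)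
    rcases hCmem c hc with h | h
    · exact hP c h
    · have e := hP _ h
      calc a * c * a⁻¹ = (a * (c * z) * a⁻¹) * (a * z * a⁻¹)⁻¹ := by group
        _ = (c * z)⁻¹ * z⁻¹ := by rw [e, haz']
        _ = z⁻¹ * (c⁻¹ * z⁻¹) := by group
        _ = z⁻¹ * (z⁻¹ * c⁻¹) := by rw [hCcomm _ (inv_mem hc) _ (inv_mem hzC)]
        _ = c⁻¹ := by rw [← mul_assoc, ← mul_inv_rev, hz2, inv_one, one_mul]
  have hrelCN : C.relIndex N = 2 := by
    have h := Subgroup.relIndex_mul_relIndex ⊥ C N bot_le hCN
    rw [Subgroup.relIndex_bot_left, Subgroup.relIndex_bot_left] at h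
    rw [show Nat.card C = 2 * k from hC, show Nat.card N = 4 * k from hN] at h
    exact Nat.eq_of_mul_eq_mul_left (by omega : 0 < 2 * k) (by rw [h]; ring)
  have houter : ∀ b ∈ N, b ∉ C → b * b = 1 ∧ ∀ c ∈ C, b * c * b⁻¹ = c⁻¹ := by
    intro b hb hbC
    have h2 := (Subgroup.mul_mem_iff_of_index_two (H := C.subgroupOf N) hrelCN (a := ⟨a, haN⟩) (b := ⟨b, hb⟩)).2
      (by simp only [Subgroup.mem_subgroupOf]; exact iff_of_false haC hbC)
    simp only [Subgroup.mem_subgroupOf, Subgroup.coe_mul] at h2
    have hainv' : a⁻¹ = a := inv_eq_of_mul_eq_one_right ha2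
    have hb' : b = a * (a * b) := by rw [← mul_assoc, ha2, one_mul]
    constructor
    · calc b * b = (a * a) * b * b := by rw [ha2, one_mul]
        _ = (a * (a * b) * a⁻¹) * (a * b) := by group
        _ = 1 := by rw [hainv _ h2, inv_mul_cancel]
    · intro c hc
      calc b * c * b⁻¹ = a * ((a * b) * c * (a * b)⁻¹) * a⁻¹ := by
            conv_lhs => rw [hb']
            group
        _ = a * c * a⁻¹ := by rw [hCcomm _ h2 c hc, mul_inv_cancel_right]
        _ = c⁻¹ := hainv c hc
  -- the graph of commuting involutions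
  let ι := {u : G // u ≠ 1 ∧ u * u = 1}
  let R : ι → ι → Prop := fun u v => u.1 ≠ v.1 ∧ u.1 * v.1 = v.1 * u.1
  haveI : Nonempty ι := ⟨⟨z, hz1, hz2⟩⟩
  have hCzv : ∀ v : G, v * v = 1 → v ≠ 1 → ((z ≠ v ∧ z * v = v * z) ↔ (v ∈ N ∧ v ∉ C)) := by
    intro v hvv hv1
    constructor
    · rintro ⟨h1, h2⟩
      have hvN : v ∈ N := hCz ▸ Subgroup.mem_centralizer_singleton_iff.2 h2.symm
      refine ⟨hvN, fun h => ?_⟩
      rcases hCinv v h hvv with h' | h'
      · exact hv1 h'
      · exact h1 h'.symm
    · rintro ⟨h1, h2⟩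
      exact ⟨fun h => h2 (h ▸ hzC), (Subgroup.mem_centralizer_singleton_iff.1 (hNCz h1)).symm⟩
  have htrans : ∀ u : ι, ∃ x : G, x * z * x⁻¹ = u.1 := fun u => hinvconj u.1 u.2.1 u.2.2
  let T : G → ι ≃ ι := fun x => (MulAut.conj x).toEquiv.subtypeEquiv fun u => by
    simp only [MulEquiv.toEquiv_eq_coe, MulEquiv.coe_toEquiv, MulAut.conj_apply, ne_eq, conj_eq_one_iff,
      conj_mul]
  have hTR : ∀ x : G, ∀ u v : ι, R (T x u) (T x v) ↔ R u v := by
    intro x u v
    show ((MulAut.conj x) u.1 ≠ (MulAut.conj x) v.1 ∧ _ ) ↔ _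
    refine and_congr (MulAut.conj x).injective.ne_iff ?_
    show (MulAut.conj x) u.1 * (MulAut.conj x) v.1 = (MulAut.conj x) v.1 * (MulAut.conj x) u.1 ↔ _
    rw [← map_mul, ← map_mul, (MulAut.conj x).injective.eq_iff]
  let zi : ι := ⟨z, hz1, hz2⟩
  have hTz : ∀ u : ι, ∃ x : G, T x zi = u := fun u => by
    obtain ⟨x, hx⟩ := htrans u
    exact ⟨x, Subtype.ext hx⟩
  -- choose the prime
  obtain ⟨r, hr, hrd⟩ := Nat.exists_prime_and_dvd (n := 2 * k - 1) (by omega)
  haveI := Fact.mk hr
  have hr2 : r ≠ 2 := by rintro rfl; omega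
  refine Cfsg.Lib.Solv.false_of_regular_friendship R (fun u v h => ⟨h.1.symm, h.2.symm⟩)
    (fun u h => h.1 rfl) (2 * k) r hr2 ?_ ?_ ?_
  · obtain ⟨c, hc⟩ := hrd
    rw [show 2 * k = r * c + 1 by omega]
    push_cast
    rw [ZMod.natCast_self, zero_mul, zero_add]
  · intro u
    obtain ⟨x, rfl⟩ := hTz u
    have h1 : Nat.card {v : ι // R (T x zi) v} = Nat.card {v : ι // R zi v} :=
      (Nat.card_congr ((T x).subtypeEquiv fun v => (hTR x zi v).symm)).symm
    rw [h1]
    have h2 : Nat.card {v : ι // R zi v} = Nat.card C := by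
      refine Nat.card_congr
        { toFun := fun v => ⟨a * v.1.1, ?_⟩
          invFun := fun c => ⟨⟨a * c.1, ?_⟩, ?_⟩
          left_inv := fun v => ?_
          right_inv := fun c => ?_ }
      · obtain ⟨hvN, hvC⟩ := (hCzv v.1.1 v.1.2.2 v.1.2.1).1 v.2
        exact (Subgroup.mul_mem_iff_of_index_two (H := C.subgroupOf N) hrelCN (a := ⟨a, haN⟩) (b := ⟨_, hvN⟩)).2
          (by simp only [Subgroup.mem_subgroupOf]; exact iff_of_false haC hvC)
      · have hN' : a * c.1 ∈ N := mul_mem haN (hCN c.2)
        have hC' : a * c.1 ∉ C := fun h => haC ((Subgroup.mul_mem_cancel_right C c.2).1 h)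
        exact ⟨fun h => hC' (h ▸ one_mem C), (houter _ hN' hC').1⟩
      · have hN' : a * c.1 ∈ N := mul_mem haN (hCN c.2)
        have hC' : a * c.1 ∉ C := fun h => haC ((Subgroup.mul_mem_cancel_right C c.2).1 h)
        exact (hCzv _ (houter _ hN' hC').1 (fun h => hC' (h ▸ one_mem C))).2 ⟨hN', hC'⟩
      · refine Subtype.ext (Subtype.ext ?_)
        show a * (a * v.1.1) = v.1.1
        rw [← mul_assoc, ha2, one_mul]
      · refine Subtype.ext ?_
        show a * (a * c.1) = c.1
        rw [← mul_assoc, ha2, one_mul]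
    rw [h2]
    exact hC
  · intro u v huv
    obtain ⟨x, rfl⟩ := hTz u
    obtain ⟨v', rfl⟩ := (T x).surjective v
    have hzv : zi ≠ v' := fun h => huv (by rw [h])
    rw [show Nat.card {w : ι // R (T x zi) w ∧ R (T x v') w} = Nat.card {w : ι // R zi w ∧ R v' w} from
      (Nat.card_congr ((T x).subtypeEquiv fun w => by rw [hTR, hTR])).symm]
    clear huv
    obtain ⟨v, hv1, hv2⟩ := v'
    have hzv' : z ≠ v := fun h => hzv (Subtype.ext h)
    -- the dihedral subgroup generated by `z` and `v`
    set y := z * v with hy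
    have hy1 : y ≠ 1 := fun h => hzv' (by rw [eq_inv_of_mul_eq_one_left h, inv_eq_of_mul_eq_one_right hv2])
    have hzi : z⁻¹ = z := inv_eq_of_mul_eq_one_right hz2
    have hvi : v⁻¹ = v := inv_eq_of_mul_eq_one_right hv2
    have hzy : z * y * z⁻¹ = y⁻¹ := by
      rw [hy, ← mul_assoc z z, hz2, one_mul, mul_inv_rev, hvi]
    have hvy : v * y * v⁻¹ = y⁻¹ := by
      rw [hy, mul_inv_rev, hvi, hzi, mul_assoc, mul_assoc, hv2, mul_one]
    rw [Nat.card_eq_one_iff_exists]
    -- existence
    obtain ⟨w, hw1, hw2, hwz, hwv, hwzc, hwvc⟩ : ∃ w : G, w ≠ 1 ∧ w * w = 1 ∧ z ≠ w ∧ v ≠ w ∧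
        z * w = w * z ∧ v * w = w * v := by
      rcases Nat.even_or_odd (orderOf y) with hev | hod
      · obtain ⟨j, hj⟩ := hev
        have hpos := orderOf_pos y
        set w := y ^ j with hw
        have hw1 : w ≠ 1 := pow_ne_one_of_lt_orderOf (by omega) (by omega)
        have hw2 : w * w = 1 := by rw [hw, ← pow_add, ← hj, pow_orderOf_eq_one]
        have hwi : w⁻¹ = w := inv_eq_of_mul_eq_one_right hw2
        have hc : ∀ t : G, t * y * t⁻¹ = y⁻¹ → t * w = w * t := by
          intro t ht
          rw [← mul_inv_eq_iff_eq_mul, hw, ← conj_pow, ht, inv_pow, ← hw, hwi]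
        have hne : ∀ t : G, t * y * t⁻¹ = y⁻¹ → y * y ≠ 1 → t ≠ w := by
          intro t ht hyy h
          refine hyy ?_
          have hcomm : t * y * t⁻¹ = y := by
            rw [mul_inv_eq_iff_eq_mul, h, hw]; exact ((Commute.refl y).pow_left j).eq
          rw [ht] at hcomm
          calc y * y = y * y⁻¹ := by rw [hcomm]
            _ = 1 := mul_inv_cancel y
        by_cases hyy : y * y = 1
        · have : orderOf y = 2 := orderOf_eq_prime (by rw [pow_two, hyy]) hy1
          have hj1 : j = 1 := by omega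
          subst hj1
          rw [pow_one] at hw
          refine ⟨w, hw1, hw2, fun h => ?_, fun h => ?_, hc z hzy, hc v hvy⟩
          · rw [hw, hy] at h
            exact hv1 (mul_left_cancel ((mul_one z).trans h)).symm
          · rw [hw, hy] at h
            exact hz1 (mul_right_cancel ((one_mul v).trans h)).symm
        · exact ⟨w, hw1, hw2, hne z hzy hyy, hne v hvy hyy, hc z hzy, hc v hvy⟩
      · -- odd order: a power of three
        set D := Subgroup.zpowers y ⊔ Subgroup.zpowers z with hD
        have hnorm : Subgroup.zpowers z ≤ Subgroup.normalizer ((Subgroup.zpowers y : Subgroup G) : Set G) := by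
          rw [Subgroup.zpowers_le, Subgroup.mem_normalizer_iff]
          have key : ∀ h ∈ Subgroup.zpowers y, z * h * z⁻¹ ∈ Subgroup.zpowers y := by
            rintro _ ⟨i, rfl⟩
            show z * y ^ i * z⁻¹ ∈ _
            rw [← conj_zpow, hzy]
            exact Subgroup.zpow_mem _ (inv_mem (Subgroup.mem_zpowers y)) i
          intro h
          refine ⟨key h, fun hh => ?_⟩
          have := key _ hh
          rwa [show z * (z * h * z⁻¹) * z⁻¹ = (z * z) * h * (z * z)⁻¹ by group, hz2, inv_one, one_mul, mul_one] at this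
        have hzD : z ∈ D := Subgroup.mem_sup_right (Subgroup.mem_zpowers z)
        have hyD : y ∈ D := Subgroup.mem_sup_left (Subgroup.mem_zpowers y)
        have hDne : D ≠ ⊤ := by
          intro hDt
          have hYn : (Subgroup.zpowers y).Normal := Subgroup.normalizer_eq_top_iff.1
            (top_le_iff.1 (hDt ▸ sup_le Subgroup.le_normalizer hnorm))
          rcases hYn.eq_bot_or_eq_top with h | h
          · exact hy1 (Subgroup.zpowers_eq_bot.1 h)
          · exact hGcomm fun s t => by
              obtain ⟨i, rfl⟩ := (h ▸ Subgroup.mem_top s : s ∈ Subgroup.zpowers y)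
              obtain ⟨i', rfl⟩ := (h ▸ Subgroup.mem_top t : t ∈ Subgroup.zpowers y)
              exact ((Commute.refl y).zpow_zpow i i').eq
        have hdiv : orderOf y ∣ k := by
          have h4 := heven D hDne (by
            have := Subgroup.orderOf_dvd_natCard _ hzD
            rwa [hzo] at this)
          have h5 : orderOf y ∣ 4 * k := (Subgroup.orderOf_dvd_natCard _ hyD).trans h4
          exact (Nat.Coprime.pow_right 2 (Nat.coprime_two_right.2 hod)).dvd_of_dvd_mul_left (by simpa using h5)
        obtain ⟨e, -, he⟩ := (Nat.dvd_prime_pow Nat.prime_three).1 (ha' ▸ hk ▸ hdiv : orderOf y ∣ 3 ^ a')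
        obtain ⟨Q, hQ⟩ := (IsPGroup.of_card (p := 3) (n := e) (by rw [Nat.card_zpowers, he]) :
          IsPGroup 3 ↥(Subgroup.zpowers y)).exists_le_sylow
        obtain ⟨x', rfl⟩ := MulAction.exists_smul_eq G P Q
        obtain ⟨q, hq, hqy⟩ := hQ (Subgroup.mem_zpowers y)
        have hqy : x' * q * x'⁻¹ = y := hqy
        set w := x' * z * x'⁻¹ with hw
        have hw1 : w ≠ 1 := fun h => hz1 (conj_eq_one_iff.1 h)
        have hw2 : w * w = 1 := by rw [hw, conj_mul, hz2, mul_one, mul_inv_cancel]
        have hwy : w * y = y * w := by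
          rw [hw, ← hqy, conj_mul, conj_mul, hCcomm z hzC q (hPC hq)]
        have hq1 : q ≠ 1 := fun h => hy1 (by rw [← hqy, h, mul_one, mul_inv_cancel])
        have hfixw : ∀ t : G, t * y * t⁻¹ = y⁻¹ → t * w = w * t := by
          intro t ht
          have h1 : (x'⁻¹ * t * x') * q * (x'⁻¹ * t * x')⁻¹ = q⁻¹ := by
            calc (x'⁻¹ * t * x') * q * (x'⁻¹ * t * x')⁻¹ = x'⁻¹ * (t * (x' * q * x'⁻¹) * t⁻¹) * x' := by group
              _ = x'⁻¹ * (x' * q * x'⁻¹)⁻¹ * x' := by rw [hqy, ht]
              _ = q⁻¹ := by group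
          have h2 := hCTI _ q (hPC hq) hq1 (h1.symm ▸ inv_mem (hPC hq))
          rw [← mul_inv_eq_iff_eq_mul, hw]
          calc t * (x' * z * x'⁻¹) * t⁻¹ = x' * ((x'⁻¹ * t * x') * z * (x'⁻¹ * t * x')⁻¹) * x'⁻¹ := by group
            _ = x' * z * x'⁻¹ := by rw [h2]
        have hne : ∀ t : G, t * y * t⁻¹ = y⁻¹ → t ≠ w := by
          intro t ht h
          rw [h, hwy, mul_inv_cancel_right] at ht
          have : orderOf y ∣ 2 := orderOf_dvd_of_pow_eq_one (by rw [pow_two]; nth_rewrite 2 [ht]; exact mul_inv_cancel y)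
          rcases (Nat.dvd_prime Nat.prime_two).1 this with h' | h'
          · exact hy1 (orderOf_eq_one_iff.1 h')
          · rw [h'] at hod; exact absurd hod (by decide)
        exact ⟨w, hw1, hw2, hne z hzy, hne v hvy, hfixw z hzy, hfixw v hvy⟩
    refine ⟨⟨⟨w, hw1, hw2⟩, ⟨hwz, hwzc⟩, ⟨hwv, hwvc⟩⟩, fun w' => ?_⟩
    obtain ⟨⟨w', hw'1, hw'2⟩, ⟨hw'z, hw'zc⟩, ⟨hw'v, hw'vc⟩⟩ := w'
    refine Subtype.ext (Subtype.ext ?_)
    show w' = w
    by_contra hne
    obtain ⟨hwN, hwC⟩ := (hCzv w hw2 hw1).1 ⟨hwz, hwzc⟩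
    obtain ⟨hw'N, hw'C⟩ := (hCzv w' hw'2 hw'1).1 ⟨hw'z, hw'zc⟩
    have hcC : w * w' ∈ C := (Subgroup.mul_mem_iff_of_index_two (H := C.subgroupOf N) hrelCN
      (a := ⟨w, hwN⟩) (b := ⟨w', hw'N⟩)).2 (by simp only [Subgroup.mem_subgroupOf]; exact iff_of_false hwC hw'C)
    have hc1 : w * w' ≠ 1 := fun h => hne (by
      rw [eq_inv_of_mul_eq_one_right h, inv_eq_of_mul_eq_one_right hw2])
    have hvc : v * (w * w') * v⁻¹ = w * w' := by
      rw [mul_inv_eq_iff_eq_mul, ← mul_assoc, hwvc, mul_assoc, hw'vc, ← mul_assoc]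
    have hvz : v * z * v⁻¹ = z := hCTI v _ hcC hc1 (hvc.symm ▸ hcC)
    obtain ⟨hvN, hvC⟩ := (hCzv v hv2 hv1).1 ⟨hzv', (mul_inv_eq_iff_eq_mul.1 hvz).symm⟩
    have hinv := (houter v hvN hvC).2 _ hcC
    rw [hvc] at hinv
    have hcc : (w * w') * (w * w') = 1 := by nth_rewrite 1 [hinv]; exact inv_mul_cancel _
    rcases hCinv _ hcC hcc with h | h
    · exact hc1 h
    · -- `w' = w z`, and `v` lies in the four-group
      have hvwC : v * w ∈ C := (Subgroup.mul_mem_iff_of_index_two (H := C.subgroupOf N) hrelCN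
        (a := ⟨v, hvN⟩) (b := ⟨w, hwN⟩)).2 (by simp only [Subgroup.mem_subgroupOf]; exact iff_of_false hvC hwC)
      have hsq : (v * w) * (v * w) = 1 := by
        calc (v * w) * (v * w) = v * (w * v) * w := by group
          _ = v * (v * w) * w := by rw [hwvc]
          _ = 1 := by rw [← mul_assoc, hv2, one_mul, hw2]
      rcases hCinv _ hvwC hsq with h' | h'
      · exact hwv (by rw [eq_inv_of_mul_eq_one_left h', inv_eq_of_mul_eq_one_right hw2])
      · refine hw'v ?_
        have e1 : w' = w * z := by rw [← h, ← mul_assoc, hw2, one_mul]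
        have e2 : v = z * w := by rw [← h', mul_assoc, hw2, mul_one]
        show v = w'
        rw [e1, e2, hwzc]

end Cfsg.Agent.S4018
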