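import Cfsg.Statements.S4023
import Cfsg.Agent.S3908
import Cfsg.Agent.Lib.Transfer.PGroupNormal

set_option autoImplicit false
open Cfsg
open scoped Pointwise commutatorElement

namespace Cfsg.Agent.S4023

open Subgroup in
/-- A nonabelian group of exponent `p` of order above `p ^ 3` has abelian and nonabelian
subgroups of order `p ^ 3`. -/
theorem two_kinds {S : Type*} [Group S] [Finite S] {p : ℕ} [Fact p.Prime] (hS : IsPGroup p S)
    (hexp : ∀ x : S, x ^ p = 1) (hna : ¬ IsMulCommutative S) :
    Nat.card S = p ^ 3 ∨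
      (∃ A : Subgroup S, IsMulCommutative A ∧ Nat.card A = p ^ 3) ∧
      (∃ H : Subgroup S, ¬ IsMulCommutative H ∧ Nat.card H = p ^ 3) := by
  classical
  have hp := (Fact.out : p.Prime)
  have hsmall : ∀ (K : Subgroup S), ¬ IsMulCommutative K → p ^ 3 ∣ Nat.card K := by
    intro K hK
    obtain ⟨k, hk⟩ := IsPGroup.iff_card.1 (hS.to_subgroup K)
    rw [hk]
    refine pow_dvd_pow p ?_
    by_contra h
    apply hK
    rcases k with _ | _ | _ | k
    · rw [pow_zero] at hk
      have := (Nat.card_eq_one_iff_unique.1 hk).1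
      exact ⟨⟨fun a b => Subsingleton.elim _ _⟩⟩
    · rw [zero_add, pow_one] at hk
      have := isCyclic_of_prime_card hk
      exact ⟨⟨fun a b => (IsCyclic.commGroup (α := K)).mul_comm a b⟩⟩
    · exact ⟨⟨IsPGroup.commutative_of_card_eq_prime_sq (by simpa using hk)⟩⟩
    · omega
  obtain ⟨k, hk⟩ := IsPGroup.iff_card.1 hS
  have hk3 : 3 ≤ k := by
    have h := hsmall ⊤ (fun h => hna ⟨⟨fun a b =>
      congrArg Subtype.val (h.is_comm.comm ⟨a, mem_top a⟩ ⟨b, mem_top b⟩)⟩⟩)
    rw [card_top, hk, Nat.pow_dvd_pow_iff_le_right hp.one_lt] at h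
    exact h
  rcases Nat.lt_or_ge k 4 with hk4 | hk4
  · left; rw [hk]; congr 1; omega
  right
  -- a maximal normal abelian subgroup
  obtain ⟨A, ⟨hAn, hAab⟩, hmax⟩ := (Set.toFinite {A : Subgroup S | A.Normal ∧ IsMulCommutative A}).exists_maximal
    ⟨⊥, inferInstance, ⟨⟨fun a b => Subsingleton.elim _ _⟩⟩⟩
  haveI := hAn
  have hCA := Lib.Transfer.centralizer_eq_of_maximal_normal_abelian hS A hAab
    (fun B hB hB' hle => le_antisymm (hmax ⟨hB, hB'⟩ hle) hle)
  have hZA : center S ≤ A := hCA ▸ center_le_centralizer _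
  obtain ⟨j, hj⟩ := IsPGroup.iff_card.1 (hS.to_subgroup A)
  have hA3 : 3 ≤ j := by
    by_contra hlt
    have hne : A ≠ ⊥ := fun h => by
      have : center S = ⊥ := le_bot_iff.1 (h ▸ hZA)
      have : Nontrivial S := by
        rw [← Finite.one_lt_card_iff_nontrivial, hk]; exact Nat.one_lt_pow (by omega) hp.one_lt
      exact (IsPGroup.bot_lt_center hS).ne' ‹_›
    obtain ⟨⟨z, hzA, hzc⟩, hz1⟩ := (ne_bot_iff_exists_ne_one).1 (Lib.Transfer.inf_center_ne_bot hS A hne)
    have hzo : orderOf z = p := orderOf_eq_prime (hexp z) (fun h => hz1 (Subtype.ext h))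
    have hzA' : zpowers z ≤ A := zpowers_le.2 hzA
    rcases Nat.lt_or_ge j 2 with hj2 | hj2
    · -- `A` is central
      have hAz : A = zpowers z := (eq_of_le_of_card_ge hzA' (by
        rw [Nat.card_zpowers, hzo, hj]
        calc p ^ j ≤ p ^ 1 := Nat.pow_le_pow_right hp.pos (by omega)
          _ = p := pow_one p)).symm
      have htop : A = ⊤ := by
        rw [← hCA, eq_top_iff]
        intro g _
        rw [hAz]
        exact mem_centralizer_iff.2 fun a ha =>
          ((mem_center_iff.1 ((zpowers_le.2 hzc) ha)) g).symm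
      have h1 := congrArg (fun H : Subgroup S => Nat.card H) htop
      simp only [card_top, hj, hk] at h1
      have := Nat.pow_right_injective hp.two_le h1
      omega
    · obtain rfl : j = 2 := by omega
      obtain ⟨e, he, hez⟩ : ∃ e ∈ A, e ∉ zpowers z := by
        by_contra! h
        have h1 := card_le_of_le (show A ≤ zpowers z from h)
        rw [Nat.card_zpowers, hzo, hj] at h1
        nlinarith [hp.two_le]
      have hgen : A = zpowers z ⊔ zpowers e := by
        refine (eq_of_le_of_card_ge (sup_le hzA' (zpowers_le.2 he)) ?_).symm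
        obtain ⟨i, hi⟩ := IsPGroup.iff_card.1 (hS.to_subgroup (zpowers z ⊔ zpowers e))
        rw [hi, hj]
        refine Nat.pow_le_pow_right hp.pos ?_
        by_contra hlt'
        have h1 : zpowers z ⊔ zpowers e = zpowers z := (eq_of_le_of_card_ge le_sup_left (by
          rw [hi, Nat.card_zpowers, hzo]
          calc p ^ i ≤ p ^ 1 := Nat.pow_le_pow_right hp.pos (by omega)
            _ = p := pow_one p)).symm
        exact hez (h1.le (mem_sup_right (mem_zpowers e)))
      have hcz : ∀ g : S, ⁅g, e⁆ ∈ zpowers z := by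
        let Z := zpowers z
        have hZn : Z.Normal := ⟨fun a ha g => by
          rw [mem_center_iff.1 ((zpowers_le.2 hzc) ha) g, mul_inv_cancel_right]; exact ha⟩
        let π := QuotientGroup.mk' Z
        have hm : A.map π ≤ center (S ⧸ Z) := by
          have hn : (A.map π).Normal := hAn.map π (QuotientGroup.mk'_surjective Z)
          have hne' : A.map π ≠ ⊥ := by
            rw [Ne, Subgroup.map_eq_bot_iff, QuotientGroup.ker_mk']; exact fun h => hez (h he)
          have h1 := Lib.Transfer.inf_center_ne_bot (hS.to_quotient Z) (A.map π) hne'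
          have hcard : Nat.card (A.map π) = p := by
            have h2 : Z.relIndex A * Nat.card Z = Nat.card A := by
              rw [← relIndex_bot_left, ← relIndex_bot_left, mul_comm]
              exact relIndex_mul_relIndex _ _ _ bot_le hzA'
            rw [Nat.card_zpowers, hzo, hj, sq] at h2
            rw [← relIndex_ker, QuotientGroup.ker_mk']
            exact Nat.eq_of_mul_eq_mul_right hp.pos h2
          refine le_trans (le_of_eq ?_) (inf_le_right (a := A.map π))
          refine (eq_of_le_of_card_ge inf_le_left ?_).symm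
          rw [hcard]
          obtain ⟨i, hi⟩ := IsPGroup.iff_card.1 ((hS.to_quotient Z).to_subgroup
            (A.map π ⊓ center _))
          rw [hi]
          refine Nat.le_self_pow ?_ p
          rintro rfl
          exact h1 (Subgroup.card_eq_one.1 (by simpa using hi))
        intro g
        rw [← QuotientGroup.eq_one_iff (N := Z)]
        show π ⁅g, e⁆ = 1
        rw [map_commutatorElement, commutatorElement_eq_one_iff_mul_comm]
        exact mem_center_iff.1 (hm ⟨e, he, rfl⟩) (π g)
      have hzcom : ∀ c ∈ zpowers z, ∀ g : S, g * c = c * g := fun c hc g =>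
        mem_center_iff.1 ((zpowers_le.2 hzc) hc) g
      let f : S →* zpowers z := MonoidHom.mk' (fun g => ⟨⁅g, e⁆, hcz g⟩) (fun a b => by
        apply Subtype.ext
        show ⁅a * b, e⁆ = ⁅a, e⁆ * ⁅b, e⁆
        calc ⁅a * b, e⁆ = a * ⁅b, e⁆ * a⁻¹ * ⁅a, e⁆ := by simp only [commutatorElement_def]; group
          _ = _ := by rw [hzcom _ (hcz b) a, mul_inv_cancel_right, hzcom _ (hcz b)])
      have hker : f.ker ≤ A := by
        intro g hg
        have h1 : ⁅g, e⁆ = 1 := congrArg Subtype.val hg
        rw [← hCA, hgen, mem_centralizer_iff]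
        intro a ha
        obtain ⟨i', hi'⟩ : ∃ _ : Unit, a ∈ centralizer ({g} : Set S) := ⟨(), (sup_le
          (zpowers_le.2 (mem_centralizer_singleton_iff.2 (hzcom z (mem_zpowers z) g).symm))
          (zpowers_le.2 (mem_centralizer_singleton_iff.2
            (commutatorElement_eq_one_iff_mul_comm.1 h1).symm))) ha⟩
        exact mem_centralizer_singleton_iff.1 hi'
      have h2 : Nat.card S ≤ p * p ^ 2 := by
        rw [← f.ker.index_mul_card, index_ker]
        refine Nat.mul_le_mul ((card_le_card_group _).trans (by rw [Nat.card_zpowers, hzo])) ?_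
        rw [← hj]; exact card_le_of_le hker
      rw [hk, ← pow_succ'] at h2
      have := (Nat.pow_le_pow_iff_right hp.one_lt).1 h2
      omega
  constructor
  · obtain ⟨K, hK⟩ := Sylow.exists_subgroup_card_pow_prime (G := A) p (n := 3)
      (hj ▸ pow_dvd_pow p hA3)
    exact ⟨K.map A.subtype, map_isMulCommutative K A.subtype,
      by rw [card_map_of_injective A.subtype_injective, hK]⟩
  · -- a Heisenberg subgroup
    have hlt : center S < ⊤ := lt_top_iff_ne_top.2 fun h => hna ⟨⟨fun a b =>
      (mem_center_iff.1 (h.ge (mem_top b)) a)⟩⟩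
    obtain ⟨-, x, -, -, -, -, -, hxc, -, hxg⟩ := Lib.Transfer.exists_normal_step hS (center S) ⊤ hlt
    obtain ⟨y, hy⟩ : ∃ y, y * x ≠ x * y := by
      by_contra! h; exact hxc (mem_center_iff.2 h)
    set c := y * x * y⁻¹ * x⁻¹ with hc
    have hcc : ∀ g : S, g * c = c * g := fun g => mem_center_iff.1 (hxg y) g
    have hyx : y * x = c * (x * y) := by rw [hc]; group
    have hC : ∀ (i : ℤ) (g : S), g * c ^ i = c ^ i * g := fun i g =>
      ((show Commute g c from hcc g).zpow_right i).eq
    have hyxj : ∀ j : ℕ, y * x ^ j = c ^ (j : ℤ) * (x ^ j * y) := by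
      intro j
      induction j with
      | zero => simp
      | succ j ih =>
        calc y * x ^ (j + 1) = y * x ^ j * x := by rw [pow_succ]; group
          _ = c ^ (j : ℤ) * x ^ j * (y * x) := by rw [ih]; group
          _ = c ^ (j : ℤ) * (x ^ j * c) * (x * y) := by rw [hyx]; group
          _ = c ^ ((j + 1 : ℕ) : ℤ) * (x ^ (j + 1) * y) := by
              rw [hcc (x ^ j)]; push_cast; rw [zpow_add_one, pow_succ]; group
    have hyixj : ∀ i j : ℕ, y ^ i * x ^ j = c ^ ((i * j : ℕ) : ℤ) * (x ^ j * y ^ i) := by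
      intro i j
      induction i with
      | zero => simp
      | succ i ih =>
        calc y ^ (i + 1) * x ^ j = y * (y ^ i * x ^ j) := by rw [pow_succ']; group
          _ = (y * c ^ ((i * j : ℕ) : ℤ)) * (x ^ j * y ^ i) := by rw [ih]; group
          _ = c ^ ((i * j : ℕ) : ℤ) * (y * x ^ j) * y ^ i := by rw [hC]; group
          _ = c ^ ((i * j : ℕ) : ℤ) * c ^ (j : ℤ) * (x ^ j * y * y ^ i) := by rw [hyxj]; group
          _ = _ := by rw [← zpow_add, mul_assoc (x ^ j), ← pow_succ']; congr 2; push_cast; ring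
    let H : Subgroup S :=
      { carrier := {g | ∃ i j k : ℕ, g = c ^ i * (x ^ j * y ^ k)}
        one_mem' := ⟨0, 0, 0, by simp⟩
        mul_mem' := by
          rintro _ _ ⟨a, b, d, rfl⟩ ⟨a', b', d', rfl⟩
          refine ⟨a + a' + d * b', b + b', d + d', ?_⟩
          calc c ^ a * (x ^ b * y ^ d) * (c ^ a' * (x ^ b' * y ^ d'))
              = c ^ a * ((x ^ b * y ^ d) * c ^ ((a' : ℤ))) * (x ^ b' * y ^ d') := by
                rw [zpow_natCast]; group
            _ = c ^ a * c ^ a' * x ^ b * (y ^ d * x ^ b') * y ^ d' := by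
                rw [hC, zpow_natCast]; group
            _ = c ^ a * c ^ a' * (x ^ b * c ^ ((d * b' : ℕ) : ℤ)) * (x ^ b' * y ^ d * y ^ d') := by
                rw [hyixj]; group
            _ = _ := by
                rw [hC, zpow_natCast, pow_add, pow_add, pow_add x, pow_add y]; group
        inv_mem' := by
          rintro _ ⟨a, b, d, rfl⟩
          have hi : ∀ (g : S) (n : ℕ), (g ^ n)⁻¹ = g ^ (n * (p - 1)) := fun g n => by
            rw [inv_eq_iff_mul_eq_one, ← pow_add,
              show n + n * (p - 1) = p * n by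
                obtain ⟨q, hq⟩ : ∃ q, p = q + 1 := ⟨p - 1, by have := hp.pos; omega⟩
                subst hq
                simp only [Nat.add_sub_cancel]; ring,
              pow_mul, hexp, one_pow]
          refine ⟨a * (p - 1) + d * (p - 1) * (b * (p - 1)), b * (p - 1), d * (p - 1), ?_⟩
          rw [mul_inv_rev, mul_inv_rev, hi c a, hi x b, hi y d, hyixj, zpow_natCast]
          rw [pow_add]
          have := hC (((a * (p - 1) : ℕ) : ℤ)) (c ^ (d * (p - 1) * (b * (p - 1))) * (x ^ (b * (p - 1)) * y ^ (d * (p - 1))))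
          rw [zpow_natCast] at this
          rw [this]; group }
    have hxH : x ∈ H := ⟨0, 1, 0, by simp⟩
    have hyH : y ∈ H := ⟨0, 0, 1, by simp⟩
    have hHna : ¬ IsMulCommutative H := fun h => hy
      (congrArg Subtype.val (h.is_comm.comm ⟨y, hyH⟩ ⟨x, hxH⟩))
    refine ⟨H, hHna, le_antisymm ?_ (Nat.le_of_dvd Nat.card_pos (hsmall H hHna))⟩
    have hmod : ∀ (g : S) (n : ℕ), g ^ n = g ^ (n % p) := fun g n => by
      conv_lhs => rw [← Nat.mod_add_div n p, pow_add, pow_mul, hexp, one_pow, mul_one]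
    refine (Nat.card_le_card_of_surjective (fun t : Fin p × Fin p × Fin p =>
      (⟨c ^ (t.1 : ℕ) * (x ^ (t.2.1 : ℕ) * y ^ (t.2.2 : ℕ)), _, _, _, rfl⟩ : H)) ?_).trans ?_
    · rintro ⟨g, i, j, k, rfl⟩
      refine ⟨(⟨i % p, Nat.mod_lt _ hp.pos⟩, ⟨j % p, Nat.mod_lt _ hp.pos⟩, ⟨k % p, Nat.mod_lt _ hp.pos⟩), ?_⟩
      apply Subtype.ext
      show c ^ (i % p) * (x ^ (j % p) * y ^ (k % p)) = c ^ i * (x ^ j * y ^ k)
      rw [← hmod, ← hmod, ← hmod]
    · simp [Nat.card_prod, pow_succ, mul_assoc]

/-- Let p be a prime and G a finite group in which any two p-subgroups of the same order are conjugate, with Sylow p-subgroup P. Then P is cyclic, or elementary abelian, or p = 2 and P is a quaternion group of order 8, or p is odd and P is non-abelian of order p³ and exponent p. -/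
theorem result {G : Type*} [Group G] [Finite G]
    {p : ℕ} [Fact p.Prime] (hC : ∀ H K : Subgroup G, IsPGroup p H → IsPGroup p K → Nat.card H = Nat.card K →
      ∃ g : G, K = H.map (MulAut.conj g).toMonoidHom) (P : Sylow p G) :
    IsCyclic P ∨ Cfsg.IsElementaryAbelian p (P : Subgroup G) ∨
      (p = 2 ∧ Nonempty ((P : Subgroup G) ≃* QuaternionGroup 2)) ∨
      (p ≠ 2 ∧ ¬ IsMulCommutative P ∧ Nat.card P = p ^ 3 ∧ Monoid.exponent P = p) := by
  classical
  have hp := (Fact.out : p.Prime)
  have hle : ∀ A : Subgroup G, A ≤ (P : Subgroup G) → IsPGroup p A := fun A hA => P.isPGroup'.to_le hA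
  have key : ∀ A B : Subgroup (P : Subgroup G), Nat.card A = Nat.card B → Nonempty (A ≃* B) := by
    intro A B h
    let ι := (P : Subgroup G).subtype
    have hι : Function.Injective ι := (P : Subgroup G).subtype_injective
    obtain ⟨g, hg⟩ := hC (A.map ι) (B.map ι) (hle _ (Subgroup.map_subtype_le A))
      (hle _ (Subgroup.map_subtype_le B))
      (by rw [Subgroup.card_map_of_injective hι, Subgroup.card_map_of_injective hι, h])
    exact ⟨(Subgroup.equivMapOfInjective A ι hι).trans
      ((Subgroup.equivMapOfInjective _ (MulAut.conj g).toMonoidHom (MulAut.conj g).injective).trans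
        ((MulEquiv.subgroupCongr hg.symm).trans (Subgroup.equivMapOfInjective B ι hι).symm))⟩
  by_cases hu : ∀ x y : (P : Subgroup G), orderOf x = p → orderOf y = p → y ∈ Subgroup.zpowers x
  · rcases Lib.ZStar.isCyclic_or_inverted P.isPGroup' hu with h | ⟨hp2, a, g, ha4, hidx, hg, hinv, hg2⟩
    · exact Or.inl h
    subst hp2
    right; right; left
    obtain ⟨k, hk⟩ := IsPGroup.iff_orderOf.1 P.isPGroup' a
    have hk2 : 2 ≤ k := by
      by_contra h
      have : orderOf a ≤ 2 ^ 1 := hk ▸ Nat.pow_le_pow_right two_pos (by omega)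
      omega
    obtain rfl : k = 2 := by
      by_contra hne
      have h8 : 2 ^ 3 ∣ orderOf a := hk ▸ pow_dvd_pow 2 (by omega)
      set A := Subgroup.zpowers (a ^ (orderOf a / 2 ^ 3)) with hA
      have hAc : Nat.card A = 2 ^ 3 := by
        rw [hA, Nat.card_zpowers, orderOf_pow, Nat.gcd_eq_right (Nat.div_dvd_of_dvd h8),
          Nat.div_div_self h8 (orderOf_pos a).ne']
      have hg4 : orderOf g = 2 ^ 2 := by
        refine orderOf_eq_prime_pow (n := 1) ?_ ?_
        · rw [pow_one, hg2, ← orderOf_dvd_iff_pow_eq_one]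
          intro h
          have := Nat.le_of_dvd (Nat.div_pos (by omega) two_pos) h
          omega
        · rw [show 2 ^ (1 + 1) = 2 * 2 from rfl, pow_mul, hg2, ← pow_mul,
            Nat.div_mul_cancel ((dvd_pow_self 2 (by omega : k ≠ 0)).trans (dvd_of_eq hk.symm)),
            pow_orderOf_eq_one]
      obtain ⟨B, hBc, hgB⟩ := Sylow.exists_subgroup_card_pow_succ (G := (P : Subgroup G))
        (p := 2) (n := 2) (hAc ▸ A.card_subgroup_dvd_card)
        (H := Subgroup.zpowers g) (by rw [Nat.card_zpowers, hg4])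
      obtain ⟨e⟩ := key A B (hAc.trans hBc.symm)
      have hBcyc : IsCyclic B := isCyclic_of_surjective e e.surjective
      obtain ⟨b, hb⟩ := IsCyclic.exists_generator (α := B)
      have hgb : g ∈ Subgroup.zpowers (b : (P : Subgroup G)) := by
        obtain ⟨i, hi⟩ := Subgroup.mem_zpowers_iff.1 (hb ⟨g, hgB (Subgroup.mem_zpowers g)⟩)
        exact ⟨i, congrArg Subtype.val hi⟩
      have hbU : (b : (P : Subgroup G)) ∉ Subgroup.zpowers a := fun h =>
        hg ((Subgroup.zpowers_le.2 h) hgb)
      obtain ⟨i, hi⟩ : ∃ i : ℤ, (b : (P : Subgroup G)) = a ^ i * g := by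
        have h1 : (b : (P : Subgroup G)) * g⁻¹ ∈ Subgroup.zpowers a := by
          rw [Subgroup.mul_mem_iff_of_index_two hidx, inv_mem_iff]
          exact iff_of_false hbU hg
        obtain ⟨i, hi⟩ := Subgroup.mem_zpowers_iff.1 h1
        exact ⟨i, by rw [hi, inv_mul_cancel_right]⟩
      have hb4 : (b : (P : Subgroup G)) ^ 4 = 1 := by
        have h2 : (b : (P : Subgroup G)) ^ 2 = g ^ 2 := by
          have h1 : g * a ^ i * g⁻¹ = (a ^ i)⁻¹ := by rw [← conj_zpow, hinv, inv_zpow]
          rw [hi]
          calc (a ^ i * g) ^ 2 = a ^ i * (g * a ^ i * g⁻¹) * g ^ 2 := by simp only [sq]; group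
            _ = g ^ 2 := by rw [h1, mul_inv_cancel, one_mul]
        rw [show (4 : ℕ) = 2 * 2 from rfl, pow_mul, h2, ← pow_mul,
          show 2 * 2 = 2 ^ 2 from rfl, ← hg4, pow_orderOf_eq_one]
      have h8b : orderOf b = 2 ^ 3 := by rw [orderOf_eq_card_of_forall_mem_zpowers hb, hBc]
      rw [← Subgroup.orderOf_coe] at h8b
      have := Nat.le_of_dvd (by norm_num) (h8b ▸ orderOf_dvd_of_pow_eq_one hb4)
      norm_num at this
    refine ⟨rfl, Lib.ZStar.nonempty_quaternion_of_inverted two_ne_zero (by rw [hk]; rfl) hidx hg hinv ?_⟩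
    rw [hg2, hk]
    rfl
  · have hexp := S3908.exponent_prime P (fun A B hA hB _ _ hAc hBc =>
      hC A B (hle A hA) (hle B hB) (hAc.trans hBc.symm)) hu
    have hexp' : ∀ x : (P : Subgroup G), x ^ p = 1 := fun x => Subtype.ext (hexp x x.2)
    by_cases hab : IsMulCommutative (P : Subgroup G)
    · exact Or.inr (Or.inl ⟨hab, hexp⟩)
    right; right; right
    refine ⟨?_, hab, ?_, ?_⟩
    · rintro rfl
      apply hab
      refine ⟨⟨fun a b => ?_⟩⟩
      have h : ∀ c : (P : Subgroup G), c⁻¹ = c := fun c => by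
        rw [inv_eq_iff_mul_eq_one, ← sq]; exact hexp' c
      calc a * b = (a * b)⁻¹ := (h _).symm
        _ = b * a := by rw [mul_inv_rev, h, h]
    · rcases two_kinds P.isPGroup' hexp' hab with h | ⟨⟨A, hA, hAc⟩, H, hH, hHc⟩
      · exact h
      · obtain ⟨e⟩ := key A H (hAc.trans hHc.symm)
        exact absurd ⟨⟨fun a b => e.symm.injective (by
          rw [map_mul, map_mul]; exact hA.is_comm.comm _ _)⟩⟩ hH
    · refine Nat.dvd_antisymm (Monoid.exponent_dvd_of_forall_pow_eq_one hexp') ?_
      have hnt : Nontrivial (P : Subgroup G) := by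
        by_contra h
        rw [not_nontrivial_iff_subsingleton] at h
        exact hab ⟨⟨fun a b => Subsingleton.elim _ _⟩⟩
      obtain ⟨x, hx⟩ := exists_ne (1 : (P : Subgroup G))
      exact (orderOf_eq_prime (hexp' x) hx).symm.dvd.trans (Monoid.order_dvd_exponent x)

end Cfsg.Agent.S4023
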