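import Cfsg.Statements.S4024
import Cfsg.Agent.S4023
import Cfsg.Agent.Lib.Solv.Cores
import Cfsg.Agent.Lib.Solv.PComplement

set_option autoImplicit false
open Cfsg
open scoped Pointwise commutatorElement

namespace Cfsg.Agent.S4024

/-- Let p be an odd prime and G a finite group in which any two p-subgroups of the same order are conjugate, with Sylow p-subgroup P. If H is a normal p-solvable subgroup of G whose order is divisible by p, then P is abelian, and either P ≤ H or P is cyclic. -/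
theorem result {G : Type*} [Group G] [Finite G]
    {p : ℕ} [Fact p.Prime] (hp : p ≠ 2) (hC : ∀ H K : Subgroup G, IsPGroup p H → IsPGroup p K → Nat.card H = Nat.card K →
      ∃ g : G, K = H.map (MulAut.conj g).toMonoidHom) (P : Sylow p G)
    (H : Subgroup G) [H.Normal] (hsolv : Cfsg.IsPSolvable p H) (hdiv : p ∣ Nat.card H) :
    IsMulCommutative P ∧ ((P : Subgroup G) ≤ H ∨ IsCyclic P) := by
  classical
  have hp' := (Fact.out : p.Prime)
  set M := Cfsg.pPrimeCore p G ⊓ H with hM
  have hMcop : (Nat.card M).Coprime p :=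
    (Lib.Solv.coprime_pPrimeCore p).coprime_dvd_left (Subgroup.card_dvd_of_le inf_le_left)
  haveI hPCn : (Cfsg.pPrimeCore p G).Normal := inferInstance
  haveI hMn : M.Normal := inferInstance
  let π := QuotientGroup.mk' M
  have hπ := QuotientGroup.mk'_surjective M
  set K := H.map π with hK
  haveI hKn : K.Normal := (inferInstance : H.Normal).map π hπ
  have hMH : M ≤ H := inf_le_right
  have hKcomap : K.comap π = H := by
    rw [hK, Subgroup.comap_map_eq_self]; rw [QuotientGroup.ker_mk']; exact hMH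
  have hKsolv : Cfsg.IsPSolvable p K :=
    Lib.PLocal.IsPSolvable.of_surjective (π.subgroupMap H) (π.subgroupMap_surjective H) hsolv
  have hpK : p ∣ Nat.card K := by
    have h1 := Subgroup.relIndex_mul_relIndex (⊥ : Subgroup G) M H bot_le hMH
    rw [Subgroup.relIndex_bot_left, Subgroup.relIndex_bot_left] at h1
    have h2 : Nat.card K = M.relIndex H := by
      rw [hK, ← Subgroup.relIndex_ker, QuotientGroup.ker_mk']
    rw [h2]
    exact (Nat.Coprime.dvd_of_dvd_mul_left hMcop.symm (h1.symm ▸ hdiv))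
  have hKpp : Cfsg.pPrimeCore p K = ⊥ := by
    rw [← Subgroup.map_eq_bot_iff_of_injective _ K.subtype_injective, Lib.Solv.map_pPrimeCore_subgroup,
      eq_bot_iff]
    set W := Cfsg.pPrimeCore p (G ⧸ M) ⊓ K with hW
    have hWc : W.comap π ≤ M := by
      refine le_inf (Lib.Solv.le_pPrimeCore inferInstance ?_)
        ((Subgroup.comap_mono inf_le_right).trans hKcomap.le)
      have h3 : Nat.card (W.comap π) = Nat.card W * Nat.card M := by
        have hle : M ≤ W.comap π := fun x hx => by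
          rw [Subgroup.mem_comap, show π x = 1 from (QuotientGroup.eq_one_iff x).2 hx]
          exact one_mem _
        have h1 := Subgroup.relIndex_mul_relIndex (⊥ : Subgroup G) M (W.comap π) bot_le hle
        rw [Subgroup.relIndex_bot_left, Subgroup.relIndex_bot_left] at h1
        have h2 : Nat.card ((W.comap π).map π) = M.relIndex (W.comap π) := by
          rw [← Subgroup.relIndex_ker, QuotientGroup.ker_mk']
        rw [Subgroup.map_comap_eq_self_of_surjective hπ] at h2
        rw [h2, mul_comm, h1]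
      rw [h3]
      exact Nat.Coprime.mul_left ((Lib.Solv.coprime_pPrimeCore p).coprime_dvd_left
        (Subgroup.card_dvd_of_le inf_le_left)) hMcop
    intro w hw
    obtain ⟨g, rfl⟩ := hπ w
    exact (QuotientGroup.eq_one_iff g).2 (hWc hw)
  obtain ⟨N, hNn, hNbot, hN⟩ := Lib.Solv.exists_normal_p_or_coprime hKsolv (fun h => by
    rw [h, Nat.dvd_one] at hpK; exact hp'.one_lt.ne' hpK)
  have hNp : IsPGroup p N := hN.resolve_right fun h => hNbot (by
    rw [eq_bot_iff, ← hKpp]; exact Lib.Solv.le_pPrimeCore hNn h)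
  set Q := Cfsg.pCore p (G ⧸ M) ⊓ K with hQ
  haveI hQn : Q.Normal := inferInstance
  have hQp : IsPGroup p Q := (Lib.Solv.isPGroup_pCore p).to_le inf_le_left
  have hQbot : Q ≠ ⊥ := by
    rw [hQ, ← Lib.Solv.map_pCore_subgroup, Ne, Subgroup.map_eq_bot_iff_of_injective _ K.subtype_injective]
    intro h
    exact hNbot (le_bot_iff.1 (h ▸ Lib.Solv.le_pCore hNn hNp))
  have hcopM : ∀ x ∈ (P : Subgroup G), x ∈ M → x = 1 := by
    intro x hx hxM
    obtain ⟨k, hk⟩ := IsPGroup.iff_card.1 P.isPGroup'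
    have h1 := (Subgroup.orderOf_dvd_natCard (P : Subgroup G) hx).trans hk.dvd
    exact orderOf_eq_one_iff.1 (Nat.eq_one_of_dvd_coprimes (Nat.Coprime.pow_right k hMcop)
      (Subgroup.orderOf_dvd_natCard M hxM) h1)
  -- all elements of order `p` of `P` lie in the preimage of `Q`
  have hin : ∀ y ∈ (P : Subgroup G), y ^ p = 1 → π y ∈ Q := by
    intro y hy hyp
    by_cases hy1 : y = 1
    · simp [hy1]
    have hQcomap : p ∣ Nat.card (Q.comap π) := by
      have h2 : Nat.card ((Q.comap π).map π) ∣ Nat.card (Q.comap π) := Subgroup.card_map_dvd _ _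
      rw [Subgroup.map_comap_eq_self_of_surjective hπ] at h2
      obtain ⟨k, hk⟩ := IsPGroup.iff_card.1 hQp
      refine Dvd.dvd.trans ?_ h2
      rw [hk]
      refine dvd_pow_self p fun h => hQbot (Subgroup.card_eq_one.1 (by rw [hk, h, pow_zero]))
    obtain ⟨⟨a, ha⟩, hao⟩ := exists_prime_orderOf_dvd_card' p hQcomap
    rw [Subgroup.orderOf_mk] at hao
    obtain ⟨g, hg⟩ := hC (Subgroup.zpowers a) (Subgroup.zpowers y)
      (IsPGroup.of_card (n := 1) (by rw [Nat.card_zpowers, hao, pow_one]))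
      (IsPGroup.of_card (n := 1) (by rw [Nat.card_zpowers, orderOf_eq_prime hyp hy1, pow_one]))
      (by rw [Nat.card_zpowers, Nat.card_zpowers, hao, orderOf_eq_prime hyp hy1])
    have hy' : y ∈ (Subgroup.zpowers a).map (MulAut.conj g).toMonoidHom := hg ▸ Subgroup.mem_zpowers y
    obtain ⟨b, hb, rfl⟩ := hy'
    exact (inferInstance : (Q.comap π).Normal).conj_mem b ((Subgroup.zpowers_le.2 ha) hb) g
  have hQH : ∀ y : G, π y ∈ Q → y ∈ H := fun y hy => hKcomap.le (show y ∈ K.comap π from hy.2)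
  rcases S4023.result hC P with h | h | ⟨h, -⟩ | ⟨-, hna, hcard, hexp⟩
  · refine ⟨⟨⟨fun a b => ?_⟩⟩, Or.inr h⟩
    exact (IsCyclic.commGroup (α := (P : Subgroup G))).mul_comm a b
  · exact ⟨h.1, Or.inl fun y hy => hQH y (hin y hy (h.2 y hy))⟩
  · exact absurd h hp
  exfalso
  have hexp' : ∀ y ∈ (P : Subgroup G), y ^ p = 1 := fun y hy => by
    have := Monoid.pow_exponent_eq_one (⟨y, hy⟩ : (P : Subgroup G))
    rw [hexp] at this
    exact congrArg Subtype.val this
  set P' := (P : Subgroup G).map π with hP'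
  have hQP : Q = P' := by
    refine le_antisymm ?_ ?_
    · exact (Lib.Solv.le_pCore hQn hQp).trans (Lib.Solv.pCore_le_sylow p (P.mapSurjective hπ))
    · rintro _ ⟨y, hy, rfl⟩
      exact hin y hy (hexp' y hy)
  set Z := Q ⊓ Subgroup.centralizer (Q : Set (G ⧸ M)) with hZ
  haveI hZn : Z.Normal := inferInstance
  obtain ⟨z, hzc, hz1⟩ : ∃ z, z ∈ Subgroup.center (P : Subgroup G) ∧ z ≠ 1 := by
    have : Nontrivial (P : Subgroup G) := by
      rw [← Finite.one_lt_card_iff_nontrivial, hcard]; exact Nat.one_lt_pow (by norm_num) hp'.one_lt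
    obtain ⟨⟨z, hz⟩, hz1⟩ := (Subgroup.ne_bot_iff_exists_ne_one).1
      (IsPGroup.bot_lt_center (G := (P : Subgroup G)) P.isPGroup').ne'
    exact ⟨z, hz, fun h => hz1 (Subtype.ext h)⟩
  obtain ⟨y, hy⟩ : ∃ y : (P : Subgroup G), y ∉ Subgroup.center (P : Subgroup G) := by
    by_contra! h
    exact hna ⟨⟨fun a b => (Subgroup.mem_center_iff.1 (h b) a)⟩⟩
  have hzZ : π (z : G) ∈ Z := by
    refine ⟨hin z z.2 (hexp' z z.2), Subgroup.mem_centralizer_iff.2 fun w hw => ?_⟩
    obtain ⟨v, hv, rfl⟩ := hQP.le hw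
    have := congrArg Subtype.val (Subgroup.mem_center_iff.1 hzc ⟨v, hv⟩)
    rw [← map_mul, ← map_mul]
    exact congrArg π this
  have hzo : orderOf (z : G) = p := orderOf_eq_prime (hexp' z z.2) (fun h => hz1 (Subtype.ext h))
  have hy1 : (y : G) ≠ 1 := fun h => hy (by rw [show y = 1 from Subtype.ext h]; exact one_mem _)
  have hyo : orderOf (y : G) = p := orderOf_eq_prime (hexp' y y.2) hy1
  obtain ⟨g, hg⟩ := hC (Subgroup.zpowers (z : G)) (Subgroup.zpowers (y : G))
    (IsPGroup.of_card (n := 1) (by rw [Nat.card_zpowers, hzo, pow_one]))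
    (IsPGroup.of_card (n := 1) (by rw [Nat.card_zpowers, hyo, pow_one]))
    (by rw [Nat.card_zpowers, Nat.card_zpowers, hzo, hyo])
  have hy' : (y : G) ∈ (Subgroup.zpowers (z : G)).map (MulAut.conj g).toMonoidHom :=
    hg ▸ Subgroup.mem_zpowers _
  have hyZ : π (y : G) ∈ Z := by
    obtain ⟨b, hb, e⟩ := hy'
    rw [← e]
    exact (inferInstance : (Z.comap π).Normal).conj_mem b
      ((Subgroup.zpowers_le.2 (show (z : G) ∈ Z.comap π from hzZ)) hb) g
  apply hy
  rw [Subgroup.mem_center_iff]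
  intro w
  rw [← commutatorElement_eq_one_iff_mul_comm]
  apply Subtype.ext
  refine hcopM _ (⁅w, y⁆).2 ?_
  rw [← QuotientGroup.eq_one_iff]
  show π ⁅(w : G), (y : G)⁆ = 1
  rw [map_commutatorElement, commutatorElement_eq_one_iff_mul_comm]
  exact Subgroup.mem_centralizer_iff.1 hyZ.2 _ (hQP.ge ⟨w, w.2, rfl⟩)

end Cfsg.Agent.S4024
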