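import Cfsg.Statements.S4113
import Mathlib
-- import your own Cfsg.Agent.* helpers here

set_option autoImplicit false
open Cfsg

namespace Cfsg.Agent.S4113

/-- Let G be a finite group, M ≤ N non-trivial proper normal subgroups, and H a subgroup with HM = G and H ∩ M = 1. Then every element of G outside N acts fixed-point-freely on M (C_G(x) ≤ N for every x ∈ M, x ≠ 1) if and only if H ∩ gHg⁻¹ ≤ H ∩ N for every g outside H, with H proper and non-trivial and H ∩ N proper in H. -/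
theorem result {G : Type*} [Group G] [Finite G] (N M : Subgroup G) [N.Normal] [M.Normal] (hMN : M ≤ N) (hM1 : M ≠ ⊥) (hN2 : N ≠ ⊤)
    (H : Subgroup G) (hHM : H ⊔ M = ⊤) (hHM' : H ⊓ M = ⊥) :
    (∀ x ∈ M, x ≠ 1 → Subgroup.centralizer ({x} : Set G) ≤ N) ↔
      (H ≠ ⊥ ∧ H ≠ ⊤ ∧ H ⊓ N < H ∧ ∀ g : G, g ∉ H → H ⊓ H.map (MulAut.conj g).toMonoidHom ≤ N) := by
  classical
  have hnH : ∀ g : G, ∃ m ∈ M, ∃ h ∈ H, g = m * h := by
    intro g
    have hg : g ∈ ((M ⊔ H : Subgroup G) : Set G) := by rw [sup_comm, hHM]; trivial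
    rw [Subgroup.normal_mul M H] at hg
    obtain ⟨m, hm, h, hh, rfl⟩ := Set.mem_mul.1 hg
    exact ⟨m, hm, h, hh, rfl⟩
  have huniq : ∀ x ∈ H, ∀ y ∈ H, x * y⁻¹ ∈ M → x = y := fun x hx y hy h =>
    mul_inv_eq_one.1 (Subgroup.mem_bot.1 (hHM' ▸ Subgroup.mem_inf.2 ⟨mul_mem hx (inv_mem hy), h⟩))
  have hMH : ∀ m ∈ M, m ∈ H → m = 1 := fun m hm hmH =>
    Subgroup.mem_bot.1 (hHM' ▸ Subgroup.mem_inf.2 ⟨hmH, hm⟩)
  constructor
  · intro hf
    refine ⟨?_, ?_, lt_of_le_of_ne inf_le_left (fun e => hN2 ?_), fun g hg => ?_⟩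
    · rintro rfl
      rw [bot_sup_eq] at hHM
      exact hN2 (top_le_iff.1 (hHM ▸ hMN))
    · rintro rfl
      exact hM1 (by rwa [top_inf_eq] at hHM')
    · exact top_le_iff.1 (hHM ▸ sup_le (inf_eq_left.1 e) hMN)
    · obtain ⟨m, hm, h, hh, rfl⟩ := hnH g
      have hm1 : m ≠ 1 := by rintro rfl; exact hg (by rwa [one_mul])
      rintro x ⟨hx, z, hz, rfl⟩
      set y := h * z * h⁻¹ with hy
      have hyH : y ∈ H := mul_mem (mul_mem hh hz) (inv_mem hh)
      have e : (MulAut.conj (m * h)).toMonoidHom z = m * y * m⁻¹ := by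
        show m * h * z * (m * h)⁻¹ = _
        rw [hy]; group
      rw [e] at hx ⊢
      have h1 : m * y * m⁻¹ = y := huniq _ hx _ hyH (by
        have : m * y * m⁻¹ * y⁻¹ = m * (y * m⁻¹ * y⁻¹) := by group
        rw [this]; exact mul_mem hm (‹M.Normal›.conj_mem _ (inv_mem hm) y))
      rw [h1]
      exact hf m hm hm1 (Subgroup.mem_centralizer_singleton_iff.2 (mul_inv_eq_iff_eq_mul.1 h1).symm)
  · rintro ⟨-, -, -, hTI⟩ x hx hx1 y hy
    by_contra hyN
    obtain ⟨m₀, hm₀, h, hh, rfl⟩ := hnH y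
    have hhN : h ∉ N := fun h' => hyN (mul_mem (hMN hm₀) h')
    have hfix : ∀ a ∈ M, h * a = a * h → a = 1 := by
      intro a ha hc
      by_contra ha1
      refine hhN (hTI a (fun ha' => ha1 (hMH a ha ha')) ⟨hh, h, hh, ?_⟩)
      show a * h * a⁻¹ = h
      rw [← hc, mul_inv_cancel_right]
    let φ : M → M := fun a => ⟨(a : G) * h * (a : G)⁻¹ * h⁻¹, by
      have : (a : G) * h * (a : G)⁻¹ * h⁻¹ = (a : G) * (h * (a : G)⁻¹ * h⁻¹) := by group
      rw [this]; exact mul_mem a.2 (‹M.Normal›.conj_mem _ (inv_mem a.2) h)⟩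
    have hφ : Function.Injective φ := by
      intro a b e
      have e' : (a : G) * h * (a : G)⁻¹ = (b : G) * h * (b : G)⁻¹ := mul_right_cancel (congrArg Subtype.val e)
      have := hfix ((b : G)⁻¹ * a) (mul_mem (inv_mem b.2) a.2) (by
        calc h * ((b : G)⁻¹ * a) = (b : G)⁻¹ * ((b : G) * h * (b : G)⁻¹) * a := by group
          _ = (b : G)⁻¹ * a * h := by rw [← e']; group)
      exact Subtype.ext (inv_mul_eq_one.1 this).symm
    obtain ⟨a, ha⟩ := (Finite.injective_iff_surjective.1 hφ) ⟨m₀, hm₀⟩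
    have ha' : (a : G) * h * (a : G)⁻¹ = m₀ * h := by
      have h' : (a : G) * h * (a : G)⁻¹ * h⁻¹ = m₀ := congrArg Subtype.val ha
      rw [← h']; group
    have hc : (m₀ * h) * x = x * (m₀ * h) := Subgroup.mem_centralizer_singleton_iff.1 hy
    have := hfix ((a : G)⁻¹ * x * a) (by simpa using ‹M.Normal›.conj_mem _ hx (a : G)⁻¹) (by
      calc h * ((a : G)⁻¹ * x * a) = (a : G)⁻¹ * ((a : G) * h * (a : G)⁻¹ * x) * a := by group
        _ = (a : G)⁻¹ * (x * ((a : G) * h * (a : G)⁻¹)) * a := by rw [ha', hc]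
        _ = (a : G)⁻¹ * x * a * h := by group)
    refine hx1 ?_
    have h2 : x = (a : G) * ((a : G)⁻¹ * x * a) * (a : G)⁻¹ := by group
    rw [h2, this]; group

end Cfsg.Agent.S4113
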