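import Cfsg.Statements.S4143
import Mathlib
import Cfsg.Agent.Lib.Transfer.MaximalClass
-- import your own Cfsg.Agent.* helpers here

set_option autoImplicit false
open Cfsg

namespace Cfsg.Agent.S4143

/-- Let X be a finite p-group of order p^n containing a non-abelian subgroup B of order p³ with C_X(B) ≤ B. Then X has nilpotency class n − 1 (maximal class). -/
theorem result {X : Type*} [Group X] [Finite X] {p : ℕ} [Fact p.Prime] (n : ℕ) (hX : Nat.card X = p ^ n)
    (B : Subgroup X) (hB : Nat.card B = p ^ 3) (hBna : ¬ IsMulCommutative B) (hC : Subgroup.centralizer (B : Set X) ≤ B) :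
    Group.nilpotencyClass X = n - 1 := by
  have hG : IsPGroup p X := IsPGroup.of_card hX
  haveI : Group.IsNilpotent X := hG.isNilpotent
  have hp : p.Prime := Fact.out
  obtain ⟨u, v, hu, hv, huv⟩ : ∃ u v : X, u ∈ B ∧ v ∈ B ∧ u * v ≠ v * u := by
    by_contra h
    push_neg at h
    exact hBna ⟨⟨fun a b => Subtype.ext (h a b a.2 b.2)⟩⟩
  haveI : Nontrivial X := ⟨⟨u, v, fun h => huv (by rw [h])⟩⟩
  set Z := Subgroup.center X with hZdef
  have hZB : Z ≤ B := (Subgroup.center_le_centralizer _).trans hC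
  have hBp : IsPGroup p B := hG.to_subgroup B
  have hBZc : Nat.card (Subgroup.center B) = p := by
    haveI : Nontrivial B := ⟨⟨⟨u, hu⟩, ⟨v, hv⟩, fun h => huv (by have e : u = v := congrArg Subtype.val h; rw [e])⟩⟩
    obtain ⟨k, hk⟩ := IsPGroup.iff_card.1 (hBp.to_subgroup (Subgroup.center B))
    have hk0 : 0 < k := by
      rcases Nat.eq_zero_or_pos k with rfl | h
      · exact absurd (Subgroup.eq_bot_of_card_eq _ (by rw [hk, pow_zero])) hBp.bot_lt_center.ne'
      · exact h
    have hk' : k ≠ 2 ∧ k ≠ 3 := by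
      have key : ¬ IsCyclic (B ⧸ Subgroup.center B) := fun hc => hBna
        (@isMulCommutative_of_isCyclic_quotient_center_self _ _ hc)
      have hmul := (Subgroup.center B).card_mul_index
      rw [Subgroup.index_eq_card, hk, hB] at hmul
      constructor
      · rintro rfl
        apply key
        apply isCyclic_of_prime_card (p := p)
        exact Nat.eq_of_mul_eq_mul_left (pow_pos hp.pos 2) (by rw [hmul]; ring)
      · rintro rfl
        apply key
        have h1 : Nat.card (B ⧸ Subgroup.center B) = 1 :=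
          Nat.eq_of_mul_eq_mul_left (pow_pos hp.pos 3) (by rw [hmul]; ring)
        haveI := (Nat.card_eq_one_iff_unique.1 h1).1
        infer_instance
    have hle : k ≤ 3 := (Nat.pow_dvd_pow_iff_le_right hp.one_lt).1 (hk ▸ hB ▸ Subgroup.card_subgroup_dvd_card _)
    have : k = 1 := by omega
    rw [hk, this, pow_one]
  have hZsub : (Z.subgroupOf B) ≤ Subgroup.center B := by
    intro z hz
    rw [Subgroup.mem_center_iff]
    exact fun g => Subtype.ext (Subgroup.mem_center_iff.1 hz g)
  have hZc : Nat.card Z = p := by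
    have h1 : Nat.card Z ∣ p := by
      rw [← hBZc, ← Nat.card_congr (Subgroup.subgroupOfEquivOfLe hZB).toEquiv]
      exact Subgroup.card_dvd_of_le hZsub
    rcases (Nat.dvd_prime hp).1 h1 with h1 | h1
    · exact absurd (Subgroup.eq_bot_of_card_eq _ h1) hG.bot_lt_center.ne'
    · exact h1
  have hZeq : Subgroup.center B = Z.subgroupOf B := (Subgroup.eq_of_le_of_card_ge hZsub
    (by rw [hBZc, Nat.card_congr (Subgroup.subgroupOfEquivOfLe hZB).toEquiv, hZc])).symm
  have hCZ : ∀ w ∈ B, (∀ b ∈ B, w * b = b * w) → w ∈ Z := by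
    intro w hw hcom
    have : (⟨w, hw⟩ : B) ∈ Subgroup.center B :=
      Subgroup.mem_center_iff.2 fun g => Subtype.ext (hcom g g.2).symm
    rw [hZeq] at this
    exact this
  have hz : ∀ a b : X, a ∈ B → b ∈ B → a * b * a⁻¹ * b⁻¹ ∈ Z := by
    intro a b ha hb
    haveI : IsMulCommutative (B ⧸ Subgroup.center B) := IsPGroup.isMulCommutative_of_card_eq_prime_sq (p := p) (by
      have hmul := (Subgroup.center B).card_mul_index
      rw [Subgroup.index_eq_card, hBZc, hB] at hmul
      exact Nat.eq_of_mul_eq_mul_left hp.pos (by rw [hmul]; ring))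
    have : ((⟨a, ha⟩ : B) * ⟨b, hb⟩ * (⟨a, ha⟩ : B)⁻¹ * (⟨b, hb⟩ : B)⁻¹) ∈ Subgroup.center B := by
      rw [← QuotientGroup.eq_one_iff]
      simp only [QuotientGroup.mk_mul, QuotientGroup.mk_inv]
      rw [mul_comm' ((⟨a, ha⟩ : B) : B ⧸ Subgroup.center B)]
      group
    rw [hZeq] at this
    exact this
  have hgenB : Subgroup.closure ({u, v} : Set X) = B := by
    have hle : Subgroup.closure ({u, v} : Set X) ≤ B :=
      (Subgroup.closure_le _).2 (Set.insert_subset hu (Set.singleton_subset_iff.2 hv))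
    refine Subgroup.eq_of_le_of_card_ge hle ?_
    obtain ⟨k, hk⟩ := IsPGroup.iff_card.1 (hG.to_subgroup (Subgroup.closure ({u, v} : Set X)))
    rw [hB, hk]
    refine Nat.pow_le_pow_right hp.pos ?_
    by_contra hk3
    have hcomm : IsMulCommutative (Subgroup.closure ({u, v} : Set X)) := by
      rcases (by omega : k = 0 ∨ k = 1 ∨ k = 2) with rfl | rfl | rfl
      · haveI := (Nat.card_eq_one_iff_unique.1 (hk.trans (pow_zero p))).1
        infer_instance
      · haveI := isCyclic_of_prime_card (p := p) (hk.trans (pow_one p))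
        infer_instance
      · exact IsPGroup.isMulCommutative_of_card_eq_prime_sq (p := p) hk
    exact huv (congrArg Subtype.val (hcomm.is_comm.comm
      ⟨u, Subgroup.subset_closure (Set.mem_insert _ _)⟩ ⟨v, Subgroup.subset_closure (Set.mem_insert_of_mem _ rfl)⟩))
  set c := u * v * u⁻¹ * v⁻¹ with hc
  have hcZ : c ∈ Z := hz u v hu hv
  have hcne : c ≠ 1 := fun h => huv (by
    have : u * v = c * (v * u) := by rw [hc]; group
    rw [this, h, one_mul])
  have hZgen : ∀ z ∈ Z, ∃ i : ℤ, c ^ i = z := by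
    intro z hz'
    have := mem_zpowers_of_prime_card (p := p) hZc (g := (⟨c, hcZ⟩ : Z)) (g' := ⟨z, hz'⟩)
      (fun h => hcne (congrArg Subtype.val h))
    obtain ⟨i, hi⟩ := this
    exact ⟨i, by simpa using congrArg Subtype.val hi⟩
  let π := QuotientGroup.mk' Z
  have hBq : Nat.card (B.map π) = p ^ 2 := by
    have h1 : (Z.subgroupOf B).index = Nat.card (B.map π) := by
      have : (π.comp B.subtype).ker = Z.subgroupOf B := by
        rw [← MonoidHom.comap_bot, ← Subgroup.comap_comap, MonoidHom.comap_bot]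
        show (π.ker).comap B.subtype = _
        rw [QuotientGroup.ker_mk']
        rfl
      rw [← this, Subgroup.index_ker, MonoidHom.range_comp, Subgroup.range_subtype]
    have hmul := (Z.subgroupOf B).card_mul_index
    rw [h1, Nat.card_congr (Subgroup.subgroupOfEquivOfLe hZB).toEquiv, hZc, hB] at hmul
    exact Nat.eq_of_mul_eq_mul_left hp.pos (by rw [hmul]; ring)
  have hQ : Nat.card (X ⧸ Z) = p ^ (n - 1) := by
    have hmul := Z.card_mul_index
    rw [Subgroup.index_eq_card, hZc, hX] at hmul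
    have hn : 1 ≤ n := by
      rcases Nat.eq_zero_or_pos n with rfl | h
      · rw [pow_zero] at hX
        haveI := (Nat.card_eq_one_iff_unique.1 hX).1
        exact absurd (Subsingleton.elim (u * v) (v * u)) huv
      · exact h
    exact Nat.eq_of_mul_eq_mul_left hp.pos (by rw [hmul, ← pow_succ']; congr 1; omega)
  have hself : Subgroup.centralizer ((B.map π : Subgroup (X ⧸ Z)) : Set (X ⧸ Z)) = B.map π := by
    refine le_antisymm ?_ ?_
    · intro x hx
      induction x using QuotientGroup.induction_on with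
      | H g => ?_
      have key : ∀ b ∈ B, g * b * g⁻¹ * b⁻¹ ∈ Z := by
        intro b hb
        have := Subgroup.mem_centralizer_iff.1 hx _ (Subgroup.mem_map_of_mem π hb)
        rw [← QuotientGroup.eq_one_iff]
        simp only [π, QuotientGroup.mk'_apply] at this
        simp only [QuotientGroup.mk_mul, QuotientGroup.mk_inv]
        rw [← this]
        group
      obtain ⟨i, hi⟩ := hZgen _ (key u hu)
      obtain ⟨j, hj⟩ := hZgen _ (key v hv)
      have hcc : ∀ y : X, Commute c y := fun y => (Subgroup.mem_center_iff.1 hcZ y).symm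
      have hvu : ∀ m : ℤ, u ^ m * v * (u ^ m)⁻¹ = c ^ m * v := by
        intro m
        induction m using Int.induction_on with
        | zero => group
        | succ m ih =>
          have h1 : u * v * u⁻¹ = c * v := by rw [hc]; group
          rw [add_comm, zpow_add, zpow_one]
          calc u * u ^ (m:ℤ) * v * (u * u ^ (m:ℤ))⁻¹ = u * (u ^ (m:ℤ) * v * (u ^ (m:ℤ))⁻¹) * u⁻¹ := by group
            _ = u * c ^ (m:ℤ) * v * u⁻¹ := by rw [ih]; group
            _ = c ^ (m:ℤ) * (u * v * u⁻¹) := by rw [((hcc u).zpow_left _).symm.eq]; group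
            _ = _ := by rw [h1, zpow_add, zpow_one, ← mul_assoc]; congr 1; exact ((Commute.refl c).zpow_left _).eq
        | pred m ih =>
          have h1 : u⁻¹ * v * u = c⁻¹ * v := by
            have e : u * v * u⁻¹ = c * v := by rw [hc]; group
            calc u⁻¹ * v * u = u⁻¹ * (c⁻¹ * (u * v * u⁻¹)) * u := by rw [e]; group
              _ = u⁻¹ * c⁻¹ * (u * v) := by group
              _ = c⁻¹ * v := by rw [← ((hcc (u⁻¹)).inv_left).eq]; group
          rw [sub_eq_neg_add, zpow_add, zpow_neg_one]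
          calc u⁻¹ * u ^ (-(m:ℤ)) * v * (u⁻¹ * u ^ (-(m:ℤ)))⁻¹
              = u⁻¹ * (u ^ (-(m:ℤ)) * v * (u ^ (-(m:ℤ)))⁻¹) * u := by group
            _ = u⁻¹ * c ^ (-(m:ℤ)) * v * u := by rw [ih]; group
            _ = c ^ (-(m:ℤ)) * (u⁻¹ * v * u) := by rw [((hcc u⁻¹).zpow_left _).symm.eq]; group
            _ = _ := by rw [h1, zpow_add, zpow_neg_one, ← mul_assoc]; congr 1; exact (((Commute.refl c).zpow_left _).inv_right).eq
      have hvv : ∀ m : ℤ, v ^ m * u * (v ^ m)⁻¹ = c ^ (-m) * u := by
        intro m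
        induction m using Int.induction_on with
        | zero => group
        | succ m ih =>
          have h1 : v * u * v⁻¹ = c⁻¹ * u := by rw [hc]; group
          rw [add_comm, zpow_add, zpow_one]
          calc v * v ^ (m:ℤ) * u * (v * v ^ (m:ℤ))⁻¹ = v * (v ^ (m:ℤ) * u * (v ^ (m:ℤ))⁻¹) * v⁻¹ := by group
            _ = v * c ^ (-(m:ℤ)) * u * v⁻¹ := by rw [ih]; group
            _ = c ^ (-(m:ℤ)) * (v * u * v⁻¹) := by rw [((hcc v).zpow_left _).symm.eq]; group
            _ = _ := by rw [h1, neg_add, zpow_add, zpow_neg_one, ← mul_assoc]; congr 1; exact (((Commute.refl c).zpow_left _).inv_right).eq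
        | pred m ih =>
          have h1 : v⁻¹ * u * v = c * u := by
            have e : v * u * v⁻¹ = c⁻¹ * u := by rw [hc]; group
            calc v⁻¹ * u * v = v⁻¹ * (c * (v * u * v⁻¹)) * v := by rw [e]; group
              _ = v⁻¹ * c * (v * u) := by group
              _ = c * u := by rw [← (hcc (v⁻¹)).eq]; group
          rw [sub_eq_neg_add, zpow_add, zpow_neg_one]
          calc v⁻¹ * v ^ (-(m:ℤ)) * u * (v⁻¹ * v ^ (-(m:ℤ)))⁻¹
              = v⁻¹ * (v ^ (-(m:ℤ)) * u * (v ^ (-(m:ℤ)))⁻¹) * v := by group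
            _ = v⁻¹ * c ^ (- -(m:ℤ)) * u * v := by rw [ih]; group
            _ = c ^ (- -(m:ℤ)) * (v⁻¹ * u * v) := by rw [((hcc v⁻¹).zpow_left _).symm.eq]; group
            _ = _ := by rw [h1, neg_add, zpow_add, neg_neg, neg_neg, zpow_one, ← mul_assoc]; congr 1; exact (((Commute.refl c).zpow_left _)).eq
      set w := (u ^ j * v ^ (-i))⁻¹ * g with hw
      have hg1 : g * u * g⁻¹ = c ^ i * u := by rw [hi]; group
      have hg2 : g * v * g⁻¹ = c ^ j * v := by rw [hj]; group
      have hu2 : (u ^ j * v ^ (-i)) * u * (u ^ j * v ^ (-i))⁻¹ = c ^ i * u := by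
        calc _ = u ^ j * (v ^ (-i) * u * (v ^ (-i))⁻¹) * (u ^ j)⁻¹ := by group
          _ = u ^ j * c ^ (- -i) * u * (u ^ j)⁻¹ := by rw [hvv]; group
          _ = c ^ (- -i) * u ^ j * u * (u ^ j)⁻¹ := by rw [((hcc (u ^ j)).zpow_left _).symm.eq]
          _ = _ := by group
      have hv2 : (u ^ j * v ^ (-i)) * v * (u ^ j * v ^ (-i))⁻¹ = c ^ j * v := by
        rw [← hvu j]; group
      have hwB : w ∈ B := by
        apply hC
        rw [← hgenB, Subgroup.centralizer_closure, Subgroup.mem_centralizer_iff]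
        intro y hy
        rcases hy with hy | hy
        · rw [hy]
          clear hy
          have : w * u * w⁻¹ = u := by
            calc w * u * w⁻¹ = (u ^ j * v ^ (-i))⁻¹ * (g * u * g⁻¹) * (u ^ j * v ^ (-i)) := by rw [hw]; group
              _ = _ := by rw [hg1, ← hu2]; group
          exact (mul_inv_eq_iff_eq_mul.1 this).symm
        · rw [Set.mem_singleton_iff] at hy
          subst hy
          have : w * y * w⁻¹ = y := by
            calc w * y * w⁻¹ = (u ^ j * y ^ (-i))⁻¹ * (g * y * g⁻¹) * (u ^ j * y ^ (-i)) := by rw [hw]; group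
              _ = _ := by rw [hg2, ← hv2]; group
          exact (mul_inv_eq_iff_eq_mul.1 this).symm
      refine ⟨g, ?_, rfl⟩
      have : g = (u ^ j * v ^ (-i)) * w := by rw [hw]; group
      rw [this]
      exact B.mul_mem (B.mul_mem (B.zpow_mem hu _) (B.zpow_mem hv _)) hwB
    · intro x hx
      obtain ⟨b, hb, rfl⟩ := Subgroup.mem_map.1 hx
      rw [Subgroup.mem_centralizer_iff]
      rintro _ ⟨a, ha, rfl⟩
      have := hz a b ha hb
      rw [← QuotientGroup.eq_one_iff] at this
      push_cast at this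
      simp only [π, QuotientGroup.mk'_apply]
      exact mul_inv_eq_iff_eq_mul.1 (mul_inv_eq_one.1 this)
  rw [Group.nilpotencyClass_eq_quotient_center_plus_one,
    Cfsg.Lib.Transfer.nilpotencyClass_of_selfCentralizing (n - 1) (X ⧸ Z) hQ (B.map π) hBq hself]
  have h3 : 3 ≤ n := (Nat.pow_dvd_pow_iff_le_right hp.one_lt).1 (hB ▸ hX ▸ Subgroup.card_subgroup_dvd_card B)
  omega

end Cfsg.Agent.S4143
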