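import Cfsg.Statements.S4347
import Mathlib
-- import your own Cfsg.Agent.* helpers here

set_option autoImplicit false
open Cfsg
open scoped Pointwise

namespace Cfsg.Agent.S4347

/-- Let G be a finite group and p a prime. Say a Sylow p-subgroup Q is redundant when every element of p-power order lies in some Sylow p-subgroup other than Q. Then G has no redundant Sylow p-subgroup if and only if some element of p-power order lies in exactly one Sylow p-subgroup. -/
theorem result {G : Type*} [Group G] [Finite G]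
    (p : ℕ) [Fact p.Prime] :
    (¬ ∃ Q : Sylow p G, ∀ x : G, (∃ k : ℕ, orderOf x = p ^ k) → ∃ P : Sylow p G, P ≠ Q ∧ x ∈ P) ↔
      ∃ x : G, (∃ k : ℕ, orderOf x = p ^ k) ∧ ∃! P : Sylow p G, x ∈ P := by
  constructor
  · intro h
    obtain ⟨Q⟩ : Nonempty (Sylow p G) := inferInstance
    push Not at h
    obtain ⟨x, hx, hQ⟩ := h Q
    have hz : IsPGroup p (Subgroup.zpowers x) := by
      obtain ⟨k, hk⟩ := hx
      exact IsPGroup.of_card (n := k) (by rw [Nat.card_zpowers, hk])
    obtain ⟨R, hR⟩ := hz.exists_le_sylow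
    have hxR : x ∈ R := hR (Subgroup.mem_zpowers x)
    have hRQ : R = Q := by_contra fun hne => hQ R hne hxR
    exact ⟨x, hx, Q, hRQ ▸ hxR, fun R' hR' => by_contra fun hne => hQ R' hne hR'⟩
  · rintro ⟨x, ⟨k, hk⟩, P, hxP, huniq⟩ ⟨Q, hQ⟩
    obtain ⟨g, rfl⟩ := MulAction.exists_smul_eq G P Q
    obtain ⟨R, hne, hR⟩ := hQ (g * x * g⁻¹) ⟨k, by rw [← hk]; exact (MulAut.conj g).orderOf_eq x⟩
    apply hne
    have h1 : x ∈ (g⁻¹ • R : Sylow p G) := by
      show x ∈ ((g⁻¹ • R : Sylow p G) : Subgroup G)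
      rw [Sylow.smul_def, Sylow.pointwise_smul_def]
      exact ⟨g * x * g⁻¹, hR, by simp [mul_assoc]⟩
    rw [← huniq _ h1, smul_inv_smul]

end Cfsg.Agent.S4347
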