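import Cfsg.Statements.S4348
import Mathlib
import Cfsg.Agent.Lib.Transfer.Basic
-- import your own Cfsg.Agent.* helpers here

set_option autoImplicit false
open Cfsg

namespace Cfsg.Agent.S4348

/-- Let G be a finite group, p a prime and P a Sylow p-subgroup of G, and let O_p(G) be the largest normal p-subgroup of G. If P/O_p(G) is cyclic, then some element of p-power order of G lies in exactly one Sylow p-subgroup. -/
theorem result {G : Type*} [Group G] [Finite G]
    (p : ℕ) [Fact p.Prime] (P : Sylow p G)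
    [hn : ((Cfsg.pCore p G).subgroupOf (P : Subgroup G)).Normal]
    (hc : IsCyclic ((P : Subgroup G) ⧸ (Cfsg.pCore p G).subgroupOf (P : Subgroup G))) :
    ∃ x : G, (∃ k : ℕ, orderOf x = p ^ k) ∧ ∃! Q : Sylow p G, x ∈ Q := by
  classical
  obtain ⟨g, hg⟩ := hc.exists_generator
  obtain ⟨x, rfl⟩ := QuotientGroup.mk_surjective g
  obtain ⟨k, hk⟩ := IsPGroup.iff_orderOf.mp P.isPGroup' x
  refine ⟨x, ⟨k, by rw [← hk, Subgroup.orderOf_coe]⟩, P, x.2, fun Q hQ => ?_⟩
  refine Sylow.ext (P.is_maximal' Q.isPGroup' ?_)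
  intro y hy
  obtain ⟨i, hi⟩ := hg (⟨y, hy⟩ : (P : Subgroup G))
  have hi' : (((x ^ i : (P : Subgroup G))) : (P : Subgroup G) ⧸ (Cfsg.pCore p G).subgroupOf (P : Subgroup G)) = ((⟨y, hy⟩ : (P : Subgroup G)) : _ ⧸ _) := hi
  have h1 := QuotientGroup.eq.mp hi'
  rw [Subgroup.mem_subgroupOf] at h1
  push_cast at h1
  have h2 := mul_mem (zpow_mem (show (x : G) ∈ (Q : Subgroup G) from hQ) i) (Cfsg.Lib.Transfer.pCore_le_sylow Q h1)
  rwa [mul_inv_cancel_left] at h2

end Cfsg.Agent.S4348
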