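import Cfsg.Statements.S4358

set_option autoImplicit false
open Cfsg

namespace Cfsg.Agent.S4358

open Matrix Pointwise

section
variable {F : Type*} [Field F] {p : ℕ} [NeZero p]

/-- The monomial matrix with entries `a` and shift `k`. -/
def mon (a : Fin p → F) (k : Fin p) : Matrix (Fin p) (Fin p) F :=
  Matrix.of fun i j => if j = i + k then a i else 0

theorem mon_apply (a : Fin p → F) (k i j : Fin p) : mon a k i j = if j = i + k then a i else 0 := rfl

theorem mon_mul (a b : Fin p → F) (k l : Fin p) :
    mon a k * mon b l = mon (fun i => a i * b (i + k)) (k + l) := by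
  ext i j
  rw [Matrix.mul_apply, Finset.sum_eq_single (i + k)]
  · simp [mon_apply, add_assoc]
  · intro c _ hc; simp [mon_apply, hc]
  · simp

theorem mon_zero (a : Fin p → F) : mon a 0 = Matrix.diagonal a := by
  ext i j
  simp [mon_apply, Matrix.diagonal_apply, eq_comm]

theorem mon_inj {a b : Fin p → F} {k l : Fin p} (ha : ∀ i, a i ≠ 0) (e : mon a k = mon b l) :
    k = l ∧ a = b := by
  have h : ∀ i, k = l ∧ a i = b i := by
    intro i
    have := congrFun (congrFun e i) (i + k)
    simp only [mon_apply, if_true] at this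
    by_cases hkl : i + k = i + l
    · rw [if_pos hkl] at this; exact ⟨add_left_cancel hkl, this⟩
    · rw [if_neg hkl] at this; exact absurd this (ha i)
  exact ⟨(h 0).1, funext fun i => (h i).2⟩

variable (F p)
/-- The monomial Sylow subgroup. -/
def monGroup : Subgroup (GL (Fin p) F) where
  carrier := {g | ∃ a k, (∀ i, a i ^ p = 1) ∧ (g : Matrix (Fin p) (Fin p) F) = mon a k}
  one_mem' := ⟨1, 0, fun _ => one_pow _, by rw [mon_zero]; simp⟩
  mul_mem' := by
    rintro g h ⟨a, k, ha, e⟩ ⟨b, l, hb, e'⟩
    exact ⟨fun i => a i * b (i + k), k + l, fun i => by rw [mul_pow, ha, hb, one_mul], by rw [Units.val_mul, e, e', mon_mul]⟩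
  inv_mem' := by
    rintro g ⟨a, k, ha, e⟩
    refine ⟨fun i => (a (i - k))⁻¹, -k, fun i => by rw [inv_pow, ha, inv_one], ?_⟩
    apply Units.inv_eq_of_mul_eq_one_right
    rw [e, mon_mul, add_neg_cancel, mon_zero, Matrix.diagonal_eq_one]
    funext i
    have : a i ≠ 0 := fun h => by simpa [h, NeZero.ne p] using ha i
    simp [this]

end

/-- Let p be an odd prime and F a finite field with q elements such that p divides q - 1 but p² does not. Then GL(p, F) has a Sylow p-subgroup Q such that every element of p-power order lies in some Sylow p-subgroup other than Q (a redundant Sylow p-subgroup). -/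
theorem result {F : Type*} [Field F] [Fintype F] (p : ℕ) [Fact p.Prime]
    (hp : p ≠ 2) (h1 : p ∣ Fintype.card F - 1) (h2 : ¬ p ^ 2 ∣ Fintype.card F - 1) :
    ∃ Q : Sylow p (Matrix.GeneralLinearGroup (Fin p) F), ∀ x : Matrix.GeneralLinearGroup (Fin p) F,
      (∃ k : ℕ, orderOf x = p ^ k) → ∃ P : Sylow p (Matrix.GeneralLinearGroup (Fin p) F), P ≠ Q ∧ x ∈ P := by
  classical
  have hpp : p.Prime := Fact.out
  have hp3 : 3 ≤ p := by have := hpp.two_le; omega
  have hodd : Odd p := hpp.odd_of_ne_two hp
  set q := Fintype.card F with hqdef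
  have hq : 1 < q := Fintype.one_lt_card
  have hpq : ¬ p ∣ q := by
    intro h
    have hd := Nat.dvd_sub h h1
    rw [show q - (q - 1) = 1 by omega] at hd
    exact hpp.not_dvd_one hd
  have hpF : (p : F) ≠ 0 := by
    intro h
    obtain ⟨n, hr, hn⟩ := FiniteField.card F (ringChar F)
    have hd : ringChar F ∣ p := ringChar.dvd h
    rw [Nat.prime_dvd_prime_iff_eq hr hpp] at hd
    exact hpq (by rw [hqdef, hn, hd]; exact dvd_pow_self _ n.pos.ne')
  -- roots of unity
  obtain ⟨ζu, hζu⟩ := exists_prime_orderOf_dvd_card' (G := Fˣ) p (by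
    rw [Nat.card_units, Nat.card_eq_fintype_card]; exact h1)
  have hprim : IsPrimitiveRoot (ζu : F) p := by
    have := IsPrimitiveRoot.orderOf (ζu : F)
    rwa [orderOf_units, hζu] at this
  set ζ : F := (ζu : F)
  -- the Sylow subgroup
  have hcard : Nat.card (monGroup F p) = p ^ (p + 1) := by
    have e : (Fin p → rootsOfUnity p F) × Fin p ≃ monGroup F p := by
      let mk : (Fin p → rootsOfUnity p F) × Fin p → monGroup F p := fun d =>
        ⟨⟨mon (fun i => ((d.1 i : Fˣ) : F)) d.2,
          mon (fun i => ((d.1 (i - d.2) : Fˣ) : F)⁻¹) (-d.2),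
          by rw [mon_mul, add_neg_cancel, mon_zero, Matrix.diagonal_eq_one]; funext i; simp,
          by rw [mon_mul, neg_add_cancel, mon_zero, Matrix.diagonal_eq_one]; funext i; simp [sub_eq_add_neg]⟩,
         ⟨fun i => ((d.1 i : Fˣ) : F), d.2, fun i => by
            rw [← Units.val_pow_eq_pow_val, (mem_rootsOfUnity _ _).1 (d.1 i).2, Units.val_one], rfl⟩⟩
      refine Equiv.ofBijective mk ⟨fun d d' h => ?_, fun g => ?_⟩
      · obtain ⟨h2, h3⟩ := mon_inj (fun i => Units.ne_zero _)
          (congrArg (fun g : monGroup F p => ((g : GL (Fin p) F) : Matrix (Fin p) (Fin p) F)) h)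
        exact Prod.ext (funext fun i => Subtype.ext (Units.ext (congrFun h3 i))) h2
      · obtain ⟨a, k, ha, e⟩ := g.2
        refine ⟨(fun i => rootsOfUnity.mkOfPowEq (a i) (ha i), k), Subtype.ext (Units.ext ?_)⟩
        rw [e]; rfl
    rw [← Nat.card_congr e, Nat.card_prod, Nat.card_fun, Nat.card_eq_fintype_card (α := Fin p),
      Fintype.card_fin, hprim.card_rootsOfUnity]
    ring
  have hGL : (Nat.card (GL (Fin p) F)).factorization p = p + 1 := by
    rw [Matrix.card_GL_field, Nat.factorization_prod (fun i _ => (Nat.sub_pos_of_lt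
      (Nat.pow_lt_pow_right hq i.2)).ne'), Finset.sum_apply']
    have key : ∀ i : Fin p, (q ^ p - q ^ (i : ℕ)).factorization p = 1 + if (i : ℕ) = 0 then 1 else 0 := by
      intro i
      have hm : p - (i : ℕ) ≠ 0 := by omega
      rw [show q ^ p - q ^ (i : ℕ) = q ^ (i : ℕ) * (q ^ (p - (i : ℕ)) - 1) by
        rw [Nat.mul_sub, mul_one, ← pow_add, Nat.add_sub_cancel' i.2.le]]
      have hne : q ^ (p - (i : ℕ)) - 1 ≠ 0 := (Nat.sub_pos_of_lt (Nat.one_lt_pow hm hq)).ne'
      rw [Nat.factorization_mul (pow_ne_zero _ (by omega)) hne, Nat.factorization_pow]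
      simp only [Finsupp.coe_add, Finsupp.coe_smul, Pi.add_apply, Pi.smul_apply,
        Nat.factorization_eq_zero_of_not_dvd hpq, smul_zero, zero_add]
      rw [Nat.factorization_def _ hpp]
      have := padicValNat.pow_sub_pow (p := p) (x := q) (y := 1) hodd hq h1 hpq hm
      rw [one_pow] at this
      rw [this]
      congr 1
      · refine le_antisymm ?_ (one_le_padicValNat_of_dvd (by omega) h1)
        by_contra h
        exact h2 ((padicValNat_dvd_iff_le (by omega)).2 (by omega))
      · split_ifs with hi
        · rw [hi, Nat.sub_zero, padicValNat_self]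
        · exact padicValNat.eq_zero_of_not_dvd fun hd => by
            have := Nat.le_of_dvd (by omega) hd
            omega
    rw [Finset.sum_congr rfl fun i _ => key i, Finset.sum_add_distrib]
    simp only [Finset.sum_const, Finset.card_univ, Fintype.card_fin, smul_eq_mul, mul_one]
    rw [Finset.sum_eq_single (0 : Fin p)]
    · simp
    · intro b _ hb; simp [Fin.val_ne_zero_iff.2 hb]
    · simp
  let Q : Sylow p (GL (Fin p) F) := Sylow.ofCard (monGroup F p) (by rw [hcard, hGL])
  refine ⟨Q, fun x hx => ?_⟩
  by_cases hxQ : x ∈ monGroup F p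
  swap
  · obtain ⟨n, hn⟩ := hx
    obtain ⟨P, hP⟩ := (IsPGroup.of_card (p := p) (G := Subgroup.zpowers x) (n := n) (by rw [Nat.card_zpowers, hn])).exists_le_sylow
    exact ⟨P, fun e => hxQ (e ▸ hP (Subgroup.mem_zpowers x) : x ∈ Q), hP (Subgroup.mem_zpowers x)⟩
  -- it suffices to find a suitable non-monomial matrix
  suffices ∃ u : GL (Fin p) F, u⁻¹ * x * u ∈ monGroup F p ∧ ∃ i₁ i₂ j, i₁ ≠ i₂ ∧
      (u : Matrix (Fin p) (Fin p) F) i₁ j ≠ 0 ∧ (u : Matrix (Fin p) (Fin p) F) i₂ j ≠ 0 by
    obtain ⟨u, hu, i₁, i₂, j, hi, hv₁, hv₂⟩ := this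
    refine ⟨u • Q, fun e => ?_, ?_⟩
    swap
    · show x ∈ MulAut.conj u • (monGroup F p)
      rw [Subgroup.mem_pointwise_smul_iff_inv_smul_mem]
      simpa [MulAut.smul_def] using hu
    let b : Fin p → F := Function.update 1 j ζ
    have hb : ∀ i, b i ^ p = 1 := fun i => by
      by_cases h : i = j
      · subst h; simp [b, hprim.pow_eq_one]
      · simp [b, h]
    have hb0 : ∀ i, b i ≠ 0 := fun i h => by simpa [h, NeZero.ne p] using hb i
    let A : GL (Fin p) F := ⟨mon b 0, mon (fun i => (b i)⁻¹) 0,
      by rw [mon_mul, add_zero, mon_zero, Matrix.diagonal_eq_one]; funext i; simp [hb0],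
      by rw [mon_mul, add_zero, mon_zero, Matrix.diagonal_eq_one]; funext i; simp [hb0]⟩
    have hA : A ∈ monGroup F p := ⟨b, 0, hb, rfl⟩
    have hmem : u * A * u⁻¹ ∈ monGroup F p := by
      have h' : MulAut.conj u • A ∈ MulAut.conj u • monGroup F p :=
        Subgroup.smul_mem_pointwise_smul _ _ _ hA
      rw [show MulAut.conj u • monGroup F p = monGroup F p from congrArg Sylow.toSubgroup e] at h'
      simpa [MulAut.smul_def] using h'
    obtain ⟨a, m, -, hm⟩ := hmem
    set v : Fin p → F := fun i => (u : Matrix (Fin p) (Fin p) F) i j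
    set w : Fin p → F := fun l => ((u⁻¹ : GL (Fin p) F) : Matrix (Fin p) (Fin p) F) j l
    have hM : ∀ i l, mon a m i l = (1 : Matrix (Fin p) (Fin p) F) i l + v i * (ζ - 1) * w l := by
      intro i l
      have e1 : mon b 0 = 1 + Matrix.single j j (ζ - 1) := by
        rw [mon_zero]
        ext r s
        by_cases hrs : r = s
        · subst hrs
          by_cases hr : r = j
          · subst hr; simp [b]
          · simp [b, hr, Matrix.single, Ne.symm hr]
        · simp [hrs, Matrix.single]
          rintro rfl rfl; exact absurd rfl hrs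
      rw [← hm]
      simp only [Units.val_mul]
      rw [show (A : Matrix (Fin p) (Fin p) F) = mon b 0 from rfl, e1, mul_add, mul_one, add_mul,
        Units.mul_inv]
      simp only [Matrix.add_apply]
      congr 1
      rw [Matrix.mul_apply, Finset.sum_eq_single j]
      · simp [v, w]
      · intro s _ hs; simp [Matrix.mul_apply, Matrix.single, Ne.symm hs]
      · simp
    have hc : ζ - 1 ≠ 0 := sub_ne_zero.2 (hprim.ne_one hpp.one_lt)
    by_cases hm0 : m = 0
    · subst hm0
      have hw : ∀ l, w l = 0 := by
        intro l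
        obtain ⟨i, hi', hvi⟩ : ∃ i, i ≠ l ∧ v i ≠ 0 := by
          by_cases h : i₁ = l
          · exact ⟨i₂, fun h' => hi (h.trans h'.symm), hv₂⟩
          · exact ⟨i₁, h, hv₁⟩
        have := hM i l
        rw [mon_zero, Matrix.diagonal_apply_ne _ hi', Matrix.one_apply_ne hi', zero_add] at this
        exact (mul_eq_zero.1 this.symm).resolve_left (mul_ne_zero hvi hc)
      have := congrFun (congrFun (Units.inv_mul u) j) j
      rw [Matrix.mul_apply, Matrix.one_apply_eq, Finset.sum_eq_zero (fun l _ => by
        rw [show ((u⁻¹ : GL (Fin p) F) : Matrix (Fin p) (Fin p) F) j l = 0 from hw l, zero_mul])] at this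
      exact zero_ne_one this
    · have hdiag : ∀ i, v i ≠ 0 ∧ w i ≠ 0 := by
        intro i
        have := hM i i
        rw [mon_apply, if_neg (by intro h; exact hm0 (by simpa using h)), Matrix.one_apply_eq] at this
        constructor <;> intro h <;> simp [h] at this
      have h1' : (0 : Fin p) ≠ m + m := by
        intro h
        have hdv : addOrderOf m ∣ 2 := addOrderOf_dvd_of_nsmul_eq_zero (by rw [two_nsmul]; exact h.symm)
        have hdp : addOrderOf m ∣ p := by simpa using addOrderOf_dvd_card (x := m)
        have hd1 := Nat.dvd_gcd hdv hdp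
        rw [(Nat.coprime_two_left.2 hodd).gcd_eq_one] at hd1
        exact hm0 (AddMonoid.addOrderOf_eq_one_iff.1 (Nat.dvd_one.1 hd1))
      have := hM 0 (m + m)
      rw [mon_apply, if_neg (by simpa using hm0), Matrix.one_apply_ne h1', zero_add] at this
      exact mul_ne_zero (mul_ne_zero (hdiag 0).1 hc) (hdiag _).2 this.symm
  obtain ⟨a, k, ha, hxe⟩ := hxQ
  have ha0 : ∀ i, a i ≠ 0 := fun i h => by simpa [h, NeZero.ne p] using ha i
  have hself : x ∈ monGroup F p := ⟨a, k, ha, hxe⟩
  have hcomm : ∀ u : GL (Fin p) F, (x : Matrix (Fin p) (Fin p) F) * u = (u : Matrix (Fin p) (Fin p) F) * x →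
      u⁻¹ * x * u ∈ monGroup F p := fun u h => by
    have : x * u = u * x := Units.ext h
    rw [mul_assoc, this, inv_mul_cancel_left]; exact hself
  by_cases hk : k = 0
  · subst hk
    rw [mon_zero] at hxe
    by_cases hinj : Function.Injective a
    · -- distinct eigenvalues
      let V := Matrix.vandermonde a
      have hdet : IsUnit V.det := isUnit_iff_ne_zero.2 (Matrix.det_vandermonde_ne_zero_iff.2 hinj)
      let u : GL (Fin p) F := ((Matrix.isUnit_iff_isUnit_det V).2 hdet).unit
      have huV : (u : Matrix (Fin p) (Fin p) F) = V := IsUnit.unit_spec _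
      let s : GL (Fin p) F := ⟨mon 1 (-1), mon 1 1,
        by rw [mon_mul, neg_add_cancel, mon_zero, Matrix.diagonal_eq_one]; funext i; simp,
        by rw [mon_mul, add_neg_cancel, mon_zero, Matrix.diagonal_eq_one]; funext i; simp⟩
      have hxu : x * u = u * s := by
        refine Units.ext ?_
        simp only [Units.val_mul, huV, hxe]
        ext i j
        rw [Matrix.diagonal_mul, show (s : Matrix (Fin p) (Fin p) F) = mon 1 (-1) from rfl,
          Matrix.mul_apply, Finset.sum_eq_single (j + 1)]
        · simp only [mon_apply, V, Matrix.vandermonde_apply, add_neg_cancel_right, if_true, Pi.one_apply, mul_one]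
          rw [← pow_succ', Fin.val_add, Fin.val_one' p, Nat.add_mod_mod, ← pow_eq_pow_mod _ (ha i)]
        · intro c _ hc
          rw [mon_apply, if_neg (fun h => hc (by rw [h]; simp)), mul_zero]
        · simp
      refine ⟨u, ?_, 0, 1, 0, ?_, ?_, ?_⟩
      · rw [mul_assoc, hxu, inv_mul_cancel_left]
        exact ⟨1, -1, fun _ => one_pow _, rfl⟩
      · intro h
        have := congrArg Fin.val h
        simp [Fin.val_one' p, Nat.one_mod_eq_one.2 (by omega : p ≠ 1)] at this
      all_goals simp [huV, V, Matrix.vandermonde_apply]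
    · -- a repeated eigenvalue
      rw [Function.not_injective_iff] at hinj
      obtain ⟨i, j, hij, hne⟩ := hinj
      let u : GL (Fin p) F := ⟨Matrix.transvection i j 1, Matrix.transvection i j (-1),
        by rw [Matrix.transvection_mul_transvection_same _ _ hne]; simp,
        by rw [Matrix.transvection_mul_transvection_same _ _ hne]; simp⟩
      refine ⟨u, hcomm u ?_, i, j, j, hne, ?_, ?_⟩
      · rw [hxe, show (u : Matrix (Fin p) (Fin p) F) = 1 + Matrix.single i j 1 from rfl, mul_add, add_mul, mul_one, one_mul]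
        congr 1
        ext r s
        rw [Matrix.diagonal_mul, Matrix.mul_diagonal]
        by_cases h : i = r ∧ j = s
        · obtain ⟨rfl, rfl⟩ := h; simp [hij]
        · simp [Matrix.single, h]
      · simp [u, Matrix.transvection, Matrix.single, hne]
      · simp [u, Matrix.transvection, Matrix.single, hne, Ne.symm hne]
  · -- a non-diagonal element
    set X := (x : Matrix (Fin p) (Fin p) F)
    have hord : addOrderOf k = p := by
      have hdp : addOrderOf k ∣ p := by simpa using addOrderOf_dvd_card (x := k)
      exact (hpp.eq_one_or_self_of_dvd _ hdp).resolve_left fun h => hk (AddMonoid.addOrderOf_eq_one_iff.1 h)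
    have hkinj : ∀ m n : ℕ, m < p → n < p → m • k = n • k → m = n := fun m n hm hn h =>
      nsmul_injOn_Iio_addOrderOf (by simpa [hord] using hm) (by simpa [hord] using hn) h
    have hpow : ∀ m : ℕ, ∃ b : Fin p → F, (∀ i, b i ^ p = 1) ∧ X ^ m = mon b (m • k) := by
      intro m
      induction m with
      | zero => exact ⟨1, fun _ => one_pow _, by rw [zero_nsmul, mon_zero]; simp⟩
      | succ m ih =>
        obtain ⟨b, hb, e⟩ := ih
        exact ⟨fun i => b i * a (i + m • k), fun i => by rw [mul_pow, hb, ha, one_mul], by rw [pow_succ, e, hxe, mon_mul, succ_nsmul]⟩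
    obtain ⟨b, hb, hXp⟩ := hpow p
    have hpk : p • k = 0 := by have := addOrderOf_nsmul_eq_zero k; rwa [hord] at this
    rw [hpk] at hXp
    have hbk : ∀ i, b (i + k) = b i := by
      intro i
      have hc' : X ^ p * X = X * X ^ p := (Commute.pow_self X p).eq
      rw [hXp, hxe, mon_mul, mon_mul, zero_add, add_zero] at hc'
      have := congrFun (mon_inj (fun i => mul_ne_zero (by intro h; simpa [h, NeZero.ne p] using hb i) (ha0 _)) hc').2 i
      simp only [add_zero] at this
      rw [mul_comm] at this
      exact (mul_left_cancel₀ (ha0 i) this).symm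
    have hbconst : ∀ i, b i = b 0 := by
      intro i
      have hsurj : Function.Surjective fun m : Fin p => (m : ℕ) • k :=
        Finite.injective_iff_surjective.1 fun m n h => Fin.ext (hkinj _ _ m.2 n.2 h)
      obtain ⟨m, rfl⟩ := hsurj i
      have hm : ∀ n : ℕ, b (n • k) = b 0 := fun n => by
        induction n with
        | zero => rw [zero_nsmul]
        | succ n ih => rw [succ_nsmul, hbk, ih]
      exact hm _
    set c := b 0
    have hXc : X ^ p = c • (1 : Matrix (Fin p) (Fin p) F) := by
      rw [hXp, mon_zero, show b = fun _ => c from funext hbconst, Matrix.smul_one_eq_diagonal]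
    have hXne : ∀ i, X i (i + k) ≠ 0 := fun i => by rw [hxe, mon_apply, if_pos rfl]; exact ha0 i
    by_cases hc1 : c = 1
    · -- the idempotent
      let S : Matrix (Fin p) (Fin p) F := ∑ m ∈ Finset.range p, X ^ m
      let E : Matrix (Fin p) (Fin p) F := (p : F)⁻¹ • S
      have hXS : X * S = S := by
        have h0 := mul_geom_sum X p
        rw [hXc, hc1, one_smul, sub_self, sub_mul, one_mul, sub_eq_zero] at h0
        exact h0
      have hXm : ∀ m : ℕ, X ^ m * S = S := fun m => by
        induction m with
        | zero => simp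
        | succ m ih => rw [pow_succ, mul_assoc, hXS, ih]
      have hSS : S * S = (p : F) • S := by
        show (∑ m ∈ Finset.range p, X ^ m) * S = _
        rw [Finset.sum_mul, Finset.sum_congr rfl fun m _ => hXm m, Finset.sum_const, Finset.card_range,
          ← Nat.cast_smul_eq_nsmul F]
      have hEE : E * E = E := by
        simp only [E, smul_mul_assoc, mul_smul_comm, hSS, smul_smul]
        congr 1
        field_simp
      have hu : ∀ μ ν : F, μ + ν + μ * ν = 0 → (1 + μ • E) * (1 + ν • E) = 1 := by
        intro μ ν h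
        calc (1 + μ • E) * (1 + ν • E) = 1 + (μ + ν + μ * ν) • E := by
              generalize E = E' at hEE ⊢
              rw [add_mul, mul_add, mul_add, one_mul, one_mul, mul_one, smul_mul_assoc, mul_smul_comm, hEE,
                smul_smul, add_smul, add_smul]
              abel
          _ = 1 := by rw [h, zero_smul, add_zero]
      have hz : ζ ≠ 0 := hprim.ne_zero hpp.ne_zero
      let u : GL (Fin p) F := ⟨1 + (ζ - 1) • E, 1 + (ζ⁻¹ - 1) • E,
        hu _ _ (by field_simp; ring), hu _ _ (by field_simp; ring)⟩
      have hXE : X * E = E * X := by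
        have : X * S = S * X := by
          simp only [S, Finset.mul_sum, Finset.sum_mul]
          exact Finset.sum_congr rfl fun m _ => (Commute.self_pow X m).eq
        simp only [E, mul_smul_comm, smul_mul_assoc, this]
      have hent : ∀ m : ℕ, 0 < m → m < p → ∀ i, i + m • k ≠ i ∧
          (u : Matrix (Fin p) (Fin p) F) i (i + m • k) ≠ 0 := by
        intro m hm0 hm i
        have hne : i + m • k ≠ i := fun h => hm0.ne' (hkinj m 0 hm (by omega) (by
          rw [zero_nsmul]; simpa using h))
        refine ⟨hne, ?_⟩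
        show ((1 : Matrix (Fin p) (Fin p) F) + (ζ - 1) • E) i (i + m • k) ≠ 0
        rw [Matrix.add_apply, Matrix.one_apply_ne hne.symm, zero_add, Matrix.smul_apply, smul_eq_mul]
        refine mul_ne_zero (sub_ne_zero.2 (hprim.ne_one hpp.one_lt)) ?_
        show ((p : F)⁻¹ • S) i (i + m • k) ≠ 0
        rw [Matrix.smul_apply, smul_eq_mul]
        refine mul_ne_zero (inv_ne_zero hpF) ?_
        show (∑ n ∈ Finset.range p, X ^ n) i (i + m • k) ≠ 0
        rw [Matrix.sum_apply, Finset.sum_eq_single m]
        · obtain ⟨d, hd, e⟩ := hpow m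
          rw [e, mon_apply, if_pos rfl]
          intro h; simpa [h, NeZero.ne p] using hd i
        · intro n hn hnm
          obtain ⟨d, -, e⟩ := hpow n
          rw [e, mon_apply, if_neg fun h => hnm (hkinj m n hm (Finset.mem_range.1 hn) (add_left_cancel h)).symm]
        · intro h; exact absurd (Finset.mem_range.2 hm) h
      refine ⟨u, hcomm u ?_, 0, k, k + k, Ne.symm hk, ?_, ?_⟩
      · show X * (1 + (ζ - 1) • E) = (1 + (ζ - 1) • E) * X
        rw [mul_add, add_mul, mul_one, one_mul, mul_smul_comm, smul_mul_assoc, hXE]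
      · have := (hent 2 (by omega) (by omega) 0).2
        rwa [two_nsmul, zero_add] at this
      · have := (hent 1 (by omega) (by omega) k).2
        rwa [one_nsmul] at this
    · -- `1 + x` is invertible
      have hc : 1 + c ≠ 0 := by
        intro h
        have hcm : c = -1 := eq_neg_of_add_eq_zero_right h
        have := hb 0
        rw [show b 0 = -1 from hcm, hodd.neg_one_pow] at this
        exact hc1 (hcm.trans this)
      let T : Matrix (Fin p) (Fin p) F := (1 + c)⁻¹ • ∑ i ∈ Finset.range p, (-X) ^ i
      have hT : (1 + X) * T = 1 := by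
        have h0 := mul_neg_geom_sum (-X) p
        rw [sub_neg_eq_add, hodd.neg_pow, sub_neg_eq_add, hXc] at h0
        rw [show T = _ from rfl, mul_smul_comm, h0, show (1 : Matrix (Fin p) (Fin p) F) + c • 1 = (1 + c) • 1 by
          rw [add_smul, one_smul], smul_smul, inv_mul_cancel₀ hc, one_smul]
      let u : GL (Fin p) F := ⟨1 + X, T, hT, mul_eq_one_comm.1 hT⟩
      refine ⟨u, hcomm u ?_, k, 0, k, hk, ?_, ?_⟩
      · show X * (1 + X) = (1 + X) * X
        rw [mul_add, add_mul, mul_one, one_mul]
      · show ((1 : Matrix (Fin p) (Fin p) F) + X) k k ≠ 0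
        rw [Matrix.add_apply, Matrix.one_apply_eq, hxe, mon_apply, if_neg (by simpa using hk), add_zero]
        exact one_ne_zero
      · show ((1 : Matrix (Fin p) (Fin p) F) + X) 0 k ≠ 0
        have := hXne 0
        rw [zero_add] at this
        rw [Matrix.add_apply, Matrix.one_apply_ne (Ne.symm hk), zero_add]
        exact this

end Cfsg.Agent.S4358
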