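import Cfsg.Statements.S4398
import Mathlib
import Cfsg.Agent.Lib.Transfer.TwoMaxClass
import Cfsg.Agent.S4143
-- import your own Cfsg.Agent.* helpers here

set_option autoImplicit false
open Cfsg

namespace Cfsg.Agent.S4398

open Subgroup

universe u

theorem main {S : Type u} [Group S] [Finite S] (h2 : IsPGroup 2 S) (hr : Cfsg.SectionalPRankLE 2 2 S)
    (B : Subgroup S) (hB : Nat.card B = 2 ^ 3) (hBna : ¬ IsMulCommutative B) :
    ((∃ k : ℕ, Nonempty (S ≃* DihedralGroup (2 ^ (k + 2)))) ∨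
      (∃ k : ℕ, Nat.card S = 2 ^ (k + 4) ∧ ∃ a b : S, orderOf a = 2 ^ (k + 3) ∧ orderOf b = 2 ∧ b * a * b⁻¹ = a ^ (2 ^ (k + 2) - 1)) ∨
      (∃ k : ℕ, Nonempty (S ≃* QuaternionGroup (2 ^ (k + 1))))) := by
  haveI := Fact.mk Nat.prime_two
  obtain ⟨n, hn⟩ := IsPGroup.iff_card.1 h2
  have hBp : IsPGroup 2 B := h2.to_subgroup B
  have hsq : ∀ b : B, b ^ 2 ∈ center B := by
    haveI : Nontrivial B := Finite.one_lt_card_iff_nontrivial.1 (by rw [hB]; norm_num)
    obtain ⟨j, hj⟩ := IsPGroup.iff_card.1 (hBp.to_subgroup (center B))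
    have hj0 : j ≠ 0 := by
      rintro rfl
      exact hBp.bot_lt_center.ne' (eq_bot_of_card_eq _ (by rw [hj, pow_zero]))
    have hmul := (center B).card_mul_index
    rw [index_eq_card, hj, hB] at hmul
    have hncy : ¬ IsCyclic (B ⧸ center B) := fun h => hBna (@isMulCommutative_of_isCyclic_quotient_center_self _ _ h)
    intro b
    rw [← QuotientGroup.eq_one_iff, QuotientGroup.mk_pow]
    obtain ⟨i, hi⟩ := IsPGroup.iff_orderOf.1 (hBp.to_quotient (center B)) (b : B ⧸ center B)
    by_cases hi1 : i ≤ 1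
    · exact orderOf_dvd_iff_pow_eq_one.1 (hi ▸ (pow_dvd_pow 2 hi1).trans (by norm_num))
    · exfalso
      refine hncy (isCyclic_of_orderOf_eq_card (b : B ⧸ center B) (le_antisymm (Nat.le_of_dvd Nat.card_pos (orderOf_dvd_natCard _)) ?_))
      rw [hi]
      have h4 : 2 ^ 2 ≤ 2 ^ i := Nat.pow_le_pow_right (by norm_num) (by omega)
      have h5 : 2 ^ 1 ≤ 2 ^ j := Nat.pow_le_pow_right (by norm_num) (by omega)
      have h6 : 2 ^ 1 * Nat.card (B ⧸ center B) ≤ 2 ^ 3 := hmul ▸ Nat.mul_le_mul_right _ h5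
      omega
  have hC : centralizer (B : Set S) ≤ B := by
    classical
    by_contra hle
    have hex : ∃ m : ℕ, ∃ u : S, u ∈ centralizer (B : Set S) ∧ u ∉ B ∧ orderOf u = m := by
      obtain ⟨u, hu, huB⟩ := SetLike.not_le_iff_exists.1 hle
      exact ⟨_, u, hu, huB, rfl⟩
    obtain ⟨u, huC, huB, hum⟩ := Nat.find_spec hex
    have hu2 : u ^ 2 ∈ B := by
      by_contra h
      obtain ⟨i, hi⟩ := IsPGroup.iff_orderOf.1 h2 u
      rcases Nat.eq_zero_or_pos i with rfl | hi0
      · rw [pow_zero, orderOf_eq_one_iff] at hi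
        exact huB (hi ▸ one_mem _)
      have hlt : orderOf (u ^ 2) < orderOf u := by
        rw [orderOf_pow_of_dvd two_ne_zero (hi ▸ dvd_pow_self 2 hi0.ne')]
        exact Nat.div_lt_self (orderOf_pos u) one_lt_two
      exact Nat.find_min hex (hum ▸ hlt) ⟨_, (centralizer (B : Set S)).pow_mem huC 2, h, rfl⟩
    set Z := (center B).map B.subtype with hZ
    have hZB : Z ≤ B := map_subtype_le _
    set H := B ⊔ zpowers u with hH
    have hcen : ∀ z ∈ Z, ∀ h ∈ H, h * z = z * h := by
      rintro _ ⟨z, hz, rfl⟩ h hh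
      have : H ≤ centralizer ({(z : S)} : Set S) := sup_le
        (fun b hb => mem_centralizer_singleton_iff.2 (congrArg Subtype.val (mem_center_iff.1 hz ⟨b, hb⟩)))
        (zpowers_le.2 (mem_centralizer_singleton_iff.2 (mem_centralizer_iff.1 huC z z.2).symm))
      exact mem_centralizer_singleton_iff.1 (this hh)
    haveI : (Z.subgroupOf H).Normal := ⟨fun z hz g => by
      rw [mem_subgroupOf] at hz ⊢
      show (g : S) * z * (g : S)⁻¹ ∈ Z
      rw [hcen _ hz g g.2, mul_inv_cancel_right]; exact hz⟩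
    have hHN : H ≤ normalizer (B : Set S) := sup_le le_normalizer
      (zpowers_le.2 (centralizer_le_normalizer _ huC))
    have hsqH : ∀ h ∈ H, h ^ 2 ∈ Z := by
      intro h hh
      rw [hH, ← SetLike.mem_coe, coe_mul_of_right_le_normalizer_left B (zpowers u)
        (zpowers_le.2 (centralizer_le_normalizer _ huC))] at hh
      obtain ⟨b, hb, _, ⟨i, rfl⟩, rfl⟩ := hh
      have hc : Commute b (u ^ i) := Commute.zpow_right (mem_centralizer_iff.1 huC b hb) i
      show (b * u ^ i) ^ 2 ∈ Z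
      rw [hc.mul_pow]
      refine Z.mul_mem ⟨(⟨b, hb⟩ : B) ^ 2, hsq _, rfl⟩ ?_
      have hu2Z : u ^ 2 ∈ Z := ⟨⟨u ^ 2, hu2⟩, mem_center_iff.2 fun g => Subtype.ext
        ((mem_centralizer_iff.1 ((centralizer (B : Set S)).pow_mem huC 2)) g g.2), rfl⟩
      rw [← zpow_natCast (u ^ i), ← zpow_mul, mul_comm, zpow_mul, zpow_natCast]
      exact Z.zpow_mem hu2Z i
    have hquot : ∀ q : H ⧸ Z.subgroupOf H, q ^ 2 = 1 := fun q => by
      induction q using QuotientGroup.induction_on with
      | H g => rw [← QuotientGroup.mk_pow, QuotientGroup.eq_one_iff]; exact hsqH g g.2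
    have hcomm : IsMulCommutative (⊤ : Subgroup (H ⧸ Z.subgroupOf H)) := ⟨⟨fun a b => Subtype.ext (by
      have hi : ∀ q : H ⧸ Z.subgroupOf H, q⁻¹ = q := fun q => inv_eq_of_mul_eq_one_right ((pow_two q).symm.trans (hquot q))
      show (a : H ⧸ Z.subgroupOf H) * b = b * a
      calc (a : H ⧸ Z.subgroupOf H) * b = ((a : H ⧸ Z.subgroupOf H) * b)⁻¹ := (hi _).symm
        _ = b * a := by rw [mul_inv_rev, hi, hi])⟩⟩
    have hle4 := hr H (Z.subgroupOf H) ⊤ hcomm (fun a _ => hquot a)
    rw [card_top] at hle4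
    have h1 := (Z.subgroupOf H).card_mul_index
    rw [index_eq_card, Nat.card_congr (subgroupOfEquivOfLe (hZB.trans le_sup_left)).toEquiv] at h1
    obtain ⟨r, hr'⟩ := IsPGroup.iff_card.1 (h2.to_subgroup H)
    have hlt : Nat.card B < Nat.card H := lt_of_le_of_ne (card_le_of_le le_sup_left) fun e => by
      have := eq_of_le_of_card_ge (le_sup_left : B ≤ H) e.ge
      exact huB (this ▸ mem_sup_right (mem_zpowers u))
    rw [hB, hr', Nat.pow_lt_pow_iff_right one_lt_two] at hlt
    have hZ2 : Nat.card Z ≤ 2 := by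
      rw [hZ, card_map_of_injective B.subtype_injective]
      obtain ⟨j, hj⟩ := IsPGroup.iff_card.1 (hBp.to_subgroup (center B))
      have hmul := (center B).card_mul_index
      rw [index_eq_card, hj, hB] at hmul
      by_contra hj2
      have hj1 : 2 ≤ j := by
        by_contra h
        have : 2 ^ j ≤ 2 ^ 1 := Nat.pow_le_pow_right (by norm_num) (by omega)
        omega
      have : 2 ^ 2 ≤ 2 ^ j := Nat.pow_le_pow_right (by norm_num) hj1
      have h3 : Nat.card (B ⧸ center B) ≤ 2 := by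
        have := Nat.mul_le_mul_right (Nat.card (B ⧸ center B)) this
        omega
      have h4 := Nat.card_pos (α := B ⧸ center B)
      refine hBna (@isMulCommutative_of_isCyclic_quotient_center_self _ _ ?_)
      rcases (by omega : Nat.card (B ⧸ center B) = 1 ∨ Nat.card (B ⧸ center B) = 2) with h | h
      · haveI := (Nat.card_eq_one_iff_unique.1 h).1
        infer_instance
      · exact isCyclic_of_prime_card (p := 2) h
    have h16 : 2 ^ 4 ≤ 2 ^ r := Nat.pow_le_pow_right (by norm_num) (by omega)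
    rw [hr'] at h1
    have := Nat.mul_le_mul hZ2 hle4
    omega
  have hcl := Cfsg.Agent.S4143.result n hn B hB hBna hC
  have hn3 : 3 ≤ n := (Nat.pow_dvd_pow_iff_le_right one_lt_two).1 (hB ▸ hn ▸ card_subgroup_dvd_card B)
  exact Cfsg.Lib.Transfer.classify_four hn3 hn (Cfsg.Lib.Transfer.four_of_maximal_class n S hn3 hn hcl)

/-- Let S be a finite 2-group of sectional 2-rank at most 2 that contains a subgroup isomorphic to the dihedral group of order 8 or to the quaternion group of order 8. Then S is dihedral of order at least 8, semidihedral of order at least 16 (order 2^(k+4) with an element a of order 2^(k+3) and an involution b with b a b⁻¹ = a^(2^(k+2)−1)), or generalized quaternion of order at least 8. -/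
theorem result {S : Type*} [Group S] [Finite S] (h2 : IsPGroup 2 S) (hr : Cfsg.SectionalPRankLE 2 2 S)
    (hsub : ∃ H : Subgroup S, Nonempty (↥H ≃* DihedralGroup 4) ∨ Nonempty (↥H ≃* QuaternionGroup 2)) :
    ((∃ k : ℕ, Nonempty (S ≃* DihedralGroup (2 ^ (k + 2)))) ∨
      (∃ k : ℕ, Nat.card S = 2 ^ (k + 4) ∧ ∃ a b : S, orderOf a = 2 ^ (k + 3) ∧ orderOf b = 2 ∧ b * a * b⁻¹ = a ^ (2 ^ (k + 2) - 1)) ∨
      (∃ k : ℕ, Nonempty (S ≃* QuaternionGroup (2 ^ (k + 1))))) := by
  obtain ⟨H, hH⟩ := hsub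
  rcases hH with ⟨⟨e⟩⟩ | ⟨⟨e⟩⟩
  · refine main h2 hr H (by rw [Nat.card_congr e.toEquiv, DihedralGroup.nat_card]; norm_num) fun hc => ?_
    have := congrArg e (hc.is_comm.comm (e.symm (DihedralGroup.r 1)) (e.symm (DihedralGroup.sr 0)))
    rw [map_mul, map_mul, e.apply_symm_apply, e.apply_symm_apply] at this
    revert this; decide
  · refine main h2 hr H (by rw [Nat.card_congr e.toEquiv, Nat.card_eq_fintype_card, QuaternionGroup.card]; norm_num) fun hc => ?_
    have := congrArg e (hc.is_comm.comm (e.symm (QuaternionGroup.a 1)) (e.symm (QuaternionGroup.xa 0)))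
    rw [map_mul, map_mul, e.apply_symm_apply, e.apply_symm_apply] at this
    revert this; decide

end Cfsg.Agent.S4398
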