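import Cfsg.Statements.S4419
import Cfsg.Agent.Lib.Transfer.Frobenius
import Cfsg.Agent.Lib.Transfer.Goldschmidt
import Cfsg.Agent.Lib.Solv.Coprime2
import Cfsg.Agent.Lib.Solv.MetacyclicOdd
import Cfsg.Agent.Lib.Solv.Cores

set_option autoImplicit false
open Cfsg
open scoped Pointwise commutatorElement

namespace Cfsg.Agent.S4419

theorem two_gen {R : Type*} [Group R] (hm : Cfsg.IsMetacyclic R) :
    ∃ a b : R, ∀ x : R, ∃ i j : ℤ, x = a ^ i * b ^ j := by
  obtain ⟨N, hN, hNc, hQc⟩ := hm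
  obtain ⟨b₀, hb⟩ := IsCyclic.exists_generator (α := N)
  obtain ⟨a₀, ha⟩ := IsCyclic.exists_generator (α := R ⧸ N)
  obtain ⟨a, rfl⟩ := QuotientGroup.mk_surjective a₀
  refine ⟨a, b₀, fun x => ?_⟩
  obtain ⟨i, hi : (QuotientGroup.mk a : R ⧸ N) ^ i = QuotientGroup.mk x⟩ := ha (QuotientGroup.mk x)
  rw [← QuotientGroup.mk_zpow, QuotientGroup.eq] at hi
  obtain ⟨j, hj : b₀ ^ j = ⟨_, hi⟩⟩ := hb ⟨_, hi⟩
  refine ⟨i, j, ?_⟩
  have h2 : (b₀ : R) ^ j = (a ^ i)⁻¹ * x := by rw [← SubgroupClass.coe_zpow, hj]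
  rw [h2, mul_inv_cancel_left]

theorem card_frattini_quotient_le {R : Type*} [Group R] [Finite R] {p : ℕ} [hp : Fact p.Prime] (hR : IsPGroup p R)
    (hm : Cfsg.IsMetacyclic R) : Nat.card (R ⧸ frattini R) ≤ p ^ 2 := by
  obtain ⟨a, b, hab⟩ := two_gen hm
  let f : Subgroup.zpowers (QuotientGroup.mk a : R ⧸ frattini R) × Subgroup.zpowers (QuotientGroup.mk b : R ⧸ frattini R) →
      R ⧸ frattini R := fun z => (z.1 : R ⧸ frattini R) * (z.2 : R ⧸ frattini R)
  have hf : Function.Surjective f := fun q => by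
    obtain ⟨x, rfl⟩ := QuotientGroup.mk_surjective q
    obtain ⟨i, j, rfl⟩ := hab x
    exact ⟨(⟨_, Subgroup.zpow_mem_zpowers _ i⟩, ⟨_, Subgroup.zpow_mem_zpowers _ j⟩), by
      simp only [f, QuotientGroup.mk_mul, QuotientGroup.mk_zpow]⟩
  refine (Nat.card_le_card_of_surjective f hf).trans ?_
  rw [Nat.card_prod, Nat.card_zpowers, Nat.card_zpowers, pow_two]
  have hle : ∀ x : R, orderOf (QuotientGroup.mk x : R ⧸ frattini R) ≤ p := fun x => Nat.le_of_dvd hp.out.pos
    (orderOf_dvd_of_pow_eq_one (by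
      rw [← QuotientGroup.mk_pow, QuotientGroup.eq_one_iff]
      exact Cfsg.Lib.Solv.pow_mem_frattini hR x))
  exact Nat.mul_le_mul (hle a) (hle b)


/-- Let p be a prime and G a finite group whose Sylow p-subgroups are metacyclic (a cyclic normal subgroup with cyclic quotient). Then G has a normal p-complement if and only if the order of G/O_{p′,p}(G) is coprime to p² − 1. -/
theorem result {G : Type*} [Group G] [Finite G] (p : ℕ) [Fact p.Prime] (S : Sylow p G) (hS : Cfsg.IsMetacyclic ↥(S : Subgroup G)) : Cfsg.HasNormalPComplement p G ↔ Nat.Coprime (Nat.card (G ⧸ Cfsg.pPrimePCore p G)) (p ^ 2 - 1) := by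
  classical
  have hpp : p.Prime := Fact.out
  haveI := Cfsg.Lib.Transfer.pPrimeCore_normal (G := G) p
  constructor
  · intro h
    obtain ⟨P', N, hN, hc⟩ := h
    haveI := hN
    have hNK : N ≤ Cfsg.pPrimeCore p G := by
      refine Cfsg.Lib.Transfer.le_pPrimeCore hN ?_
      have h1 : (P' : Subgroup G).index = Nat.card N := hc.index_eq_card
      rw [← h1]
      exact (hpp.coprime_iff_not_dvd.2 P'.not_dvd_index).symm
    have hq : IsPGroup p (G ⧸ Cfsg.pPrimeCore p G) := by
      have h1 : N.index = Nat.card (P' : Subgroup G) := hc.symm.index_eq_card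
      obtain ⟨k, hk⟩ := IsPGroup.iff_card.1 P'.isPGroup'
      obtain ⟨j, -, hj⟩ := (Nat.dvd_prime_pow hpp).1 ((Subgroup.index_dvd_of_le hNK).trans (dvd_of_eq (h1.trans hk)))
      exact IsPGroup.of_card (n := j) hj
    have htop : Cfsg.pPrimePCore p G = ⊤ := by
      refine top_le_iff.1 fun x _ => ?_
      exact Cfsg.Lib.Transfer.le_pCore (inferInstance : (⊤ : Subgroup (G ⧸ Cfsg.pPrimeCore p G)).Normal)
        (hq.to_subgroup ⊤) (Subgroup.mem_top _)
    rw [← Subgroup.index_eq_card, htop, Subgroup.index_top]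
    exact Nat.coprime_one_left _
  · intro hcop
    refine (Cfsg.Lib.Transfer.frobenius_iff S).2 fun Q hQ g hg hgp => ?_
    obtain ⟨C, hC⟩ : ∃ C, C = Subgroup.centralizer (Q : Set G) := ⟨_, rfl⟩
    rw [← hC]
    suffices h : C.subgroupOf (Subgroup.zpowers g) = ⊤ by
      exact Subgroup.subgroupOf_eq_top.1 h (Subgroup.mem_zpowers g)
    refine Cfsg.Lib.Solv.eq_top_of_forall_sylow_le fun q hq hqg => ?_
    haveI := Fact.mk hq
    obtain R : Sylow q (Subgroup.zpowers g) := default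
    refine ⟨R, ?_⟩
    rintro ⟨y, hy⟩ hyR
    show y ∈ C
    by_contra hyC
    have hqp : q ≠ p := by
      rintro rfl
      rw [Nat.card_zpowers] at hqg
      exact hpp.not_dvd_one (hgp ▸ Nat.dvd_gcd hqg dvd_rfl)
    have hyN : y ∈ Subgroup.normalizer (Q : Set G) := Subgroup.zpowers_le.2 hg hy
    obtain ⟨m, hm⟩ := R.isPGroup' ⟨⟨y, hy⟩, hyR⟩
    have hym : y ^ q ^ m = 1 := congrArg (fun z : R => ((z : Subgroup.zpowers g) : G)) hm
    have hQp : IsPGroup p Q := S.isPGroup'.to_le hQ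
    have hcqp : ∀ k, (q ^ m).Coprime (p ^ k) := fun k => ((Nat.coprime_primes hq hpp).2 hqp).pow _ _
    -- `y` is not in `O_{p',p}(G)`
    have hydvd : q ∣ Nat.card (G ⧸ Cfsg.pPrimePCore p G) := by
      haveI := Cfsg.Lib.Transfer.AG.pPrimePCore_normal (N := G) (p := p)
      have hyK : y ∉ Cfsg.pPrimePCore p G := fun h => by
        have h1 : y ∈ Cfsg.pPrimeCore p G := by
          obtain ⟨k, hk⟩ := Cfsg.Lib.Transfer.pCore_isPGroup (G := G ⧸ Cfsg.pPrimeCore p G) p ⟨_, h⟩
          have hk' : (QuotientGroup.mk y : G ⧸ Cfsg.pPrimeCore p G) ^ p ^ k = 1 := congrArg Subtype.val hk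
          rw [← QuotientGroup.eq_one_iff]
          refine orderOf_eq_one_iff.1 (Nat.eq_one_of_dvd_coprimes (hcqp k) (orderOf_dvd_of_pow_eq_one ?_)
            (orderOf_dvd_of_pow_eq_one hk'))
          rw [← QuotientGroup.mk_pow, hym, QuotientGroup.mk_one]
        refine hyC (hC ▸ Subgroup.mem_centralizer_iff.2 fun z hz => ?_)
        have h2 : z * y * z⁻¹ * y⁻¹ ∈ Q ⊓ Cfsg.pPrimeCore p G := ⟨by
          rw [mul_assoc, mul_assoc]
          exact Q.mul_mem hz (by
            rw [← mul_assoc]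
            exact (Subgroup.mem_normalizer_iff.1 hyN _).1 (Q.inv_mem hz)),
          (Cfsg.pPrimeCore p G).mul_mem ((inferInstance : (Cfsg.pPrimeCore p G).Normal).conj_mem y h1 z) ((Cfsg.pPrimeCore p G).inv_mem h1)⟩
        obtain ⟨k, hk⟩ := IsPGroup.iff_card.1 hQp
        rw [Subgroup.inf_eq_bot_of_coprime (by rw [hk]; exact Nat.Coprime.pow_left k (Cfsg.Lib.Transfer.coprime_card_pPrimeCore p).symm), Subgroup.mem_bot] at h2
        exact mul_inv_eq_iff_eq_mul.1 (mul_inv_eq_one.1 h2)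
      obtain ⟨j, -, hj⟩ := (Nat.dvd_prime_pow hq).1 (orderOf_dvd_of_pow_eq_one
        (show (QuotientGroup.mk y : G ⧸ Cfsg.pPrimePCore p G) ^ q ^ m = 1 by
          rw [← QuotientGroup.mk_pow, hym, QuotientGroup.mk_one]))
      rcases Nat.eq_zero_or_pos j with rfl | hj0
      · exact absurd ((QuotientGroup.eq_one_iff y).1 (orderOf_eq_one_iff.1 (by rw [hj, pow_zero]))) hyK
      · exact ((dvd_pow_self q hj0.ne').trans hj.symm.dvd).trans (orderOf_dvd_natCard _)
    have hndvd : ¬ q ∣ p ^ 2 - 1 := fun h => hq.not_dvd_one (hcop ▸ Nat.dvd_gcd hydvd h)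
    -- the action on the Frattini quotient
    obtain ⟨A, hA⟩ : ∃ A, A = Subgroup.zpowers y := ⟨_, rfl⟩
    have hAN : A ≤ Subgroup.normalizer (Q : Set G) := hA ▸ Subgroup.zpowers_le.2 hyN
    have hAq : IsPGroup q A := by
      obtain ⟨j, -, hj⟩ := (Nat.dvd_prime_pow hq).1 (orderOf_dvd_of_pow_eq_one hym)
      exact IsPGroup.of_card (n := j) (by rw [hA, Nat.card_zpowers, hj])
    let f : A →* MulAut (Q ⧸ frattini Q) :=
      { toFun := fun a => QuotientGroup.congr (frattini Q) (frattini Q) (Q.normalizerMonoidHom ⟨a, hAN a.2⟩)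
          (Subgroup.characteristic_iff_map_eq.1 inferInstance _)
        map_one' := by
          ext x
          induction x using QuotientGroup.induction_on with
          | _ x =>
            show (QuotientGroup.mk _ : Q ⧸ frattini Q) = QuotientGroup.mk x
            congr 1
            apply Subtype.ext
            show (1 : G) * x * (1 : G)⁻¹ = x
            group
        map_mul' := fun a b => by
          ext x
          induction x using QuotientGroup.induction_on with
          | _ x =>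
            show (QuotientGroup.mk _ : Q ⧸ frattini Q) = QuotientGroup.mk _
            congr 1
            apply Subtype.ext
            show ((a : G) * b) * x * ((a : G) * b)⁻¹ = a * (b * x * (b : G)⁻¹) * (a : G)⁻¹
            group }
    letI : MulAction A (Q ⧸ frattini Q) := MulAction.compHom _ f
    let F : Subgroup (Q ⧸ frattini Q) :=
      { carrier := {x | ∀ a : A, f a x = x}
        one_mem' := fun a => map_one _
        mul_mem' := fun {x y} hx hy a => by rw [map_mul, hx a, hy a]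
        inv_mem' := fun {x} hx a => by rw [map_inv, hx a] }
    have hFc : Nat.card (MulAction.fixedPoints A (Q ⧸ frattini Q)) = Nat.card F := rfl
    have hmod := hAq.card_modEq_card_fixedPoints (Q ⧸ frattini Q)
    rw [hFc] at hmod
    obtain ⟨d, hd⟩ := IsPGroup.iff_card.1 (hQp.to_quotient (frattini Q))
    have hd2 : d ≤ 2 := by
      have h1 : Cfsg.IsMetacyclic (Q.subgroupOf (S : Subgroup G)) := Cfsg.Lib.Solv.MC.isMetacyclic_subgroup hS _
      obtain ⟨N, hN, hNc, hQc⟩ := h1
      let e := Subgroup.subgroupOfEquivOfLe hQ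
      haveI : (N.map e.toMonoidHom).Normal := hN.map _ e.surjective
      haveI : IsCyclic (N.map e.toMonoidHom) := isCyclic_of_surjective _ (e.toMonoidHom.subgroupMap_surjective N)
      have h3 : Cfsg.IsMetacyclic Q := ⟨N.map e.toMonoidHom, inferInstance, inferInstance,
        by haveI := hQc; exact isCyclic_of_surjective _ (QuotientGroup.congr N (N.map e.toMonoidHom) e rfl).surjective⟩
      have h4 := card_frattini_quotient_le hQp h3
      rw [hd] at h4
      exact (Nat.pow_le_pow_iff_right hpp.one_lt).1 h4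
    obtain ⟨i, hid, hi⟩ := (Nat.dvd_prime_pow hpp).1 (hd ▸ Subgroup.card_subgroup_dvd_card F)
    rw [hd, hi] at hmod
    have hid2 : i = d := by
      by_contra hne
      have h1 : q ∣ p ^ d - p ^ i := (Nat.modEq_iff_dvd' (Nat.pow_le_pow_right hpp.pos hid)).1 hmod.symm
      have h2 : p ^ d - p ^ i = p ^ i * (p ^ (d - i) - 1) := by
        rw [Nat.mul_sub_one, ← pow_add, Nat.add_sub_cancel' hid]
      rw [h2] at h1
      rcases hq.dvd_mul.1 h1 with h3 | h3
      · exact hqp ((Nat.prime_dvd_prime_iff_eq hq hpp).1 (hq.dvd_of_dvd_pow h3))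
      · refine hndvd (h3.trans ?_)
        exact Nat.pow_sub_one_dvd_pow_sub_one p (by rcases (show d - i = 1 ∨ d - i = 2 by omega) with h | h <;> simp [h])
    have hFtop : F = ⊤ := Subgroup.eq_top_of_card_eq _ (by rw [hd, hi, hid2])
    refine hyC (hC ▸ Cfsg.Lib.Solv.centralizes_of_frattini A Q hAN ?_ ?_ (hA ▸ Subgroup.mem_zpowers y))
    · obtain ⟨a, ha⟩ := IsPGroup.iff_card.1 hAq
      obtain ⟨b, hb⟩ := IsPGroup.iff_card.1 (hQp.to_subgroup (frattini Q))
      rw [ha, hb]
      exact ((Nat.coprime_primes hq hpp).2 hqp).pow _ _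
    · intro a ha k hk
      have h1 : f ⟨a, ha⟩ (QuotientGroup.mk (⟨k, hk⟩ : Q)) = QuotientGroup.mk (⟨k, hk⟩ : Q) :=
        (hFtop.symm ▸ Subgroup.mem_top _ : (QuotientGroup.mk (⟨k, hk⟩ : Q) : Q ⧸ frattini Q) ∈ F) ⟨a, ha⟩
      have h2 : (QuotientGroup.mk (Q.normalizerMonoidHom ⟨a, hAN ha⟩ ⟨k, hk⟩) : Q ⧸ frattini Q) = QuotientGroup.mk ⟨k, hk⟩ := h1
      rw [← mul_inv_eq_one, ← QuotientGroup.mk_inv, ← QuotientGroup.mk_mul, QuotientGroup.eq_one_iff] at h2
      exact ⟨_, h2, rfl⟩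

end Cfsg.Agent.S4419
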