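import Cfsg.Statements.S4888
import Cfsg.Agent.Lib.Characters.Thompson
import Cfsg.Agent.Lib.Blocks.Principal
import Cfsg.Agent.Lib.Blocks.PrincipalRestriction
import Cfsg.Agent.Lib.Blocks.Covering
import Cfsg.Agent.Lib.Blocks.Heights
import Cfsg.Agent.Lib.Solv.Cores
import Cfsg.Agent.Lib.Blocks.InflationBijection

set_option autoImplicit false
open Cfsg Cfsg.Lib.Characters Cfsg.Lib.Blocks
open scoped Classical ComplexConjugate

namespace Cfsg.Agent.S4888

universe u

/-- The principal block is stable under conjugation by automorphisms of the group. -/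
theorem cjIrr_mem_principal {G : Type u} [Group G] [Fintype G] {N : Subgroup G} [N.Normal] [Fintype N]
    {p : ℕ} [Fact p.Prime] {M : Ideal Cfsg.AlgInt} [M.IsPrime] {θ : IrrCharacter N}
    (hθ : θ ∈ Cfsg.principalBlock M ↥N) (g : G) : cjIrr θ g ∈ Cfsg.principalBlock M ↥N := by
  have h := sameBlock_cjIrr (M := M) (θ := trivChar ↥N) (ψ := θ) hθ g
  rw [show cjIrr (trivChar ↥N) g = trivChar ↥N from Subtype.ext (funext fun n => rfl)] at h
  exact h

/-- If every principal-block character of degree prime to `p` is linear there is a normal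
`p`-complement. -/
theorem complement_of_degrees {G : Type u} [Group G] [Finite G] {p : ℕ} [Fact p.Prime]
    {M : Ideal Cfsg.AlgInt} (hM : Cfsg.IsPModular p M)
    (hdeg : ∀ χ : IrrCharacter G, χ ∈ Cfsg.principalBlock M G → ¬ p ∣ Cfsg.charDegree (χ : G → ℂ) →
      Cfsg.charDegree (χ : G → ℂ) = 1) :
    ∃ N : Subgroup G, N.Normal ∧ (Nat.card N).Coprime p ∧ ∃ k : ℕ, N.index = p ^ k := by
  classical
  haveI := hM.2.1.isPrime
  have hp : p.Prime := Fact.out
  have hex : ∃ n, ∃ N : Subgroup G, N.Normal ∧ (∃ k : ℕ, N.index = p ^ k) ∧ Nat.card N = n :=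
    ⟨_, ⊤, inferInstance, ⟨0, by simp⟩, rfl⟩
  obtain ⟨N, hN, ⟨k, hk⟩, hcard⟩ := Nat.find_spec hex
  haveI := hN
  refine ⟨N, hN, ?_, k, hk⟩
  rw [Nat.coprime_comm, hp.coprime_iff_not_dvd]
  intro hdvd
  have hord : ∀ l : N →* ℂˣ, (∀ (g : G) (n : N), l (MulAut.conjNormal g n) = l n) →
      l ^ p = 1 → l = 1 := by
    intro l hinv hl
    set K := l.ker.map N.subtype with hK
    have hKn : K.Normal := by
      refine ⟨fun x hx g => ?_⟩
      obtain ⟨n, hn, rfl⟩ := hx
      refine ⟨MulAut.conjNormal g n, ?_, by simp [MulAut.conjNormal_apply]⟩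
      rw [SetLike.mem_coe, MonoidHom.mem_ker, hinv]
      exact MonoidHom.mem_ker.mp hn
    have hpow : ∀ x : N, l x ^ p = 1 := fun x => by
      simpa using DFunLike.congr_fun hl x
    have hpg : IsPGroup p (N ⧸ l.ker) := fun q => ⟨1, by
      induction q using QuotientGroup.induction_on with
      | H z =>
        rw [pow_one, ← QuotientGroup.mk_pow, QuotientGroup.eq_one_iff, MonoidHom.mem_ker,
          map_pow, hpow]⟩
    obtain ⟨j, hj⟩ := hpg.exists_card_eq
    have hidx : K.index = p ^ (j + k) := by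
      rw [hK, Subgroup.index_map_subtype, pow_add, ← hj, hk, Subgroup.index_eq_card]
    have hge := Nat.find_min' hex ⟨K, hKn, ⟨_, hidx⟩, rfl⟩
    replace hge : Nat.card N ≤ Nat.card K := hcard.le.trans hge
    have hle : K ≤ N := Subgroup.map_subtype_le _
    have hKN : K = N := Subgroup.eq_of_le_of_card_ge hle hge
    ext n
    have : (n : G) ∈ K := by rw [hKN]; exact n.2
    obtain ⟨m, hm, hmn⟩ := this
    rw [Subtype.ext hmn] at hm
    simpa using hm
  haveI := Fintype.ofFinite G
  haveI := Fintype.ofFinite N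
  let P : Sylow p G := default
  have hPN : (P : Subgroup G) ⊔ N = ⊤ := by
    have h1 : ((P : Subgroup G) ⊔ N).index ∣ (P : Subgroup G).index :=
      Subgroup.index_dvd_of_le le_sup_left
    have h2 : ((P : Subgroup G) ⊔ N).index ∣ p ^ k := hk ▸ Subgroup.index_dvd_of_le le_sup_right
    have h3 : Nat.Coprime (p ^ k) (P : Subgroup G).index := by
      refine (Nat.Coprime.pow_left k ?_)
      rw [hp.coprime_iff_not_dvd]
      exact P.not_dvd_index
    exact Subgroup.index_eq_one.mp (Nat.eq_one_of_dvd_coprimes h3 h2 h1)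
  letI act : MulAction (P : Subgroup G) (IrrCharacter N) :=
    { smul := fun g χ => cjIrr χ (g : G)⁻¹
      one_smul := fun χ => by
        show cjIrr χ ((1 : (P : Subgroup G)) : G)⁻¹ = χ
        rw [OneMemClass.coe_one, inv_one, cjIrr_one]
      mul_smul := fun a b χ => by
        show cjIrr χ ((a * b : (P : Subgroup G)) : G)⁻¹ = cjIrr (cjIrr χ (b : G)⁻¹) (a : G)⁻¹
        rw [cjIrr_cjIrr, Subgroup.coe_mul, mul_inv_rev] }
  have hsmul : ∀ (g : (P : Subgroup G)) (χ : IrrCharacter N), g • χ = cjIrr χ (g : G)⁻¹ := fun g χ => rfl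
  have hfix : ∀ χ : IrrCharacter N, χ ∈ MulAction.fixedPoints (P : Subgroup G) (IrrCharacter N) →
      ∀ g : G, conjFn N χ.1 g = χ.1 := by
    intro χ hχ g
    have hle : (P : Subgroup G) ⊔ N ≤ inertia N χ.1 := by
      refine sup_le (fun x hx => ?_) (le_inertia χ.2.isClassFunction)
      have := congrArg Subtype.val (hχ ⟨x⁻¹, inv_mem hx⟩)
      rw [hsmul, coe_cjIrr] at this
      rw [mem_inertia]
      simpa using this
    rw [hPN] at hle
    exact mem_inertia.mp (hle (Subgroup.mem_top g))
  set b₀ : Set (IrrCharacter N) := Cfsg.principalBlock M ↥N with hb₀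
  let dg : IrrCharacter N → ℕ := fun χ => Cfsg.charDegree (χ : N → ℂ)
  let w : IrrCharacter N → ℕ := fun χ => if χ ∈ b₀ then dg χ ^ 2 else 0
  -- the squares of the degrees in the principal block
  have hsum : ((∑ χ, w χ : ℕ) : ZMod p) = 0 := by
    rw [ZMod.natCast_eq_zero_iff]
    have hloc := (blockE_mem_locCenter (M := M) (isPBlock_principal (M := M) (G := ↥N))).2 (1 : N)
    rw [coeff_blockE, blockCoeff_eq] at hloc
    have hval : (Nat.card N : ℂ)⁻¹ * ∑ χ : IrrCharacter N,
        (if χ ∈ b₀ then (χ : N → ℂ) 1 * conj ((χ : N → ℂ) 1) else 0) = ((∑ χ, w χ : ℕ) : ℂ) / (Nat.card N : ℕ) := by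
      rw [div_eq_inv_mul, Nat.cast_sum]
      congr 1
      refine Finset.sum_congr rfl fun χ _ => ?_
      simp only [w, dg]
      split_ifs
      · rw [Nat.cast_pow, coe_charDegree, ← coe_charDegree χ, Complex.conj_natCast, sq]
      · rw [Nat.cast_zero]
    have hpos : (∑ χ, w χ) ≠ 0 := by
      intro h0
      have h1 := Finset.sum_eq_zero_iff.mp h0 (trivChar ↥N) (Finset.mem_univ _)
      simp only [w] at h1
      rw [if_pos trivChar_mem_principal] at h1
      exact pow_ne_zero 2 (charDegree_pos (trivChar ↥N)).ne' h1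
    have hmem : ((∑ χ, w χ : ℕ) : ℂ) / (Nat.card N : ℕ) ∈ locRing M := hval ▸ hloc
    have h2 := ((natDiv_mem_iff hM hpos Nat.card_pos.ne').1).mp hmem
    exact Nat.dvd_of_factorization_pos (by
      have := Nat.Prime.factorization_pos_of_dvd hp Nat.card_pos.ne' hdvd
      omega)
  rw [Nat.cast_sum, sum_modEq_sum_fixed P.isPGroup' (fun χ => ((w χ : ℕ) : ZMod p))
    (fun g χ => by
      congr 1
      have hmem : g • χ ∈ b₀ ↔ χ ∈ b₀ := by
        rw [hsmul]
        refine ⟨fun h => ?_, fun h => cjIrr_mem_principal (p := p) h _⟩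
        have := cjIrr_mem_principal (p := p) h (g : G)
        rwa [cjIrr_cjIrr, inv_mul_cancel, cjIrr_one] at this
      have hd : dg (g • χ) = dg χ := by
        refine charDegree_eq ?_
        rw [hsmul, coe_cjIrr, conjFn_apply, coe_charDegree]
        exact congrArg χ.1 (Subtype.ext (by simp))
      simp only [w, hd, hmem])] at hsum
  let L : Subgroup (N →* ℂˣ) :=
    { carrier := {l | ∀ (g : G) (n : N), l (MulAut.conjNormal g n) = l n}
      one_mem' := fun _ _ => rfl
      mul_mem' := fun {a b} ha hb g n => by simp [ha g n, hb g n]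
      inv_mem' := fun {a} ha g n => by simp [ha g n] }
  haveI : Finite (N →* ℂˣ) := by
    refine Finite.of_injective (fun l => (⟨fun n => (l n : ℂ), isIrrCharacter_linear l⟩ :
      IrrCharacter N)) fun a b h => MonoidHom.ext fun n => Units.ext ?_
    exact congrFun (congrArg Subtype.val h) n
  have hL : ¬ p ∣ Nat.card L := by
    intro h
    obtain ⟨⟨l, hl⟩, hlo⟩ := exists_prime_orderOf_dvd_card' p h
    have h1 := hord l hl (by
      have := pow_orderOf_eq_one (⟨l, hl⟩ : L)
      rw [hlo] at this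
      exact congrArg Subtype.val this)
    subst h1
    rw [show (⟨1, hl⟩ : L) = 1 from rfl, orderOf_one] at hlo
    exact hp.ne_one hlo.symm
  let ofL : (N →* ℂˣ) → IrrCharacter N := fun l => ⟨fun n => (l n : ℂ), isIrrCharacter_linear l⟩
  have hb_mul : ∀ a b : N →* ℂˣ, ofL a ∈ b₀ → ofL b ∈ b₀ → ofL (a * b) ∈ b₀ := by
    intro a b ha hb
    refine (sameBlock_iff M (trivChar ↥N) _).mpr fun g => ?_
    have e : ∀ ψ : IrrCharacter N, (ψ : N → ℂ) 1 = 1 →
        centralChar (ψ : N → ℂ) g = ((Subgroup.centralizer ({g} : Set N)).index : ℂ) * (ψ : N → ℂ) g := by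
      intro ψ h1; rw [centralChar, h1, div_one]
    have ha1 := (sameBlock_iff M (trivChar ↥N) _).mp ha g
    have hb1 := (sameBlock_iff M (trivChar ↥N) _).mp hb g
    rw [ha1]
    rw [e (trivChar ↥N) (by simp), trivChar_apply, mul_one] at hb1
    rw [e (ofL a) (by simp [ofL]), e (ofL (a * b)) (by simp [ofL])]
    have hva := char_mem_locRing (G := ↥N) M (ofL a) g
    have hvb := char_mem_locRing (G := ↥N) M (ofL b) g
    rw [show (ofL (a * b) : N → ℂ) g = (ofL a : N → ℂ) g * (ofL b : N → ℂ) g by simp [ofL],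
      show ((Subgroup.centralizer ({g} : Set N)).index : ℂ) * ((ofL a : N → ℂ) g * (ofL b : N → ℂ) g)
        = (ofL a : N → ℂ) g * centralChar (ofL b : N → ℂ) g by rw [e (ofL b) (by simp [ofL])]; ring,
      red_mul hva (centralChar_mem_locRing (G := ↥N) M (ofL b) g), ← hb1, red_mul (natCast_mem _ _) hva]
    ring
  let L0 : Subgroup L :=
    { carrier := {l | ofL l.1 ∈ b₀}
      one_mem' := by
        show ofL (1 : L).1 ∈ b₀
        rw [show ofL (1 : L).1 = trivChar ↥N from Subtype.ext (funext fun n => by simp [ofL])]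
        exact trivChar_mem_principal
      mul_mem' := fun {a b} ha hb => hb_mul a.1 b.1 ha hb
      inv_mem' := fun {a} ha => by
        show ofL (a⁻¹ : L).1 ∈ b₀
        rw [show (a⁻¹ : L) = a ^ (orderOf a - 1) from inv_eq_of_mul_eq_one_right (by
          rw [← pow_succ', Nat.sub_add_cancel (orderOf_pos a), pow_orderOf_eq_one])]
        have : ∀ m : ℕ, ofL (a ^ m : L).1 ∈ b₀ := by
          intro m
          induction m with
          | zero =>
            rw [pow_zero, show ofL (1 : L).1 = trivChar ↥N from Subtype.ext (funext fun n => by simp [ofL])]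
            exact trivChar_mem_principal
          | succ m ihm => rw [pow_succ]; exact hb_mul _ _ ihm ha
        exact this _ }
  set F := Finset.univ.filter fun χ : IrrCharacter N =>
    χ ∈ MulAction.fixedPoints (P : Subgroup G) (IrrCharacter N)
  set F1 := F.filter fun χ => χ ∈ b₀ ∧ dg χ = 1
  have hF1 : F1.card = Nat.card L0 := by
    rw [← Nat.card_eq_finsetCard]
    refine (Nat.card_congr (Equiv.ofBijective (fun l : L0 => (⟨ofL l.1.1, ?_⟩ : F1)) ⟨?_, ?_⟩)).symm
    · simp only [F1, F, Finset.mem_filter, Finset.mem_univ, true_and]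
      refine ⟨fun g => Subtype.ext ?_, l.2, ?_⟩
      · rw [hsmul, coe_cjIrr, conjFn_eq_comp]
        funext n
        show ((l.1.1 (MulAut.conjNormal (g : G)⁻¹ n) : ℂˣ) : ℂ) = _
        rw [l.1.2]
      · exact charDegree_eq (by simp [ofL])
    · intro a b h
      refine Subtype.ext (Subtype.ext (MonoidHom.ext fun n => Units.ext ?_))
      exact congrFun (congrArg (fun x : F1 => (x.1).1) h) n
    · rintro ⟨χ, hχ⟩
      simp only [F1, F, Finset.mem_filter, Finset.mem_univ, true_and] at hχ
      obtain ⟨l, hl⟩ := exists_hom_of_degree_one χ.2.isCharacter (by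
        rw [← coe_charDegree χ, show Cfsg.charDegree (χ : N → ℂ) = 1 from hχ.2.2, Nat.cast_one])
      have hlL : l ∈ L := fun g n => Units.ext (by
        have := congrFun (hfix χ hχ.1 g) n
        rw [conjFn_eq_comp, hl] at this
        exact this)
      have he : ofL l = χ := Subtype.ext hl.symm
      exact ⟨⟨⟨l, hlL⟩, show ofL l ∈ b₀ from he ▸ hχ.2.1⟩, Subtype.ext he⟩
  obtain ⟨χ, hχF, hχb, hχ1, hχp⟩ : ∃ χ ∈ F, χ ∈ b₀ ∧ dg χ ≠ 1 ∧ ¬ p ∣ dg χ := by
    by_contra hcon
    push Not at hcon
    have : (Nat.card L0 : ZMod p) = 0 := by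
      rw [← hF1, ← hsum, ← Finset.sum_filter_add_sum_filter_not F fun χ => χ ∈ b₀ ∧ dg χ = 1]
      have h0 : ∑ χ ∈ F with ¬ (χ ∈ b₀ ∧ dg χ = 1), ((w χ : ℕ) : ZMod p) = 0 :=
        Finset.sum_eq_zero fun χ hχ => by
          obtain ⟨h1, h2⟩ := Finset.mem_filter.mp hχ
          simp only [w]
          by_cases hb : χ ∈ b₀
          · rw [if_pos hb, ZMod.natCast_eq_zero_iff]
            exact dvd_pow (hcon χ h1 hb fun h => h2 ⟨hb, h⟩) two_ne_zero
          · rw [if_neg hb, Nat.cast_zero]
      rw [h0, add_zero, Finset.sum_congr rfl (g := fun _ => (1 : ZMod p)) fun χ hχ => by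
        obtain ⟨-, hb, h1⟩ := Finset.mem_filter.mp hχ
        simp [w, hb, h1]]
      simp [F1]
    exact hL (((ZMod.natCast_eq_zero_iff _ _).mp this).trans (Subgroup.card_subgroup_dvd_card L0))
  have hinv := hfix χ (Finset.mem_filter.mp hχF).2
  obtain ⟨D, hD, -⟩ := exists_detHom χ.2.isCharacter
  have hDinv : D ∈ L := fun g n => Units.ext (by
    rw [hD, hD]
    have := detChar_comp χ.2.isCharacter (MulAut.conjNormal g : N ≃* N).toMonoidHom n
    have hfun : (fun y => χ.1 ((MulAut.conjNormal g : N ≃* N).toMonoidHom y)) = χ.1 := by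
      exact (conjFn_eq_comp χ.1 g).symm.trans (hinv g)
    rw [hfun] at this
    exact this.symm)
  obtain ⟨η, hη, hηN⟩ := exists_extension_of_coprime χ.2 hinv (coe_charDegree χ).symm (m := Nat.card L)
    (fun n => by
      rw [← hD, ← Units.val_pow_eq_pow_val]
      have := congrArg Subtype.val (pow_card_eq_one' (x := (⟨D, hDinv⟩ : L)))
      have := DFunLike.congr_fun this n
      simp only [SubgroupClass.coe_pow, MonoidHom.pow_apply, OneMemClass.coe_one,
        MonoidHom.one_apply] at this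
      rw [this, Units.val_one])
    (by
      rw [hk]
      refine Nat.Coprime.pow_left k ?_
      rw [hp.coprime_iff_not_dvd]
      exact fun h => (hp.dvd_mul.mp h).elim hχp hL)
  have hdegη : Cfsg.charDegree η = dg χ := charDegree_eq (by
    have h1 := hηN 1
    rw [OneMemClass.coe_one] at h1
    rw [h1, coe_charDegree])
  have hreg : ∀ g : G, ¬ p ∣ orderOf g → g ∈ N := by
    intro g hg
    rw [← QuotientGroup.eq_one_iff, ← orderOf_eq_one_iff]
    have h1 : orderOf (g : G ⧸ N) ∣ p ^ k := hk ▸ (orderOf_dvd_natCard _)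
    have h2 : orderOf (g : G ⧸ N) ∣ orderOf g := orderOf_map_dvd (QuotientGroup.mk' N) g
    exact Nat.eq_one_of_dvd_coprimes (((hp.coprime_iff_not_dvd).mpr hg).pow_left k) h1 h2
  have hηmem : (⟨η, hη⟩ : IrrCharacter G) ∈ Cfsg.principalBlock M G := by
    refine mem_principal_of_sum_ne hM ?_
    have h1 := sum_regular_ne_zero hM hχb
    refine fun h0 => h1 (Eq.trans ?_ h0)
    symm
    rw [← Finset.sum_filter_add_sum_filter_not Finset.univ (fun x : G => x ∈ N)]
    rw [Finset.sum_eq_zero (s := Finset.univ.filter fun x : G => ¬ x ∈ N) (fun x hx => by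
      rw [if_pos]
      by_contra hxr
      exact (Finset.mem_filter.mp hx).2 (hreg x hxr)), add_zero, Finset.sum_subtype _ (p := (· ∈ N)) (by simp)]
    refine Finset.sum_congr rfl fun x _ => ?_
    by_cases hx : p ∣ orderOf x
    · rw [if_pos hx, if_pos (by rwa [Subgroup.orderOf_coe])]
    · rw [if_neg hx, if_neg (by rwa [Subgroup.orderOf_coe])]
      exact hηN x
  exact hχ1 (hdegη ▸ hdeg ⟨η, hη⟩ hηmem (hdegη.symm ▸ hχp))


/-- Let G be a finite group, p a prime and M a maximal ideal of the algebraic integers containing p. Then all height-zero irreducible characters of the principal p-block of G (equivalently, all its characters of degree prime to p) have the same degree if and only if G has a normal p-complement. -/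
theorem result {G : Type*} [Group G] [Finite G] (p : ℕ) [Fact p.Prime] (M : Ideal Cfsg.AlgInt) (hM : Cfsg.IsPModular p M) : (∃ d : ℕ, ∀ χ : Cfsg.IrrCharacter G, χ ∈ (Cfsg.principalBlock M G) → Cfsg.blockHeight p (Cfsg.principalBlock M G) (χ : G → ℂ) = 0 → Cfsg.charDegree (χ : G → ℂ) = d) ↔ Cfsg.HasNormalPComplement p G := by
  classical
  haveI := Fintype.ofFinite G
  haveI := hM.2.1.isPrime
  have hmin : sInf ((fun ψ : Cfsg.IrrCharacter G => (Cfsg.charDegree (ψ : G → ℂ)).factorization p) ''
      Cfsg.principalBlock M G) = 0 :=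
    Nat.le_zero.mp (Nat.sInf_le ⟨trivChar G, trivChar_mem_principal, by
      show (Cfsg.charDegree (trivChar G : G → ℂ)).factorization p = 0
      rw [charDegree_eq (χ := (trivChar G : G → ℂ)) (d := 1) (by simp), Nat.factorization_one]; rfl⟩)
  have hh : ∀ χ : Cfsg.IrrCharacter G, (Cfsg.blockHeight p (Cfsg.principalBlock M G) (χ : G → ℂ) = 0 ↔
      ¬ p ∣ Cfsg.charDegree (χ : G → ℂ)) := by
    intro χ
    rw [Cfsg.blockHeight, hmin, Nat.sub_zero, Nat.factorization_eq_zero_iff]
    simp [(Fact.out : p.Prime), (charDegree_pos χ).ne']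
  constructor
  · rintro ⟨d, hd⟩
    have h1 : Cfsg.charDegree (trivChar G : G → ℂ) = 1 := charDegree_eq (by simp)
    have hd1 : d = 1 := by
      rw [← hd (trivChar G) trivChar_mem_principal ((hh _).mpr (by rw [h1]; exact (Fact.out : p.Prime).not_dvd_one)), h1]
    obtain ⟨N, hNn, hcop, k, hk⟩ := complement_of_degrees hM fun χ hχ hp' => (hd χ hχ ((hh χ).mpr hp')).trans hd1
    haveI := hNn
    obtain ⟨P⟩ : Nonempty (Sylow p G) := inferInstance
    refine ⟨P, N, hNn, ?_⟩
    obtain ⟨a, ha⟩ := IsPGroup.iff_card.mp P.isPGroup'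
    have hPi : Nat.card (P : Subgroup G) = N.index := by
      rw [P.card_eq_multiplicity, hk]
      congr 1
      rw [← N.card_mul_index, hk, Nat.factorization_mul Nat.card_pos.ne' (pow_ne_zero _ (Fact.out : p.Prime).ne_zero),
        Finsupp.add_apply, Nat.factorization_eq_zero_of_not_dvd ((Fact.out : p.Prime).coprime_iff_not_dvd.mp hcop.symm),
        zero_add, Nat.Prime.factorization_pow Fact.out, Finsupp.single_eq_same]
    refine Subgroup.isComplement'_of_coprime ?_ ?_
    · rw [hPi, Subgroup.card_mul_index]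
    · rw [ha]; exact hcop.pow_right a
  · rintro ⟨P, N, hNn, hcompl⟩
    haveI := hNn
    refine ⟨1, fun χ hχ hheight => ?_⟩
    have hidx : N.index = Nat.card (P : Subgroup G) := hcompl.symm.index_eq_card
    obtain ⟨a, ha⟩ := IsPGroup.iff_card.mp P.isPGroup'
    have hNcop : (Nat.card N).Coprime p := by
      rw [Nat.coprime_comm, (Fact.out : p.Prime).coprime_iff_not_dvd, ← hcompl.index_eq_card]
      exact P.not_dvd_index
    haveI : (Cfsg.pPrimeCore p G).Normal := Subgroup.sSup_normal _ fun _ h => h.1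
    have hle : N ≤ Cfsg.pPrimeCore p G := Cfsg.Lib.Solv.le_pPrimeCore hNn hNcop
    have hKidx : ∃ k : ℕ, (Cfsg.pPrimeCore p G).index = p ^ k := by
      obtain ⟨j, -, hj⟩ := (Nat.dvd_prime_pow Fact.out).mp ((hidx.trans ha) ▸ Subgroup.index_dvd_of_le hle)
      exact ⟨j, hj⟩
    rw [principal_eq_of_complement hM hKidx] at hχ
    obtain ⟨θ, hθ⟩ := exists_descend (P := Cfsg.pPrimeCore p G) χ.2 hχ
    have hdq : Cfsg.charDegree (χ : G → ℂ) = Cfsg.charDegree (θ : G ⧸ Cfsg.pPrimeCore p G → ℂ) := by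
      refine charDegree_eq ?_
      rw [hθ, Function.comp_apply, QuotientGroup.mk_one, coe_charDegree]
    haveI : Fintype (G ⧸ Cfsg.pPrimeCore p G) := Fintype.ofFinite _
    obtain ⟨k, hk⟩ := hKidx
    have h1 : Cfsg.charDegree (χ : G → ℂ) ∣ p ^ k := by
      rw [hdq, ← hk, Subgroup.index_eq_card]
      exact charDegree_dvd_card θ
    obtain ⟨j, -, hj⟩ := (Nat.dvd_prime_pow Fact.out).mp h1
    rcases j with - | j
    · simpa using hj
    · exact absurd (hj ▸ dvd_pow_self p (Nat.succ_ne_zero j)) ((hh χ).mp hheight)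

end Cfsg.Agent.S4888
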