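import Cfsg.Statements.S4549
import Cfsg.Agent.S4888
import Cfsg.Agent.Lib.Characters.PowerConj
import Cfsg.Agent.Lib.Blocks.Kernel

set_option autoImplicit false
open Cfsg Cfsg.Lib.Characters Cfsg.Lib.Blocks
open scoped Classical ComplexConjugate

namespace Cfsg.Agent.S4549

universe u

/-- The exponent is prime to the group order. -/
theorem coprime_k {G : Type u} [Group G] [Finite G] {p : ℕ} [Fact p.Prime] (hp2 : p = 2) (k : ℕ)
    (hk₁ : ∀ g : G, (∃ j : ℕ, orderOf g = p ^ j) → g ^ k = g ^ 3) (hk₂ : ∀ g : G, ¬ p ∣ orderOf g → g ^ k = g) :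
    (Nat.card G).Coprime k := by
  refine Nat.coprime_of_dvd fun q hq hqG hqk => ?_
  haveI : Fact q.Prime := ⟨hq⟩
  obtain ⟨g, hg⟩ := exists_prime_orderOf_dvd_card' q hqG
  have h1 : g ^ k = 1 := orderOf_dvd_iff_pow_eq_one.mp (hg ▸ hqk)
  by_cases hqp : q = p
  · rw [hk₁ g ⟨1, by rw [hg, hqp, pow_one]⟩, ← orderOf_dvd_iff_pow_eq_one, hg, hqp, hp2] at h1
    omega
  · rw [hk₂ g (by rw [hg]; exact fun h => hqp ((Nat.prime_dvd_prime_iff_eq Fact.out hq).mp h).symm)] at h1
    rw [h1, orderOf_one] at hg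
    exact hq.ne_one hg.symm

/-- Iterating the power map a two-power number of times is the identity. -/
theorem sigma_period {G : Type u} [Group G] [Finite G] {p : ℕ} [Fact p.Prime] (hp2 : p = 2) (k : ℕ)
    (hk₁ : ∀ g : G, (∃ j : ℕ, orderOf g = p ^ j) → g ^ k = g ^ 3) (hk₂ : ∀ g : G, ¬ p ∣ orderOf g → g ^ k = g) :
    ∃ b : ℕ, ∀ g : G, g ^ k ^ p ^ b = g := by
  haveI := Fintype.ofFinite G
  refine ⟨(Nat.card G).factorization p, fun g => ?_⟩
  obtain ⟨x, y, hxy, hc, ⟨a, ha⟩, hy⟩ := exists_pPart_commute (p := p) g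
  have hab : a ≤ (Nat.card G).factorization p :=
    (Fact.out : p.Prime).pow_dvd_iff_le_factorization Nat.card_pos.ne' |>.mp (ha ▸ orderOf_dvd_natCard x)
  have hyk : ∀ m : ℕ, y ^ k ^ m = y := by
    intro m
    induction m with
    | zero => simp
    | succ m ih => rw [pow_succ, pow_mul, ih, hk₂ y hy]
  have hxk : ∀ m : ℕ, x ^ k ^ m = x ^ 3 ^ m := by
    intro m
    induction m with
    | zero => simp
    | succ m ih =>
      rw [pow_succ, pow_mul, ih, pow_succ, pow_mul]
      have hpx : IsPGroup p (Subgroup.zpowers x) := IsPGroup.of_card (n := a) (by rw [Nat.card_zpowers, ha])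
      obtain ⟨j, hj⟩ := (IsPGroup.iff_orderOf.mp hpx) ⟨x ^ 3 ^ m, Subgroup.npow_mem_zpowers x _⟩
      exact hk₁ _ ⟨j, by rw [← hj, Subgroup.orderOf_mk]⟩
  have h3 : x ^ 3 ^ p ^ (Nat.card G).factorization p = x := by
    have key : ∀ b : ℕ, 2 ^ b ∣ 3 ^ 2 ^ b - 1 := by
      intro b
      induction b with
      | zero => simp
      | succ b ih =>
        rw [pow_succ 2 b, pow_mul, show (3 ^ 2 ^ b) ^ 2 - 1 = (3 ^ 2 ^ b + 1) * (3 ^ 2 ^ b - 1) from by
          rw [← Nat.sq_sub_sq, one_pow], mul_comm (2 ^ b) 2]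
        refine Nat.mul_dvd_mul ?_ ih
        rw [← even_iff_two_dvd]
        exact (Odd.pow (by decide)).add_one
    have h1 : orderOf x ∣ 3 ^ p ^ (Nat.card G).factorization p - 1 := by
      rw [ha, hp2]
      exact (pow_dvd_pow 2 (hp2 ▸ hab)).trans (key _)
    obtain ⟨c, hc'⟩ := h1
    have h2 : 3 ^ p ^ (Nat.card G).factorization p = orderOf x * c + 1 := by
      have := Nat.one_le_pow (p ^ (Nat.card G).factorization p) 3 (by norm_num)
      omega
    rw [h2, pow_succ, pow_mul, pow_orderOf_eq_one, one_pow, one_mul]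
  rw [← hxy, hc.mul_pow, hyk, hxk, h3]

/-- The extension with determinant of order prime to `p` is fixed by the power map. -/
theorem canonical_extension {G : Type u} [Group G] [Fintype G] {p : ℕ} [Fact p.Prime] (hp2 : p = 2) (k : ℕ)
    {N : Subgroup G} [N.Normal] [Fintype N] {e : ℕ} (hidx : N.index = p ^ e) (hcop : (Nat.card G).Coprime k)
    (hk₁ : ∀ g : G, (∃ j : ℕ, orderOf g = p ^ j) → g ^ k = g ^ 3) (hk₂ : ∀ g : G, ¬ p ∣ orderOf g → g ^ k = g)
    {η : G → ℂ} (hη : IsIrrCharacter G η) {θ : N → ℂ} (hext : ∀ n : N, η n = θ n) {d : ℕ} (hd : θ 1 = d)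
    (hθ : IsIrrCharacter N θ) (m : ℕ) (hm : ¬ p ∣ m) (hdp : ¬ p ∣ d)
    (hdet : ∀ n : N, detChar θ n ^ m = 1) (hfix : ∀ n : N, θ (n ^ k) = θ n) :
    ∃ η' : G → ℂ, IsIrrCharacter G η' ∧ (∀ n : N, η' n = θ n) ∧ ∀ g : G, η' (g ^ k) = η' g := by
  have hη1 : η 1 = d := by
    have h1 := hext 1
    rw [OneMemClass.coe_one] at h1
    rw [h1, hd]
  obtain ⟨D, hD, -⟩ := exists_detHom hη.isCharacter
  have hDN : ∀ n : N, D (n : G) ^ m = 1 := by
    intro n
    apply Units.ext
    have h1 := detChar_comp hη.isCharacter N.subtype n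
    rw [show (fun y : N => η (N.subtype y)) = θ from funext hext] at h1
    rw [Units.val_pow_eq_pow_val, hD, Units.val_one]
    show detChar η (N.subtype n) ^ m = 1
    rw [← h1, hdet]
  have hcopE : Nat.Coprime (d * m) (p ^ e) :=
    (((Fact.out : p.Prime).coprime_iff_not_dvd.mpr fun h =>
      ((Fact.out : p.Prime).dvd_mul.mp h).elim hdp hm).symm).pow_right e
  obtain ⟨c, hc⟩ : ∃ c : ℕ, ∀ z : ℂˣ, z ^ p ^ e = 1 → z ^ (c * (d * m)) = z := by
    have hinj : ∀ z : ℂˣ, z ^ p ^ e = 1 → orderOf z ∣ p ^ e := fun z hz => orderOf_dvd_of_pow_eq_one hz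
    have hφ : 0 < (p ^ e).totient := Nat.totient_pos.mpr (pow_pos (Fact.out : p.Prime).pos e)
    refine ⟨(d * m) ^ ((p ^ e).totient - 1), fun z hz => ?_⟩
    rw [← pow_succ, Nat.sub_add_cancel hφ,
      pow_eq_pow_iff_modEq.mpr ((Nat.ModEq.pow_totient hcopE).of_dvd (hinj z hz)), pow_one]
  have hpe : ∀ g : G, g ^ p ^ e ∈ N := by
    intro g
    rw [← QuotientGroup.eq_one_iff, QuotientGroup.mk_pow, ← hidx, Subgroup.index_eq_card, pow_card_eq_one']
  let μ : G →* ℂˣ := ((D ^ (m * c)))⁻¹
  have hμN : ∀ n ∈ N, μ n = 1 := by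
    intro n hn
    show (D n ^ (m * c))⁻¹ = 1
    rw [pow_mul, hDN ⟨n, hn⟩, one_pow, inv_one]
  let η' : G → ℂ := fun g => (μ g : ℂ) * η g
  have hη' : IsIrrCharacter G η' := Cfsg.Lib.Blocks.isIrrCharacter_linear_mul μ hη
  have hext' : ∀ n : N, η' n = θ n := fun n => by
    show (μ n : ℂ) * η n = θ n
    rw [hμN n n.2, Units.val_one, one_mul, hext]
  obtain ⟨D', hD', -⟩ := exists_detHom hη'.isCharacter
  have hD'm : ∀ g : G, D' g ^ m = 1 := by
    intro g
    have h1 : D' g = μ g ^ d * D g := Units.ext (by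
      rw [hD', detChar_linear_mul hη.isCharacter hη1, Units.val_mul, Units.val_pow_eq_pow_val, hD])
    have hz : (D g ^ m) ^ p ^ e = 1 := by
      rw [← pow_mul, mul_comm, pow_mul, ← map_pow]
      exact hDN ⟨_, hpe g⟩
    rw [h1, mul_pow]
    show (((D g ^ (m * c))⁻¹) ^ d) ^ m * D g ^ m = 1
    rw [inv_pow, inv_pow, ← pow_mul, ← pow_mul, show m * c * (d * m) = m * (c * (d * m)) by ring, pow_mul,
      hc _ hz, inv_mul_cancel]
  refine ⟨η', hη', hext', fun g => ?_⟩
  have hσ : IsIrrCharacter G fun g => η' (g ^ k) := isIrrCharacter_comp_pow hη' hcop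
  obtain ⟨ν, hνN, hν⟩ := exists_linear_of_extensions hη' hσ (M := N)
    (fun n => by
      show η' ((n : G) ^ k) = η' n
      rw [show (n : G) ^ k = ((n ^ k : N) : G) from rfl, hext', hext', hfix])
    (by simpa only [hext'] using hθ)
  suffices hν1 : ν g = 1 by
    have := hν g
    rw [hν1, Units.val_one, one_mul] at this
    exact this.symm
  have hη'1 : η' 1 = d := by
    have h1 := hext' 1
    rw [OneMemClass.coe_one] at h1
    rw [h1, hd]
  have hdetσ : detChar (fun g => η' (g ^ k)) g = (D' g : ℂ) ^ k := by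
    have e1 := detChar_comp hσ.isCharacter (Subgroup.zpowers g).subtype ⟨g, Subgroup.mem_zpowers g⟩
    let pk : Subgroup.zpowers g →* G := (Subgroup.zpowers g).subtype.comp
      { toFun := fun x => x ^ k
        map_one' := one_pow k
        map_mul' := fun a b => by
          have hab : Commute a b := by
            obtain ⟨i, hi⟩ := Subgroup.mem_zpowers_iff.mp a.2
            obtain ⟨l, hl⟩ := Subgroup.mem_zpowers_iff.mp b.2
            exact Subtype.ext (by
              show (a : G) * b = b * a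
              rw [← hi, ← hl]; exact zpow_mul_comm g i l)
          exact hab.mul_pow k }
    have e2 := detChar_comp hη'.isCharacter pk ⟨g, Subgroup.mem_zpowers g⟩
    rw [← Units.val_pow_eq_pow_val, ← map_pow, hD']
    exact e1.symm.trans e2
  have h1 : (ν g : ℂ) ^ d * (D' g : ℂ) = (D' g : ℂ) ^ k := by
    rw [← hdetσ, hD', ← detChar_linear_mul hη'.isCharacter hη'1 ν g]
    exact congrFun (congrArg detChar (funext hν)) g
  have h2 : ν g ^ d * D' g = D' g ^ k := Units.ext (by push_cast; exact h1)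
  have h3 : ν g ^ (d * m) = 1 := by
    have h4 := congrArg (fun z => z ^ m) h2
    simp only [mul_pow, hD'm, mul_one, ← pow_mul] at h4
    rw [h4, mul_comm k m, pow_mul, hD'm, one_pow]
  have h4 : ν g ^ p ^ e = 1 := by rw [← map_pow]; exact hνN _ (hpe g)
  rw [← hc _ h4, mul_comm, pow_mul, h3, one_pow]

/-- The principal block is stable under conjugation by automorphisms of the group. -/
theorem cjIrr_mem_principal {G : Type u} [Group G] [Fintype G] {N : Subgroup G} [N.Normal] [Fintype N]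
    {p : ℕ} [Fact p.Prime] {M : Ideal Cfsg.AlgInt} [M.IsPrime] {θ : IrrCharacter N}
    (hθ : θ ∈ Cfsg.principalBlock M ↥N) (g : G) : cjIrr θ g ∈ Cfsg.principalBlock M ↥N := by
  have h := sameBlock_cjIrr (M := M) (θ := trivChar ↥N) (ψ := θ) hθ g
  rw [show cjIrr (trivChar ↥N) g = trivChar ↥N from Subtype.ext (funext fun n => rfl)] at h
  exact h

/-- If every fixed principal-block character of odd degree is linear there is a normal
`2`-complement. -/
theorem complement_of_fixed_degrees {G : Type u} [Group G] [Finite G] {p : ℕ} [Fact p.Prime] (hp2 : p = 2)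
    {M : Ideal Cfsg.AlgInt} (hM : Cfsg.IsPModular p M) (k' : ℕ)
    (hk₁ : ∀ g : G, (∃ j : ℕ, orderOf g = p ^ j) → g ^ k' = g ^ 3) (hk₂ : ∀ g : G, ¬ p ∣ orderOf g → g ^ k' = g)
    (hdeg : ∀ χ : IrrCharacter G, χ ∈ Cfsg.principalBlock M G → ¬ p ∣ Cfsg.charDegree (χ : G → ℂ) →
      (∀ g : G, (χ : G → ℂ) (g ^ k') = (χ : G → ℂ) g) →
      Cfsg.charDegree (χ : G → ℂ) = 1) :
    ∃ N : Subgroup G, N.Normal ∧ (Nat.card N).Coprime p ∧ ∃ k : ℕ, N.index = p ^ k := by
  classical
  haveI := hM.2.1.isPrime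
  have hp : p.Prime := Fact.out
  have hex : ∃ n, ∃ N : Subgroup G, N.Normal ∧ (∃ k : ℕ, N.index = p ^ k) ∧ Nat.card N = n :=
    ⟨_, ⊤, inferInstance, ⟨0, by simp⟩, rfl⟩
  obtain ⟨N, hN, ⟨k, hk⟩, hcard⟩ := Nat.find_spec hex
  haveI := hN
  refine ⟨N, hN, ?_, k, hk⟩
  rw [Nat.coprime_comm, hp.coprime_iff_not_dvd]
  intro hdvd
  have hord : ∀ l : N →* ℂˣ, (∀ (g : G) (n : N), l (MulAut.conjNormal g n) = l n) →
      l ^ p = 1 → l = 1 := by
    intro l hinv hl
    set K := l.ker.map N.subtype with hK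
    have hKn : K.Normal := by
      refine ⟨fun x hx g => ?_⟩
      obtain ⟨n, hn, rfl⟩ := hx
      refine ⟨MulAut.conjNormal g n, ?_, by simp [MulAut.conjNormal_apply]⟩
      rw [SetLike.mem_coe, MonoidHom.mem_ker, hinv]
      exact MonoidHom.mem_ker.mp hn
    have hpow : ∀ x : N, l x ^ p = 1 := fun x => by
      simpa using DFunLike.congr_fun hl x
    have hpg : IsPGroup p (N ⧸ l.ker) := fun q => ⟨1, by
      induction q using QuotientGroup.induction_on with
      | H z =>
        rw [pow_one, ← QuotientGroup.mk_pow, QuotientGroup.eq_one_iff, MonoidHom.mem_ker,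
          map_pow, hpow]⟩
    obtain ⟨j, hj⟩ := hpg.exists_card_eq
    have hidx : K.index = p ^ (j + k) := by
      rw [hK, Subgroup.index_map_subtype, pow_add, ← hj, hk, Subgroup.index_eq_card]
    have hge := Nat.find_min' hex ⟨K, hKn, ⟨_, hidx⟩, rfl⟩
    replace hge : Nat.card N ≤ Nat.card K := hcard.le.trans hge
    have hle : K ≤ N := Subgroup.map_subtype_le _
    have hKN : K = N := Subgroup.eq_of_le_of_card_ge hle hge
    ext n
    have : (n : G) ∈ K := by rw [hKN]; exact n.2
    obtain ⟨m, hm, hmn⟩ := this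
    rw [Subtype.ext hmn] at hm
    simpa using hm
  haveI := Fintype.ofFinite G
  haveI := Fintype.ofFinite N
  have hcopk : (Nat.card G).Coprime k' := coprime_k hp2 k' hk₁ hk₂
  have hcopN : (Nat.card N).Coprime k' := hcopk.coprime_dvd_left (Subgroup.card_subgroup_dvd_card N)
  let P : Sylow p G := default
  have hPN : (P : Subgroup G) ⊔ N = ⊤ := by
    have h1 : ((P : Subgroup G) ⊔ N).index ∣ (P : Subgroup G).index :=
      Subgroup.index_dvd_of_le le_sup_left
    have h2 : ((P : Subgroup G) ⊔ N).index ∣ p ^ k := hk ▸ Subgroup.index_dvd_of_le le_sup_right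
    have h3 : Nat.Coprime (p ^ k) (P : Subgroup G).index := by
      refine (Nat.Coprime.pow_left k ?_)
      rw [hp.coprime_iff_not_dvd]
      exact P.not_dvd_index
    exact Subgroup.index_eq_one.mp (Nat.eq_one_of_dvd_coprimes h3 h2 h1)
  letI act : MulAction (P : Subgroup G) (IrrCharacter N) :=
    { smul := fun g χ => cjIrr χ (g : G)⁻¹
      one_smul := fun χ => by
        show cjIrr χ ((1 : (P : Subgroup G)) : G)⁻¹ = χ
        rw [OneMemClass.coe_one, inv_one, cjIrr_one]
      mul_smul := fun a b χ => by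
        show cjIrr χ ((a * b : (P : Subgroup G)) : G)⁻¹ = cjIrr (cjIrr χ (b : G)⁻¹) (a : G)⁻¹
        rw [cjIrr_cjIrr, Subgroup.coe_mul, mul_inv_rev] }
  let σ : Equiv.Perm (IrrCharacter N) := Equiv.ofBijective
    (fun χ => ⟨fun n => (χ : N → ℂ) (n ^ k'), isIrrCharacter_comp_pow χ.2 hcopN⟩)
    (Finite.injective_iff_bijective.mp fun χ ψ h => Subtype.ext (funext fun n => by
      have h' := congrFun (congrArg Subtype.val h) ((powCoprime hcopN).symm n)
      simp only at h'
      rwa [show ((powCoprime hcopN).symm n) ^ k' = n from (powCoprime hcopN).apply_symm_apply n] at h'))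
  have hσapp : ∀ (χ : IrrCharacter N) (n : N), (σ χ : N → ℂ) n = (χ : N → ℂ) (n ^ k') := fun χ n => rfl
  have hσp : IsPGroup p (Subgroup.zpowers σ) := by
    obtain ⟨b, hb⟩ := sigma_period hp2 k' hk₁ hk₂
    have hpow : ∀ (m : ℕ) (χ : IrrCharacter N) (n : N), ((σ ^ m) χ : N → ℂ) n = (χ : N → ℂ) (n ^ k' ^ m) := by
      intro m
      induction m with
      | zero => intro χ n; rw [pow_zero, pow_zero, pow_one]; rfl
      | succ m ihm => intro χ n; rw [pow_succ, Equiv.Perm.mul_apply, ihm, hσapp, ← pow_mul, ← pow_succ]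
    have h1 : σ ^ p ^ b = 1 := Equiv.ext fun χ => Subtype.ext (funext fun n => by
      rw [hpow, Equiv.Perm.one_apply]
      exact congrArg (χ : N → ℂ) (Subtype.ext (by rw [SubmonoidClass.coe_pow, hb])))
    obtain ⟨j, -, hj⟩ := (Nat.dvd_prime_pow hp).mp (orderOf_dvd_of_pow_eq_one h1)
    exact IsPGroup.of_card (n := j) (by rw [Nat.card_zpowers, hj])
  have hsmul : ∀ (g : (P : Subgroup G)) (χ : IrrCharacter N), g • χ = cjIrr χ (g : G)⁻¹ := fun g χ => rfl
  have hfix : ∀ χ : IrrCharacter N, χ ∈ MulAction.fixedPoints (P : Subgroup G) (IrrCharacter N) →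
      ∀ g : G, conjFn N χ.1 g = χ.1 := by
    intro χ hχ g
    have hle : (P : Subgroup G) ⊔ N ≤ inertia N χ.1 := by
      refine sup_le (fun x hx => ?_) (le_inertia χ.2.isClassFunction)
      have := congrArg Subtype.val (hχ ⟨x⁻¹, inv_mem hx⟩)
      rw [hsmul, coe_cjIrr] at this
      rw [mem_inertia]
      simpa using this
    rw [hPN] at hle
    exact mem_inertia.mp (hle (Subgroup.mem_top g))
  set b₀ : Set (IrrCharacter N) := Cfsg.principalBlock M ↥N with hb₀
  let dg : IrrCharacter N → ℕ := fun χ => Cfsg.charDegree (χ : N → ℂ)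
  let w : IrrCharacter N → ℕ := fun χ => if χ ∈ b₀ then dg χ ^ 2 else 0
  -- the squares of the degrees in the principal block
  have hsum : ((∑ χ, w χ : ℕ) : ZMod p) = 0 := by
    rw [ZMod.natCast_eq_zero_iff]
    have hloc := (blockE_mem_locCenter (M := M) (isPBlock_principal (M := M) (G := ↥N))).2 (1 : N)
    rw [coeff_blockE, blockCoeff_eq] at hloc
    have hval : (Nat.card N : ℂ)⁻¹ * ∑ χ : IrrCharacter N,
        (if χ ∈ b₀ then (χ : N → ℂ) 1 * conj ((χ : N → ℂ) 1) else 0) = ((∑ χ, w χ : ℕ) : ℂ) / (Nat.card N : ℕ) := by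
      rw [div_eq_inv_mul, Nat.cast_sum]
      congr 1
      refine Finset.sum_congr rfl fun χ _ => ?_
      simp only [w, dg]
      split_ifs
      · rw [Nat.cast_pow, coe_charDegree, ← coe_charDegree χ, Complex.conj_natCast, sq]
      · rw [Nat.cast_zero]
    have hpos : (∑ χ, w χ) ≠ 0 := by
      intro h0
      have h1 := Finset.sum_eq_zero_iff.mp h0 (trivChar ↥N) (Finset.mem_univ _)
      simp only [w] at h1
      rw [if_pos trivChar_mem_principal] at h1
      exact pow_ne_zero 2 (charDegree_pos (trivChar ↥N)).ne' h1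
    have hmem : ((∑ χ, w χ : ℕ) : ℂ) / (Nat.card N : ℕ) ∈ locRing M := hval ▸ hloc
    have h2 := ((natDiv_mem_iff hM hpos Nat.card_pos.ne').1).mp hmem
    exact Nat.dvd_of_factorization_pos (by
      have := Nat.Prime.factorization_pos_of_dvd hp Nat.card_pos.ne' hdvd
      omega)
  have hσmem : ∀ χ : IrrCharacter N, σ χ ∈ b₀ ↔ χ ∈ b₀ := by
    intro χ
    have hreg : ∑ x : N, (if p ∣ orderOf x then 0 else (σ χ : N → ℂ) x)
        = ∑ x : N, (if p ∣ orderOf x then 0 else (χ : N → ℂ) x) := by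
      refine Finset.sum_congr rfl fun x _ => ?_
      by_cases hx : p ∣ orderOf x
      · rw [if_pos hx, if_pos hx]
      · rw [if_neg hx, if_neg hx, hσapp]
        exact congrArg _ (Subtype.ext (by rw [SubmonoidClass.coe_pow]; exact hk₂ x (by rwa [Subgroup.orderOf_coe])))
    exact ⟨fun h => mem_principal_of_sum_ne hM (hreg ▸ sum_regular_ne_zero hM h),
      fun h => mem_principal_of_sum_ne hM (hreg.symm ▸ sum_regular_ne_zero hM h)⟩
  have hwσ : ∀ χ, w (σ χ) = w χ := by
    intro χ
    have hd : dg (σ χ) = dg χ := charDegree_eq (by rw [hσapp, one_pow, coe_charDegree])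
    simp only [w, hd, hσmem χ]
  let S0 : Finset (IrrCharacter N) := Finset.univ.filter fun χ => σ χ = χ
  have hS0sum : ∑ χ, ((w χ : ℕ) : ZMod p) = ∑ χ, (if σ χ = χ then ((w χ : ℕ) : ZMod p) else 0) := by
    rw [sum_modEq_sum_fixed hσp (fun χ => ((w χ : ℕ) : ZMod p)) (fun g χ => by
      obtain ⟨i, hi⟩ := Subgroup.mem_zpowers_iff.mp g.2
      have : ∀ (i : ℤ) (χ : IrrCharacter N), w ((σ ^ i) χ) = w χ := by
        intro i
        induction i using Int.induction_on with
        | zero => intro χ; simp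
        | succ i ihi => intro χ; rw [zpow_add_one, Equiv.Perm.mul_apply, ihi, hwσ]
        | pred i ihi =>
          intro χ
          rw [zpow_sub_one, Equiv.Perm.mul_apply, ihi, ← hwσ (σ⁻¹ χ),
            show σ (σ⁻¹ χ) = χ from σ.apply_symm_apply χ]
      show ((w ((g : Equiv.Perm (IrrCharacter N)) χ) : ℕ) : ZMod p) = _
      rw [← hi, this]), Finset.sum_filter]
    refine Finset.sum_congr rfl fun χ _ => ?_
    congr 1
    apply propext
    constructor
    · exact fun h => h ⟨σ, Subgroup.mem_zpowers σ⟩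
    · rintro h ⟨g, hg⟩
      show g χ = χ
      obtain ⟨i, rfl⟩ := Subgroup.mem_zpowers_iff.mp hg
      exact (Subgroup.zpowers_le.mpr (show σ ∈ MulAction.stabilizer (Equiv.Perm (IrrCharacter N)) χ from h))
        (Subgroup.zpow_mem_zpowers σ i)
  rw [Nat.cast_sum, hS0sum, sum_modEq_sum_fixed P.isPGroup' (fun χ => if σ χ = χ then ((w χ : ℕ) : ZMod p) else 0)
    (fun g χ => by
      have hcomm : σ (g • χ) = g • σ χ := Subtype.ext (funext fun n => by
        rw [hσapp, hsmul, hsmul, coe_cjIrr, coe_cjIrr, conjFn_apply, conjFn_apply, hσapp]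
        exact congrArg χ.1 (Subtype.ext (by simp; simpa using (conj_pow (a := ((g : G))⁻¹) (b := (n : G)) (i := k')).symm)))
      have hiff : σ (g • χ) = g • χ ↔ σ χ = χ := by
        rw [hcomm]
        exact smul_left_cancel_iff g
      simp only [hiff]
      congr 2
      have hmem : g • χ ∈ b₀ ↔ χ ∈ b₀ := by
        rw [hsmul]
        refine ⟨fun h => ?_, fun h => cjIrr_mem_principal (p := p) h _⟩
        have := cjIrr_mem_principal (p := p) h (g : G)
        rwa [cjIrr_cjIrr, inv_mul_cancel, cjIrr_one] at this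
      have hd : dg (g • χ) = dg χ := by
        refine charDegree_eq ?_
        rw [hsmul, coe_cjIrr, conjFn_apply, coe_charDegree]
        exact congrArg χ.1 (Subtype.ext (by simp))
      simp only [w, hd, hmem])] at hsum
  let L : Subgroup (N →* ℂˣ) :=
    { carrier := {l | ∀ (g : G) (n : N), l (MulAut.conjNormal g n) = l n}
      one_mem' := fun _ _ => rfl
      mul_mem' := fun {a b} ha hb g n => by simp [ha g n, hb g n]
      inv_mem' := fun {a} ha g n => by simp [ha g n] }
  haveI : Finite (N →* ℂˣ) := by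
    refine Finite.of_injective (fun l => (⟨fun n => (l n : ℂ), isIrrCharacter_linear l⟩ :
      IrrCharacter N)) fun a b h => MonoidHom.ext fun n => Units.ext ?_
    exact congrFun (congrArg Subtype.val h) n
  have hL : ¬ p ∣ Nat.card L := by
    intro h
    obtain ⟨⟨l, hl⟩, hlo⟩ := exists_prime_orderOf_dvd_card' p h
    have h1 := hord l hl (by
      have := pow_orderOf_eq_one (⟨l, hl⟩ : L)
      rw [hlo] at this
      exact congrArg Subtype.val this)
    subst h1
    rw [show (⟨1, hl⟩ : L) = 1 from rfl, orderOf_one] at hlo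
    exact hp.ne_one hlo.symm
  let ofL : (N →* ℂˣ) → IrrCharacter N := fun l => ⟨fun n => (l n : ℂ), isIrrCharacter_linear l⟩
  have hb_mul : ∀ a b : N →* ℂˣ, ofL a ∈ b₀ → ofL b ∈ b₀ → ofL (a * b) ∈ b₀ := by
    intro a b ha hb
    refine (sameBlock_iff M (trivChar ↥N) _).mpr fun g => ?_
    have e : ∀ ψ : IrrCharacter N, (ψ : N → ℂ) 1 = 1 →
        centralChar (ψ : N → ℂ) g = ((Subgroup.centralizer ({g} : Set N)).index : ℂ) * (ψ : N → ℂ) g := by
      intro ψ h1; rw [centralChar, h1, div_one]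
    have ha1 := (sameBlock_iff M (trivChar ↥N) _).mp ha g
    have hb1 := (sameBlock_iff M (trivChar ↥N) _).mp hb g
    rw [ha1]
    rw [e (trivChar ↥N) (by simp), trivChar_apply, mul_one] at hb1
    rw [e (ofL a) (by simp [ofL]), e (ofL (a * b)) (by simp [ofL])]
    have hva := char_mem_locRing (G := ↥N) M (ofL a) g
    have hvb := char_mem_locRing (G := ↥N) M (ofL b) g
    rw [show (ofL (a * b) : N → ℂ) g = (ofL a : N → ℂ) g * (ofL b : N → ℂ) g by simp [ofL],
      show ((Subgroup.centralizer ({g} : Set N)).index : ℂ) * ((ofL a : N → ℂ) g * (ofL b : N → ℂ) g)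
        = (ofL a : N → ℂ) g * centralChar (ofL b : N → ℂ) g by rw [e (ofL b) (by simp [ofL])]; ring,
      red_mul hva (centralChar_mem_locRing (G := ↥N) M (ofL b) g), ← hb1, red_mul (natCast_mem _ _) hva]
    ring
  let L0 : Subgroup L :=
    { carrier := {l | ofL l.1 ∈ b₀}
      one_mem' := by
        show ofL (1 : L).1 ∈ b₀
        rw [show ofL (1 : L).1 = trivChar ↥N from Subtype.ext (funext fun n => by simp [ofL])]
        exact trivChar_mem_principal
      mul_mem' := fun {a b} ha hb => hb_mul a.1 b.1 ha hb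
      inv_mem' := fun {a} ha => by
        show ofL (a⁻¹ : L).1 ∈ b₀
        rw [show (a⁻¹ : L) = a ^ (orderOf a - 1) from inv_eq_of_mul_eq_one_right (by
          rw [← pow_succ', Nat.sub_add_cancel (orderOf_pos a), pow_orderOf_eq_one])]
        have : ∀ m : ℕ, ofL (a ^ m : L).1 ∈ b₀ := by
          intro m
          induction m with
          | zero =>
            rw [pow_zero, show ofL (1 : L).1 = trivChar ↥N from Subtype.ext (funext fun n => by simp [ofL])]
            exact trivChar_mem_principal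
          | succ m ihm => rw [pow_succ]; exact hb_mul _ _ ihm ha
        exact this _ }
  set F := Finset.univ.filter fun χ : IrrCharacter N =>
    χ ∈ MulAction.fixedPoints (P : Subgroup G) (IrrCharacter N)
  set F1 := F.filter fun χ => χ ∈ b₀ ∧ dg χ = 1
  have hLfix : ∀ l : N →* ℂˣ, l ∈ L → σ (ofL l) = ofL l := by
    intro l hl
    refine Subtype.ext (funext fun n => ?_)
    show ((l (n ^ k') : ℂˣ) : ℂ) = (l n : ℂˣ)
    obtain ⟨x, y, hxy, hc, hx, hy⟩ := exists_pPart_commute (p := p) (G := ↥N) n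
    have hlx : l x = 1 := by
      obtain ⟨a, ha⟩ := hx
      have h1 : l x ^ Nat.card L = 1 := by
        have := congrArg Subtype.val (pow_card_eq_one' (x := (⟨l, hl⟩ : L)))
        have := DFunLike.congr_fun this x
        simp only [SubgroupClass.coe_pow, MonoidHom.pow_apply, OneMemClass.coe_one,
          MonoidHom.one_apply] at this
        exact this
      have h2 : l x ^ p ^ a = 1 := by rw [← map_pow, ← ha, pow_orderOf_eq_one, map_one]
      have h3 := pow_gcd_eq_one.mpr ⟨h1, h2⟩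
      rwa [((hp.coprime_iff_not_dvd.mpr hL).symm.pow_right a).gcd_eq_one, pow_one] at h3
    rw [← hxy, hc.mul_pow, map_mul, map_mul, map_pow, hlx, one_pow, one_mul, one_mul,
      show y ^ k' = y from Subtype.ext (by
        rw [SubmonoidClass.coe_pow]; exact hk₂ y (by rwa [Subgroup.orderOf_coe]))]
  have hF1 : F1.card = Nat.card L0 := by
    rw [← Nat.card_eq_finsetCard]
    refine (Nat.card_congr (Equiv.ofBijective (fun l : L0 => (⟨ofL l.1.1, ?_⟩ : F1)) ⟨?_, ?_⟩)).symm
    · simp only [F1, F, Finset.mem_filter, Finset.mem_univ, true_and]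
      refine ⟨fun g => Subtype.ext ?_, l.2, ?_⟩
      · rw [hsmul, coe_cjIrr, conjFn_eq_comp]
        funext n
        show ((l.1.1 (MulAut.conjNormal (g : G)⁻¹ n) : ℂˣ) : ℂ) = _
        rw [l.1.2]
      · exact charDegree_eq (by simp [ofL])
    · intro a b h
      refine Subtype.ext (Subtype.ext (MonoidHom.ext fun n => Units.ext ?_))
      exact congrFun (congrArg (fun x : F1 => (x.1).1) h) n
    · rintro ⟨χ, hχ⟩
      simp only [F1, F, Finset.mem_filter, Finset.mem_univ, true_and] at hχ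
      obtain ⟨l, hl⟩ := exists_hom_of_degree_one χ.2.isCharacter (by
        rw [← coe_charDegree χ, show Cfsg.charDegree (χ : N → ℂ) = 1 from hχ.2.2, Nat.cast_one])
      have hlL : l ∈ L := fun g n => Units.ext (by
        have := congrFun (hfix χ hχ.1 g) n
        rw [conjFn_eq_comp, hl] at this
        exact this)
      have he : ofL l = χ := Subtype.ext hl.symm
      exact ⟨⟨⟨l, hlL⟩, show ofL l ∈ b₀ from he ▸ hχ.2.1⟩, Subtype.ext he⟩
  obtain ⟨χ, hχF, hχσ, hχb, hχ1, hχp⟩ : ∃ χ ∈ F, σ χ = χ ∧ χ ∈ b₀ ∧ dg χ ≠ 1 ∧ ¬ p ∣ dg χ := by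
    by_contra hcon
    push Not at hcon
    have : (Nat.card L0 : ZMod p) = 0 := by
      rw [← hF1, ← hsum, ← Finset.sum_filter_add_sum_filter_not F fun χ => χ ∈ b₀ ∧ dg χ = 1]
      have h0 : ∑ χ ∈ F with ¬ (χ ∈ b₀ ∧ dg χ = 1),
          (if σ χ = χ then ((w χ : ℕ) : ZMod p) else 0) = 0 :=
        Finset.sum_eq_zero fun χ hχ => by
          obtain ⟨h1, h2⟩ := Finset.mem_filter.mp hχ
          simp only [w]
          by_cases hs : σ χ = χ
          · rw [if_pos hs]
            by_cases hb : χ ∈ b₀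
            · rw [if_pos hb, ZMod.natCast_eq_zero_iff]
              exact dvd_pow (hcon χ h1 hs hb fun h => h2 ⟨hb, h⟩) two_ne_zero
            · rw [if_neg hb, Nat.cast_zero]
          · rw [if_neg hs]
      rw [h0, add_zero, Finset.sum_congr rfl (g := fun _ => (1 : ZMod p)) fun χ hχ => by
        obtain ⟨hχF', hb, h1⟩ := Finset.mem_filter.mp hχ
        obtain ⟨l, hl⟩ := exists_hom_of_degree_one χ.2.isCharacter (by
          rw [← coe_charDegree χ, show Cfsg.charDegree (χ : N → ℂ) = 1 from h1, Nat.cast_one])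
        have hlL : l ∈ L := fun g n => Units.ext (by
          have := congrFun (hfix χ (Finset.mem_filter.mp hχF').2 g) n
          rw [conjFn_eq_comp, hl] at this
          exact this)
        have hfx : σ χ = χ := by rw [show χ = ofL l from Subtype.ext hl]; exact hLfix l hlL
        simp [w, hb, h1, hfx]]
      simp [F1]
    exact hL (((ZMod.natCast_eq_zero_iff _ _).mp this).trans (Subgroup.card_subgroup_dvd_card L0))
  have hinv := hfix χ (Finset.mem_filter.mp hχF).2
  obtain ⟨D, hD, -⟩ := exists_detHom χ.2.isCharacter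
  have hDinv : D ∈ L := fun g n => Units.ext (by
    rw [hD, hD]
    have := detChar_comp χ.2.isCharacter (MulAut.conjNormal g : N ≃* N).toMonoidHom n
    have hfun : (fun y => χ.1 ((MulAut.conjNormal g : N ≃* N).toMonoidHom y)) = χ.1 := by
      exact (conjFn_eq_comp χ.1 g).symm.trans (hinv g)
    rw [hfun] at this
    exact this.symm)
  obtain ⟨η, hη, hηN⟩ := exists_extension_of_coprime χ.2 hinv (coe_charDegree χ).symm (m := Nat.card L)
    (fun n => by
      rw [← hD, ← Units.val_pow_eq_pow_val]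
      have := congrArg Subtype.val (pow_card_eq_one' (x := (⟨D, hDinv⟩ : L)))
      have := DFunLike.congr_fun this n
      simp only [SubgroupClass.coe_pow, MonoidHom.pow_apply, OneMemClass.coe_one,
        MonoidHom.one_apply] at this
      rw [this, Units.val_one])
    (by
      rw [hk]
      refine Nat.Coprime.pow_left k ?_
      rw [hp.coprime_iff_not_dvd]
      exact fun h => (hp.dvd_mul.mp h).elim hχp hL)
  obtain ⟨η', hη', hη'N, hη'σ⟩ := canonical_extension hp2 k' hk hcopk hk₁ hk₂ hη (fun n => hηN n)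
    (coe_charDegree χ).symm χ.2 (Nat.card L) (fun h => hL h) hχp
    (fun n => by
      have := congrArg Subtype.val (pow_card_eq_one' (x := (⟨D, hDinv⟩ : L)))
      have := DFunLike.congr_fun this n
      simp only [SubgroupClass.coe_pow, MonoidHom.pow_apply, OneMemClass.coe_one,
        MonoidHom.one_apply] at this
      rw [← hD, ← Units.val_pow_eq_pow_val, this, Units.val_one])
    (fun n => congrFun (congrArg Subtype.val hχσ) n)
  clear hηN hη
  obtain ⟨hη, hηN⟩ : IsIrrCharacter G η' ∧ ∀ n : N, η' n = (χ : N → ℂ) n := ⟨hη', hη'N⟩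
  have hdegη : Cfsg.charDegree η' = dg χ := charDegree_eq (by
    have h1 := hηN 1
    rw [OneMemClass.coe_one] at h1
    rw [h1, coe_charDegree])
  have hreg : ∀ g : G, ¬ p ∣ orderOf g → g ∈ N := by
    intro g hg
    rw [← QuotientGroup.eq_one_iff, ← orderOf_eq_one_iff]
    have h1 : orderOf (g : G ⧸ N) ∣ p ^ k := hk ▸ (orderOf_dvd_natCard _)
    have h2 : orderOf (g : G ⧸ N) ∣ orderOf g := orderOf_map_dvd (QuotientGroup.mk' N) g
    exact Nat.eq_one_of_dvd_coprimes (((hp.coprime_iff_not_dvd).mpr hg).pow_left k) h1 h2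
  have hηmem : (⟨η', hη⟩ : IrrCharacter G) ∈ Cfsg.principalBlock M G := by
    refine mem_principal_of_sum_ne hM ?_
    have h1 := sum_regular_ne_zero hM hχb
    refine fun h0 => h1 (Eq.trans ?_ h0)
    symm
    rw [← Finset.sum_filter_add_sum_filter_not Finset.univ (fun x : G => x ∈ N)]
    rw [Finset.sum_eq_zero (s := Finset.univ.filter fun x : G => ¬ x ∈ N) (fun x hx => by
      rw [if_pos]
      by_contra hxr
      exact (Finset.mem_filter.mp hx).2 (hreg x hxr)), add_zero, Finset.sum_subtype _ (p := (· ∈ N)) (by simp)]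
    refine Finset.sum_congr rfl fun x _ => ?_
    by_cases hx : p ∣ orderOf x
    · rw [if_pos hx, if_pos (by rwa [Subgroup.orderOf_coe])]
    · rw [if_neg hx, if_neg (by rwa [Subgroup.orderOf_coe])]
      exact hηN x
  exact hχ1 (hdegη ▸ hdeg ⟨η', hη⟩ hηmem (hdegη.symm ▸ hχp) hη'σ)



/-- Let G be a finite group and M a maximal ideal of the algebraic integers containing 2. Let k be a natural number with g ^ k = g ^ 3 for every 2-element g and g ^ k = g for every element g of odd order (such k exist); an irreducible character χ is unchanged by g ↦ g ^ k exactly when it is fixed by the field automorphism that cubes the 2-power roots of unity and fixes the roots of unity of odd order. Then G has a normal 2-complement if and only if every member χ of the principal 2-block of odd degree with χ (g ^ k) = χ g for all g has degree one. -/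
theorem result {G : Type*} [Group G] [Finite G] (M : Ideal Cfsg.AlgInt) (hM : Cfsg.IsPModular 2 M) (k : ℕ) (hk₁ : ∀ g : G, (∃ j : ℕ, orderOf g = 2 ^ j) → g ^ k = g ^ 3) (hk₂ : ∀ g : G, Odd (orderOf g) → g ^ k = g) : Cfsg.HasNormalPComplement 2 G ↔ ∀ χ ∈ Cfsg.principalBlock M G, Odd (Cfsg.charDegree (χ : G → ℂ)) → (∀ g : G, (χ : G → ℂ) (g ^ k) = (χ : G → ℂ) g) → Cfsg.charDegree (χ : G → ℂ) = 1 := by
  classical
  haveI : Fact (Nat.Prime 2) := ⟨Nat.prime_two⟩
  haveI := Fintype.ofFinite G
  haveI := hM.2.1.isPrime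
  have hodd : ∀ n : ℕ, Odd n ↔ ¬ 2 ∣ n := fun n => by rw [← Nat.not_even_iff_odd, even_iff_two_dvd]
  have hmin : sInf ((fun ψ : Cfsg.IrrCharacter G => (Cfsg.charDegree (ψ : G → ℂ)).factorization 2) ''
      Cfsg.principalBlock M G) = 0 :=
    Nat.le_zero.mp (Nat.sInf_le ⟨trivChar G, trivChar_mem_principal, by
      show (Cfsg.charDegree (trivChar G : G → ℂ)).factorization 2 = 0
      rw [charDegree_eq (χ := (trivChar G : G → ℂ)) (d := 1) (by simp), Nat.factorization_one]; rfl⟩)
  have hh : ∀ χ : Cfsg.IrrCharacter G, (Cfsg.blockHeight 2 (Cfsg.principalBlock M G) (χ : G → ℂ) = 0 ↔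
      ¬ 2 ∣ Cfsg.charDegree (χ : G → ℂ)) := by
    intro χ
    rw [Cfsg.blockHeight, hmin, Nat.sub_zero, Nat.factorization_eq_zero_iff]
    simp [Nat.prime_two, (charDegree_pos χ).ne']
  have h1 : Cfsg.charDegree (trivChar G : G → ℂ) = 1 := charDegree_eq (by simp)
  constructor
  · intro hnc χ hχ hoddχ _
    obtain ⟨d, hd⟩ := (Cfsg.Agent.S4888.result 2 M hM).mpr hnc
    rw [hd χ hχ ((hh χ).mpr ((hodd _).mp hoddχ)),
      ← hd (trivChar G) trivChar_mem_principal ((hh _).mpr (by rw [h1]; exact Nat.prime_two.not_dvd_one)), h1]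
  · intro hdeg
    obtain ⟨N, hNn, hcop, e, he⟩ := complement_of_fixed_degrees rfl hM k hk₁
      (fun g hg => hk₂ g ((hodd _).mpr hg)) (fun χ hχ hp' hf => hdeg χ hχ ((hodd _).mpr hp') hf)
    haveI := hNn
    obtain ⟨P⟩ : Nonempty (Sylow 2 G) := inferInstance
    refine ⟨P, N, hNn, ?_⟩
    obtain ⟨a, ha⟩ := IsPGroup.iff_card.mp P.isPGroup'
    have hPi : Nat.card (P : Subgroup G) = N.index := by
      rw [P.card_eq_multiplicity, he]
      congr 1
      rw [← N.card_mul_index, he, Nat.factorization_mul Nat.card_pos.ne' (pow_ne_zero _ two_ne_zero),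
        Finsupp.add_apply, Nat.factorization_eq_zero_of_not_dvd (Nat.prime_two.coprime_iff_not_dvd.mp hcop.symm),
        zero_add, Nat.Prime.factorization_pow Nat.prime_two, Finsupp.single_eq_same]
    refine Subgroup.isComplement'_of_coprime ?_ ?_
    · rw [hPi, Subgroup.card_mul_index]
    · rw [ha]; exact hcop.pow_right a

end Cfsg.Agent.S4549
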