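import Cfsg.Statements.S4627
import Cfsg.Agent.Lib.Blocks.WreathAbelianization
import Cfsg.Agent.Lib.Classical.SylowLargePrime

set_option autoImplicit false
open Cfsg

namespace Cfsg.Agent.S4627

open scoped commutatorElement
open Matrix Equiv Cfsg.Lib.Blocks.WreathAb

universe v

theorem sq_mem_of_action {G : Type v} {A B : Type*} [Group G] [Finite G] [Group A] [Group B] [Finite A] [Finite B]
    (fA : A →* G) (fB : B →* G) (hA : IsPGroup 2 A) (hB : IsPGroup 2 B)
    (act : B → A → A) (hconj : ∀ b a, fB b * fA a * (fB b)⁻¹ = fA (act b a)) (hinj : Function.Injective fA)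
    (hdisj : ∀ a b, fA a = fB b → b = 1)
    (hcard : Nat.card A * Nat.card B = 2 ^ (Nat.card G).factorization 2)
    (hsqA : ∀ {H : Type v} [Group H] (f : A →* H) (g : B →* H), (∀ b a, g b * f a * (g b)⁻¹ = f (act b a)) → ∀ a, (f a) ^ 2 ∈ commutator H)
    (hsqB : ∀ b : B, b ^ 2 ∈ commutator B) (P : Sylow 2 G) (x : (P : Subgroup G)) :
    x ^ 2 ∈ commutator (P : Subgroup G) := by
  haveI := Fact.mk Nat.prime_two
  have hnorm : fB.range ≤ Subgroup.normalizer (fA.range : Set G) := by
    rintro _ ⟨b, rfl⟩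
    rw [Subgroup.mem_normalizer_iff]
    refine fun h => ⟨?_, fun hh => ?_⟩
    · rintro ⟨a, rfl⟩; exact ⟨_, (hconj b a).symm⟩
    · obtain ⟨a, ha⟩ := hh
      have h2 := hconj b⁻¹ a
      rw [ha, map_inv] at h2
      refine ⟨act b⁻¹ a, ?_⟩
      rw [← h2]; group
  set S := fA.range ⊔ fB.range
  have hS : IsPGroup 2 S := (hA.of_surjective fA.rangeRestrict fA.rangeRestrict_surjective).to_sup_of_normal_left'
    (hB.of_surjective fB.rangeRestrict fB.rangeRestrict_surjective) hnorm
  have hle : Nat.card A * Nat.card B ≤ Nat.card S := by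
    rw [← Nat.card_prod]
    refine Nat.card_le_card_of_injective (fun z => (⟨fA z.1 * fB z.2, Subgroup.mul_mem_sup ⟨_, rfl⟩ ⟨_, rfl⟩⟩ : S)) ?_
    rintro ⟨a, b⟩ ⟨a', b'⟩ h
    have h2 : fA a * fB b = fA a' * fB b' := congrArg Subtype.val h
    have h1 : fA (a'⁻¹ * a) = fB (b' * b⁻¹) := by
      rw [map_mul, map_mul, map_inv, map_inv, inv_mul_eq_iff_eq_mul, ← mul_assoc, eq_mul_inv_iff_mul_eq]
      exact h2
    have hb : b' = b := mul_inv_eq_one.mp (hdisj _ _ h1)
    subst hb
    rw [hinj (mul_right_cancel h2)]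
  obtain ⟨m, hm⟩ := IsPGroup.iff_card.mp hS
  have hSyl : Nat.card S = 2 ^ (Nat.card G).factorization 2 := by
    refine le_antisymm ?_ (hcard ▸ hle)
    rw [hm]
    exact Nat.pow_le_pow_right two_pos ((Nat.prime_two.pow_dvd_iff_le_factorization Nat.card_pos.ne').mp (hm ▸ S.card_subgroup_dvd_card))
  let S' : Sylow 2 G := Sylow.ofCard S hSyl
  let K : Subgroup S := ((powMonoidHom 2).comp Abelianization.of : S →* Abelianization S).ker
  have hSK : S ≤ K.map S.subtype := by
    refine sup_le ?_ ?_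
    · rintro _ ⟨a, rfl⟩
      let g : A →* S := fA.codRestrict S fun a => Subgroup.mem_sup_left ⟨a, rfl⟩
      let g' : B →* S := fB.codRestrict S fun b => Subgroup.mem_sup_right ⟨b, rfl⟩
      refine ⟨g a, ?_, rfl⟩
      show (Abelianization.of (g a)) ^ 2 = 1
      rw [← map_pow, ← MonoidHom.mem_ker, Abelianization.ker_of]
      exact hsqA g g' (fun b a => Subtype.ext (hconj b a)) a
    · rintro _ ⟨b, rfl⟩
      let g : B →* S := fB.codRestrict S fun b => Subgroup.mem_sup_right ⟨b, rfl⟩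
      refine ⟨g b, ?_, rfl⟩
      show (Abelianization.of (g b)) ^ 2 = 1
      rw [← map_pow, ← MonoidHom.mem_ker, Abelianization.ker_of]
      exact Cfsg.Agent.S4624.sq_transfer g (hsqB b)
  have htop : ∀ y : S, y ^ 2 ∈ commutator S := by
    intro y
    obtain ⟨z, hz, hzy⟩ := hSK y.2
    obtain rfl := Subtype.ext hzy
    rw [← Abelianization.ker_of, MonoidHom.mem_ker, map_pow]
    exact hz
  let f := S'.equiv P
  have h := Cfsg.Agent.S4624.sq_transfer f.toMonoidHom (htop (f.symm x))
  rwa [show f.toMonoidHom (f.symm x) = x from f.apply_symm_apply x] at h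


variable {F : Type*} [Field F] [Fintype F] [DecidableEq F] {m : ℕ}

section Phi

variable {R U : Type*} [Group R] [CommGroup U]

/-- Spreading a vector to product one, then taking diagonal elements. -/
noncomputable def phiHom (d : U →* R) (i₀ : Fin m) : (Fin m → U) →* (Fin m → R) :=
  MonoidHom.mk' (fun (v : Fin m → U) k => d ((v / Pi.mulSingle i₀ (∏ i, v i) : Fin m → U) k)) fun v w => funext fun k => by
    show d _ = d _ * d _
    rw [← map_mul, show (∏ i, (v * w) i) = (∏ i, v i) * ∏ i, w i from Finset.prod_mul_distrib, Pi.mulSingle_mul,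
      mul_div_mul_comm, Pi.mul_apply]

theorem phiHom_apply (d : U →* R) (i₀ : Fin m) (v : Fin m → U) (k : Fin m) :
    phiHom d i₀ v k = d ((v / Pi.mulSingle i₀ (∏ i, v i) : Fin m → U) k) := rfl

theorem prod_phiHom (e : R →* U) (d : U →* R) (hed : ∀ u, e (d u) = u) (i₀ : Fin m) (v : Fin m → U) :
    ∏ i, e (phiHom d i₀ v i) = 1 := by
  simp only [phiHom_apply, hed, Pi.div_apply, Finset.prod_div_distrib]
  rw [Finset.prod_pi_mulSingle' i₀ _ Finset.univ, if_pos (Finset.mem_univ _), div_self']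

theorem phiHom_swap (d : U →* R) (i₀ i : Fin m) (u : U) (σ : Perm (Fin m)) (hσi : σ i = i₀) (hσk : σ i₀ = i) (k : Fin m) :
    phiHom d i₀ (Pi.mulSingle i u) (σ⁻¹ k) = (phiHom d i₀ (Pi.mulSingle i u) k)⁻¹ := by
  simp only [phiHom_apply]
  rw [Finset.prod_pi_mulSingle' i u Finset.univ, if_pos (Finset.mem_univ _), ← map_inv]
  congr 1
  by_cases hi : i = i₀
  · subst hi; simp
  have e1 : σ⁻¹ i₀ = i := by rw [Equiv.Perm.inv_eq_iff_eq]; exact hσi.symm
  have e2 : σ⁻¹ i = i₀ := by rw [Equiv.Perm.inv_eq_iff_eq]; exact hσk.symm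
  by_cases hki : k = i
  · subst hki; simp [e2, hi, Ne.symm hi]
  · by_cases hk0 : k = i₀
    · subst hk0; simp [e1, hi, Ne.symm hi]
    · have n1 : σ⁻¹ k ≠ i := fun e => hk0 (σ⁻¹.injective (e.trans e1.symm))
      have n2 : σ⁻¹ k ≠ i₀ := fun e => hki (σ⁻¹.injective (e.trans e2.symm))
      rw [Pi.div_apply, Pi.div_apply, Pi.mulSingle_eq_of_ne n1, Pi.mulSingle_eq_of_ne n2, Pi.mulSingle_eq_of_ne hki, Pi.mulSingle_eq_of_ne hk0, div_one, inv_one]

end Phi

theorem det_blockMon (a : Fin m → GL (Fin 2) F) :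
    (blockMon a).det = ∏ i, (Matrix.GeneralLinearGroup.det (a i) : F) := by
  let e : Fin m ⊕ Fin m ≃ Fin 2 × Fin m :=
    { toFun := Sum.elim (fun i => (0, i)) (fun i => (1, i))
      invFun := fun x => if x.1 = 0 then Sum.inl x.2 else Sum.inr x.2
      left_inv := by rintro (i | i) <;> simp
      right_inv := by rintro ⟨j, i⟩; fin_cases j <;> simp }
  have h : blockMon a = (blockDiagonal fun k => (a k : Matrix (Fin 2) (Fin 2) F)).submatrix e e := by
    ext (i | i) (j | j) <;> simp [blockMon, e, Matrix.blockDiagonal_apply, Matrix.diagonal_apply]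
  rw [h, Matrix.det_submatrix_equiv_self, Matrix.det_blockDiagonal]
  exact Finset.prod_congr rfl fun i _ => rfl

theorem det_permMon (σ : Perm (Fin m)) : (permMon σ : Matrix (Fin m ⊕ Fin m) (Fin m ⊕ Fin m) F).det = 1 := by
  show (fromBlocks (σ⁻¹.permMatrix F) 0 0 (σ⁻¹.permMatrix F)).det = 1
  rw [det_fromBlocks_zero₂₁, det_permutation, ← Int.cast_mul, Int.units_coe_mul_self, Int.cast_one]

/-- Reindexing into the special linear group. -/
noncomputable def toSL {A : Type*} [Group A] (f : A →* Matrix (Fin m ⊕ Fin m) (Fin m ⊕ Fin m) F) (h : ∀ a, (f a).det = 1) :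
    A →* SpecialLinearGroup (Fin (2 * m)) F :=
  MonoidHom.mk' (fun a => ⟨Matrix.reindex (Fintype.equivFinOfCardEq (α := Fin m ⊕ Fin m) (by simp; ring))
      (Fintype.equivFinOfCardEq (α := Fin m ⊕ Fin m) (by simp; ring)) (f a), by rw [Matrix.det_reindex_self, h]⟩)
    fun a b => Subtype.ext (by
      show _ = (_ : Matrix _ _ F) * _
      simp [Matrix.submatrix_mul_equiv])

theorem toSL_inj {A B : Type*} [Group A] [Group B] (f : A →* Matrix (Fin m ⊕ Fin m) (Fin m ⊕ Fin m) F) (hf : ∀ a, (f a).det = 1)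
    (g : B →* Matrix (Fin m ⊕ Fin m) (Fin m ⊕ Fin m) F) (hg : ∀ a, (g a).det = 1) {a : A} {b : B}
    (h : toSL f hf a = toSL g hg b) : f a = g b :=
  (Matrix.reindex _ _).injective (congrArg Subtype.val h)

/-- The diagonal element with given first entry. -/
noncomputable def diagOne : Fˣ →* GL (Fin 2) F :=
  MonoidHom.mk' (fun u => Matrix.GeneralLinearGroup.mkOfDetNeZero !![(u : F), 0; 0, 1] (by simp)) fun u w => Units.ext (by
    ext i j; fin_cases i <;> fin_cases j <;> simp [Matrix.GeneralLinearGroup.mkOfDetNeZero, Matrix.mul_apply, Fin.sum_univ_two])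

theorem det_diagOne (u : Fˣ) : Matrix.GeneralLinearGroup.det (diagOne u) = u :=
  Units.ext (by simp [diagOne, Matrix.GeneralLinearGroup.mkOfDetNeZero, Matrix.det_fin_two])

theorem val_odd (q : ℕ) (hq : Odd q) (h1 : 1 < q) (k : ℕ) : padicValNat 2 (q ^ (2 * k + 1) - 1) = padicValNat 2 (q - 1) := by
  haveI := Fact.mk Nat.prime_two
  obtain ⟨s, hs, hso⟩ : ∃ s, q ^ (2 * k + 1) - 1 = (q - 1) * s ∧ Odd s := by
    induction k with
    | zero => exact ⟨1, by simp, odd_one⟩
    | succ k ih =>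
      obtain ⟨s, hs, hso⟩ := ih
      refine ⟨q ^ 2 * s + (q + 1), ?_, ((hq.pow).mul hso).add_even (hq.add_odd odd_one)⟩
      obtain ⟨c, rfl⟩ : ∃ c, q = c + 1 := ⟨q - 1, by omega⟩
      have h2 : (c + 1) ^ (2 * k + 1) = c * s + 1 := by
        have := Nat.one_le_pow (2 * k + 1) (c + 1) (by omega)
        simp at hs
        omega
      rw [show 2 * (k + 1) + 1 = (2 * k + 1) + 2 by ring, pow_add, h2, Nat.add_sub_cancel]
      rw [show (c * s + 1) * (c + 1) ^ 2 = c * ((c + 1) ^ 2 * s + (c + 1 + 1)) + 1 by ring, Nat.add_sub_cancel]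
  rw [hs, padicValNat.mul (by omega) hso.pos.ne', padicValNat.eq_zero_of_not_dvd (fun h => Nat.not_even_iff_odd.mpr hso (even_iff_two_dvd.mpr h)), add_zero]

theorem val_GL_even (hq : Odd (Fintype.card F)) : ∀ m : ℕ,
    padicValNat 2 (Nat.card (GL (Fin (2 * m)) F)) =
      m * (2 * padicValNat 2 (Fintype.card F - 1) + padicValNat 2 (Fintype.card F + 1)) + padicValNat 2 m.factorial := by
  haveI := Fact.mk Nat.prime_two
  set q := Fintype.card F with hqd
  have h1q : 1 < q := Fintype.one_lt_card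
  have hstep : ∀ k : ℕ, padicValNat 2 (Nat.card (GL (Fin (k + 1)) F)) =
      padicValNat 2 (Nat.card (GL (Fin k) F)) + padicValNat 2 (q ^ (k + 1) - 1) := by
    intro k
    have h : Nat.card (GL (Fin (k + 1)) F) = (q ^ (k + 1) - 1) * (q ^ k * Nat.card (GL (Fin k) F)) := by
      rw [Matrix.card_GL_field, Matrix.card_GL_field, Fin.prod_univ_succ]
      congr 1
      trans ∏ i : Fin k, q * (q ^ k - q ^ (i : ℕ))
      · refine Finset.prod_congr rfl fun i _ => ?_
        simp only [hqd, Fin.val_succ, pow_succ, Nat.mul_sub]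
        ring_nf
      · rw [Finset.prod_mul_distrib, Finset.prod_const, Finset.card_univ, Fintype.card_fin]
    have hne : q ^ (k + 1) - 1 ≠ 0 := by
      have := Nat.one_lt_pow (show k + 1 ≠ 0 by omega) h1q; omega
    rw [h, padicValNat.mul hne (mul_ne_zero (pow_ne_zero _ (by omega)) Nat.card_pos.ne'),
      padicValNat.mul (pow_ne_zero _ (by omega)) Nat.card_pos.ne',
      padicValNat.eq_zero_of_not_dvd (fun h => Nat.not_even_iff_odd.mpr hq.pow (even_iff_two_dvd.mpr h) : ¬ 2 ∣ q ^ k)]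
    ring
  intro m
  induction m with
  | zero => rw [Matrix.card_GL_field]; simp
  | succ k ih =>
    rw [show 2 * (k + 1) = (2 * k + 1) + 1 by ring, hstep, hstep, val_odd q hq h1q, ih, show 2 * k + 1 + 1 = 2 * (k + 1) by ring,
      Nat.factorial_succ, padicValNat.mul (by omega) k.factorial_ne_zero]
    obtain ⟨c, hc⟩ := hq
    have h := padicValNat.pow_two_sub_pow (x := q) (y := 1) h1q (by omega) (by omega) (n := 2 * (k + 1)) (by omega) (even_two_mul _)
    rw [one_pow, padicValNat.mul (by norm_num) (by omega), padicValNat_self] at h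
    rw [add_mul, one_mul]
    omega


set_option maxHeartbeats 1000000 in
/-- Let F be a finite field of odd order q and m ≥ 1. If 4 divides q + 1, or if 4 divides q − 1 and m is a power of 2, then a Sylow 2-subgroup P of SL_{2m}(F) has P/P' elementary abelian: the square of every element of P lies in the derived subgroup of P. -/
theorem result {F : Type*} [Field F] [Fintype F] (hF : Odd (Fintype.card F)) (m : ℕ) (hm : 1 ≤ m)
    (hq : 4 ∣ Fintype.card F + 1 ∨ (4 ∣ Fintype.card F - 1 ∧ ∃ j : ℕ, m = 2 ^ j)) (P : Sylow 2 (Matrix.SpecialLinearGroup (Fin (2 * m)) F)) :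
    ∀ x : (P : Subgroup (Matrix.SpecialLinearGroup (Fin (2 * m)) F)), x ^ 2 ∈ commutator (P : Subgroup (Matrix.SpecialLinearGroup (Fin (2 * m)) F)) := by
  classical
  haveI := Fact.mk Nat.prime_two
  have h1q : 1 < Fintype.card F := Fintype.one_lt_card
  obtain ⟨U⟩ := (Sylow.nonempty : Nonempty (Sylow 2 Fˣ))
  obtain ⟨R, hR⟩ := (U.isPGroup'.map diagOne).exists_le_sylow
  obtain ⟨T, hT0⟩ : ∃ T : Sylow 2 (Perm (Fin m)), (4 ∣ Fintype.card F + 1) ∨ ∀ i k : Fin m, ∃ σ ∈ (T : Subgroup (Perm (Fin m))), σ i = k ∧ σ k = i := by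
    rcases hq with h | ⟨-, j, hj⟩
    · obtain ⟨T⟩ := (Sylow.nonempty : Nonempty (Sylow 2 (Perm (Fin m))))
      exact ⟨T, Or.inl h⟩
    · let e : Fin m ≃ (Fin j → ZMod 2) := (Fintype.equivFinOfCardEq (α := Fin j → ZMod 2) (by simp [hj])).symm
      let tr : Multiplicative (Fin j → ZMod 2) →* Perm (Fin m) :=
        MonoidHom.mk' (fun v => e.trans ((Equiv.addLeft (Multiplicative.toAdd v)).trans e.symm)) fun v w => Equiv.ext fun i => by
          simp [add_assoc]
      have hp : IsPGroup 2 tr.range := by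
        refine IsPGroup.of_surjective ?_ tr.rangeRestrict tr.rangeRestrict_surjective
        exact IsPGroup.of_card (n := j) (by simp)
      obtain ⟨T, hT⟩ := hp.exists_le_sylow
      refine ⟨T, Or.inr fun i k => ⟨tr (Multiplicative.ofAdd (e i + e k)), hT ⟨_, rfl⟩, ?_, ?_⟩⟩
      · show e.symm (e i + e k + e i) = k
        rw [show e i + e k + e i = e k by abel_nf; funext x; simp [show (2 : ZMod 2) = 0 from rfl]]
        exact e.symm_apply_apply k
      · show e.symm (e i + e k + e k) = i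
        rw [show e i + e k + e k = e i by abel_nf; funext x; simp [show (2 : ZMod 2) = 0 from rfl]]
        exact e.symm_apply_apply i
  obtain ⟨T'⟩ := (Sylow.nonempty : Nonempty (Sylow 2 (alternatingGroup (Fin m))))
  have hTsq := (Cfsg.Agent.S4623.result 2 m T T').1
  -- determinants of the Sylow subgroup
  have hU : ∀ x : (R : Subgroup (GL (Fin 2) F)), Matrix.GeneralLinearGroup.det (x : GL (Fin 2) F) ∈ (U : Subgroup Fˣ) := by
    intro x
    obtain ⟨U', hU'⟩ := (R.isPGroup'.map Matrix.GeneralLinearGroup.det).exists_le_sylow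
    obtain ⟨g, hg⟩ := MulAction.exists_smul_eq Fˣ U' U
    have : U' = U := by
      rw [← hg, Sylow.smul_eq_iff_mem_normalizer.mpr]
      change g ∈ Subgroup.normalizer ((U' : Subgroup Fˣ) : Set Fˣ)
      rw [Subgroup.mem_normalizer_iff]
      intro h
      rw [mul_comm g h, mul_inv_cancel_right]
    exact this ▸ hU' ⟨_, x.2, rfl⟩
  let detR : (R : Subgroup (GL (Fin 2) F)) →* (U : Subgroup Fˣ) :=
    (Matrix.GeneralLinearGroup.det.comp (R : Subgroup (GL (Fin 2) F)).subtype).codRestrict _ hU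
  let dR : (U : Subgroup Fˣ) →* (R : Subgroup (GL (Fin 2) F)) :=
    (diagOne.comp (U : Subgroup Fˣ).subtype).codRestrict _ fun u => hR ⟨u, u.2, rfl⟩
  have hdd : ∀ u, detR (dR u) = u := fun u => Subtype.ext (det_diagOne _)
  let π : (Fin m → (R : Subgroup (GL (Fin 2) F))) →* (U : Subgroup Fˣ) :=
    MonoidHom.mk' (fun a => ∏ i, detR (a i)) fun a b => by simp [Finset.prod_mul_distrib]
  let i₀ : Fin m := ⟨0, hm⟩
  have hπsingle : ∀ i (x : (R : Subgroup (GL (Fin 2) F))), π (Pi.mulSingle i x : Fin m → (R : Subgroup (GL (Fin 2) F))) = detR x := by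
    intro i x
    show ∏ k, detR ((Pi.mulSingle i x : Fin m → (R : Subgroup (GL (Fin 2) F))) k) = _
    rw [Finset.prod_eq_single i (fun k _ hk => by rw [Pi.mulSingle_eq_of_ne hk, map_one]) (by simp), Pi.mulSingle_eq_same]
  have hπsurj : Function.Surjective π := fun u => ⟨Pi.mulSingle i₀ (dR u), by rw [hπsingle, hdd]⟩
  let bm : π.ker →* Matrix (Fin m ⊕ Fin m) (Fin m ⊕ Fin m) F :=
    blockMon.comp ((MonoidHom.compLeft (R : Subgroup (GL (Fin 2) F)).subtype (Fin m)).comp π.ker.subtype)
  have hbm : ∀ a, (bm a).det = 1 := by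
    intro a
    show (blockMon fun i => ((a.1 i : GL (Fin 2) F))).det = 1
    rw [det_blockMon]
    have h := congrArg (fun u : (U : Subgroup Fˣ) => ((u : Fˣ) : F)) (a.2 : π a.1 = 1)
    refine Eq.trans ?_ h
    show _ = (((∏ i, detR (a.1 i) : (U : Subgroup Fˣ)) : Fˣ) : F)
    rw [SubmonoidClass.coe_finset_prod, Units.coe_prod]
    rfl
  let pm : (T : Subgroup (Perm (Fin m))) →* Matrix (Fin m ⊕ Fin m) (Fin m ⊕ Fin m) F := permMon.comp (T : Subgroup (Perm (Fin m))).subtype
  have hpm : ∀ b, (pm b).det = 1 := fun b => det_permMon _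
  let act : ↥(T : Subgroup (Perm (Fin m))) → π.ker → π.ker := fun b a => ⟨fun i => a.1 ((b : Perm (Fin m))⁻¹ i), by
    show ∏ i, detR (a.1 ((b : Perm (Fin m))⁻¹ i)) = 1
    rw [Equiv.prod_comp ((b : Perm (Fin m))⁻¹) fun i => detR (a.1 i)]
    exact a.2⟩
  obtain ⟨jR, hjR⟩ := IsPGroup.iff_card.mp R.isPGroup'
  refine sq_mem_of_action (toSL bm hbm) (toSL pm hpm)
    ((IsPGroup.of_card (n := jR * m) (by rw [Nat.card_pi, Finset.prod_const, Finset.card_univ, Fintype.card_fin, hjR, pow_mul])).to_subgroup π.ker)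
    T.isPGroup' act ?_ ?_ ?_ ?_ ?_ hTsq P
  · intro b a
    rw [mul_inv_eq_iff_eq_mul]
    refine Subtype.ext ?_
    show Matrix.reindex _ _ (pm b) * Matrix.reindex _ _ (bm a) = Matrix.reindex _ _ (bm (act b a)) * Matrix.reindex _ _ (pm b)
    simp only [Matrix.reindex_apply, Matrix.submatrix_mul_equiv]
    exact congrArg (fun M : Matrix (Fin m ⊕ Fin m) (Fin m ⊕ Fin m) F => M.submatrix _ _) (perm_conj _ _)
  · intro a b h
    have h1 := blockMon_injective (toSL_inj bm hbm bm hbm h)
    exact Subtype.ext (funext fun i => Subtype.ext (congrFun h1 i))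
  · intro a b h
    exact Subtype.ext (eq_one_of_block_eq_perm _ (b : Perm (Fin m)) (toSL_inj bm hbm pm hpm h))
  · have hker := π.ker.card_mul_index
    rw [Subgroup.index_ker, MonoidHom.range_eq_top.mpr hπsurj, Subgroup.card_top, Nat.card_pi, Finset.prod_const,
      Finset.card_univ, Fintype.card_fin, R.card_eq_multiplicity, U.card_eq_multiplicity, ← pow_mul] at hker
    rw [T.card_eq_multiplicity]
    apply Nat.eq_of_mul_eq_mul_right (pow_pos two_pos ((Nat.card Fˣ).factorization 2))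
    rw [mul_right_comm, hker, ← pow_add, ← pow_add]
    congr 1
    simp only [Nat.factorization_def _ Nat.prime_two]
    have h2 := val_GL_even (F := F) hF 1
    have hm' := val_GL_even (F := F) hF m
    rw [Cfsg.Lib.SylowLargePrime.card_SL_mul (by omega), padicValNat.mul Nat.card_pos.ne' Nat.card_pos.ne'] at hm'
    have hfac : padicValNat 2 (Nat.card (Perm (Fin m))) = padicValNat 2 m.factorial := by
      rw [Nat.card_eq_fintype_card, Fintype.card_perm, Fintype.card_fin]
    rw [hfac, h2]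
    simp at hm' ⊢
    rw [mul_comm]
    omega
  · intro H _ f g hfg a
    let K : Subgroup π.ker := ((powMonoidHom 2).comp (Abelianization.of.comp f)).ker
    have hK : ∀ a, a ∈ K ↔ f a ^ 2 ∈ commutator H := fun a => by
      show (Abelianization.of (f a)) ^ 2 = 1 ↔ _
      rw [← map_pow, ← MonoidHom.mem_ker, Abelianization.ker_of]
    rw [← hK]
    -- the kernels of the determinants
    let Q : Subgroup (R : Subgroup (GL (Fin 2) F)) := detR.ker
    have hQsq : ∀ y : Q, y ^ 2 ∈ commutator Q := by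
      let toR : SpecialLinearGroup (Fin 2) F →* GL (Fin 2) F := SpecialLinearGroup.toGL
      let Q₀ : Subgroup (SpecialLinearGroup (Fin 2) F) := (R : Subgroup (GL (Fin 2) F)).comap toR
      have hQp : IsPGroup 2 Q₀ := R.isPGroup'.comap_of_injective toR (fun A B h => Subtype.ext (congrArg Units.val h))
      obtain ⟨Q', hQ'⟩ := hQp.exists_le_sylow
      obtain ⟨k, hk, ⟨e⟩⟩ := Cfsg.Agent.S0261.result hF Q'
      obtain ⟨R₁, hR₁⟩ := (Q'.isPGroup'.map toR).exists_le_sylow
      obtain ⟨c, hc⟩ := MulAction.exists_smul_eq (GL (Fin 2) F) R₁ R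
      have hQQ : Q₀ = (Q' : Subgroup (SpecialLinearGroup (Fin 2) F)) := by
        refine Subgroup.eq_of_le_of_card_ge hQ' ?_
        refine Nat.card_le_card_of_injective (fun a => (⟨⟨((c * toR (a : SpecialLinearGroup (Fin 2) F) * c⁻¹ : GL (Fin 2) F) : Matrix (Fin 2) (Fin 2) F), by
          have h1 : Matrix.GeneralLinearGroup.det (c * toR (a : SpecialLinearGroup (Fin 2) F) * c⁻¹) = 1 := by
            rw [map_mul, map_mul, map_inv, mul_right_comm, mul_inv_cancel, one_mul]
            exact Units.ext (a : SpecialLinearGroup (Fin 2) F).2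
          exact congrArg Units.val h1⟩, by
          show toR _ ∈ (R : Subgroup (GL (Fin 2) F))
          rw [← hc]
          exact ⟨toR (a : SpecialLinearGroup (Fin 2) F), hR₁ ⟨_, a.2, rfl⟩, Units.ext rfl⟩⟩ : Q₀)) ?_
        intro a b h
        have h1 : (c * toR (a : SpecialLinearGroup (Fin 2) F) * c⁻¹ : GL (Fin 2) F) = c * toR (b : SpecialLinearGroup (Fin 2) F) * c⁻¹ :=
          Units.ext (congrArg (fun z : Q₀ => ((z : SpecialLinearGroup (Fin 2) F) : Matrix (Fin 2) (Fin 2) F)) h)
        exact Subtype.ext (Subtype.ext (congrArg Units.val (mul_left_cancel (mul_right_cancel h1))))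
      let ι : (Q' : Subgroup (SpecialLinearGroup (Fin 2) F)) →* Q :=
        ((toR.comp (Q' : Subgroup (SpecialLinearGroup (Fin 2) F)).subtype).codRestrict (R : Subgroup (GL (Fin 2) F))
          fun a => (hQQ.ge a.2 : (a : SpecialLinearGroup (Fin 2) F) ∈ Q₀)).codRestrict Q
          fun a => Subtype.ext (Units.ext (a : SpecialLinearGroup (Fin 2) F).2)
      haveI : NeZero (2 ^ k) := ⟨by positivity⟩
      intro y
      have hy1 : ((((y : (R : Subgroup (GL (Fin 2) F))) : GL (Fin 2) F)) : Matrix (Fin 2) (Fin 2) F).det = 1 :=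
        congrArg (fun u : (U : Subgroup Fˣ) => ((u : Fˣ) : F)) (y.2 : detR y.1 = 1)
      have hyQ : (⟨_, hy1⟩ : SpecialLinearGroup (Fin 2) F) ∈ Q₀ := by
        show toR _ ∈ (R : Subgroup (GL (Fin 2) F))
        convert y.1.2 using 1
        exact Units.ext rfl
      have h := Cfsg.Agent.S4624.sq_transfer (ι.comp e.symm.toMonoidHom) (Cfsg.Agent.S4624.quat_sq (2 ^ k) (even_two.pow_of_ne_zero (by omega)) (e ⟨_, hQQ.le hyQ⟩))
      convert h using 2
      simp only [MonoidHom.comp_apply, MulEquiv.coe_toMonoidHom, MulEquiv.symm_apply_apply]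
      exact Subtype.ext (Subtype.ext (Units.ext rfl))
    let qs : (Fin m → Q) →* π.ker := (MonoidHom.compLeft Q.subtype (Fin m)).codRestrict _ fun v =>
      (show ∏ i, detR (v i : (R : Subgroup (GL (Fin 2) F))) = 1 from Finset.prod_eq_one fun i _ => (v i).2)
    have hqs : ∀ v, qs v ∈ K := by
      have : (Subgroup.pi Set.univ fun _ : Fin m => (⊤ : Subgroup Q)) ≤ K.comap qs := by
        rw [Subgroup.pi_le_iff]
        intro i
        rintro _ ⟨y, -, rfl⟩
        exact (hK _).mpr (Cfsg.Agent.S4624.sq_transfer (f.comp (qs.comp (MonoidHom.mulSingle (fun _ : Fin m => Q) i))) (hQsq y))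
      exact fun v => this fun i _ => Subgroup.mem_top _
    let Φ : (Fin m → (U : Subgroup Fˣ)) →* π.ker :=
      (phiHom dR i₀).codRestrict _ fun v => (prod_phiHom detR dR hdd i₀ v : ∏ i, detR (phiHom dR i₀ v i) = 1)
    have hΦ : ∀ v, Φ v ∈ K := by
      have : (Subgroup.pi Set.univ fun _ : Fin m => (⊤ : Subgroup (U : Subgroup Fˣ))) ≤ K.comap Φ := by
        rw [Subgroup.pi_le_iff]
        intro i
        rintro _ ⟨u, -, rfl⟩
        show Φ (Pi.mulSingle i u) ∈ K
        rcases hT0 with h4 | hswap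
        · have hu2 : u ^ 2 = 1 := by
            obtain ⟨j, hj⟩ := IsPGroup.iff_orderOf.mp U.isPGroup' u
            have h2 : orderOf u ∣ Fintype.card F - 1 := by
              rw [← Subgroup.orderOf_coe, ← Fintype.card_units F]; exact orderOf_dvd_card
            rw [hj] at h2
            have hj1 : j ≤ 1 := by
              by_contra hlt
              have h5 := (pow_dvd_pow 2 (show 2 ≤ j by omega)).trans h2
              norm_num at h5
              omega
            exact orderOf_dvd_iff_pow_eq_one.mp (hj ▸ (pow_dvd_pow 2 hj1).trans (dvd_of_eq (pow_one 2)))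
          rw [hK, ← map_pow, ← map_pow, ← Pi.mulSingle_pow, hu2, Pi.mulSingle_one, map_one, map_one]
          exact one_mem _
        · obtain ⟨σ, hσ, hσi, hσk⟩ := hswap i i₀
          have hinv : act (⟨σ, hσ⟩ : ↥(T : Subgroup (Perm (Fin m)))) (Φ (Pi.mulSingle i u)) = (Φ (Pi.mulSingle i u))⁻¹ :=
            Subtype.ext (funext fun k => phiHom_swap dR i₀ i u σ hσi hσk k)
          have hc : ⁅g (⟨σ, hσ⟩ : ↥(T : Subgroup (Perm (Fin m)))), f (Φ (Pi.mulSingle i u))⁆ ∈ commutator H :=
            Subgroup.commutator_mem_commutator (Subgroup.mem_top _) (Subgroup.mem_top _)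
          rw [commutatorElement_def, hfg, hinv, map_inv, ← _root_.mul_inv_rev, ← pow_two, inv_mem_iff] at hc
          exact (hK _).mpr hc
      exact fun v => this fun i _ => Subgroup.mem_top _
    have hsplit : a = qs (fun i => ⟨a.1 i * (dR (detR (a.1 i)))⁻¹, by
        show detR _ = 1
        rw [map_mul, map_inv, hdd, mul_inv_cancel]⟩) * Φ (fun i => detR (a.1 i)) := by
      refine Subtype.ext (funext fun k => ?_)
      show a.1 k = a.1 k * (dR (detR (a.1 k)))⁻¹ * phiHom dR i₀ (fun i => detR (a.1 i)) k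
      rw [phiHom_apply]
      rw [show (∏ i, detR (a.1 i)) = 1 from a.2, Pi.mulSingle_one, div_one, inv_mul_cancel_right]
    rw [hsplit]
    exact K.mul_mem (hqs _) (hΦ _)

end Cfsg.Agent.S4627
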