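import Cfsg.Statements.S4628
import Cfsg.Agent.Lib.Blocks.WreathAbelianization
import Cfsg.Agent.Lib.Classical.SylowLargePrime

set_option autoImplicit false
open Cfsg

namespace Cfsg.Agent.S4628

open Matrix Equiv Cfsg.Lib.Blocks.WreathAb

variable {F : Type*} [Field F] [Fintype F] [DecidableEq F] {m : ℕ}

/-- Adjoining one coordinate to reach determinant one. -/
noncomputable def extend : GL (Fin m ⊕ Fin m) F →* SpecialLinearGroup (Fin (2 * m + 1)) F :=
  MonoidHom.mk' (fun M => ⟨Matrix.reindex (Fintype.equivFinOfCardEq (α := (Fin m ⊕ Fin m) ⊕ Unit) (by simp; ring))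
      (Fintype.equivFinOfCardEq (α := (Fin m ⊕ Fin m) ⊕ Unit) (by simp; ring))
      (fromBlocks (M : Matrix (Fin m ⊕ Fin m) (Fin m ⊕ Fin m) F) 0 0 (diagonal fun _ => ((Matrix.GeneralLinearGroup.det M)⁻¹ : Fˣ).1)), by
    simp only [Matrix.det_reindex_self, det_fromBlocks_zero₂₁, det_diagonal, Finset.prod_const, Finset.card_univ,
      Fintype.card_unit, pow_one, Units.val_inv_eq_inv_val, Matrix.GeneralLinearGroup.val_det_apply]
    exact mul_inv_cancel₀ (Matrix.GeneralLinearGroup.det M).ne_zero⟩) fun M N => Subtype.ext (by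
    show _ = (_ : Matrix _ _ F) * _
    simp [Matrix.submatrix_mul_equiv, fromBlocks_multiply, mul_comm])

/-- Blocks from a subgroup. -/
noncomputable def subHom (R : Subgroup (GL (Fin 2) F)) : (Fin m → R) →* GL (Fin m ⊕ Fin m) F :=
  (blockMon.comp (MonoidHom.compLeft R.subtype (Fin m))).toHomUnits

theorem subHom_val (R : Subgroup (GL (Fin 2) F)) (a : Fin m → R) :
    (subHom R a : Matrix (Fin m ⊕ Fin m) (Fin m ⊕ Fin m) F) = blockMon fun i => (a i : GL (Fin 2) F) := rfl

/-- Permutations of blocks. -/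
noncomputable def permSub (T : Subgroup (Perm (Fin m))) : T →* GL (Fin m ⊕ Fin m) F :=
  (permMon.comp T.subtype).toHomUnits

theorem permSub_val (T : Subgroup (Perm (Fin m))) (b : T) :
    (permSub (F := F) T b : Matrix (Fin m ⊕ Fin m) (Fin m ⊕ Fin m) F) = permMon (b : Perm (Fin m)) := rfl

theorem conj_mem (R : Subgroup (GL (Fin 2) F)) (T : Subgroup (Perm (Fin m))) (b : T) (a : Fin m → R) :
    permSub T b * subHom R a * (permSub (F := F) T b)⁻¹ = subHom R (fun i => a ((b : Perm (Fin m))⁻¹ i)) := by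
  rw [mul_inv_eq_iff_eq_mul]
  refine Units.ext ?_
  rw [Units.val_mul, Units.val_mul, subHom_val, subHom_val, permSub_val, perm_conj]

theorem extend_injective : Function.Injective (extend : GL (Fin m ⊕ Fin m) F → _) := by
  intro M N h
  have h' := (Matrix.reindex _ _).injective (congrArg Subtype.val h)
  exact Units.ext (Matrix.fromBlocks_inj.mp h').1


/-- Let F be a finite field of odd order q with 4 dividing q + 1, and m ≥ 1. Then a Sylow 2-subgroup P of SL_{2m+1}(F) has P/P' elementary abelian: the square of every element of P lies in the derived subgroup of P. -/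
theorem result {F : Type*} [Field F] [Fintype F] (hF : Odd (Fintype.card F)) (hq : 4 ∣ Fintype.card F + 1) (m : ℕ) (hm : 1 ≤ m) (P : Sylow 2 (Matrix.SpecialLinearGroup (Fin (2 * m + 1)) F)) :
    ∀ x : (P : Subgroup (Matrix.SpecialLinearGroup (Fin (2 * m + 1)) F)), x ^ 2 ∈ commutator (P : Subgroup (Matrix.SpecialLinearGroup (Fin (2 * m + 1)) F)) := by
  classical
  haveI := Fact.mk Nat.prime_two
  have hq4 : Fintype.card F % 4 = 3 := by omega
  obtain ⟨R⟩ := (Sylow.nonempty : Nonempty (Sylow 2 (GL (Fin 2) F)))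
  obtain ⟨hR, -⟩ := exists_det_neg hq4 R
  obtain ⟨T⟩ := (Sylow.nonempty : Nonempty (Sylow 2 (Perm (Fin m))))
  obtain ⟨T'⟩ := (Sylow.nonempty : Nonempty (Sylow 2 (alternatingGroup (Fin m))))
  let fA : (Fin m → (R : Subgroup (GL (Fin 2) F))) →* SpecialLinearGroup (Fin (2 * m + 1)) F :=
    extend.comp (subHom (R : Subgroup (GL (Fin 2) F)))
  let fB : (T : Subgroup (Perm (Fin m))) →* SpecialLinearGroup (Fin (2 * m + 1)) F :=
    extend.comp (permSub (T : Subgroup (Perm (Fin m))))
  obtain ⟨j, hj⟩ := IsPGroup.iff_card.mp R.isPGroup'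
  refine sq_mem_of_generators fA fB
    (IsPGroup.of_card (n := j * m) (by rw [Nat.card_pi, Finset.prod_const, Finset.card_univ, Fintype.card_fin, hj, pow_mul]))
    T.isPGroup' ?_ ?_ ?_ ?_ ⊤ rfl ?_ (Cfsg.Agent.S4623.result 2 m T T').1 P
  · intro b a
    refine ⟨fun i => a ((b : Perm (Fin m))⁻¹ i), ?_⟩
    simp only [fA, fB, MonoidHom.comp_apply]
    rw [← map_inv, ← map_mul, ← map_mul]
    exact congrArg extend (conj_mem _ _ b a).symm
  · intro a b h
    have h0 := congrArg Units.val (extend_injective h)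
    rw [subHom_val, subHom_val] at h0
    have h1 := blockMon_injective h0
    exact funext fun i => Subtype.ext (congrFun h1 i)
  · intro a b h
    have h0 := congrArg Units.val (extend_injective h)
    rw [subHom_val, permSub_val] at h0
    exact Subtype.ext (eq_one_of_block_eq_perm _ (b : Perm (Fin m)) h0)
  · rw [Nat.card_pi, Finset.prod_const, Finset.card_univ, Fintype.card_fin, R.card_eq_multiplicity, T.card_eq_multiplicity,
      ← pow_mul, ← pow_add]
    congr 1
    simp only [Nat.factorization_def _ Nat.prime_two]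
    have h2 := (val_GL (F := F) hq4 1).1
    have hodd := (val_GL (F := F) hq4 m).2
    rw [Cfsg.Lib.SylowLargePrime.card_SL_mul (by omega), padicValNat.mul Nat.card_pos.ne' Nat.card_pos.ne',
      Nat.card_eq_fintype_card (α := Fˣ), Fintype.card_units, show padicValNat 2 (Fintype.card F - 1) = 1 by simpa using val_odd_pow hq4 0] at hodd
    have hfac : padicValNat 2 (Nat.card (Perm (Fin m))) = padicValNat 2 m.factorial := by
      rw [Nat.card_eq_fintype_card, Fintype.card_perm, Fintype.card_fin]
    rw [hfac, h2]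
    simp at hodd ⊢
    rw [mul_comm]
    omega
  · intro H _ f
    rw [← Subgroup.pi_top (Set.univ : Set (Fin m)), Subgroup.pi_le_iff]
    intro i
    rintro _ ⟨y, -, rfl⟩
    show (Abelianization.of (f (MonoidHom.mulSingle (fun _ : Fin m => (R : Subgroup (GL (Fin 2) F))) i y))) ^ 2 = 1
    rw [← map_pow, ← MonoidHom.mem_ker, Abelianization.ker_of]
    exact Cfsg.Agent.S4624.sq_transfer (f.comp (MonoidHom.mulSingle (fun _ : Fin m => (R : Subgroup (GL (Fin 2) F))) i)) (hR y)

end Cfsg.Agent.S4628
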