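import Cfsg.Statements.S4765
import Mathlib
import Cfsg.Agent.Lib.Classical.TwoDimSLFacts
import Cfsg.Agent.Lib.Blocks.InflationBijection
import Cfsg.Agent.Lib.Blocks.DefectZero

set_option autoImplicit false
open Cfsg

namespace Cfsg.Agent.S4765

open Matrix Cfsg.Lib.Classical.TwoDim Cfsg.Lib.Characters Cfsg.Lib.Classical.ProjLine

variable {F : Type*} [Field F] [Fintype F] [DecidableEq F]

theorem st_res_irr : IsIrrCharacter (SpecialLinearGroup (Fin 2) F) fun A => st (SpecialLinearGroup.toGL A) := by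
  classical
  have hch : IsCharacter (SpecialLinearGroup (Fin 2) F) fun A => st (SpecialLinearGroup.toGL A) := by
    have h := isCharacter_comp (stTwist_irr (F := F) 1).isCharacter SpecialLinearGroup.toGL
    convert h using 1
    funext A
    simp [MulChar.one_apply]
  have hI : (fun A : SpecialLinearGroup (Fin 2) F => st (SpecialLinearGroup.toGL A)) =
      indFun _ (thSL (1 : MulChar F ℂ)) - fun _ => (1 : ℂ) := by
    funext A
    have h := indFun_diag_eq (1 : MulChar F ℂ) (SpecialLinearGroup.toGL A)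
    rw [Cfsg.Lib.Classical.TwoDim.res_indFun, inv_one, mul_one] at h
    rw [Pi.sub_apply, h]
    simp [MulChar.one_apply]
  refine isIrrCharacter_of_classInner_eq_one hch ?_
  have h1 : classInner (indFun _ (thSL (1 : MulChar F ℂ))) (fun _ : SpecialLinearGroup (Fin 2) F => (1 : ℂ)) = 1 := by
    rw [classInner_indFun _ _ isIrrCharacter_one.isClassFunction,
      show thSL (1 : MulChar F ℂ) = fun _ => 1 from ?_]
    · exact classInner_irr_self isIrrCharacter_one
    funext b
    refine MulChar.one_apply ?_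
    refine isUnit_iff_ne_zero.mpr fun h => ?_
    have hd := (b : SpecialLinearGroup (Fin 2) F).2
    have h10 : ((b : SpecialLinearGroup (Fin 2) F) : Matrix (Fin 2) (Fin 2) F) 1 0 = 0 := b.2 (i := 1) (j := 0) (show (0 : Fin 2) < 1 by decide)
    rw [det_fin_two, h, h10] at hd
    simp at hd
  have h1' : classInner (fun _ : SpecialLinearGroup (Fin 2) F => (1 : ℂ)) (indFun _ (thSL (1 : MulChar F ℂ))) = 1 := by
    rw [← conj_classInner, h1, map_one]
  rw [hI, classInner_sub_left, classInner_sub_right, classInner_sub_right, inner_SL, h1, h1', classInner_irr_self isIrrCharacter_one]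
  norm_num

theorem eq_st_of_dvd {p : ℕ} [Fact p.Prime] [CharP F p] {χ : SpecialLinearGroup (Fin 2) F → ℂ}
    (hχ : IsIrrCharacter _ χ) {d : ℕ} (hd : χ 1 = d) (hp : p ∣ d) :
    χ = fun A => st (SpecialLinearGroup.toGL A) := by
  classical
  have hpp : p.Prime := Fact.out
  obtain ⟨e, -, he⟩ := FiniteField.card F p
  have hpq : p ∣ Fintype.card F := he ▸ dvd_pow_self p e.ne_zero
  have h1 : χ 1 ≠ 1 := fun h => hpp.not_dvd_one (by rw [hd, Nat.cast_eq_one] at h; exact h ▸ hp)
  have hnear : ∀ m : ℕ, p ∣ m → (Fintype.card F : ℂ) - 1 ≠ m ∧ (Fintype.card F : ℂ) + 1 ≠ m := by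
    refine fun m hm => ⟨fun h => hpp.not_dvd_one ?_, fun h => hpp.not_dvd_one ?_⟩
    · have h' : Fintype.card F = m + 1 := Nat.cast_injective (R := ℂ) (by push_cast; linear_combination h)
      exact (Nat.dvd_add_right hm).mp (h' ▸ hpq)
    · have h' : Fintype.card F + 1 = m := Nat.cast_injective (R := ℂ) (by push_cast; linear_combination h)
      exact (Nat.dvd_add_right hpq).mp (h'.symm ▸ hm)
  obtain ⟨π, hπ, hπ1, hdeg, hcase⟩ := sl_cases hχ h1
  rcases hcase with ⟨he', hres⟩ | ⟨he', x, χ', -, hne, hx, -⟩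
  · rcases gl_cases hπ hπ1 with ⟨h, -⟩ | ⟨α, rfl⟩ | ⟨α, β, -, rfl⟩
    · exact absurd (by rw [← h, he', hd]) (hnear d hp).1
    · funext A
      rw [← hres A]
      simp
    · rw [indFun_one', hd] at he'
      exact absurd he' (hnear d hp).2
  · exfalso
    have h2 : π 1 = ((2 * d : ℕ) : ℂ) := by rw [he', hd]; push_cast; ring
    rcases hdeg with h | h | h
    · exact (hnear _ (hp.mul_left 2)).1 (h ▸ h2)
    · -- the halves only occur in odd characteristic
      have hq : Fintype.card F = 2 * d := Nat.cast_injective (R := ℂ) (h ▸ h2)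
      have hc : ringChar F = 2 := by
        rw [ringChar.eq F p]
        have h2p : 2 ∣ p ^ (e : ℕ) := he ▸ hq ▸ dvd_mul_right 2 d
        exact ((Nat.prime_dvd_prime_iff_eq Nat.prime_two hpp).mp (Nat.prime_two.dvd_of_dvd_pow h2p)).symm
      refine hne (funext fun A => ?_)
      obtain ⟨s, hs⟩ := FiniteField.isSquare_of_char_two hc ((GeneralLinearGroup.det x : Fˣ) : F)
      have hs0 : s ≠ 0 := fun h => (GeneralLinearGroup.det x).ne_zero (by rw [hs, h, mul_zero])
      refine half_eq hχ.isClassFunction hx (y := GeneralLinearGroup.mkOfDetNeZero !![s, 0; 0, s] (by simp [det_fin_two, hs0]))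
        (Units.ext ?_) (Units.ext ?_)
      · ext i j
        fin_cases i <;> fin_cases j <;> simp [Matrix.mul_apply, Fin.sum_univ_two, mul_comm]
      · simp [det_fin_two, hs]
    · exact (hnear _ (hp.mul_left 2)).2 (h ▸ h2)

/-- Let F be a finite field of characteristic p with at least 4 elements. Then PSL(2,F) has exactly one irreducible complex character of degree divisible by p, and its degree is the order of F. -/
theorem result (p : ℕ) [Fact p.Prime] (F : Type*) [Field F] [Fintype F] [CharP F p] (hF : 4 ≤ Fintype.card F) : Nat.card {χ : Cfsg.IrrCharacter (Matrix.ProjectiveSpecialLinearGroup (Fin 2) F) // p ∣ Cfsg.charDegree (χ : Matrix.ProjectiveSpecialLinearGroup (Fin 2) F → ℂ)} = 1 ∧ ∀ χ : Cfsg.IrrCharacter (Matrix.ProjectiveSpecialLinearGroup (Fin 2) F), p ∣ Cfsg.charDegree (χ : Matrix.ProjectiveSpecialLinearGroup (Fin 2) F → ℂ) → Cfsg.charDegree (χ : Matrix.ProjectiveSpecialLinearGroup (Fin 2) F → ℂ) = Fintype.card F := by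
  classical
  haveI : Fintype (SpecialLinearGroup (Fin 2) F) := Fintype.ofFinite _
  let Z := Subgroup.center (SpecialLinearGroup (Fin 2) F)
  let ψ : SpecialLinearGroup (Fin 2) F → ℂ := fun A => st (SpecialLinearGroup.toGL A)
  have hψ1 : ψ 1 = (Fintype.card F : ℂ) := by simp only [ψ, map_one, st_one]
  have hker : ∀ z ∈ Z, ψ z = ψ 1 := by
    intro z hz
    have hc : SpecialLinearGroup.toGL z ∈ upperTriangularGL 2 F ∧ ∀ y : GL (Fin 2) F, Commute (SpecialLinearGroup.toGL z) y := by
      obtain ⟨c, -, hc⟩ := Matrix.SpecialLinearGroup.mem_center_iff.mp hz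
      refine ⟨fun i j hij => ?_, fun y => Units.ext ?_⟩
      · show (z : Matrix (Fin 2) (Fin 2) F) i j = 0
        rw [← hc]
        exact Matrix.diagonal_apply_ne _ (fun e => by subst e; exact lt_irrefl _ hij)
      · show (z : Matrix (Fin 2) (Fin 2) F) * (y : Matrix (Fin 2) (Fin 2) F) = (y : Matrix (Fin 2) (Fin 2) F) * (z : Matrix (Fin 2) (Fin 2) F)
        rw [← hc]
        exact Matrix.scalar_commute c (fun r => mul_comm _ _) _
    simp only [ψ, map_one, st, fixedPointCharacter]
    congr 2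
    refine Nat.card_congr (Equiv.subtypeEquivRight fun w => ?_)
    obtain ⟨w, rfl⟩ := QuotientGroup.mk_surjective w
    simp only [MulAction.mem_fixedBy, one_smul, iff_true, MulAction.Quotient.smul_mk, QuotientGroup.eq, smul_eq_mul]
    rw [(hc.2 w).eq, _root_.mul_inv_rev, mul_assoc, inv_mul_cancel, mul_one]
    exact inv_mem hc.1
  obtain ⟨φ, hφ⟩ := Cfsg.Lib.Blocks.exists_descend (P := Z) st_res_irr hker
  have key : ∀ χ : IrrCharacter (ProjectiveSpecialLinearGroup (Fin 2) F),
      p ∣ charDegree (χ : ProjectiveSpecialLinearGroup (Fin 2) F → ℂ) → χ = φ := by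
    intro χ hχ
    obtain ⟨d, -, hd⟩ := χ.2.exists_degree_pos
    rw [Cfsg.Lib.Blocks.charDegree_eq hd] at hχ
    have h := eq_st_of_dvd (p := p) (isIrrCharacter_comp_surjective χ.2 (QuotientGroup.mk' Z) (QuotientGroup.mk'_surjective Z)) (d := d) (by rw [map_one]; exact hd) hχ
    refine Subtype.ext (funext fun w => ?_)
    obtain ⟨A, rfl⟩ := QuotientGroup.mk_surjective w
    exact (congrFun h A).trans (congrFun hφ A)
  have hdφ : charDegree (φ : ProjectiveSpecialLinearGroup (Fin 2) F → ℂ) = Fintype.card F := by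
    refine Cfsg.Lib.Blocks.charDegree_eq ?_
    rw [← hψ1]
    exact (congrFun hφ 1).symm
  refine ⟨?_, fun χ hχ => by rw [key χ hχ, hdφ]⟩
  haveI : Nonempty {χ : IrrCharacter (ProjectiveSpecialLinearGroup (Fin 2) F) // p ∣ charDegree (χ : ProjectiveSpecialLinearGroup (Fin 2) F → ℂ)} :=
    ⟨⟨φ, by obtain ⟨e, -, he⟩ := FiniteField.card F p; rw [hdφ, he]; exact dvd_pow_self p e.ne_zero⟩⟩
  haveI : Subsingleton {χ : IrrCharacter (ProjectiveSpecialLinearGroup (Fin 2) F) // p ∣ charDegree (χ : ProjectiveSpecialLinearGroup (Fin 2) F → ℂ)} :=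
    ⟨fun a b => Subtype.ext ((key _ a.2).trans (key _ b.2).symm)⟩
  exact Nat.card_unique

end Cfsg.Agent.S4765
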