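import Cfsg.Statements.S4768
import Cfsg.Agent.S4713
import Cfsg.Agent.Lib.Blocks.GlaubermanNormalSylow
import Cfsg.Agent.Lib.PLocal.QuadraticSection

set_option autoImplicit false
open Cfsg Cfsg.Lib.Characters Cfsg.Lib.Blocks
open scoped Classical

namespace Cfsg.Agent.S4768

universe u

/-- A derived term inside an abelian kernel gives triviality one step later. -/
theorem derived_succ_eq_bot {R : Type u} [Group R] {H : Type u} [Group H] (f : R →* H) (k : ℕ)
    (hab : ∀ a ∈ f.ker, ∀ b ∈ f.ker, a * b = b * a) (h : (derivedSeries R k).map f = ⊥) :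
    derivedSeries R (k + 1) = ⊥ := by
  have hle : derivedSeries R k ≤ f.ker := (Subgroup.map_eq_bot_iff _).mp h
  rw [derivedSeries_succ, eq_bot_iff, Subgroup.commutator_le]
  intro a ha b hb
  rw [Subgroup.mem_bot, commutatorElement_def, hab a (hle ha) b (hle hb)]
  group

/-- A nontrivial abelian group has a nonprincipal character. -/
theorem exists_ne_one {A : Type u} [Group A] [Fintype A] (hA : Nat.card A ≠ 1) :
    ∃ lam : IrrCharacter A, (lam : A → ℂ) ≠ fun _ => 1 := by
  by_contra h
  push Not at h
  apply hA
  have h1 := sum_sq_degree (G := A)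
  haveI : Subsingleton (IrrCharacter A) := ⟨fun a b => Subtype.ext ((h a).trans (h b).symm)⟩
  rw [Fintype.sum_subsingleton _ ⟨fun _ => 1, isIrrCharacter_one⟩, one_pow] at h1
  exact_mod_cast h1.symm

theorem derived_length (p : ℕ) [Fact p.Prime] : ∀ (N : ℕ) (G : Type u) [Group G] [Finite G],
    Nat.card G ≤ N → Cfsg.IsPSolvable p G → ∀ P : Sylow p G,
    derivedSeries ↥(P : Subgroup G)
      (Nat.card {χ : Cfsg.IrrCharacter G // p ∣ Cfsg.charDegree (χ : G → ℂ)} + 1) = ⊥ := by
  intro N
  induction N with
  | zero => intro G _ _ hn; exact absurd hn (by have := Nat.card_pos (α := G); omega)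
  | succ N ih =>
    intro G _ _ hN hsolv P
    haveI := Fintype.ofFinite G
    set n := Nat.card {χ : Cfsg.IrrCharacter G // p ∣ Cfsg.charDegree (χ : G → ℂ)} with hn
    by_cases hn0 : n = 0
    · have hall : ∀ χ : Cfsg.IrrCharacter G, ¬ p ∣ Cfsg.charDegree (χ : G → ℂ) := fun χ hχ => by
        haveI : Nonempty {χ : Cfsg.IrrCharacter G // p ∣ Cfsg.charDegree (χ : G → ℂ)} := ⟨⟨χ, hχ⟩⟩
        exact absurd hn0 (Nat.card_pos).ne'
      haveI := ((Cfsg.Agent.S4713.result p hsolv P).mpr hall).2
      rw [hn0]
      refine derived_succ_eq_bot (1 : ↥(P : Subgroup G) →* ↥(P : Subgroup G)) 0 (fun a _ b _ => mul_comm' a b) ?_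
      exact (Subgroup.map_eq_bot_iff _).mpr (by rw [MonoidHom.ker_one]; exact le_top)
    by_cases hG : Nat.card G = 1
    · haveI := (Nat.card_eq_one_iff_unique.mp hG).1
      exact Subsingleton.elim _ _
    obtain ⟨K, hKn, hKne, hK⟩ := Cfsg.Lib.Solv.exists_normal_p_or_coprime hsolv hG
    haveI := hKn
    -- induction along a nontrivial normal subgroup
    have step : ∀ A : Subgroup G, ∀ [A.Normal], A ≠ ⊥ →
        ∃ k ≤ n, (∀ χ : Cfsg.IrrCharacter G, k = n → p ∣ Cfsg.charDegree (χ : G → ℂ) →
            ∀ a ∈ A, (χ : G → ℂ) a = (χ : G → ℂ) 1) ∧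
          (derivedSeries ↥(P : Subgroup G) (k + 1)).map
            ((QuotientGroup.mk' A).comp (P : Subgroup G).subtype) = ⊥ := by
      intro A _ hAne
      set π := QuotientGroup.mk' A
      have hsurj : Function.Surjective π := QuotientGroup.mk'_surjective A
      have hcard : Nat.card (G ⧸ A) ≤ N := by
        have h1 : Nat.card A * Nat.card (G ⧸ A) = Nat.card G := by
          rw [← Subgroup.index_eq_card, Subgroup.card_mul_index]
        have h2 : 2 ≤ Nat.card A := by
          by_contra h2
          exact hAne (Subgroup.card_eq_one.mp (by have := Nat.card_pos (α := A); omega))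
        have := Nat.card_pos (α := G ⧸ A)
        nlinarith
      let F : {χ : Cfsg.IrrCharacter (G ⧸ A) // p ∣ Cfsg.charDegree (χ : G ⧸ A → ℂ)} →
          {χ : Cfsg.IrrCharacter G // p ∣ Cfsg.charDegree (χ : G → ℂ)} := fun χ =>
        ⟨⟨_, isIrrCharacter_comp_surjective χ.1.2 π hsurj⟩, by
          rw [charDegree_eq (χ := fun x => (χ.1 : G ⧸ A → ℂ) (π x)) (d := Cfsg.charDegree (χ.1 : G ⧸ A → ℂ))
            (by rw [map_one, coe_charDegree])]
          exact χ.2⟩
      have hF : Function.Injective F := fun χ χ' h => Subtype.ext (Subtype.ext (funext fun q => by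
        obtain ⟨g, rfl⟩ := hsurj q
        exact congrFun (congrArg (fun z => (z.1 : G → ℂ)) h) g))
      refine ⟨Nat.card {χ : Cfsg.IrrCharacter (G ⧸ A) // p ∣ Cfsg.charDegree (χ : G ⧸ A → ℂ)},
        Nat.card_le_card_of_injective F hF, ?_, ?_⟩
      · intro χ hk hχ a ha
        have hb : Function.Bijective F := hF.bijective_of_nat_card_le hk.ge
        obtain ⟨χ', hχ'⟩ := hb.2 ⟨χ, hχ⟩
        have h1 := congrArg (fun z => (z.1 : G → ℂ)) hχ'
        simp only at h1
        rw [← h1]
        show (χ'.1 : G ⧸ A → ℂ) (π a) = (χ'.1 : G ⧸ A → ℂ) (π 1)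
        rw [map_one, show π a = 1 from (QuotientGroup.eq_one_iff a).mpr ha]
      · have hih := ih (G ⧸ A) hcard (Cfsg.Lib.PLocal.IsPSolvable.of_surjective π hsurj hsolv)
          (P.mapSurjective hsurj)
        let g : ↥(P : Subgroup G) →* ↥((P.mapSurjective hsurj : Sylow p (G ⧸ A)) : Subgroup (G ⧸ A)) :=
          (π.comp (P : Subgroup G).subtype).codRestrict _ fun x => by
            rw [Sylow.coe_mapSurjective]; exact Subgroup.mem_map_of_mem π x.2
        have hg : Function.Surjective g := by
          rintro ⟨y, hy⟩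
          have hy' : y ∈ (P : Subgroup G).map π := by rwa [← Sylow.coe_mapSurjective hsurj]
          obtain ⟨x, hx, rfl⟩ := hy'
          exact ⟨⟨x, hx⟩, rfl⟩
        have h1 := map_derivedSeries_eq hg (Nat.card {χ : Cfsg.IrrCharacter (G ⧸ A) //
          p ∣ Cfsg.charDegree (χ : G ⧸ A → ℂ)} + 1)
        rw [hih] at h1
        rw [Subgroup.map_eq_bot_iff] at h1 ⊢
        intro x hx
        have := congrArg Subtype.val (MonoidHom.mem_ker.mp (h1 hx))
        exact MonoidHom.mem_ker.mpr this
    rcases hK with hKp | hKcop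
    · -- an abelian normal `p`-subgroup
      haveI : Nontrivial K := (Subgroup.nontrivial_iff_ne_bot K).mpr hKne
      have hAn : ((Subgroup.center K).map K.subtype).Normal := inferInstance
      set A := (Subgroup.center K).map K.subtype with hA
      haveI := hAn
      have hAne : A ≠ ⊥ := by
        intro h
        rw [hA, Subgroup.map_eq_bot_iff_of_injective _ K.subtype_injective] at h
        exact (Subgroup.nontrivial_iff_ne_bot _).mp (hKp.center_nontrivial) h
      have hAp : IsPGroup p A := (hKp.to_subgroup _).map K.subtype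
      have hAab : ∀ a ∈ A, ∀ b ∈ A, a * b = b * a := by
        rintro _ ⟨a, ha, rfl⟩ _ ⟨b, -, rfl⟩
        rw [← map_mul, ← map_mul, Subgroup.mem_center_iff.mp ha b]
      obtain ⟨k, hkn, hinfl, hk⟩ := step A hAne
      have hker : ∀ a ∈ ((QuotientGroup.mk' A).comp (P : Subgroup G).subtype).ker,
          ∀ b ∈ ((QuotientGroup.mk' A).comp (P : Subgroup G).subtype).ker, a * b = b * a := fun a ha b hb =>
        Subtype.ext (hAab _ ((QuotientGroup.eq_one_iff _).mp (MonoidHom.mem_ker.mp ha)) _
          ((QuotientGroup.eq_one_iff _).mp (MonoidHom.mem_ker.mp hb)))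
      rcases hkn.lt_or_eq with hlt | heq
      · exact le_bot_iff.mp ((derivedSeries_antitone _ (by omega : k + 1 + 1 ≤ n + 1)).trans
          (derived_succ_eq_bot _ _ hker hk).le)
      -- every character over a nonprincipal character of `A` has degree prime to `p`
      haveI := Fintype.ofFinite A
      obtain ⟨lam, hlam⟩ := exists_ne_one (A := A) (fun h => hAne (Subgroup.card_eq_one.mp h))
      have hlam1 : (lam : A → ℂ) 1 = 1 := by
        have h1 : ∀ a b : A, a * b = b * a := fun a b => Subtype.ext (hAab _ a.2 _ b.2)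
        haveI : IsMulCommutative A := ⟨⟨h1⟩⟩
        haveI : IsMulCommutative (⊤ : Subgroup A) := ⟨⟨fun a b => Subtype.ext (h1 a b)⟩⟩
        have h2 := degree_dvd_index_of_abelian lam.2 (⊤ : Subgroup A) (coe_charDegree lam).symm
        rw [Subgroup.index_top, Nat.dvd_one] at h2
        rw [← coe_charDegree, h2, Nat.cast_one]
      have hover : ∀ χ : G → ℂ, IsIrrCharacter G χ → classInner (fun a : A => χ a) (lam : A → ℂ) ≠ 0 →
          ¬ p ∣ Cfsg.charDegree χ := by
        intro χ hχ hne hdvd
        have h1 := hinfl ⟨χ, hχ⟩ heq hdvd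
        apply hne
        rw [show (fun a : A => χ a) = χ 1 • fun _ : A => (1 : ℂ) from funext fun a => by
          simpa using h1 a a.2, classInner_smul_left, classInner_irr_ne isIrrCharacter_one lam.2 (Ne.symm hlam),
          mul_zero]
      set T := inertia A (lam : A → ℂ) with hT
      have hAT : A ≤ T := le_inertia lam.2.isClassFunction
      haveI := Fintype.ofFinite T
      obtain ⟨χ, hχ, hne⟩ := exists_constituent (isCharacter_indFun A lam.2.isCharacter)
        (by rw [indFun_one_apply]
            exact mul_ne_zero (Nat.cast_ne_zero.mpr Subgroup.index_ne_zero_of_finite) lam.2.one_ne_zero)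
      have hne' : classInner (fun x : A => χ x) (lam : A → ℂ) ≠ 0 := by
        rw [classInner_indFun A _ hχ.isClassFunction] at hne
        intro h; apply hne
        rw [← conj_classInner, h, map_zero]
      obtain ⟨ψ, hψ, hind, hmult⟩ := exists_indFun_eq lam.2 T rfl hAT hχ hne'
      have hdegT : ∀ ψ : T → ℂ, IsIrrCharacter T ψ →
          classInner (fun a : A => ψ ⟨a, hAT a.2⟩) (lam : A → ℂ) ≠ 0 →
          ¬ p ∣ T.index ∧ ¬ p ∣ Cfsg.charDegree ψ := by
        intro ψ hψ hne
        obtain ⟨hirr, -⟩ := indFun_of_mem_inertia lam.2 T rfl hAT hψ hne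
        have hne2 : classInner (fun a : A => indFun T ψ a) (lam : A → ℂ) ≠ 0 :=
          classInner_res_trans T.subtype (Subgroup.inclusion hAT) hirr.isCharacter ⟨ψ, hψ⟩ lam
            (by
              show classInner (fun x : T => indFun T ψ x) ψ ≠ 0
              rw [← classInner_indFun_right T _ hirr.isClassFunction, classInner_irr_self hirr]
              exact one_ne_zero) hne
        have h := hover _ hirr hne2
        rw [charDegree_eq (χ := indFun T ψ) (d := T.index * Cfsg.charDegree ψ) (by
          rw [indFun_one_apply, show ψ 1 = ((Cfsg.charDegree ψ : ℕ) : ℂ) from (coe_charDegree (⟨ψ, hψ⟩ : IrrCharacter T)).symm]; push_cast; ring)] at h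
        exact ⟨fun hd => h (dvd_mul_of_dvd_left hd _), fun hd => h (dvd_mul_of_dvd_right hd _)⟩
      obtain ⟨hTidx, hψdeg⟩ := hdegT ψ hψ (hmult ▸ hne')
      -- the Sylow subgroup of the inertia group
      obtain ⟨R⟩ : Nonempty (Sylow p T) := inferInstance
      have hRcard : Nat.card (R : Subgroup T) = Nat.card (P : Subgroup G) := by
        rw [R.card_eq_multiplicity, P.card_eq_multiplicity]
        congr 1
        rw [← T.card_mul_index, Nat.factorization_mul Nat.card_pos.ne' Subgroup.index_ne_zero_of_finite,
          Finsupp.add_apply, Nat.factorization_eq_zero_of_not_dvd hTidx, add_zero]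
      let R' : Sylow p G := Sylow.ofCard ((R : Subgroup T).map T.subtype) (by
        rw [Nat.card_congr ((R : Subgroup T).equivMapOfInjective _ T.subtype_injective).toEquiv.symm, hRcard,
          P.card_eq_multiplicity])
      let eRP : ↥(R : Subgroup T) ≃* ↥(P : Subgroup G) :=
        ((R : Subgroup T).equivMapOfInjective _ T.subtype_injective).trans (Sylow.equiv R' P)
      suffices hR : derivedSeries ↥(R : Subgroup T) 2 = ⊥ by
        have h2 := map_derivedSeries_eq (f := eRP.toMonoidHom) eRP.surjective 2
        rw [hR, Subgroup.map_bot] at h2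
        exact le_bot_iff.mp ((derivedSeries_antitone _ (by omega : 2 ≤ n + 1)).trans h2.symm.le)
      set A' := A.subgroupOf T with hA'
      haveI := Fintype.ofFinite A'
      let eA : A' ≃* A := Subgroup.subgroupOfEquivOfLe hAT
      have hA'R : A' ≤ (R : Subgroup T) := by
        have h := R.is_maximal' (R.isPGroup'.to_sup_of_normal_right (hAp.of_equiv eA.symm)) le_sup_left
        exact le_sup_right.trans h.le
      let θ : A' → ℂ := fun a => (lam : A → ℂ) (eA a)
      have hθ : IsIrrCharacter A' θ := isIrrCharacter_mulEquiv lam.2 eA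
      have hθinv : ∀ t, conjFn A' θ t = θ := fun t => funext fun a =>
        congrFun (show conjFn A (lam : A → ℂ) (t : G) = (lam : A → ℂ) from t.2) (eA a)
      have hres : ∀ f : T → ℂ, classInner (fun a : A' => f a) θ
          = classInner (fun a : A => f ⟨a, hAT a.2⟩) (lam : A → ℂ) := fun f => by
        rw [← classInner_comp_equiv eA (fun a : A => f ⟨a, hAT a.2⟩)]; rfl
      -- a linear extension to the Sylow subgroup
      haveI := Fintype.ofFinite (R : Subgroup T)
      obtain ⟨m, hm⟩ := exists_decomposition (isCharacter_restrict hψ.isCharacter (R : Subgroup T))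
      obtain ⟨γ, hγm, hγd⟩ : ∃ γ : IrrCharacter (R : Subgroup T), m γ ≠ 0 ∧
          ¬ p ∣ Cfsg.charDegree (γ : ↥(R : Subgroup T) → ℂ) := by
        by_contra hcon
        push Not at hcon
        apply hψdeg
        rw [charDegree_eq (χ := ψ) (d := ∑ γ : IrrCharacter (R : Subgroup T),
          m γ * Cfsg.charDegree (γ : ↥(R : Subgroup T) → ℂ)) (by
            have h := congrFun hm 1
            push_cast
            simp only [coe_charDegree]
            simpa [Finset.sum_apply] using h)]
        refine Finset.dvd_sum fun γ _ => ?_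
        by_cases h : m γ = 0
        · simp [h]
        · exact dvd_mul_of_dvd_right (hcon γ h) _
      have hγ1 : (γ : ↥(R : Subgroup T) → ℂ) 1 = 1 := by
        obtain ⟨e, he⟩ := IsPGroup.iff_card.mp R.isPGroup'
        obtain ⟨j, -, hj⟩ := (Nat.dvd_prime_pow Fact.out).mp (he ▸ charDegree_dvd_card γ)
        rcases j with - | j
        · rw [← coe_charDegree, hj]; simp
        · exact absurd (hj ▸ dvd_pow_self p (Nat.succ_ne_zero j)) hγd
      have hγres : ∀ a : A', (γ : ↥(R : Subgroup T) → ℂ) ⟨(a : T), hA'R a.2⟩ = θ a := by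
        obtain ⟨l, hl⟩ := exists_hom_of_degree_one γ.2.isCharacter hγ1
        let l' : A' →* ℂˣ := l.comp (Subgroup.inclusion hA'R)
        have hl' := isIrrCharacter_linear l'
        have h1 : classInner (fun a : A' => ψ a) (fun a => (l' a : ℂ)) ≠ 0 :=
          classInner_res_trans (R : Subgroup T).subtype (Subgroup.inclusion hA'R) hψ.isCharacter γ ⟨_, hl'⟩
            (by
              show classInner (fun x : (R : Subgroup T) => ψ x) (γ : ↥(R : Subgroup T) → ℂ) ≠ 0
              rw [hm, classInner_sum_irr]
              exact Nat.cast_ne_zero.mpr hγm)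
            (by
              show classInner (fun a : A' => (γ : ↥(R : Subgroup T) → ℂ) ⟨(a : T), hA'R a.2⟩) _ ≠ 0
              rw [show (fun a : A' => (γ : ↥(R : Subgroup T) → ℂ) ⟨(a : T), hA'R a.2⟩) = fun a => (l' a : ℂ) from
                funext fun a => congrFun hl _, classInner_irr_self hl']
              exact one_ne_zero)
        obtain ⟨t, ht⟩ := exists_conjFn_eq hψ hθ hl' (by rw [hres]; exact hmult ▸ hne') h1
        rw [hθinv] at ht
        exact fun a => (congrFun hl _).trans (congrFun ht a)
      obtain ⟨χe, hχe, hext⟩ := exists_extension_of_local hθ hθinv fun q hq => by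
        by_cases hqp : q = p
        · subst hqp
          exact ⟨(R : Subgroup T), hA'R, (γ : ↥(R : Subgroup T) → ℂ), Or.inl
            ⟨(hq.coprime_iff_not_dvd.mpr R.not_dvd_index).symm, γ.2, hγres⟩⟩
        · refine ⟨A', le_rfl, θ, Or.inr ⟨1, Nat.card A', 1, ?_, ?_, fun a => ?_⟩⟩
          · rw [Nat.cast_one]; exact hlam1
          · rw [one_mul]
            intro hd
            obtain ⟨e, he⟩ := IsPGroup.iff_card.mp (hAp.of_equiv eA.symm)
            exact hqp ((Nat.prime_dvd_prime_iff_eq hq Fact.out).mp (hq.dvd_of_dvd_pow (he ▸ hd)))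
          · obtain ⟨D, hD, -⟩ := exists_detHom hθ.isCharacter
            rw [← hD, ← Units.val_pow_eq_pow_val, ← map_pow, pow_card_eq_one', map_one, MonoidHom.one_apply]
      obtain ⟨hA1, -, -⟩ := gallagher_quot hθ hθinv hχe hext
      have hcomm := ((Cfsg.Agent.S4713.result p
        (Cfsg.Lib.PLocal.IsPSolvable.of_surjective (QuotientGroup.mk' A') (QuotientGroup.mk'_surjective A')
          (Cfsg.Lib.PLocal.QuadSection.pSolvable_subgroup hsolv T))
        (R.mapSurjective (QuotientGroup.mk'_surjective A'))).mpr fun β hd => ?_).2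
      · haveI := hcomm
        refine derived_succ_eq_bot ((QuotientGroup.mk' A').comp (R : Subgroup T).subtype) 1
          (fun a ha b hb => Subtype.ext (Subtype.ext (hAab _ ((QuotientGroup.eq_one_iff _).mp
            (MonoidHom.mem_ker.mp ha) : (a : T) ∈ A') _ ((QuotientGroup.eq_one_iff _).mp
            (MonoidHom.mem_ker.mp hb) : (b : T) ∈ A')))) ?_
        rw [derivedSeries_succ, derivedSeries_zero, Subgroup.map_commutator, eq_bot_iff, Subgroup.commutator_le]
        rintro _ ⟨a, -, rfl⟩ _ ⟨b, -, rfl⟩
        have hmem : ∀ x : (R : Subgroup T), (QuotientGroup.mk' A') x ∈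
            ((R.mapSurjective (QuotientGroup.mk'_surjective A') : Sylow p (T ⧸ A')) : Subgroup (T ⧸ A')) := by
          intro x
          rw [Sylow.coe_mapSurjective]
          exact Subgroup.mem_map_of_mem _ x.2
        have h1 : ((QuotientGroup.mk' A').comp (R : Subgroup T).subtype) a *
              ((QuotientGroup.mk' A').comp (R : Subgroup T).subtype) b
            = ((QuotientGroup.mk' A').comp (R : Subgroup T).subtype) b *
              ((QuotientGroup.mk' A').comp (R : Subgroup T).subtype) a :=
          congrArg Subtype.val (mul_comm' (⟨_, hmem a⟩ : ↥((R.mapSurjective (QuotientGroup.mk'_surjective A') :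
            Sylow p (T ⧸ A')) : Subgroup (T ⧸ A'))) ⟨_, hmem b⟩)
        rw [Subgroup.mem_bot, commutatorElement_def, h1]
        group
      · haveI : Fintype (T ⧸ A') := Fintype.ofFinite _
        obtain ⟨hirr, hne3⟩ := hA1 β
        refine (hdegT _ hirr ?_).2 ?_
        · rw [← hres (fun g : T => (β : T ⧸ A' → ℂ) g * χe g)]
          convert hne3
        · rw [charDegree_eq (χ := fun g : T => (β : T ⧸ A' → ℂ) g * χe g)
            (d := Cfsg.charDegree (β : T ⧸ A' → ℂ)) (by
              have h1 := hext 1
              rw [OneMemClass.coe_one] at h1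
              show (β : T ⧸ A' → ℂ) ((1 : T) : T ⧸ A') * χe 1 = _
              rw [h1, show θ 1 = 1 from (congrArg (lam : A → ℂ) (map_one eA)).trans hlam1, mul_one,
                QuotientGroup.mk_one, coe_charDegree])]
          exact hd
    · -- `P` embeds in the quotient
      obtain ⟨k, hkn, -, hk⟩ := step K hKne
      have hinj : Function.Injective ((QuotientGroup.mk' K).comp (P : Subgroup G).subtype) := by
        rw [← MonoidHom.ker_eq_bot_iff, eq_bot_iff]
        intro x hx
        have h1 : (x : G) ∈ K := (QuotientGroup.eq_one_iff _).mp (MonoidHom.mem_ker.mp hx)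
        obtain ⟨e, he⟩ := IsPGroup.iff_card.mp P.isPGroup'
        have h2 : orderOf (x : G) ∣ Nat.card K := by
          rw [← Subgroup.orderOf_mk (x : G) h1]; exact orderOf_dvd_natCard _
        have h3 : orderOf (x : G) ∣ p ^ e := by
          rw [Subgroup.orderOf_coe, ← he]; exact orderOf_dvd_natCard _
        have h4 := Nat.eq_one_of_dvd_coprimes (hKcop.pow_right e) h2 h3
        exact Subgroup.mem_bot.mpr (Subtype.ext (orderOf_eq_one_iff.mp h4))
      rw [Subgroup.map_eq_bot_iff_of_injective _ hinj] at hk
      exact le_bot_iff.mp ((derivedSeries_antitone _ (by omega : k + 1 ≤ n + 1)).trans hk.le)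


/-- Let p be a prime, G a finite p-solvable group and P a Sylow p-subgroup of G. If n is the number of irreducible complex characters of G whose degree is divisible by p, then the (n+1)-st term of the derived series of P is trivial. (The p-solvable case has a direct inductive proof.) -/
theorem result {G : Type*} [Group G] [Finite G] (p : ℕ) [Fact p.Prime] (hG : Cfsg.IsPSolvable p G) (P : Sylow p G) : derivedSeries ↥(P : Subgroup G) (Nat.card {χ : Cfsg.IrrCharacter G // p ∣ Cfsg.charDegree (χ : G → ℂ)} + 1) = ⊥ := by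
  exact derived_length p _ G le_rfl hG P

end Cfsg.Agent.S4768
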