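import Cfsg.Statements.S4774
import Cfsg.Agent.Lib.Classical.TwoDimMcKay
import Cfsg.Agent.Lib.Classical.TwoDimTorusSylow
import Cfsg.Agent.S4765

set_option autoImplicit false
open Cfsg

namespace Cfsg.Agent.S4774

open Matrix Cfsg.Lib.Characters Cfsg.Lib.Classical Cfsg.Lib.Classical.TwoDim

universe u v

theorem charDegrees_congr {G : Type u} {H : Type v} [Group G] [Group H] [Finite G] [Finite H] (e : G ≃* H) :
    Cfsg.charDegrees G = Cfsg.charDegrees H := by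
  refine Set.ext fun d => ⟨?_, ?_⟩
  · rintro ⟨χ, rfl⟩
    exact ⟨⟨_, isIrrCharacter_mulEquiv χ.2 e.symm⟩, by simp [charDegree]⟩
  · rintro ⟨χ, rfl⟩
    exact ⟨⟨_, isIrrCharacter_mulEquiv χ.2 e⟩, by simp [charDegree]⟩

theorem mem_of_numDeg {G : Type u} [Group G] [Finite G] {d : ℕ} (h : numDeg G d ≠ 0) : d ∈ Cfsg.charDegrees G := by
  obtain ⟨⟨χ, hχ⟩⟩ := (Nat.card_ne_zero.mp h).1
  exact ⟨χ, hχ⟩

theorem numDeg_of_not_mem {G : Type u} [Group G] {d : ℕ} (h : d ∉ Cfsg.charDegrees G) : numDeg G d = 0 := by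
  haveI : IsEmpty {χ : IrrCharacter G // charDegree (χ : G → ℂ) = d} := ⟨fun x => h ⟨x.1, x.2⟩⟩
  exact Nat.card_of_isEmpty

variable {F : Type u} [Field F] [Fintype F] [DecidableEq F]

local notation "SL" => SpecialLinearGroup (Fin 2) F
local notation "PSL" => ProjectiveSpecialLinearGroup (Fin 2) F

/-- Inflation of characters. -/
noncomputable def infl (χ : IrrCharacter PSL) : IrrCharacter SL :=
  ⟨_, isIrrCharacter_comp_surjective χ.2 (QuotientGroup.mk' _) (QuotientGroup.mk'_surjective _)⟩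

theorem infl_degree (χ : IrrCharacter PSL) : charDegree (infl χ : SL → ℂ) = charDegree (χ : PSL → ℂ) := by
  simp [charDegree, infl]

theorem numDeg_le (d : ℕ) : numDeg PSL d ≤ numDeg SL d := by
  refine Nat.card_le_card_of_injective
    (fun χ => (⟨infl χ.1, (infl_degree χ.1).trans χ.2⟩ : {χ : IrrCharacter SL // charDegree (χ : SL → ℂ) = d})) ?_
  intro a b h
  refine Subtype.ext (Subtype.ext (funext fun w => ?_))
  obtain ⟨A, rfl⟩ := QuotientGroup.mk_surjective w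
  exact congrFun (congrArg (fun x => (x.1 : SL → ℂ)) h) A

theorem degrees_psl {r : ℕ} (hr : Fintype.card F = 2 * r + 1) (hr3 : 3 ≤ r) {t : ℕ} [Fact t.Prime] [CharP F t] :
    (∀ d ∈ Cfsg.charDegrees PSL, d ∈ ({1, 2 * r + 1, 2 * r + 2, 2 * r, r + 1, r} : Finset ℕ)) ∧
      2 * r + 1 ∈ Cfsg.charDegrees PSL ∧ 2 * r + 2 ∈ Cfsg.charDegrees PSL ∧ 2 * r ∈ Cfsg.charDegrees PSL := by
  classical
  haveI : Fintype PSL := Fintype.ofFinite _
  obtain ⟨h1, hq, -, -, hp, hm⟩ := numDeg_SL (F := F) hr (by omega)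
  have hmem : ∀ d ∈ Cfsg.charDegrees PSL, d ∈ ({1, 2 * r + 1, 2 * r + 2, 2 * r, r + 1, r} : Finset ℕ) := by
    rintro d ⟨χ, rfl⟩
    rw [← infl_degree]
    exact degree_mem hr (infl χ)
  obtain ⟨hc, hdq⟩ := Cfsg.Agent.S4765.result t F (by omega)
  obtain ⟨⟨χ, hχ⟩⟩ := (Nat.card_ne_zero.mp (hc.trans_ne one_ne_zero)).1
  have hdeg : charDegree (χ : PSL → ℂ) = 2 * r + 1 := (hdq χ hχ).trans hr
  have hcenter : Nat.card (Subgroup.center SL) = 2 := by
    rw [Nat.card_congr (Matrix.SpecialLinearGroup.center_equiv_rootsOfUnity).toEquiv]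
    have h2 : (2 : F) ≠ 0 := two_ne_zero_of_odd ⟨r, hr⟩
    haveI : NeZero ((2 : ℕ) : F) := ⟨by exact_mod_cast h2⟩
    haveI := ringChar.charP F
    have hprim : IsPrimitiveRoot (-1 : F) 2 := IsPrimitiveRoot.neg_one (ringChar F) (ringChar_ne_two ⟨r, hr⟩)
    simp only [Fintype.card_fin, max_eq_left (show 1 ≤ 2 by norm_num)]
    exact hprim.card_rootsOfUnity
  have hcard : Nat.card PSL = 2 * r * (r + 1) * (2 * r + 1) := by
    have h := Subgroup.card_eq_card_quotient_mul_card_subgroup (Subgroup.center SL)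
    rw [hcenter, card_SL, hr, show 2 * r + 1 - 1 = 2 * r by omega] at h
    have h' : Nat.card PSL * 2 = 2 * r * (r + 1) * (2 * r + 1) * 2 := h.symm.trans (by ring)
    omega
  obtain ⟨-, hsum, -⟩ := degree_split (G := PSL) {1, 2 * r + 1, 2 * r + 2, 2 * r, r + 1, r} fun χ => hmem _ ⟨χ, rfl⟩
  have e1 : numDeg PSL 1 = 1 := le_antisymm ((numDeg_le (F := F) 1).trans_eq h1) (Nat.one_le_iff_ne_zero.mpr (by
    haveI : Nonempty {χ : IrrCharacter PSL // charDegree (χ : PSL → ℂ) = 1} :=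
      ⟨⟨⟨_, isIrrCharacter_one⟩, charDegree_eq (by simp)⟩⟩
    exact Nat.card_pos.ne'))
  have eq : numDeg PSL (2 * r + 1) = 1 := le_antisymm ((numDeg_le (F := F) _).trans_eq hq) (Nat.one_le_iff_ne_zero.mpr (by
    haveI : Nonempty {χ : IrrCharacter PSL // charDegree (χ : PSL → ℂ) = 2 * r + 1} := ⟨⟨χ, hdeg⟩⟩
    exact Nat.card_pos.ne'))
  have hc' : numDeg PSL (r + 1) ≤ 2 := (numDeg_le (F := F) _).trans_eq hp
  have hd' : numDeg PSL r ≤ 2 := (numDeg_le (F := F) _).trans_eq hm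
  rw [hcard, Finset.sum_insert (by simp; omega), Finset.sum_insert (by simp; omega), Finset.sum_insert (by simp; omega),
    Finset.sum_insert (by simp; omega), Finset.sum_insert (by simp), Finset.sum_singleton, e1, eq] at hsum
  refine ⟨hmem, ⟨χ, hdeg⟩, ?_, ?_⟩
  · by_contra h
    rw [numDeg_of_not_mem h] at hsum
    generalize numDeg PSL (2 * r) = b at hsum
    generalize numDeg PSL (r + 1) = c at hsum hc'
    generalize numDeg PSL r = d at hsum
    have hdvd : (r : ℤ) ∣ 2 + c := ⟨2 * ((r : ℤ) + 1) * (2 * r + 1) - 4 * r - 4 - 4 * b * r - c * r - 2 * c - d * r, by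
      have hs : (2 * r * (r + 1) * (2 * r + 1) : ℤ) = 1 * 1 ^ 2 + (1 * (2 * r + 1) ^ 2 + (0 * (2 * r + 2) ^ 2 +
          (b * (2 * r) ^ 2 + (c * (r + 1) ^ 2 + d * r ^ 2)))) := by exact_mod_cast hsum
      linear_combination -hs⟩
    have hle := Int.le_of_dvd (by positivity) hdvd
    have hr4 : r ≤ 4 := by omega
    interval_cases r <;> interval_cases c <;> omega
  · by_contra h
    rw [numDeg_of_not_mem h] at hsum
    generalize numDeg PSL (2 * r + 2) = a at hsum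
    generalize numDeg PSL (r + 1) = c at hsum
    generalize numDeg PSL r = d at hsum hd'
    have hdvd : ((r : ℤ) + 1) ∣ 2 + d := ⟨2 * r * (2 * r + 1) - 4 * r - 4 * a * (r + 1) - c * (r + 1) - d * r + d, by
      have hs : (2 * r * (r + 1) * (2 * r + 1) : ℤ) = 1 * 1 ^ 2 + (1 * (2 * r + 1) ^ 2 + (a * (2 * r + 2) ^ 2 +
          (0 * (2 * r) ^ 2 + (c * (r + 1) ^ 2 + d * r ^ 2)))) := by exact_mod_cast hsum
      linear_combination -hs⟩
    have hle := Int.le_of_dvd (by positivity) hdvd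
    have hr4 : r ≤ 3 := by omega
    interval_cases r <;> interval_cases d <;> omega


/-- Let F be a finite field of odd characteristic t with q > 5 elements and let S be isomorphic to PSL(2,F) or to SL(2,F). Then the vertices of the character degree graph of S are the primes dividing q(q²−1); the prime t is adjacent to no vertex; two distinct primes dividing q² − 1 are adjacent exactly when one of them is 2, or both divide q + 1, or both divide q − 1. -/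
theorem result (F : Type*) [Field F] [Fintype F] (t : ℕ) [Fact t.Prime] [CharP F t] (ht : t ≠ 2) (q : ℕ) (hq : Fintype.card F = q) (h5 : 5 < q) {S : Type*} [Group S] [Finite S] (hS : Nonempty (S ≃* Matrix.ProjectiveSpecialLinearGroup (Fin 2) F) ∨ Nonempty (S ≃* Matrix.SpecialLinearGroup (Fin 2) F)) : Cfsg.degreePrimes S = {r : ℕ | r.Prime ∧ r ∣ q * (q ^ 2 - 1)} ∧ ∀ r s : ℕ, (Cfsg.degreeGraph S).Adj r s ↔ (r ≠ s ∧ r.Prime ∧ s.Prime ∧ r ∣ q ^ 2 - 1 ∧ s ∣ q ^ 2 - 1 ∧ (r = 2 ∨ s = 2 ∨ (r ∣ q + 1 ∧ s ∣ q + 1) ∨ (r ∣ q - 1 ∧ s ∣ q - 1))) := by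
  classical
  have htp : t.Prime := Fact.out
  obtain ⟨e, -, he⟩ := FiniteField.card F t
  rw [hq] at he
  have hodd : Odd q := he ▸ (htp.odd_of_ne_two ht).pow
  obtain ⟨r, rfl⟩ := hodd
  obtain ⟨hmemP, hqP, hpP, hmP⟩ := degrees_psl (t := t) hq (by omega)
  have hsub : (∀ d ∈ Cfsg.charDegrees S, d ∈ ({1, 2 * r + 1, 2 * r + 2, 2 * r, r + 1, r} : Finset ℕ)) ∧
      2 * r + 1 ∈ Cfsg.charDegrees S ∧ 2 * r + 2 ∈ Cfsg.charDegrees S ∧ 2 * r ∈ Cfsg.charDegrees S := by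
    rcases hS with ⟨⟨e⟩⟩ | ⟨⟨e⟩⟩
    · rw [charDegrees_congr e]
      exact ⟨hmemP, hqP, hpP, hmP⟩
    · rw [charDegrees_congr e]
      have hup : ∀ d, d ∈ Cfsg.charDegrees (ProjectiveSpecialLinearGroup (Fin 2) F) → d ∈ Cfsg.charDegrees (SpecialLinearGroup (Fin 2) F) :=
        fun d ⟨χ, hχ⟩ => ⟨infl χ, (infl_degree χ).trans hχ⟩
      exact ⟨fun d ⟨χ, hχ⟩ => hχ ▸ degree_mem hq χ, hup _ hqP, hup _ hpP, hup _ hmP⟩
  obtain ⟨hmem, hQ, hPl, hMi⟩ := hsub
  have hsq : (2 * r + 1) ^ 2 - 1 = (2 * r + 2) * (2 * r) := by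
    rw [Nat.sub_eq_iff_eq_add (Nat.one_le_pow _ _ (by omega))]; ring
  rw [hsq, show 2 * r + 1 + 1 = 2 * r + 2 by ring, show 2 * r + 1 - 1 = 2 * r by omega]
  refine ⟨Set.ext fun a => ⟨?_, ?_⟩, fun a b => ⟨?_, ?_⟩⟩
  · rintro ⟨ha, d, hd, had⟩
    refine ⟨ha, ?_⟩
    have h := hmem d hd
    simp only [Finset.mem_insert, Finset.mem_singleton] at h
    rcases h with rfl | rfl | rfl | rfl | rfl | rfl
    · exact absurd (Nat.dvd_one.mp had) ha.ne_one
    · exact had.mul_right _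
    · exact (had.mul_right _).mul_left _
    · exact (had.mul_left _).mul_left _
    · exact ((had.trans ⟨2, by ring⟩).mul_right _).mul_left _
    · exact ((had.trans (dvd_mul_left _ 2)).mul_left _).mul_left _
  · rintro ⟨ha, had⟩
    refine ⟨ha, ?_⟩
    rcases ha.dvd_mul.mp had with h | h
    · exact ⟨_, hQ, h⟩
    · rcases ha.dvd_mul.mp h with h | h
      · exact ⟨_, hPl, h⟩
      · exact ⟨_, hMi, h⟩
  · rintro ⟨hne, ha, hb, d, hd, hab⟩
    have haa : a ∣ d := (dvd_mul_right a b).trans hab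
    have hbb : b ∣ d := (dvd_mul_left b a).trans hab
    have h := hmem d hd
    simp only [Finset.mem_insert, Finset.mem_singleton] at h
    have key : (a ∣ 2 * r + 2 ∧ b ∣ 2 * r + 2) ∨ (a ∣ 2 * r ∧ b ∣ 2 * r) := by
      rcases h with rfl | rfl | rfl | rfl | rfl | rfl
      · exact absurd (Nat.dvd_one.mp haa) ha.ne_one
      · exfalso
        rw [he] at haa hbb
        exact hne (((Nat.prime_dvd_prime_iff_eq ha htp).mp (ha.dvd_of_dvd_pow haa)).trans
          ((Nat.prime_dvd_prime_iff_eq hb htp).mp (hb.dvd_of_dvd_pow hbb)).symm)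
      · exact Or.inl ⟨haa, hbb⟩
      · exact Or.inr ⟨haa, hbb⟩
      · exact Or.inl ⟨haa.trans ⟨2, by ring⟩, hbb.trans ⟨2, by ring⟩⟩
      · exact Or.inr ⟨haa.trans (dvd_mul_left _ 2), hbb.trans (dvd_mul_left _ 2)⟩
    refine ⟨hne, ha, hb, ?_, ?_, Or.inr (Or.inr key)⟩
    · exact key.elim (fun k => k.1.mul_right _) (fun k => k.1.mul_left _)
    · exact key.elim (fun k => k.2.mul_right _) (fun k => k.2.mul_left _)
  · rintro ⟨hne, ha, hb, had, hbd, h⟩
    refine ⟨hne, ha, hb, ?_⟩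
    have hco : Nat.Coprime a b := (Nat.coprime_primes ha hb).mpr hne
    have h2p : 2 ∣ 2 * r + 2 := ⟨r + 1, by ring⟩
    have h2m : 2 ∣ 2 * r := dvd_mul_right 2 r
    rcases h with rfl | rfl | ⟨h1, h2⟩ | ⟨h1, h2⟩
    · rcases hb.dvd_mul.mp hbd with k | k
      · exact ⟨_, hPl, hco.mul_dvd_of_dvd_of_dvd h2p k⟩
      · exact ⟨_, hMi, hco.mul_dvd_of_dvd_of_dvd h2m k⟩
    · rcases ha.dvd_mul.mp had with k | k
      · exact ⟨_, hPl, hco.mul_dvd_of_dvd_of_dvd k h2p⟩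
      · exact ⟨_, hMi, hco.mul_dvd_of_dvd_of_dvd k h2m⟩
    · exact ⟨_, hPl, hco.mul_dvd_of_dvd_of_dvd h1 h2⟩
    · exact ⟨_, hMi, hco.mul_dvd_of_dvd_of_dvd h1 h2⟩

end Cfsg.Agent.S4774
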