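import Cfsg.Statements.S4866
import Cfsg.Agent.Lib.Characters.FixedChars
import Cfsg.Agent.Lib.Characters.OddReal
-- import your own Cfsg.Agent.* helpers here

set_option autoImplicit false
open Cfsg Cfsg.Lib.Characters
open scoped ComplexConjugate

namespace Cfsg.Agent.S4866


section
variable {G : Type*} [Group G] [Finite G] (K : Subgroup G) [K.Normal]

/-- Conjugation action on the irreducible characters of a normal subgroup. -/
noncomputable def irrAct : MulAction G (IrrCharacter K) where
  smul g θ := ⟨conjFn K (θ : K → ℂ) g⁻¹, isIrrCharacter_conjFn θ.2 g⁻¹⟩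
  one_smul θ := Subtype.ext (by show conjFn K (θ : K → ℂ) 1⁻¹ = _; rw [inv_one, conjFn_one])
  mul_smul a b θ := Subtype.ext (funext fun n => by
    show conjFn K (θ : K → ℂ) (a * b)⁻¹ n = conjFn K (conjFn K (θ : K → ℂ) b⁻¹) a⁻¹ n
    rw [conjFn_apply, conjFn_apply, conjFn_apply]
    exact congrArg (θ : K → ℂ) (Subtype.ext (by
      show (a * b)⁻¹ * (n : G) * (a * b)⁻¹⁻¹ = b⁻¹ * (a⁻¹ * (n : G) * a⁻¹⁻¹) * b⁻¹⁻¹
      group)))

/-- The real irreducible characters of `K`. -/
def RealIrr : Type _ := {θ : IrrCharacter K // ∀ k : K, ((θ : K → ℂ) k).im = 0}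

/-- The classes of `K` closed under inversion. -/
def RealCl : Type _ := {C : ConjClasses K // ∀ k : K, ConjClasses.mk k = C → IsConj k k⁻¹}

noncomputable instance realIrrAct : MulAction G (RealIrr K) where
  smul g θ := ⟨(irrAct K).smul g θ.1, fun k => by
    show (conjFn K (θ.1 : K → ℂ) g⁻¹ k).im = 0
    rw [conjFn_apply]; exact θ.2 _⟩
  one_smul θ := Subtype.ext ((irrAct K).one_smul θ.1)
  mul_smul a b θ := Subtype.ext ((irrAct K).mul_smul a b θ.1)

noncomputable instance realClAct : MulAction G (RealCl K) where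
  smul g C := ⟨ConjClasses.map (MulAut.conjNormal g : K ≃* K).toMonoidHom C.1, fun k hk => by
    obtain ⟨c, hc⟩ := ConjClasses.mk_surjective C.1
    rw [← hc, conjClassesMap_mk, ConjClasses.mk_eq_mk_iff_isConj] at hk
    have h := (MulAut.conjNormal g : K ≃* K).toMonoidHom.map_isConj (C.2 c hc)
    rw [map_inv] at h
    obtain ⟨t, ht⟩ := isConj_iff.mp hk
    have hk' : IsConj k⁻¹ ((MulAut.conjNormal g : K ≃* K).toMonoidHom c)⁻¹ :=
      isConj_iff.mpr ⟨t, by rw [← ht]; group⟩
    exact (hk.trans h).trans hk'.symm⟩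
  one_smul C := Subtype.ext (by
    obtain ⟨c, hc⟩ := ConjClasses.mk_surjective C.1
    show ConjClasses.map (MulAut.conjNormal (1 : G) : K ≃* K).toMonoidHom C.1 = C.1
    rw [← hc, conjClassesMap_mk]
    simp)
  mul_smul a b C := Subtype.ext (by
    obtain ⟨c, hc⟩ := ConjClasses.mk_surjective C.1
    show ConjClasses.map (MulAut.conjNormal (a * b) : K ≃* K).toMonoidHom C.1
      = ConjClasses.map (MulAut.conjNormal a : K ≃* K).toMonoidHom
          (ConjClasses.map (MulAut.conjNormal b : K ≃* K).toMonoidHom C.1)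
    rw [← hc, conjClassesMap_mk, conjClassesMap_mk, conjClassesMap_mk]
    simp [map_mul])

/-- An element acting as inversion acts trivially when its order modulo `K` is odd. -/
theorem fixed_of_anti {β : Type*} (F : K → β) (hF : ∀ a b : K, IsConj a b → F a = F b) (g : G) (hodd : Odd K.index)
    (S : Set K) (hS : ∀ k ∈ S, k⁻¹ ∈ S ∧ MulAut.conjNormal g k ∈ S)
    (hanti : ∀ k ∈ S, F (MulAut.conjNormal g k) = F k⁻¹) {k : K} (hk : k ∈ S) :
    F k⁻¹ = F k ∧ F (MulAut.conjNormal g k) = F k := by
  have hev : ∀ i : ℕ, ∀ k ∈ S, F (MulAut.conjNormal (g ^ (2 * i)) k) = F k := by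
    intro i
    induction i with
    | zero => intro k _; simp
    | succ i ih =>
      intro k hk
      rw [show g ^ (2 * (i + 1)) = g ^ (2 * i) * g * g by
        rw [mul_assoc, ← pow_two, ← pow_add]
        congr 1]
      simp only [map_mul, MulAut.mul_apply]
      have h1 := (hS k hk).2
      rw [ih _ (hS _ h1).2, hanti _ h1, ← map_inv, hanti _ (hS k hk).1, inv_inv]
  have hinv : ∀ k ∈ S, F k⁻¹ = F k := by
    intro k hk
    obtain ⟨i, hi⟩ := hodd
    have hgm : g ^ (2 * i + 1) ∈ K := by rw [← hi]; exact K.pow_index_mem g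
    have h1 : F (MulAut.conjNormal (g ^ (2 * i + 1)) k) = F k :=
      hF _ _ (isConj_iff.mpr ⟨⟨_, inv_mem hgm⟩, Subtype.ext (by
        simp only [Subgroup.coe_mul, Subgroup.coe_inv, MulAut.conjNormal_apply]
        group)⟩)
    rw [pow_succ, map_mul, MulAut.mul_apply, hev i _ (hS k hk).2, hanti k hk] at h1
    exact h1
  exact ⟨hinv k hk, (hanti k hk).trans (hinv k hk)⟩

/-- The fixed points of one element on real characters and on real classes are equinumerous. -/
theorem card_fixedBy_eq (hodd : Odd K.index) (g : G) :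
    Nat.card (MulAction.fixedBy (RealIrr K) g) = Nat.card (MulAction.fixedBy (RealCl K) g) := by
  classical
  haveI := Fintype.ofFinite K
  let α : K ≃* K := MulAut.conjNormal g
  let σ : IrrCharacter K ≃ IrrCharacter K :=
    { toFun := fun χ => ⟨fun n => conj ((χ : K → ℂ) (α.symm n)),
        isIrrCharacter_conjVal (isIrrCharacter_comp_surjective χ.2 α.symm.toMonoidHom α.symm.surjective)⟩
      invFun := fun χ => ⟨fun n => conj ((χ : K → ℂ) (α n)),
        isIrrCharacter_conjVal (isIrrCharacter_comp_surjective χ.2 α.toMonoidHom α.surjective)⟩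
      left_inv := fun χ => Subtype.ext (funext fun n => by simp)
      right_inv := fun χ => Subtype.ext (funext fun n => by simp) }
  let τ : ConjClasses K ≃ ConjClasses K :=
    { toFun := fun C => Quotient.liftOn C (fun k => ConjClasses.mk (α k)⁻¹) (fun a b hab => by
        obtain ⟨t, ht⟩ := isConj_iff.mp (show IsConj a b from hab)
        exact ConjClasses.mk_eq_mk_iff_isConj.mpr (isConj_iff.mpr ⟨α t, by rw [← ht, map_mul, map_mul, map_inv]; group⟩))
      invFun := fun C => Quotient.liftOn C (fun k => ConjClasses.mk (α.symm k⁻¹)) (fun a b hab => by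
        obtain ⟨t, ht⟩ := isConj_iff.mp (show IsConj a b from hab)
        exact ConjClasses.mk_eq_mk_iff_isConj.mpr (isConj_iff.mpr ⟨α.symm t, by rw [← ht, ← map_inv, ← map_mul, ← map_mul]; congr 1; group⟩))
      left_inv := fun C => by
        induction C using Quotient.inductionOn with
        | h k => exact congrArg ConjClasses.mk (show α.symm ((α k)⁻¹)⁻¹ = k by rw [inv_inv, α.symm_apply_apply])
      right_inv := fun C => by
        induction C using Quotient.inductionOn with
        | h k => exact congrArg ConjClasses.mk (show (α (α.symm k⁻¹))⁻¹ = k by rw [α.apply_symm_apply, inv_inv]) }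
  have key := card_fixed_irr_eq σ τ fun χ a b h => by
    show conj ((χ : K → ℂ) (α.symm b)) = _
    obtain ⟨t, ht⟩ := isConj_iff.mp (ConjClasses.mk_eq_mk_iff_isConj.mp h)
    rw [← char_inv_eq_conj χ.2.isCharacter, ← map_inv]
    have h2 : α.symm t * α.symm b⁻¹ * (α.symm t)⁻¹ = a := by
      rw [← map_mul, ← map_inv, ← map_mul, ← conj_inv, ht, inv_inv, α.symm_apply_apply]
    rw [← h2, χ.2.isClassFunction]
  have hL : ∀ χ : IrrCharacter K, σ χ = χ ↔
      (∀ k : K, ((χ : K → ℂ) k).im = 0) ∧ conjFn K (χ : K → ℂ) g⁻¹ = (χ : K → ℂ) := by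
    intro χ
    have hconjFn : ∀ n, conjFn K (χ : K → ℂ) g⁻¹ n = (χ : K → ℂ) (α.symm n) := fun n => by
      rw [conjFn_apply]
      exact congrArg (χ : K → ℂ) (Subtype.ext (by simp [α, MulAut.conjNormal_symm_apply]))
    constructor
    · intro h
      have hanti : ∀ n : K, (χ : K → ℂ) (α n) = (χ : K → ℂ) n⁻¹ := fun n => by
        have h1 : conj ((χ : K → ℂ) (α.symm (α n))) = (χ : K → ℂ) (α n) := congrFun (congrArg Subtype.val h) (α n)
        rw [α.symm_apply_apply, ← char_inv_eq_conj χ.2.isCharacter] at h1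
        exact h1.symm
      have hfix := fun n : K => fixed_of_anti K (χ : K → ℂ)
        (fun a b hab => isClassFunction_iff_isConj.mp χ.2.isClassFunction a b hab) g hodd Set.univ
        (fun _ _ => ⟨trivial, trivial⟩) (fun k _ => hanti k) (k := n) trivial
      refine ⟨fun k => Complex.conj_eq_iff_im.mp (by rw [← char_inv_eq_conj χ.2.isCharacter]; exact (hfix k).1),
        funext fun n => ?_⟩
      rw [hconjFn]
      have h2 : (χ : K → ℂ) (α (α.symm n)) = (χ : K → ℂ) (α.symm n) := (hfix (α.symm n)).2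
      rwa [α.apply_symm_apply, eq_comm] at h2
    · rintro ⟨h1, h2⟩
      refine Subtype.ext (funext fun n => ?_)
      show conj ((χ : K → ℂ) (α.symm n)) = _
      rw [Complex.conj_eq_iff_im.mpr (h1 _), ← hconjFn, h2]
  have hR : ∀ C : ConjClasses K, τ C = C ↔ (∀ k : K, ConjClasses.mk k = C → IsConj k k⁻¹) ∧
      ConjClasses.map α.toMonoidHom C = C := by
    intro C
    obtain ⟨c, rfl⟩ := ConjClasses.mk_surjective C
    show ConjClasses.mk (α c)⁻¹ = ConjClasses.mk c ↔ _ ∧ ConjClasses.mk (α c) = ConjClasses.mk c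
    have hinv : ∀ a b : K, IsConj a b → IsConj a⁻¹ b⁻¹ := fun a b hab => by
      obtain ⟨t, ht⟩ := isConj_iff.mp hab
      exact isConj_iff.mpr ⟨t, by rw [← ht]; group⟩
    constructor
    · intro h
      have h' : IsConj (α c) c⁻¹ := by
        have := hinv _ _ (ConjClasses.mk_eq_mk_iff_isConj.mp h)
        rwa [inv_inv] at this
      let S : Set K := {k | IsConj k c ∨ IsConj k c⁻¹}
      have hα : ∀ a b : K, IsConj a b → IsConj (α a) (α b) := fun a b hab => α.toMonoidHom.map_isConj hab
      have hαinv : IsConj (α c⁻¹) c := by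
        have := hinv _ _ h'
        rwa [inv_inv, ← map_inv] at this
      have hS : ∀ k ∈ S, k⁻¹ ∈ S ∧ α k ∈ S := by
        rintro k (hk | hk)
        · exact ⟨Or.inr (hinv _ _ hk), Or.inr ((hα _ _ hk).trans h')⟩
        · exact ⟨Or.inl (by simpa using hinv _ _ hk), Or.inl ((hα _ _ hk).trans hαinv)⟩
      obtain ⟨e1, e2⟩ := fixed_of_anti K ConjClasses.mk (fun a b hab => ConjClasses.mk_eq_mk_iff_isConj.mpr hab)
        g hodd S hS (fun k hk => ConjClasses.mk_eq_mk_iff_isConj.mpr (by
          rcases hk with hk | hk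
          · exact ((hα _ _ hk).trans h').trans (hinv _ _ hk).symm
          · have h3 : IsConj k⁻¹ c := by simpa using hinv _ _ hk
            exact ((hα _ _ hk).trans hαinv).trans h3.symm)) (k := c) (Or.inl (IsConj.refl c))
      refine ⟨fun k hk => ?_, e2⟩
      rw [ConjClasses.mk_eq_mk_iff_isConj] at hk
      exact (hk.trans (ConjClasses.mk_eq_mk_iff_isConj.mp e1).symm).trans (hinv _ _ hk).symm
    · rintro ⟨h1, h2⟩
      rw [ConjClasses.mk_eq_mk_iff_isConj] at h2 ⊢
      exact (hinv _ _ h2).trans (h1 c rfl).symm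
  let eA : MulAction.fixedBy (RealIrr K) g ≃ {χ : IrrCharacter K // σ χ = χ} :=
    { toFun := fun θ => ⟨θ.1.1, (hL _).mpr ⟨θ.1.2, congrArg Subtype.val (congrArg Subtype.val θ.2)⟩⟩
      invFun := fun χ => ⟨⟨χ.1, ((hL _).mp χ.2).1⟩, Subtype.ext (Subtype.ext ((hL _).mp χ.2).2)⟩
      left_inv := fun _ => rfl
      right_inv := fun _ => rfl }
  let eB : MulAction.fixedBy (RealCl K) g ≃ {C : ConjClasses K // τ C = C} :=
    { toFun := fun C => ⟨C.1.1, (hR _).mpr ⟨C.1.2, congrArg Subtype.val C.2⟩⟩
      invFun := fun C => ⟨⟨C.1, ((hR _).mp C.2).1⟩, Subtype.ext ((hR _).mp C.2).2⟩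
      left_inv := fun _ => rfl
      right_inv := fun _ => rfl }
  rw [Nat.card_congr eA, key, Nat.card_congr eB]

/-- The orbit counts agree. -/
theorem card_orbits_eq (hodd : Odd K.index) :
    Nat.card (MulAction.orbitRel.Quotient G (RealIrr K)) = Nat.card (MulAction.orbitRel.Quotient G (RealCl K)) := by
  haveI : Finite (RealIrr K) := inferInstanceAs (Finite {θ : IrrCharacter K // _})
  haveI : Finite (RealCl K) := inferInstanceAs (Finite {C : ConjClasses K // _})
  haveI := Fintype.ofFinite G
  have hA := Nat.card_congr (MulAction.sigmaFixedByEquivOrbitsProdGroup G (RealIrr K))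
  have hB := Nat.card_congr (MulAction.sigmaFixedByEquivOrbitsProdGroup G (RealCl K))
  rw [Nat.card_sigma, Nat.card_prod] at hA hB
  rw [Finset.sum_congr rfl fun g _ => card_fixedBy_eq K hodd g, hB] at hA
  exact (Nat.eq_of_mul_eq_mul_right Nat.card_pos hA).symm

/-- The orbit quotient as a quotient of real elements. -/
theorem card_orbits_realCl :
    Nat.card (MulAction.orbitRel.Quotient G (RealCl K))
      = Nat.card (Quot (fun x y : {x : K // IsConj x x⁻¹} => ∃ g : G, (y.1 : G) = g * x.1 * g⁻¹)) := by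
  refine (Nat.card_congr (Equiv.ofBijective
    (Quot.lift (fun x : {x : K // IsConj x x⁻¹} => (Quotient.mk'' (⟨ConjClasses.mk x.1, fun k hk => ?_⟩ : RealCl K) :
      MulAction.orbitRel.Quotient G (RealCl K))) ?_) ⟨?_, ?_⟩)).symm
  · rw [ConjClasses.mk_eq_mk_iff_isConj] at hk
    obtain ⟨t, ht⟩ := isConj_iff.mp hk
    exact (hk.trans x.2).trans (isConj_iff.mpr ⟨t, by rw [← ht]; group⟩ : IsConj k⁻¹ x.1⁻¹).symm
  · rintro x y ⟨g, hg⟩
    refine (Quotient.sound' ?_).symm
    refine ⟨g, Subtype.ext ?_⟩
    exact congrArg ConjClasses.mk (Subtype.ext (hg.symm) : (MulAut.conjNormal g : K ≃* K) x.1 = y.1)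
  · intro a b h
    induction a using Quot.ind with
    | mk x =>
      induction b using Quot.ind with
      | mk y =>
        have h' := Quotient.exact' h
        obtain ⟨g, hg⟩ := h'
        have h2 : ConjClasses.mk ((MulAut.conjNormal g : K ≃* K) y.1) = ConjClasses.mk x.1 := congrArg Subtype.val hg
        obtain ⟨t, ht⟩ := isConj_iff.mp (ConjClasses.mk_eq_mk_iff_isConj.mp h2)
        refine (Quot.sound ⟨(t : G) * g, ?_⟩).symm
        have h3 := congrArg Subtype.val ht
        simp only [Subgroup.coe_mul, Subgroup.coe_inv, MulAut.conjNormal_apply] at h3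
        rw [← h3]
        group
  · intro q
    induction q using Quotient.inductionOn' with
    | h C =>
      obtain ⟨c, hc⟩ := ConjClasses.mk_surjective C.1
      exact ⟨Quot.mk _ ⟨c, C.2 c hc⟩, congrArg Quotient.mk'' (Subtype.ext hc)⟩

end

/-- Let K be a normal subgroup of odd index in the finite group G. Then G has as many orbits on the real-valued irreducible complex characters of K (acting by conjugation) as it has orbits on the conjugacy classes of K that are real in K; equivalently, the number of G-orbits of real-valued irreducible characters of K equals the number of G-conjugacy classes of elements of K that are conjugate in K to their inverses. -/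
theorem result {G : Type*} [Group G] [Finite G] (K : Subgroup G) [K.Normal] (hodd : Odd K.index) : Nat.card (Quot (fun θ η : {θ : Cfsg.IrrCharacter ↥K // (∀ k : ↥K, ((θ : ↥K → ℂ) k).im = 0)} => ∃ g : G, ∀ k k' : ↥K, (k' : G) = g * (k : G) * g⁻¹ → (η.1 : ↥K → ℂ) k' = (θ.1 : ↥K → ℂ) k)) = Nat.card (Quot (fun x y : {x : ↥K // IsConj x x⁻¹} => ∃ g : G, (y.1 : G) = g * x.1 * g⁻¹)) := by
  rw [← card_orbits_realCl K, ← card_orbits_eq K hodd]
  refine Nat.card_congr (Equiv.ofBijective
    (Quot.lift (fun θ : RealIrr K => (Quotient.mk'' θ : MulAction.orbitRel.Quotient G (RealIrr K))) ?_) ⟨?_, ?_⟩)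
  · rintro θ η ⟨g, hg⟩
    refine (Quotient.sound' ?_).symm
    refine ⟨g, Subtype.ext (Subtype.ext (funext fun n => ?_))⟩
    show conjFn K (θ.1 : K → ℂ) g⁻¹ n = _
    rw [conjFn_apply]
    exact (hg _ n (by simp; group)).symm
  · intro a b h
    induction a using Quot.ind with
    | mk θ =>
      induction b using Quot.ind with
      | mk η =>
        have h' := Quotient.exact' h
        obtain ⟨g, hg⟩ := h'
        refine (Quot.sound ⟨g, fun k k' hk => ?_⟩).symm
        have h2 : conjFn K (η.1 : K → ℂ) g⁻¹ k' = (θ.1 : K → ℂ) k' :=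
          congrFun (congrArg Subtype.val (congrArg Subtype.val hg)) k'
        rw [← h2, conjFn_apply]
        exact congrArg (η.1 : K → ℂ) (Subtype.ext (by simp [hk]; group))
  · intro q
    induction q using Quotient.inductionOn' with
    | h θ => exact ⟨Quot.mk _ θ, rfl⟩

end Cfsg.Agent.S4866
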