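import Cfsg.Statements.S4873
import Cfsg.Agent.S4866
import Cfsg.Agent.Lib.Characters.Gallagher
import Cfsg.Agent.Lib.Characters.FSValues
-- import your own Cfsg.Agent.* helpers here

set_option autoImplicit false
open Cfsg Cfsg.Lib.Characters
open scoped ComplexConjugate
set_option maxHeartbeats 1600000

namespace Cfsg.Agent.S4873


section
variable {G : Type*} [Group G] [Fintype G]

/-- An involution of a finset of odd cardinality fixes a point. -/
theorem exists_fixed_of_odd {α : Type*} (s : Finset α) (f : α → α) (hs : Odd s.card)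
    (hf : ∀ a ∈ s, f a ∈ s) (hff : ∀ a ∈ s, f (f a) = a) : ∃ a ∈ s, f a = a := by
  by_contra h
  push Not at h
  have h1 : ∑ _a ∈ s, (1 : ZMod 2) = 0 := Finset.sum_involution (fun a _ => f a)
    (fun a _ => by decide) (fun a ha _ => h a ha) hf hff
  rw [Finset.sum_const, nsmul_one, ZMod.natCast_eq_zero_iff] at h1
  exact (Nat.not_even_iff_odd.mpr hs) (even_iff_two_dvd.mpr h1)

/-- As many real irreducible characters as real classes. -/
theorem card_realIrr : Nat.card {χ : IrrCharacter G // ∀ g, conj ((χ : G → ℂ) g) = (χ : G → ℂ) g}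
    = Nat.card {C : ConjClasses G // ∀ g : G, ConjClasses.mk g = C → IsConj g g⁻¹} := by
  classical
  have hinv : ∀ a b : G, IsConj a b → IsConj a⁻¹ b⁻¹ := fun a b hab => by
    obtain ⟨t, ht⟩ := isConj_iff.mp hab
    exact isConj_iff.mpr ⟨t, by rw [← ht]; group⟩
  let σ : IrrCharacter G ≃ IrrCharacter G :=
    { toFun := fun χ => ⟨fun n => conj ((χ : G → ℂ) n), isIrrCharacter_conjVal χ.2⟩
      invFun := fun χ => ⟨fun n => conj ((χ : G → ℂ) n), isIrrCharacter_conjVal χ.2⟩
      left_inv := fun χ => Subtype.ext (funext fun n => by simp)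
      right_inv := fun χ => Subtype.ext (funext fun n => by simp) }
  let τ : ConjClasses G ≃ ConjClasses G :=
    { toFun := fun C => Quotient.liftOn C (fun k => ConjClasses.mk k⁻¹) (fun a b hab =>
        ConjClasses.mk_eq_mk_iff_isConj.mpr (hinv a b hab))
      invFun := fun C => Quotient.liftOn C (fun k => ConjClasses.mk k⁻¹) (fun a b hab =>
        ConjClasses.mk_eq_mk_iff_isConj.mpr (hinv a b hab))
      left_inv := fun C => by
        induction C using Quotient.inductionOn with
        | h k => exact congrArg ConjClasses.mk (inv_inv k)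
      right_inv := fun C => by
        induction C using Quotient.inductionOn with
        | h k => exact congrArg ConjClasses.mk (inv_inv k) }
  have key := card_fixed_irr_eq σ τ fun χ a b h => by
    show conj ((χ : G → ℂ) b) = _
    rw [← char_inv_eq_conj χ.2.isCharacter]
    exact isClassFunction_iff_isConj.mp χ.2.isClassFunction _ _
      (by simpa using hinv _ _ (ConjClasses.mk_eq_mk_iff_isConj.mp h))
  refine (Nat.card_congr (Equiv.subtypeEquivRight fun χ => ⟨fun h => Subtype.ext (funext h),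
    fun h g => congrFun (congrArg Subtype.val h) g⟩)).trans (key.trans ?_)
  refine Nat.card_congr (Equiv.subtypeEquivRight fun C => ?_)
  induction C using Quotient.inductionOn with
  | h k =>
    show ConjClasses.mk k⁻¹ = ConjClasses.mk k ↔ _
    rw [ConjClasses.mk_eq_mk_iff_isConj]
    exact ⟨fun h g hg => (ConjClasses.mk_eq_mk_iff_isConj.mp hg).trans (h.symm.trans
      (hinv _ _ (ConjClasses.mk_eq_mk_iff_isConj.mp hg)).symm), fun h => (h k rfl).symm⟩

variable (N : Subgroup G) [N.Normal] [Fintype N]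

/-- Real elements and squares are confined to a normal subgroup of odd index. -/
theorem mem_of_real (hodd : Odd N.index) {x y : G} (h : y * x * y⁻¹ = x⁻¹) :
    x ∈ N ∧ ∃ w ∈ N, w * x * w⁻¹ = x⁻¹ := by
  have hev : ∀ i : ℕ, y ^ (2 * i) * x * (y ^ (2 * i))⁻¹ = x := by
    intro i
    induction i with
    | zero => simp
    | succ i ih =>
      have h2 : y * x⁻¹ * y⁻¹ = x := by
        rw [show y * x⁻¹ * y⁻¹ = (y * x * y⁻¹)⁻¹ by group, h, inv_inv]
      rw [show 2 * (i + 1) = 2 * i + 1 + 1 by ring, pow_succ, pow_succ,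
        show y ^ (2 * i) * y * y * x * (y ^ (2 * i) * y * y)⁻¹ = y ^ (2 * i) * (y * (y * x * y⁻¹) * y⁻¹) * (y ^ (2 * i))⁻¹ by group,
        h, h2, ih]
  obtain ⟨i, hi⟩ := hodd
  have hyN : y ^ (2 * i + 1) ∈ N := hi ▸ N.pow_index_mem y
  have hw : y ^ (2 * i + 1) * x * (y ^ (2 * i + 1))⁻¹ = x⁻¹ := by
    rw [pow_succ', show y * y ^ (2 * i) * x * (y * y ^ (2 * i))⁻¹ = y * (y ^ (2 * i) * x * (y ^ (2 * i))⁻¹) * y⁻¹ by group,
      hev i, h]
  refine ⟨?_, _, hyN, hw⟩
  rw [← QuotientGroup.eq_one_iff]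
  have h3 := congrArg (fun g : G => (g : G ⧸ N)) hw
  simp only [QuotientGroup.mk_mul, QuotientGroup.mk_inv, (QuotientGroup.eq_one_iff _).mpr hyN, one_mul,
    inv_one, mul_one] at h3
  have h4 : (x : G ⧸ N) ^ 2 = 1 := by
    rw [sq]
    nth_rewrite 1 [h3]
    exact inv_mul_cancel _
  have h5 := pow_gcd_eq_one.mpr ⟨h4, pow_card_eq_one'⟩
  rwa [← Subgroup.index_eq_card, (Nat.coprime_two_left.mpr ⟨i, hi⟩).gcd_eq_one, pow_one] at h5

/-- The orbits of real characters of `N` are as many as the real characters of `G`. -/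
theorem card_orbits_real (hodd : Odd N.index) :
    Nat.card {χ : IrrCharacter G // ∀ g, conj ((χ : G → ℂ) g) = (χ : G → ℂ) g}
      = Nat.card (MulAction.orbitRel.Quotient G (S4866.RealIrr N)) := by
  rw [card_realIrr, S4866.card_orbits_eq N hodd, S4866.card_orbits_realCl N]
  refine (Nat.card_congr (Equiv.ofBijective
    (Quot.lift (fun x : {x : N // IsConj x x⁻¹} => (⟨ConjClasses.mk (x.1 : G), fun g hg => ?_⟩ :
      {C : ConjClasses G // ∀ g : G, ConjClasses.mk g = C → IsConj g g⁻¹})) ?_) ⟨?_, ?_⟩)).symm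
  · obtain ⟨t, ht⟩ := isConj_iff.mp (ConjClasses.mk_eq_mk_iff_isConj.mp hg)
    obtain ⟨w, hw⟩ := isConj_iff.mp x.2
    have hw' := congrArg Subtype.val hw
    simp only [Subgroup.coe_mul, Subgroup.coe_inv] at hw'
    refine isConj_iff.mpr ⟨t⁻¹ * w * t, ?_⟩
    rw [show g = t⁻¹ * (x.1 : G) * t by rw [← ht]; group]
    rw [show (t⁻¹ * (x.1 : G) * t)⁻¹ = t⁻¹ * (x.1 : G)⁻¹ * t by group, ← hw']
    group
  · rintro x y ⟨g, hg⟩
    exact Subtype.ext (ConjClasses.mk_eq_mk_iff_isConj.mpr (isConj_iff.mpr ⟨g, hg.symm⟩))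
  · intro a b h
    induction a using Quot.ind with
    | mk x =>
      induction b using Quot.ind with
      | mk y =>
        obtain ⟨g, hg⟩ := isConj_iff.mp (ConjClasses.mk_eq_mk_iff_isConj.mp (congrArg Subtype.val h))
        exact Quot.sound ⟨g, hg.symm⟩
  · rintro ⟨C, hC⟩
    obtain ⟨x, rfl⟩ := ConjClasses.mk_surjective C
    obtain ⟨y, hy⟩ := isConj_iff.mp (hC x rfl)
    obtain ⟨hx, w, hwN, hw⟩ := mem_of_real N hodd hy
    exact ⟨Quot.mk _ ⟨⟨x, hx⟩, isConj_iff.mpr ⟨⟨w, hwN⟩, Subtype.ext hw⟩⟩, Subtype.ext rfl⟩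

/-- Every real character of `N` lies under a real character of `G`. -/
theorem exists_real_over (hodd : Odd N.index) (θ : IrrCharacter N)
    (hθ : ∀ n, conj ((θ : N → ℂ) n) = (θ : N → ℂ) n) :
    ∃ χ : IrrCharacter G, (∀ g, conj ((χ : G → ℂ) g) = (χ : G → ℂ) g) ∧
      classInner (fun n : N => (χ : G → ℂ) n) (θ : N → ℂ) ≠ 0 := by
  classical
  choose m hm using fun χ : IrrCharacter G => classInner_nat (isCharacter_restrict χ.2.isCharacter N) θ.2.isCharacter
  have hind : ∀ χ : IrrCharacter G, classInner (indFun N θ.1) (χ : G → ℂ) = (m χ : ℂ) := fun χ => by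
    rw [classInner_indFun N θ.1 χ.2.isClassFunction, ← conj_classInner, hm, map_natCast]
  have hnorm : ((∑ χ, m χ * m χ : ℕ) : ℂ) = (Nat.card (inertia N θ.1) : ℂ) / Nat.card N := by
    rw [card_inertia, ← classInner_indFun_indFun θ.2 θ.2]
    conv_rhs => arg 1; rw [classFunction_expansion (isClassFunction_indFun N θ.1)]
    rw [classInner_sum_left, Nat.cast_sum]
    refine Finset.sum_congr rfl fun χ _ => ?_
    rw [classInner_smul_left, hind, ← conj_classInner, hind, map_natCast, Nat.cast_mul]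
  have hle := le_inertia (N := N) θ.2.isClassFunction
  have hT : Nat.card (inertia N θ.1) = Nat.card N * N.relIndex (inertia N θ.1) := by
    rw [← Subgroup.relIndex_bot_left, ← Subgroup.relIndex_bot_left,
      Subgroup.relIndex_mul_relIndex _ _ _ bot_le hle]
  rw [hT, Nat.cast_mul, mul_div_cancel_left₀ _ (Nat.cast_ne_zero.mpr Nat.card_pos.ne'), Nat.cast_inj] at hnorm
  have hr : Odd (N.relIndex (inertia N θ.1)) :=
    hodd.of_dvd_nat (Subgroup.relIndex_mul_index hle ▸ dvd_mul_right _ _)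
  by_contra hcon
  push Not at hcon
  let c : IrrCharacter G → IrrCharacter G := fun χ => ⟨fun g => conj ((χ : G → ℂ) g), isIrrCharacter_conjVal χ.2⟩
  have h0 : ((∑ χ, m χ * m χ : ℕ) : ZMod 2) = 0 := by
    rw [Nat.cast_sum]
    refine Finset.sum_involution (fun χ _ => c χ) (fun χ _ => ?_) (fun χ _ hne he => ?_)
      (fun χ _ => Finset.mem_univ _) (fun χ _ => Subtype.ext (funext fun g => Complex.conj_conj _))
    · have h1 : m (c χ) = m χ := by
        have h2 : classInner (fun n : N => (c χ : G → ℂ) n) θ.1 = conj (classInner (fun n : N => (χ : G → ℂ) n) θ.1) := by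
          rw [classInner, classInner, map_mul, map_inv₀, map_natCast, map_sum]
          congr 1
          exact Finset.sum_congr rfl fun n _ => by rw [map_mul, Complex.conj_conj, hθ]
        rw [hm, hm, map_natCast] at h2
        exact_mod_cast h2
      rw [h1, ← two_mul, show (2 : ZMod 2) = 0 from rfl, zero_mul]
    · apply hne
      have h2 := hcon χ (fun g => congrFun (congrArg Subtype.val he) g)
      rw [hm, Nat.cast_eq_zero] at h2
      simp [h2]
  rw [hnorm, ZMod.natCast_eq_zero_iff] at h0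
  exact (Nat.not_even_iff_odd.mpr hr) (even_iff_two_dvd.mpr h0)

/-- Every real character of `G` lies over a real character of `N`. -/
theorem exists_real_under (hodd : Odd N.index) (χ : IrrCharacter G)
    (hχ : ∀ g, conj ((χ : G → ℂ) g) = (χ : G → ℂ) g) :
    ∃ θ : S4866.RealIrr N, classInner (fun n : N => (χ : G → ℂ) n) (θ.1 : N → ℂ) ≠ 0 := by
  classical
  obtain ⟨θ, hθ, hne⟩ := classInner_res_ne_zero (N := N) χ.2
  have hcard : Odd (orbitFinset N θ).card := by
    refine hodd.of_dvd_nat ?_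
    have h1 := card_stabilizer_mul_card_orbit (N := N) θ
    rw [← card_inertia, ← Subgroup.card_mul_index N] at h1
    obtain ⟨r, hr⟩ := Subgroup.card_dvd_of_le (le_inertia (N := N) hθ.isClassFunction)
    rw [hr, mul_assoc] at h1
    exact ⟨r, by rw [mul_comm]; exact (Nat.eq_of_mul_eq_mul_left Nat.card_pos h1).symm⟩
  have hmem : ∀ ψ ∈ orbitFinset N θ, IsIrrCharacter N ψ ∧ classInner (fun n : N => (χ : G → ℂ) n) ψ ≠ 0 := by
    intro ψ hψ
    obtain ⟨g, rfl⟩ := mem_orbitFinset.mp hψ
    exact ⟨isIrrCharacter_conjFn hθ g, by rwa [classInner_res_conjFn χ.2.isClassFunction]⟩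
  obtain ⟨ψ, hψ, hfix⟩ := exists_fixed_of_odd (orbitFinset N θ) (fun ψ n => conj (ψ n)) hcard
    (fun ψ hψ => by
      refine mem_orbitFinset.mpr (exists_conjFn_eq χ.2 hθ (isIrrCharacter_conjVal (hmem ψ hψ).1) hne ?_)
      intro h0
      apply (hmem ψ hψ).2
      have h2 := congrArg conj h0
      rw [map_zero, classInner, map_mul, map_inv₀, map_natCast, map_sum] at h2
      rw [classInner, ← h2]
      congr 1
      exact Finset.sum_congr rfl fun n _ => by rw [map_mul, Complex.conj_conj, hχ])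
    (fun ψ _ => funext fun n => Complex.conj_conj _)
  exact ⟨⟨⟨ψ, (hmem ψ hψ).1⟩, fun k => Complex.conj_eq_iff_im.mp (congrFun hfix k)⟩, (hmem ψ hψ).2⟩

/-- At most one real character of `G` lies over a given real character of `N`. -/
theorem real_over_unique (hodd : Odd N.index) (θ : S4866.RealIrr N) (χ χ' : IrrCharacter G)
    (hχ : ∀ g, conj ((χ : G → ℂ) g) = (χ : G → ℂ) g) (hχ' : ∀ g, conj ((χ' : G → ℂ) g) = (χ' : G → ℂ) g)
    (h : classInner (fun n : N => (χ : G → ℂ) n) (θ.1 : N → ℂ) ≠ 0)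
    (h' : classInner (fun n : N => (χ' : G → ℂ) n) (θ.1 : N → ℂ) ≠ 0) : χ = χ' := by
  classical
  choose u hu using exists_real_under N hodd
  let Ψ : {χ : IrrCharacter G // ∀ g, conj ((χ : G → ℂ) g) = (χ : G → ℂ) g} →
      MulAction.orbitRel.Quotient G (S4866.RealIrr N) := fun χ => Quotient.mk'' (u χ.1 χ.2)
  have horb : ∀ (χ : {χ : IrrCharacter G // ∀ g, conj ((χ : G → ℂ) g) = (χ : G → ℂ) g}) (η : S4866.RealIrr N),
      classInner (fun n : N => (χ.1 : G → ℂ) n) (η.1 : N → ℂ) ≠ 0 → Ψ χ = Quotient.mk'' η := by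
    intro χ η hη
    obtain ⟨g, hg⟩ := exists_conjFn_eq χ.1.2 η.1.2 (u χ.1 χ.2).1.2 hη (hu χ.1 χ.2)
    refine Quotient.sound' ⟨g⁻¹, Subtype.ext (Subtype.ext ?_)⟩
    show conjFn N (η.1 : N → ℂ) g⁻¹⁻¹ = _
    rw [inv_inv, ← hg]
  have hsurj : Function.Surjective Ψ := by
    intro q
    induction q using Quotient.inductionOn' with
    | h η =>
      obtain ⟨ξ, hξ, hne⟩ := exists_real_over N hodd η.1 fun n => Complex.conj_eq_iff_im.mpr (η.2 n)
      exact ⟨⟨ξ, hξ⟩, horb _ η hne⟩
  haveI : Finite (S4866.RealIrr N) := inferInstanceAs (Finite {θ : IrrCharacter N // _})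
  have hbij := hsurj.bijective_of_nat_card_le (card_orbits_real N hodd).le
  exact congrArg Subtype.val (hbij.1 (a₁ := ⟨χ, hχ⟩) (a₂ := ⟨χ', hχ'⟩) ((horb _ θ h).trans (horb _ θ h').symm))

end

/-- Let N be a normal subgroup of odd index in the finite group G. Then every irreducible complex character of N with Frobenius–Schur indicator +1 lies under exactly one irreducible character of G with Frobenius–Schur indicator +1. -/
theorem result {G : Type*} [Group G] [Finite G] (N : Subgroup G) [N.Normal] (hodd : Odd N.index) (φ : Cfsg.IrrCharacter ↥N) (hφ : (Nat.card ↥N : ℂ)⁻¹ * ∑ᶠ g : ↥N, (φ : ↥N → ℂ) (g * g) = 1) : ∃! χ : Cfsg.IrrCharacter G, (Nat.card G : ℂ)⁻¹ * ∑ᶠ g : G, (χ : G → ℂ) (g * g) = 1 ∧ (∑ᶠ n : ↥N, (χ : G → ℂ) n * (starRingEnd ℂ) ((φ : ↥N → ℂ) n)) ≠ 0 := by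
  classical
  haveI := Fintype.ofFinite G
  haveI := Fintype.ofFinite N
  simp only [finsum_eq_sum_of_fintype] at hφ ⊢
  have hφreal : ∀ n, conj ((φ : N → ℂ) n) = (φ : N → ℂ) n := by
    by_contra h
    push Not at h
    rw [fs_zero_of_nonreal φ.2 h] at hφ
    exact zero_ne_one hφ
  have hreal : ∀ χ : IrrCharacter G, (Nat.card G : ℂ)⁻¹ * ∑ g, (χ : G → ℂ) (g * g) = 1 →
      ∀ g, conj ((χ : G → ℂ) g) = (χ : G → ℂ) g := by
    intro χ hχ
    by_contra h
    push Not at h
    rw [fs_zero_of_nonreal χ.2 h] at hχ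
    exact zero_ne_one hχ
  let θ : S4866.RealIrr N := ⟨φ, fun k => Complex.conj_eq_iff_im.mp (hφreal k)⟩
  obtain ⟨χ₀, hχ₀, hne⟩ := exists_real_over N hodd φ hφreal
  have hinner : ∀ χ : IrrCharacter G, (∑ n : N, (χ : G → ℂ) n * conj ((φ : N → ℂ) n)) ≠ 0 ↔
      classInner (fun n : N => (χ : G → ℂ) n) (φ : N → ℂ) ≠ 0 := fun χ => by
    rw [classInner]
    exact ⟨fun h => mul_ne_zero (inv_ne_zero (Nat.cast_ne_zero.mpr Nat.card_pos.ne')) h, right_ne_zero_of_mul⟩
  refine ⟨χ₀, ⟨?_, (hinner χ₀).mpr hne⟩, fun χ hχ => ?_⟩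
  swap
  · exact real_over_unique N hodd θ χ χ₀ (hreal χ hχ.1) hχ₀ ((hinner χ).mp hχ.2) hne
  · -- square roots of elements of `N` lie in `N`
    have hsq : ∀ n : N, (Finset.univ.filter fun x : G => x * x = (n : G)).card
        = (Finset.univ.filter fun x : N => x * x = n).card := by
      intro n
      symm
      refine Finset.card_bij (fun x _ => (x : G)) (fun x hx => ?_) (fun a _ b _ h => Subtype.ext h) (fun x hx => ?_)
      · simp only [Finset.mem_filter, Finset.mem_univ, true_and] at hx ⊢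
        rw [← Subgroup.coe_mul, hx]
      · simp only [Finset.mem_filter, Finset.mem_univ, true_and] at hx
        have hxN : x ∈ N := by
          rw [← QuotientGroup.eq_one_iff]
          have h4 : (x : G ⧸ N) ^ 2 = 1 := by
            rw [sq, ← QuotientGroup.mk_mul, hx, QuotientGroup.eq_one_iff]; exact n.2
          have h5 := pow_gcd_eq_one.mpr ⟨h4, pow_card_eq_one'⟩
          rwa [← Subgroup.index_eq_card, (Nat.coprime_two_left.mpr hodd).gcd_eq_one, pow_one] at h5
        exact ⟨⟨x, hxN⟩, Finset.mem_filter.mpr ⟨Finset.mem_univ _, Subtype.ext hx⟩, rfl⟩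
    let cG : IrrCharacter G → ℂ := fun χ => (Nat.card G : ℂ)⁻¹ * ∑ x, conj ((χ : G → ℂ) (x * x))
    let cN : IrrCharacter N → ℂ := fun ψ => (Nat.card N : ℂ)⁻¹ * ∑ x, conj ((ψ : N → ℂ) (x * x))
    have hfun : ∑ χ : IrrCharacter G, cG χ • (fun n : N => (χ : G → ℂ) n)
        = ∑ ψ : IrrCharacter N, cN ψ • (ψ : N → ℂ) := by
      funext n
      simp only [Finset.sum_apply, Pi.smul_apply, smul_eq_mul, cG, cN]
      rw [← card_sqrt_eq_sum, ← card_sqrt_eq_sum, hsq]
    have h1 := congrArg (fun f => classInner f (φ : N → ℂ)) hfun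
    simp only [classInner_sum_irr] at h1
    rw [classInner_sum_left, Finset.sum_eq_single χ₀] at h1
    · have hc : cN φ = 1 := by
        simp only [cN]
        rw [Finset.sum_congr rfl fun x _ => hφreal _]
        exact hφ
      have hc0 : cG χ₀ = (Nat.card G : ℂ)⁻¹ * ∑ g, (χ₀ : G → ℂ) (g * g) := by
        simp only [cG]
        rw [Finset.sum_congr rfl fun x _ => hχ₀ _]
      rw [classInner_smul_left, hc, hc0] at h1
      rcases fs_sign_of_real χ₀.2 hχ₀ with h | h
      · exact h
      · exfalso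
        obtain ⟨e, he⟩ := classInner_nat (isCharacter_restrict χ₀.2.isCharacter N) φ.2.isCharacter
        rw [h, he] at h1
        have h2 := congrArg Complex.re h1
        simp at h2
        have : (0 : ℝ) ≤ e := Nat.cast_nonneg e
        linarith
    · intro χ _ hne'
      rw [classInner_smul_left]
      by_cases hr : ∀ g, conj ((χ : G → ℂ) g) = (χ : G → ℂ) g
      · have : classInner (fun n : N => (χ : G → ℂ) n) (φ : N → ℂ) = 0 := by
          by_contra h
          exact hne' (real_over_unique N hodd θ χ χ₀ hr hχ₀ h hne)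
        rw [this, mul_zero]
      · push Not at hr
        have h2 := congrArg conj (fs_zero_of_nonreal χ.2 hr)
        rw [map_zero, map_mul, map_inv₀, map_natCast, map_sum] at h2
        rw [show cG χ = 0 from h2, zero_mul]
    · simp

end Cfsg.Agent.S4873
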