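import Cfsg.Statements.S5178
import Mathlib
import Cfsg.Agent.Lib.Fusion.DerivedOrderPMain
-- import your own Cfsg.Agent.* helpers here

set_option autoImplicit false
universe u
open Cfsg

namespace Cfsg.Agent.S5178

open scoped commutatorElement

open Cfsg.Lib.Fusion in
theorem centre_eq {Ω : Type*} [Group Ω] {S : Subgroup Ω} [Finite S] (p : ℕ) [Fact p.Prime]
    (hp : p ≠ 2) (hS : IsPGroup p S) (Q : Subgroup Ω) (hQS : Q ≤ S)
    (hQ : Cfsg.IsExtraspecial p ↥Q) (hQi : (Q.subgroupOf S).index = p)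
    (F : Cfsg.FusionSystem S) (hF : F.IsSaturated p) (hO : F.core = ⊥) :
    Cfsg.FusionSystem.centralizerIn S S = Cfsg.FusionSystem.centralizerIn Q Q := by
  have := finite_of_le hQS
  have hQn : ∀ c ∈ S, ∀ x ∈ Q, c * x * c⁻¹ ∈ Q := fun c hc x hx => by
    have hn : (Q.subgroupOf S).Normal := by
      obtain ⟨n, hn⟩ := IsPGroup.iff_card.1 hS
      refine Subgroup.normal_of_index_eq_minFac_card (hQi.trans ?_)
      have hn0 : n ≠ 0 := by
        rintro rfl
        have := (Q.subgroupOf S).index_dvd_card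
        rw [hQi, hn, pow_zero, Nat.dvd_one] at this
        exact (Fact.out : p.Prime).one_lt.ne' this
      rw [hn, Nat.Prime.pow_minFac Fact.out hn0]
    exact hn.conj_mem ⟨x, hQS hx⟩ hx ⟨c, hc⟩
  have hZQ : Nat.card (Cfsg.FusionSystem.centralizerIn Q Q) = p := by
    rw [show Cfsg.FusionSystem.centralizerIn Q Q = (Subgroup.center ↥Q).map Q.subtype from ?_,
      Subgroup.card_map_of_injective Q.subtype_injective, hQ.2]
    ext x
    rw [mem_centre_iff]
    exact ⟨fun ⟨hx, h⟩ => ⟨⟨x, hx⟩, Subgroup.mem_center_iff.2 fun g => Subtype.ext (h g g.2), rfl⟩,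
      by rintro ⟨y, hy, rfl⟩; exact ⟨y.2, fun c hc => congrArg Subtype.val (Subgroup.mem_center_iff.1 hy ⟨c, hc⟩)⟩⟩
  have hle : Cfsg.FusionSystem.centralizerIn Q Q ≤ Cfsg.FusionSystem.centralizerIn S S := by
    set N := (Cfsg.FusionSystem.centralizerIn Q Q).subgroupOf S
    have hNn : N.Normal := ⟨fun z hz c => by
      have hzQ := (mem_centre_iff.1 hz)
      refine mem_centre_iff.2 ⟨hQn _ c.2 _ hzQ.1, fun x hx => ?_⟩
      have h1 : ((c : Ω)⁻¹ * x * c) * (z : Ω) = z * ((c : Ω)⁻¹ * x * c) := hzQ.2 ((c : Ω)⁻¹ * x * c) (by simpa using hQn _ (S.inv_mem c.2) _ hx)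
      calc x * ((c : Ω) * z * (c : Ω)⁻¹) = c * (((c : Ω)⁻¹ * x * c) * z) * (c : Ω)⁻¹ := by group
        _ = c * (z * ((c : Ω)⁻¹ * x * c)) * (c : Ω)⁻¹ := by rw [h1]
        _ = (c : Ω) * z * (c : Ω)⁻¹ * x := by group⟩
    have hcN : Nat.card N = p :=
      (Nat.card_congr (Subgroup.subgroupOfEquivOfLe (centralizerIn_le.trans hQS)).toEquiv).trans hZQ
    have hNb : N ≠ ⊥ := fun h => by
      rw [h, Subgroup.card_bot] at hcN
      exact (Fact.out : p.Prime).one_lt.ne hcN
    have hNc : N ≤ Subgroup.center S := by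
      rcases Subgroup.eq_bot_or_eq_top_of_prime_card ((N ⊓ Subgroup.center S).subgroupOf N)
        (hp := by rw [hcN]; infer_instance) with h | h
      · refine absurd ?_ (Cfsg.Lib.Transfer.inf_center_ne_bot hS N hNb)
        rw [Subgroup.subgroupOf_eq_bot, disjoint_iff] at h
        rwa [inf_eq_left.2 inf_le_left] at h
      · exact (Subgroup.subgroupOf_eq_top.1 h).trans inf_le_right
    intro z hz
    refine mem_centre_iff.2 ⟨hQS (mem_centre_iff.1 hz).1, fun c hc => ?_⟩
    exact congrArg Subtype.val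
      (Subgroup.mem_center_iff.1 (hNc (x := ⟨z, hQS (mem_centre_iff.1 hz).1⟩) hz) ⟨c, hc⟩)
  by_contra hne
  obtain ⟨-, z, hz, hzQ⟩ := SetLike.lt_iff_le_and_exists.1 (lt_of_le_of_ne hle (Ne.symm hne))
  have hznQ : z ∉ Q := fun h => hzQ (mem_centre_iff.2 ⟨h, fun c hc => (mem_centre_iff.1 hz).2 c (hQS hc)⟩)
  have hgen : (Q.subgroupOf S) ⊔ Subgroup.center S = ⊤ := by
    rcases ((Fact.out : p.Prime).eq_one_or_self_of_dvd _
      (hQi ▸ Subgroup.index_dvd_of_le (le_sup_left : Q.subgroupOf S ≤ Q.subgroupOf S ⊔ Subgroup.center S))) with h | h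
    · exact Subgroup.index_eq_one.1 h
    · refine absurd ?_ hznQ
      have h2 : Q.subgroupOf S = Q.subgroupOf S ⊔ Subgroup.center S := by
        refine Subgroup.eq_of_le_of_card_ge le_sup_left (le_of_eq ?_)
        have h3 := (Q.subgroupOf S).card_mul_index
        have h4 := (Q.subgroupOf S ⊔ Subgroup.center S).card_mul_index
        rw [h] at h4
        rw [hQi] at h3
        exact Nat.eq_of_mul_eq_mul_right (Fact.out : p.Prime).pos (h4.trans h3.symm)
      have hzc : (⟨z, (mem_centre_iff.1 hz).1⟩ : S) ∈ Subgroup.center S :=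
        Subgroup.mem_center_iff.2 fun g => Subtype.ext ((mem_centre_iff.1 hz).2 g g.2)
      exact (h2.ge (Subgroup.mem_sup_right hzc) :)
  have hDQ : ⁅S, S⁆ = ⁅Q, Q⁆ := by
    refine le_antisymm (Subgroup.commutator_le.2 fun a ha b hb => ?_) (Subgroup.commutator_mono hQS hQS)
    obtain ⟨q, hq, u, hu, hqu⟩ := Subgroup.mem_sup_of_normal_right.1 (hgen.ge (Subgroup.mem_top ⟨a, ha⟩))
    obtain ⟨r, hr, w, hw, hrw⟩ := Subgroup.mem_sup_of_normal_right.1 (hgen.ge (Subgroup.mem_top ⟨b, hb⟩))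
    have e : ⁅(⟨a, ha⟩ : S), ⟨b, hb⟩⁆ = ⁅q, r⁆ := by
      rw [← hqu, ← hrw, commutatorElement_def, commutatorElement_def, mul_inv_rev, mul_inv_rev,
        Subgroup.mem_center_iff.1 hu |> fun h => show q * u * (r * w) = q * (r * w) * u by
          rw [mul_assoc q u, ← h, ← mul_assoc]]
      calc q * (r * w) * u * (u⁻¹ * q⁻¹) * (w⁻¹ * r⁻¹) = q * r * (w * q⁻¹) * (w⁻¹ * r⁻¹) := by group
        _ = q * r * (q⁻¹ * w) * (w⁻¹ * r⁻¹) := by rw [Subgroup.mem_center_iff.1 hw q⁻¹]
        _ = q * r * q⁻¹ * r⁻¹ := by group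
    rw [show ⁅a, b⁆ = ((⁅(⟨a, ha⟩ : S), ⟨b, hb⟩⁆ : S) : Ω) from rfl, e]
    exact Subgroup.commutator_mem_commutator (show (q : Ω) ∈ Q from hq) (show (r : Ω) ∈ Q from hr)
  have hD : Nat.card (⁅S, S⁆ : Subgroup Ω) = p := by
    rw [hDQ, ← Subgroup.map_subtype_commutator, Subgroup.card_map_of_injective Q.subtype_injective,
      hQ.1.2.2, hQ.2]
  have := finite_of_le (centralizerIn_le : Cfsg.FusionSystem.centralizerIn S S ≤ S)
  exact hne (eq_of_le_of_card_le hle (by rw [(card_of_derived_prime hS hF hp hO hD).1, hZQ])).symm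

/-- Let p be an odd prime, S a finite p-group containing an extraspecial subgroup Q of index p, and F a saturated fusion system over S whose largest subgroup normal in F is trivial. Then the centre of S equals the centre of Q. -/
theorem result {Ω : Type u} [Group Ω] {S : Subgroup Ω} [Finite S] (p : ℕ) [Fact p.Prime] (hp : Odd p) (hS : IsPGroup p S)
    (Q : Subgroup Ω) (hQS : Q ≤ S) (hQ : Cfsg.IsExtraspecial p ↥Q) (hQi : (Q.subgroupOf S).index = p)
    (F : Cfsg.FusionSystem S) (hF : F.IsSaturated p) (hO : F.core = ⊥) :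
    S ⊓ Subgroup.centralizer (S : Set Ω) = Q ⊓ Subgroup.centralizer (Q : Set Ω) := by
  exact centre_eq p (fun h => by subst h; exact absurd hp (by decide)) hS Q hQS hQ hQi F hF hO

end Cfsg.Agent.S5178
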