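import Cfsg.Statements.S5185
import Cfsg.Agent.Lib.Fusion.SLTwoInGL
import Cfsg.Agent.Lib.Fusion.Essential
-- import your own Cfsg.Agent.* helpers here

set_option autoImplicit false
universe u
open Cfsg

namespace Cfsg.Agent.S5185

/-- Let F be a saturated fusion system over a finite p-group S and H an essential subgroup of order p². Then H is elementary abelian (isomorphic to C_p × C_p) and its F-automorphism group contains a subgroup isomorphic to SL(2,p). -/
theorem result {Ω : Type u} [Group Ω] {S : Subgroup Ω} [Finite S] (p : ℕ) [Fact p.Prime] (hS : IsPGroup p S)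
    (F : Cfsg.FusionSystem S) (hF : F.IsSaturated p) (H : Subgroup Ω) (hH : F.IsEssential p H) (hcard : Nat.card H = p ^ 2) :
    Cfsg.IsElementaryAbelian p H ∧
      ∃ K : Subgroup ↥(F.autGroup H), Nonempty (↥K ≃* Matrix.SpecialLinearGroup (Fin 2) (ZMod p)) := by
  classical
  have hnp : p.Prime := Fact.out
  have hSle : H ≤ S := hH.1.1
  haveI : Finite H := Lib.Fusion.finite_of_le hSle
  haveI := Lib.Fusion.finite_mulAut_of_le (P := H) hSle
  have hcomm : ∀ a b : H, a * b = b * a := fun a b => IsPGroup.commutative_of_card_eq_prime_sq hcard a b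
  have hInn : Inn H = ⊥ := (Subgroup.eq_bot_iff_forall _).2 fun a ha => by
    rw [Lib.Fusion.inn_eq_autInducedBy, Lib.Fusion.mem_autInducedBy_iff] at ha
    obtain ⟨c, hc', he⟩ := ha
    refine Lib.Fusion.aut_ext fun x hx => ?_
    rw [he x hx, Lib.Fusion.autFun_apply _ hx]
    have := congrArg Subtype.val (hcomm ⟨c, hc'⟩ ⟨x, hx⟩)
    simp only [Subgroup.coe_mul] at this
    rw [this, mul_inv_cancel_right]
    rfl
  have hcore : Cfsg.pCore p (F.autGroup H) = ⊥ := by
    have := (Lib.Fusion.radical_of_essential hS hH).2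
    rw [hInn, Subgroup.map_eq_bot_iff_of_injective _ (Subgroup.subtype_injective _)] at this
    exact this
  have hpdvd : p ∣ Nat.card (F.autGroup H) := by
    obtain ⟨-, -, hN, Y, hd, -⟩ := hH
    exact hd.trans (Subgroup.card_quotient_dvd_card _)
  have hexp : ∀ a : H, a ^ p = 1 := by
    by_contra hne
    push Not at hne
    obtain ⟨a, ha⟩ := hne
    haveI : IsCyclic H := by
      refine isCyclic_of_orderOf_eq_card a ?_
      rw [hcard]
      obtain ⟨k, hk, hk'⟩ := (Nat.dvd_prime_pow hnp).1 (hcard ▸ orderOf_dvd_natCard a)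
      rcases (show k = 0 ∨ k = 1 ∨ k = 2 by omega) with rfl | rfl | rfl
      · exact absurd (orderOf_dvd_iff_pow_eq_one.1 (by rw [hk', pow_zero]; exact one_dvd p)) ha
      · exact absurd (orderOf_dvd_iff_pow_eq_one.1 (by rw [hk', pow_one])) ha
      · exact hk'
    have habel : ∀ α β : MulAut H, α * β = β * α := fun α β =>
      (IsCyclic.mulAutMulEquiv H).injective (by rw [map_mul, map_mul, mul_comm])
    obtain ⟨x, hx⟩ := exists_prime_orderOf_dvd_card' p hpdvd
    have hzn : (Subgroup.zpowers x).Normal :=
      ⟨fun n hn g => by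
        rwa [show g * n * g⁻¹ = n from mul_inv_eq_iff_eq_mul.2 (Subtype.ext (habel _ _))]⟩
    have hle := Lib.Solv.le_pCore (p := p) hzn
      (IsPGroup.of_card (n := 1) (by rw [Nat.card_zpowers, hx, pow_one]))
    rw [hcore] at hle
    have := Subgroup.mem_bot.1 (hle (Subgroup.mem_zpowers x))
    rw [this, orderOf_one] at hx
    exact hnp.ne_one hx.symm
  refine ⟨⟨⟨⟨hcomm⟩⟩, fun a ha => congrArg Subtype.val (hexp ⟨a, ha⟩)⟩, ?_⟩
  letI : AddCommGroup (Additive H) :=
    { (inferInstance : AddGroup (Additive H)) with add_comm := fun a b => hcomm a.toMul b.toMul }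
  letI : Module (ZMod p) (Additive H) := AddCommGroup.zmodModule (n := p) (G := Additive H) (fun x => (hexp x.toMul : _))
  haveI : Finite (Additive H) := inferInstanceAs (Finite H)
  haveI : Module.Finite (ZMod p) (Additive H) := Module.Finite.of_finite
  have hfr : Module.finrank (ZMod p) (Additive H) = 2 := by
    have h := Module.natCard_eq_pow_finrank (K := ZMod p) (V := Additive H)
    rw [show Nat.card (Additive H) = Nat.card H from rfl, hcard, Nat.card_zmod] at h
    exact (Nat.pow_right_injective hnp.two_le h).symm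
  let e : Additive H ≃ₗ[ZMod p] (Fin 2 → ZMod p) := (Module.finBasisOfFinrankEq _ _ hfr).equivFun
  let Ψ : GL (Fin 2) (ZMod p) →* MulAut H :=
    { toFun := fun g =>
        { toFun := fun h => (e.symm (g.1.mulVec (e (Additive.ofMul h)))).toMul
          invFun := fun h => (e.symm ((g⁻¹).1.mulVec (e (Additive.ofMul h)))).toMul
          left_inv := fun h => by
            simp only [ofMul_toMul, LinearEquiv.apply_symm_apply, Matrix.mulVec_mulVec, Units.inv_mul,
              Matrix.one_mulVec, LinearEquiv.symm_apply_apply, toMul_ofMul]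
          right_inv := fun h => by
            simp only [ofMul_toMul, LinearEquiv.apply_symm_apply, Matrix.mulVec_mulVec, Units.mul_inv,
              Matrix.one_mulVec, LinearEquiv.symm_apply_apply, toMul_ofMul]
          map_mul' := fun a b => by
            simp only [ofMul_mul, map_add, Matrix.mulVec_add, toMul_add] }
      map_one' := MulEquiv.ext fun h => by simp
      map_mul' := fun a b => MulEquiv.ext fun h => by
        simp only [MulAut.mul_apply, MulEquiv.coe_mk, Equiv.coe_fn_mk, ofMul_toMul, LinearEquiv.apply_symm_apply,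
          Matrix.mulVec_mulVec, Units.val_mul] }
  have hΨa : ∀ g h, Ψ g h = (e.symm (g.1.mulVec (e (Additive.ofMul h)))).toMul := fun g h => rfl
  have hinj : Function.Injective Ψ := fun a b hab => Units.ext (Matrix.ext_of_mulVec_single fun i => by
    have := congrArg (fun f : MulAut H => e (Additive.ofMul (f (e.symm (Pi.single i 1)).toMul))) hab
    simpa [hΨa] using this)
  have hsurj : Function.Surjective Ψ := by
    intro α
    let L : MulAut H → ((Fin 2 → ZMod p) →+ (Fin 2 → ZMod p)) := fun α =>
      (e.toAddEquiv.toAddMonoidHom.comp α.toMonoidHom.toAdditive).comp e.symm.toAddEquiv.toAddMonoidHom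
    let M : MulAut H → Matrix (Fin 2) (Fin 2) (ZMod p) := fun α => LinearMap.toMatrix' ((L α).toZModLinearMap p)
    have hM : ∀ (α : MulAut H) x, (M α).mulVec x = e (Additive.ofMul (α (e.symm x).toMul)) := fun α x => by
      show Matrix.toLin' (LinearMap.toMatrix' ((L α).toZModLinearMap p)) x = _
      rw [Matrix.toLin'_toMatrix']
      rfl
    have hinv : ∀ α : MulAut H, M α * M α⁻¹ = 1 := fun α => Matrix.ext_of_mulVec_single fun i => by
      rw [← Matrix.mulVec_mulVec, hM, hM, Matrix.one_mulVec]
      simp
    refine ⟨⟨M α, M α⁻¹, hinv α, by simpa using hinv α⁻¹⟩, MulEquiv.ext fun h => ?_⟩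
    rw [hΨa]
    simp [hM]
  let A := (F.autGroup H).comap Ψ
  let f : A →* F.autGroup H := (Ψ.comp A.subtype).codRestrict _ fun a => a.2
  have hf : Function.Bijective f := ⟨fun a b h => Subtype.ext (hinj (congrArg Subtype.val h)),
    fun a => by
      obtain ⟨g, hg⟩ := hsurj a.1
      exact ⟨⟨g, show Ψ g ∈ F.autGroup H by rw [hg]; exact a.2⟩, Subtype.ext hg⟩⟩
  have hA : Cfsg.pCore p A = ⊥ := by
    have h := Lib.Solv.le_pCore (p := p) (N := (Cfsg.pCore p A).map f)
      (Subgroup.Normal.map inferInstance _ hf.2) ((Lib.Solv.isPGroup_pCore (G := A) p).map _)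
    rw [hcore, le_bot_iff, Subgroup.map_eq_bot_iff_of_injective _ hf.1] at h
    exact h
  have hsl := Lib.Fusion.SLTwoInGL.sl_le A hA (by rw [Nat.card_congr (Equiv.ofBijective f hf)]; exact hpdvd)
  let g : Matrix.SpecialLinearGroup (Fin 2) (ZMod p) →* F.autGroup H :=
    (Ψ.comp Matrix.SpecialLinearGroup.toGL).codRestrict _ hsl
  have hg : Function.Injective g := fun a b h => Subtype.ext
    (congrArg Units.val (hinj (congrArg Subtype.val h)))
  exact ⟨g.range, ⟨(MonoidHom.ofInjective hg).symm⟩⟩

end Cfsg.Agent.S5185
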