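import Cfsg.Statements.S5212
import Cfsg.Agent.S5235
import Cfsg.Agent.S1896
import Cfsg.Agent.Lib.Fusion.InnerCriteria
-- import your own Cfsg.Agent.* helpers here

set_option autoImplicit false
open Cfsg

namespace Cfsg.Agent.S5212

/-- Let S be a finite metacyclic 2-group that is not homocyclic abelian (a direct product of cyclic groups of one common order), not dihedral, not semidihedral and not generalized quaternion. Then every saturated fusion system over S is the inner fusion system of S. -/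
theorem result {Ω : Type*} [Group Ω] {S : Subgroup Ω} [Finite S] (hS : IsPGroup 2 S) (F : Cfsg.FusionSystem S) (hF : F.IsSaturated 2) (hm : Cfsg.IsMetacyclic ↥S) (hh : ¬ ∃ n k : ℕ, Nonempty (↥S ≃* Multiplicative (Fin k → ZMod (2 ^ n)))) (hd : ¬ ∃ m : ℕ, Nonempty (↥S ≃* DihedralGroup m)) (hq : ¬ ∃ m : ℕ, Nonempty (↥S ≃* QuaternionGroup m)) (hsd : ¬ Cfsg.IsQuasiDihedral ↥S) : ∀ P : Subgroup Ω, F.Hom P = (Cfsg.innerFusionSystem S).Hom P := by
  haveI : Fact (Nat.Prime 2) := ⟨Nat.prime_two⟩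
  have hA : IsPGroup 2 (MulAut ↥S) := by
    by_contra h
    rcases Cfsg.Agent.S1896.result hS hm h with e | ⟨n, ⟨e⟩⟩
    · exact hq ⟨2, e⟩
    · exact hh ⟨n, 2, ⟨e.trans
        { toFun := fun x => Multiplicative.ofAdd ![x.1.toAdd, x.2.toAdd]
          invFun := fun y => (Multiplicative.ofAdd (y.toAdd 0), Multiplicative.ofAdd (y.toAdd 1))
          left_inv := fun x => by simp
          right_inv := fun y => by
            refine Multiplicative.toAdd.injective (funext fun i => ?_)
            fin_cases i <;> simp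
          map_mul' := fun x y => by
            refine Multiplicative.toAdd.injective (funext fun i => ?_)
            fin_cases i <;> simp }⟩⟩
  have hN : F.IsNormal S := Cfsg.Agent.S5235.result 2 hS F hF S
    (Lib.Fusion.stronglyClosed_iff.2 ⟨le_rfl, fun R f hf x hx _ => hf.mem hx⟩) rfl hm hd hq hsd
  refine (Lib.Fusion.autP_iff_hom hS hF).1 fun R f hf _ => ?_
  obtain ⟨-, h⟩ := Lib.Fusion.isNormal_iff.1 hN
  obtain ⟨k, hk, hkf, hki⟩ := h R f hf
  obtain ⟨α, hα⟩ : ∃ α : MulAut ↥S, ∀ x ∈ S, Lib.Fusion.autFun α x = k x := by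
    obtain ⟨α, -, hα⟩ := (hk.restrict (le_sup_right : S ≤ R ⊔ S)).exists_aut hki
    exact ⟨α, hα⟩
  obtain ⟨a, ha⟩ := hA α
  refine ⟨a, fun x hx => ?_⟩
  have hS' : ∀ y ∈ R, y ∈ S := fun y hy => hf.le hy
  have hfR : ∀ y ∈ R, f y ∈ R := fun y hy => by
    have := Lib.Fusion.mem_img_of_mem (f := f) hy
    simp_all
  have key : ∀ m : ℕ, f^[m] x ∈ R ∧ f^[m] x = Lib.Fusion.autFun (α ^ m) x := by
    intro m
    induction m with
    | zero => exact ⟨hx, by simp [Lib.Fusion.autFun_apply _ (hS' x hx)]⟩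
    | succ m ih =>
      rw [Function.iterate_succ_apply']
      refine ⟨hfR _ ih.1, ?_⟩
      rw [pow_succ', Lib.Fusion.autFun_mul _ _ (hS' x hx), ← ih.2, hα _ (hS' _ ih.1), hkf _ ih.1]
  rw [(key _).2, ha, Lib.Fusion.autFun_apply _ (hS' x hx)]
  rfl

end Cfsg.Agent.S5212
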