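import Cfsg.Statements.S5249
import Mathlib
import Cfsg.Agent.Lib.PStable.ZJControl

open Cfsg.Lib.PLocal Cfsg.Lib.PStable

set_option autoImplicit false
open Cfsg

namespace Cfsg.Agent.S5249

/-- Let p be an odd prime, G a finite group in which Qd(p) (the natural semidirect product of an elementary abelian group of order p² by SL₂(p)) is not involved, and P a Sylow p-subgroup of G. Then the fusion system of G on P is a solvable fusion system. -/
theorem result {G : Type*} [Group G] [Finite G] {p : ℕ} [Fact p.Prime] (hp : p ≠ 2) (hqd : ¬ Cfsg.Involves ↥(Cfsg.qd p) G) (P : Sylow p G) : (Cfsg.groupFusionSystem (P : Subgroup G)).IsSolvableSystem := by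
  
  intro R hRc hRS hRn E hE
  obtain ⟨-, -, -, hEmor⟩ := hE
  set S := (P : Subgroup G) with hSdef
  have hRle : R ≤ S := hRc.1
  set H := Subgroup.normalizer (R : Set G) with hH
  have hSH : S ≤ H := (Subgroup.normal_subgroupOf_iff_le_normalizer hRle).1 hRn
  set R' := R.subgroupOf H with hR'
  haveI hR'n : R'.Normal := ⟨fun r hr n => (Subgroup.mem_normalizer_iff.1 n.2 r).1 hr⟩
  set q := QuotientGroup.mk' R' with hq
  have hqs : Function.Surjective q := QuotientGroup.mk'_surjective R'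
  let j : ↥S ⧸ R.subgroupOf S →* ↥H ⧸ R' :=
    QuotientGroup.map (R.subgroupOf S) R' (Subgroup.inclusion hSH) fun x hx => hx
  have hjmk : ∀ s : S, j (QuotientGroup.mk' _ s) = q ⟨s, hSH s.2⟩ := fun s => rfl
  have hj : Function.Injective j := by
    rw [injective_iff_map_eq_one]
    intro y hy
    obtain ⟨s, rfl⟩ := QuotientGroup.mk'_surjective _ y
    rw [hjmk] at hy
    exact (QuotientGroup.eq_one_iff s).2 ((QuotientGroup.eq_one_iff _).1 hy : (⟨s, hSH s.2⟩ : H) ∈ R')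
  let T : Sylow p (↥H ⧸ R') := (P.subtype hSH).mapSurjective hqs
  have hTj : (T : Subgroup (↥H ⧸ R')) = j.range := by
    ext y
    constructor
    · rintro ⟨h, hh, rfl⟩
      exact ⟨QuotientGroup.mk' _ ⟨h, hh⟩, rfl⟩
    · rintro ⟨z, rfl⟩
      obtain ⟨s, rfl⟩ := QuotientGroup.mk'_surjective _ z
      exact ⟨⟨s, hSH s.2⟩, s.2, rfl⟩
  have hfree : ¬ Cfsg.Involves ↥(Cfsg.qd p) (↥H ⧸ R') := fun h =>
    hqd (involves_of_subgroup H (involves_of_quotient q hqs h))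
  have hctrl := ctrl_of_free hp False hfree T _ (stronglyClosed_self (T : Subgroup (↥H ⧸ R')))
  rw [hTj] at hctrl
  set W := zOp p False (↥H ⧸ R') j.range with hW
  have hWj : W ≤ j.range := (isSubOp_zOp p False).le _ _
  set Z := W.comap j with hZ
  have hZmap : Z.map j = W := Subgroup.map_comap_eq_self hWj
  have hne : Z ≠ ⊥ := by
    intro h
    rw [h, Subgroup.map_bot] at hZmap
    refine (isSubOp_zOp p False).ne_bot _ j.range (hTj ▸ T.isPGroup') (fun h0 => ?_) hZmap.symm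
    refine hRS (le_antisymm hRle fun s hs => ?_)
    have h1 : j (QuotientGroup.mk' _ ⟨s, hs⟩) ∈ j.range := ⟨_, rfl⟩
    rw [h0, Subgroup.mem_bot] at h1
    exact Subgroup.mem_subgroupOf.1 ((QuotientGroup.eq_one_iff (⟨s, hs⟩ : S)).1
      (hj (h1.trans (map_one j).symm)))
  suffices hn : E.IsNormal Z from fun h => hne (le_bot_iff.1 (h ▸ le_sSup hn))
  refine ⟨le_top, fun P' φ' hφ' => ?_⟩
  obtain ⟨-, φ, hφ, hPS, hφS, hP', hind⟩ := (hEmor P' φ').1 hφ'
  obtain ⟨-, -, g, hg⟩ := id hφ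
  have hRpre : R ≤ Cfsg.FusionSystem.preimageAlong (QuotientGroup.mk' (R.subgroupOf S)) P' := by
    intro r hr
    refine ⟨⟨r, hRle hr⟩, ?_, rfl⟩
    show QuotientGroup.mk' (R.subgroupOf S) ⟨r, hRle hr⟩ ∈ P'
    rw [show QuotientGroup.mk' (R.subgroupOf S) ⟨r, hRle hr⟩ = 1 from
      (QuotientGroup.eq_one_iff _).2 (Subgroup.mem_subgroupOf.2 hr)]
    exact P'.one_mem
  have hgH : g ∈ H := mem_normalizer_of_conj_le fun r hr => by
    have h := hRc.2 R le_rfl (φ.comp (Subgroup.inclusion hRpre))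
      ⟨hRle, fun x => hφS _, g, fun x => hg _⟩ ⟨r, hr⟩
    rwa [show φ.comp (Subgroup.inclusion hRpre) ⟨r, hr⟩ = g * r * g⁻¹ from hg _] at h
  -- the induced map is conjugation in the quotient
  have hφ'g : ∀ y : P', j (φ' y) = q ⟨g, hgH⟩ * j y * (q ⟨g, hgH⟩)⁻¹ := by
    rintro ⟨y, hy⟩
    obtain ⟨s, rfl⟩ := QuotientGroup.mk'_surjective _ y
    have h1 := hind ⟨s, ⟨s, hy, rfl⟩⟩
    rw [show φ' ⟨QuotientGroup.mk' _ s, hy⟩ = _ from h1, hjmk, hjmk, ← map_inv, ← map_mul, ← map_mul]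
    exact congrArg q (Subtype.ext (hg ⟨s, ⟨s, hy, rfl⟩⟩))
  obtain ⟨x, hx, hxa⟩ := hctrl (q ⟨g, hgH⟩) (j '' (P' : Set (↥S ⧸ R.subgroupOf S)))
    (by rintro _ ⟨y, -, rfl⟩; exact ⟨y, rfl⟩)
    (by rintro _ ⟨y, hy, rfl⟩; exact ⟨_, hφ'g ⟨y, hy⟩⟩)
  obtain ⟨⟨h, hh⟩, rfl⟩ := hqs x
  set U := P' ⊔ Z with hU
  have hxU : U ≤ (j.range.comap (MulAut.conj (q ⟨h, hh⟩)).toMonoidHom).comap j := sup_le
    (fun y hy => ⟨φ' ⟨y, hy⟩, (hφ'g ⟨y, hy⟩).trans (hxa _ ⟨y, hy, rfl⟩)⟩)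
    (fun y hy => hWj ((Subgroup.mem_normalizer_iff.1 hx _).1 hy))
  let ψ : U →* ↥S ⧸ R.subgroupOf S := (MonoidHom.ofInjective hj).symm.toMonoidHom.comp
    ((((MulAut.conj (q ⟨h, hh⟩)).toMonoidHom.comp j).comp U.subtype).codRestrict j.range
      fun u => hxU u.2)
  have hjψ : ∀ u : U, j (ψ u) = q ⟨h, hh⟩ * j u * (q ⟨h, hh⟩)⁻¹ := fun u =>
    congrArg Subtype.val ((MonoidHom.ofInjective hj).apply_symm_apply _)
  refine ⟨ψ, (hEmor U ψ).2 ⟨le_top, ?_⟩, fun y => hj ?_, ?_⟩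
  · set X := Cfsg.FusionSystem.preimageAlong (QuotientGroup.mk' (R.subgroupOf S)) U with hX
    have hXS : X ≤ S := Subgroup.map_subtype_le _
    have hconj : ∀ u : X, h * (u : G) * h⁻¹ ∈ S := by
      rintro ⟨_, ⟨s, hs, rfl⟩⟩
      obtain ⟨s', hs'⟩ := hTj.ge (hxU hs : q ⟨h, hh⟩ * j _ * (q ⟨h, hh⟩)⁻¹ ∈ j.range)
      obtain ⟨hs'S, e⟩ := hs'
      simp only [MulEquiv.coe_toMonoidHom, MulAut.conj_apply, ← map_inv, ← map_mul] at e
      have h2 : (s' : G)⁻¹ * (h * s * h⁻¹) ∈ R := Subgroup.mem_subgroupOf.1 (QuotientGroup.eq.1 e)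
      simpa using S.mul_mem (show (s' : G) ∈ S from hs'S) (hRle h2)
    refine ⟨(MulAut.conj h).toMonoidHom.comp X.subtype, ⟨hXS, hconj, h, fun u => rfl⟩, hXS, hconj,
      ?_, ?_⟩
    · rintro ⟨_, ⟨s, hs, rfl⟩⟩
      exact hs
    · intro u
      refine hj ((hjψ _).trans ?_)
      rw [hjmk, hjmk, ← map_inv, ← map_mul, ← map_mul]
      rfl
  · rw [hjψ, hφ'g]
    exact (hxa _ ⟨y, y.2, rfl⟩).symm
  · refine Subgroup.eq_of_le_of_card_ge ?_ ?_
    · rintro _ ⟨u, hu, rfl⟩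
      show j (ψ u) ∈ W
      rw [hjψ]
      exact (Subgroup.mem_normalizer_iff.1 hx _).1 hu
    · rw [Subgroup.card_map_of_injective (fun a b hab => Subtype.ext (hj (by
        have := congrArg j hab
        rw [hjψ, hjψ] at this
        exact mul_left_cancel (mul_right_cancel this))))]
      exact (Nat.card_congr (Subgroup.subgroupOfEquivOfLe (le_sup_right : Z ≤ U)).toEquiv).ge

end Cfsg.Agent.S5249
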