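import Cfsg.Statements.S5265
import Mathlib
import Cfsg.Agent.Lib.Fusion.DerivedOrderTwo
-- import your own Cfsg.Agent.* helpers here

set_option autoImplicit false
open Cfsg

namespace Cfsg.Agent.S5265

open Cfsg.FusionSystem Cfsg.Lib.Fusion
open scoped commutatorElement

section Groups

variable {P : Type*} [Group P] [Finite P] {p : ℕ} [Fact p.Prime]

theorem isExtraspecial_of (hP : IsPGroup p P) (hcard : Nat.card P = p ^ 3)
    (hD : commutator P = Subgroup.center P) (hZ : Nat.card (Subgroup.center P) = p) :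
    Cfsg.IsExtraspecial p P := by
  refine ⟨⟨hP, le_antisymm ?_ ?_, hD⟩, hZ⟩
  · refine Cfsg.Lib.Transfer.frattini_le_of_quotient (p := p) hD.le fun x => ?_
    rw [← QuotientGroup.eq_one_iff, QuotientGroup.mk_pow]
    have hq : Nat.card (P ⧸ Subgroup.center P) = p ^ 2 := by
      have h := (Subgroup.center P).card_mul_index
      rw [hZ, hcard, Subgroup.index_eq_card] at h
      exact Nat.eq_of_mul_eq_mul_left (Fact.out : p.Prime).pos (h.trans (by ring))
    refine orderOf_dvd_iff_pow_eq_one.1 ?_
    obtain ⟨k, hk, hke⟩ := (Nat.dvd_prime_pow (Fact.out : p.Prime)).1 (hq ▸ orderOf_dvd_natCard (x : P ⧸ Subgroup.center P))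
    rcases Nat.lt_or_ge k 2 with h | h
    · rw [hke]
      exact (pow_dvd_pow p (Nat.le_of_lt_succ h)).trans (by rw [pow_one])
    · exfalso
      have htop : Subgroup.zpowers (x : P ⧸ Subgroup.center P) = ⊤ :=
        Subgroup.eq_top_of_card_eq _ (by rw [Nat.card_zpowers, hke, hq, le_antisymm hk h])
      have : IsCyclic (P ⧸ Subgroup.center P) :=
        ⟨x, fun y => Subgroup.mem_zpowers_iff.1 (htop.ge (Subgroup.mem_top y))⟩
      have hcomm := commutative_of_cyclic_center_quotient
        (QuotientGroup.mk' (Subgroup.center P)) (by rw [QuotientGroup.ker_mk'])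
      have h1 : commutator P = ⊥ := by
        rw [_root_.commutator_def, eq_bot_iff, Subgroup.commutator_le]
        intro a _ b _
        exact Subgroup.mem_bot.2 (commutatorElement_eq_one_iff_mul_comm.2 (hcomm a b))
      rw [← hD, h1, Subgroup.card_bot] at hZ
      exact (Fact.out : p.Prime).one_lt.ne hZ
  · rw [← hD]; exact Cfsg.Lib.Transfer.commutator_le_frattini hP

theorem card_commutator_of_index_le (hP : IsPGroup p P) (hne : Subgroup.center P ≠ ⊤)
    (hi : (Subgroup.center P).index ≤ p ^ 2) : Nat.card (commutator P) = p := by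
  obtain ⟨k, hk⟩ := hP.index (Subgroup.center P)
  have hk2 : k ≤ 2 := (Nat.pow_le_pow_iff_right (Fact.out : p.Prime).one_lt).1 (hk ▸ hi)
  obtain ⟨x, hx⟩ : ∃ x, x ∉ Subgroup.center P := by
    by_contra h
    push Not at h
    exact hne (eq_top_iff.2 fun x _ => h x)
  obtain ⟨y, hy⟩ : ∃ y, y * x ≠ x * y := by
    by_contra h
    push Not at h
    exact hx (Subgroup.mem_center_iff.2 h)
  have hall : Subgroup.center P ⊔ Subgroup.zpowers x ⊔ Subgroup.zpowers y = ⊤ := by
    set A := Subgroup.center P ⊔ Subgroup.zpowers x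
    set B := A ⊔ Subgroup.zpowers y
    have hA : Subgroup.center P < A :=
      lt_of_le_of_ne le_sup_left fun e => hx (e.ge (Subgroup.mem_sup_right (Subgroup.mem_zpowers x)))
    have hB : A < B := lt_of_le_of_ne le_sup_left fun e => hy (by
      have h1 : y ∈ A := e.ge (Subgroup.mem_sup_right (Subgroup.mem_zpowers y))
      have h2 : A ≤ Subgroup.centralizer {x} := sup_le (Subgroup.center_le_centralizer _)
        (Subgroup.zpowers_le.2 (Subgroup.mem_centralizer_singleton_iff.2 rfl))
      exact Subgroup.mem_centralizer_singleton_iff.1 (h2 h1))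
    obtain ⟨a, ha⟩ := hP.index A
    obtain ⟨b, hb⟩ := hP.index B
    have h1 := Subgroup.index_strictAnti hA
    have h2 := Subgroup.index_strictAnti hB
    rw [hk, ha] at h1
    rw [ha, hb] at h2
    have h3 := (Nat.pow_lt_pow_iff_right (Fact.out : p.Prime).one_lt).1 h1
    have h4 := (Nat.pow_lt_pow_iff_right (Fact.out : p.Prime).one_lt).1 h2
    rw [← Subgroup.index_eq_one, hb, show b = 0 by omega, pow_zero]
  have hk' : k = 2 := by
    by_contra h
    have hk1 : k ≤ 1 := by omega
    set A := Subgroup.center P ⊔ Subgroup.zpowers x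
    have hA : Subgroup.center P < A :=
      lt_of_le_of_ne le_sup_left fun e => hx (e.ge (Subgroup.mem_sup_right (Subgroup.mem_zpowers x)))
    obtain ⟨a, ha⟩ := hP.index A
    have h1 := Subgroup.index_strictAnti hA
    rw [hk, ha] at h1
    have h3 := (Nat.pow_lt_pow_iff_right (Fact.out : p.Prime).one_lt).1 h1
    have h5 : A = ⊤ := by rw [← Subgroup.index_eq_one, ha, show a = 0 by omega, pow_zero]
    have h2 : A ≤ Subgroup.centralizer {x} := sup_le (Subgroup.center_le_centralizer _)
      (Subgroup.zpowers_le.2 (Subgroup.mem_centralizer_singleton_iff.2 rfl))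
    exact hy (Subgroup.mem_centralizer_singleton_iff.1 (h2 (h5.symm ▸ Subgroup.mem_top y)))
  have hcz : ∀ a b : P, ⁅a, b⁆ ∈ Subgroup.center P := fun a b => by
    have hq : Nat.card (P ⧸ Subgroup.center P) = p ^ 2 := by
      rw [← Subgroup.index_eq_card, hk, hk']
    rw [← QuotientGroup.eq_one_iff]
    show QuotientGroup.mk' (Subgroup.center P) ⁅a, b⁆ = 1
    rw [map_commutatorElement]
    exact commutatorElement_eq_one_iff_mul_comm.2 (IsPGroup.commutative_of_card_eq_prime_sq hq _ _)
  set c := ⁅x, y⁆ with hc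
  set A := Subgroup.zpowers c
  have hAn : A.Normal := ⟨fun u hu g => by
    have : u ∈ Subgroup.center P := Subgroup.zpowers_le.2 (hcz x y) hu
    rwa [Subgroup.mem_center_iff.1 this g, mul_inv_cancel_right]⟩
  have hcomm : commutator P ≤ A := by
    let q := QuotientGroup.mk' A
    have hq : ∀ u, q u = 1 ↔ u ∈ A := fun u => QuotientGroup.eq_one_iff u
    have hgen : ∀ u ∈ ((Subgroup.center P : Set P) ∪ {x, y}),
        ∀ v ∈ ((Subgroup.center P : Set P) ∪ {x, y}), q u * q v = q v * q u := by
      have hxy : q x * q y = q y * q x := by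
        rw [← commutatorElement_eq_one_iff_mul_comm, ← map_commutatorElement, hq]
        exact Subgroup.mem_zpowers c
      rintro u (hu | rfl | rfl) v (hv | rfl | rfl)
      all_goals first
        | rfl
        | exact hxy
        | exact hxy.symm
        | (rw [← map_mul, ← map_mul, Subgroup.mem_center_iff.1 hu v])
        | (rw [← map_mul, ← map_mul, Subgroup.mem_center_iff.1 hv u])
        | (rw [← map_mul, ← map_mul, Subgroup.mem_center_iff.1 hv])
        | (rw [← map_mul, ← map_mul, Subgroup.mem_center_iff.1 hu])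
    have hle : ∀ u ∈ ((Subgroup.center P : Set P) ∪ {x, y}), ∀ v, q u * q v = q v * q u := by
      intro u hu v
      have h : Subgroup.center P ⊔ Subgroup.zpowers x ⊔ Subgroup.zpowers y ≤
          (Subgroup.centralizer {q u}).comap q := by
        refine sup_le (sup_le (fun w hw => ?_) (Subgroup.zpowers_le.2 ?_)) (Subgroup.zpowers_le.2 ?_)
        all_goals
          rw [Subgroup.mem_comap, Subgroup.mem_centralizer_singleton_iff]
        · exact hgen w (Or.inl hw) u hu
        · exact hgen x (Or.inr (Or.inl rfl)) u hu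
        · exact hgen y (Or.inr (Or.inr rfl)) u hu
      exact (Subgroup.mem_centralizer_singleton_iff.1 (h (hall.symm ▸ Subgroup.mem_top v))).symm
    rw [_root_.commutator_def, Subgroup.commutator_le]
    intro a _ b _
    rw [← hq, map_commutatorElement, commutatorElement_eq_one_iff_mul_comm]
    have h : Subgroup.center P ⊔ Subgroup.zpowers x ⊔ Subgroup.zpowers y ≤
        (Subgroup.centralizer {q b}).comap q := by
      refine sup_le (sup_le (fun w hw => ?_) (Subgroup.zpowers_le.2 ?_)) (Subgroup.zpowers_le.2 ?_)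
      all_goals
        rw [Subgroup.mem_comap, Subgroup.mem_centralizer_singleton_iff]
      · exact hle w (Or.inl hw) b
      · exact hle x (Or.inr (Or.inl rfl)) b
      · exact hle y (Or.inr (Or.inr rfl)) b
    exact Subgroup.mem_centralizer_singleton_iff.1 (h (hall.symm ▸ Subgroup.mem_top a))
  have hxp : x ^ p ∈ Subgroup.center P := by
    rw [← QuotientGroup.eq_one_iff, QuotientGroup.mk_pow]
    have hq : Nat.card (P ⧸ Subgroup.center P) = p ^ 2 := by
      rw [← Subgroup.index_eq_card, hk, hk']
    refine orderOf_dvd_iff_pow_eq_one.1 ?_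
    obtain ⟨j, hj, hje⟩ := (Nat.dvd_prime_pow (Fact.out : p.Prime)).1
      (hq ▸ orderOf_dvd_natCard (x : P ⧸ Subgroup.center P))
    rcases Nat.lt_or_ge j 2 with h | h
    · rw [hje]
      exact (pow_dvd_pow p (Nat.le_of_lt_succ h)).trans (by rw [pow_one])
    · exfalso
      have htop : Subgroup.zpowers (x : P ⧸ Subgroup.center P) = ⊤ :=
        Subgroup.eq_top_of_card_eq _ (by rw [Nat.card_zpowers, hje, hq, le_antisymm hj h])
      have : IsCyclic (P ⧸ Subgroup.center P) :=
        ⟨x, fun y => Subgroup.mem_zpowers_iff.1 (htop.ge (Subgroup.mem_top y))⟩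
      exact hy (commutative_of_cyclic_center_quotient
        (QuotientGroup.mk' (Subgroup.center P)) (by rw [QuotientGroup.ker_mk']) y x)
  have hcp : c ^ p = 1 := by
    have h : ∀ n : ℕ, ⁅x ^ n, y⁆ = c ^ n := by
      intro n
      induction n with
      | zero => simp [commutatorElement_def]
      | succ n ih =>
        have e : ⁅x ^ (n + 1), y⁆ = x ^ n * c * (x ^ n)⁻¹ * ⁅x ^ n, y⁆ := by
          rw [hc, pow_succ, commutatorElement_def, commutatorElement_def, commutatorElement_def]
          group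
        rw [e, ih, Subgroup.mem_center_iff.1 (hcz x y) (x ^ n), mul_inv_cancel_right, ← pow_succ']
    rw [← h, commutatorElement_eq_one_iff_mul_comm]
    exact (Subgroup.mem_center_iff.1 hxp y).symm
  have hc1 : c ≠ 1 := fun h => hy (commutatorElement_eq_one_iff_mul_comm.1 h).symm
  refine le_antisymm ?_ ?_
  · refine (Nat.card_le_card_of_injective _ (Subgroup.inclusion_injective hcomm)).trans_eq ?_
    show Nat.card (Subgroup.zpowers c) = p
    rw [Nat.card_zpowers, orderOf_eq_prime hcp hc1]
  · have h : Subgroup.zpowers c ≤ commutator P := Subgroup.zpowers_le.2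
      (Subgroup.commutator_mem_commutator (Subgroup.mem_top x) (Subgroup.mem_top y))
    refine le_trans ?_ (Nat.card_le_card_of_injective _ (Subgroup.inclusion_injective h))
    rw [Nat.card_zpowers, orderOf_eq_prime hcp hc1]

end Groups

theorem main {Ω : Type*} [Group Ω] {S : Subgroup Ω} [Finite S] (p : ℕ) [Fact p.Prime]
    (hS : IsPGroup p ↥S) (F : Cfsg.FusionSystem S) (hF : F.IsSaturated p) (hS1 : S ≠ ⊥)
    (hcore : F.core = ⊥) (hhyp : F.hyperfocalSubgroup p = S)
    (hZ : (Subgroup.center ↥S).index ≤ p ^ 2) :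
    Cfsg.IsExtraspecial p ↥S ∧ Nat.card S = p ^ 3 ∧ (p ≠ 2 → Monoid.exponent ↥S = p) ∧
      (p = 2 → Nonempty (↥S ≃* DihedralGroup 4)) := by
  have hmapZ : (Subgroup.center ↥S).map S.subtype = centralizerIn S S := by
    ext x
    rw [mem_centre_iff]
    exact ⟨by rintro ⟨y, hy, rfl⟩; exact ⟨y.2, fun c hc => congrArg Subtype.val (Subgroup.mem_center_iff.1 hy ⟨c, hc⟩)⟩,
      fun ⟨hx, h⟩ => ⟨⟨x, hx⟩, Subgroup.mem_center_iff.2 fun g => Subtype.ext (h g g.2), rfl⟩⟩
  have hne : Subgroup.center ↥S ≠ ⊤ := fun e => by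
    obtain ⟨E, hE⟩ := exists_essential hS hF hcore hS1
    refine (lt_top_of_essential hS hF hE).not_ge fun c hc => centre_le_centric hE.1 ?_
    rw [← hmapZ, e]
    exact ⟨⟨c, hc⟩, trivial, rfl⟩
  have hcomm := card_commutator_of_index_le hS hne hZ
  have hD : Nat.card (⁅S, S⁆ : Subgroup Ω) = p := by
    rw [← Subgroup.map_subtype_commutator, Subgroup.card_map_of_injective S.subtype_injective, hcomm]
  have key : Nat.card (centralizerIn S S) = p ∧ Nat.card S = p ^ 3 ∧
      (p ≠ 2 → ∀ x ∈ S, x ^ p = 1) := by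
    by_cases hp2 : p = 2
    · subst hp2
      obtain ⟨E, hE⟩ := exists_essential hS hF hcore hS1
      have h2 := card_centre_two hS hF hcore hhyp hD
      refine ⟨h2, ?_, fun h => absurd rfl h⟩
      rw [← (essential_index hS hF hD hE).1, card_essential hS hF hD hE, h2]
      norm_num
    · obtain ⟨h1, h2, h3⟩ := card_of_derived_prime hS hF hp2 hcore hD
      exact ⟨h1, h2, fun _ => h3⟩
  obtain ⟨hZc, hScard, hexp⟩ := key
  have hZc' : Nat.card (Subgroup.center ↥S) = p := by
    rw [← hZc, ← hmapZ, Subgroup.card_map_of_injective S.subtype_injective]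
  have hDle : ⁅S, S⁆ ≤ centralizerIn S S := derived_central hS hD
  have hDZ : commutator ↥S = Subgroup.center ↥S := by
    refine Subgroup.eq_of_le_of_card_ge ?_ (by rw [hcomm, hZc'])
    rw [← Subgroup.map_le_map_iff_of_injective S.subtype_injective, hmapZ, Subgroup.map_subtype_commutator]
    exact hDle
  refine ⟨isExtraspecial_of hS hScard hDZ hZc', hScard, fun hp2 => ?_, fun hp2 => ?_⟩
  · refine Nat.dvd_antisymm (Monoid.exponent_dvd_of_forall_pow_eq_one fun x => Subtype.ext (hexp hp2 x x.2)) ?_
    obtain ⟨x, hx⟩ := (Subgroup.bot_or_exists_ne_one (⊤ : Subgroup S)).resolve_left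
      (fun h => hne (top_le_iff.1 (h ▸ bot_le)))
    exact orderOf_eq_prime (Subtype.ext (hexp hp2 x x.2)) hx.2 ▸ Monoid.order_dvd_exponent x
  · subst hp2
    obtain ⟨E, hE⟩ := exists_essential hS hF hcore hS1
    have hEe := isElem_of_essential hS hF hcore hD hE
    have hES := lt_top_of_essential hS hF hE
    obtain ⟨x, hx, hxZ⟩ := hEe.exists_noncentral
    obtain ⟨-, y, hy, hyE⟩ := SetLike.lt_iff_le_and_exists.1 hES
    have hxy : x * y ≠ y * x := fun h => hxZ (hEe.centralizes hS hx hy hyE h)
    have hx2 : x * x = 1 := pow_two x ▸ hEe.2.2.2.2 x hx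
    -- an involution outside `E`
    obtain ⟨b, hb, hbE, hb2⟩ : ∃ b ∈ S, b ∉ E ∧ b * b = 1 := by
      have hy2 : y * y ∈ centralizerIn S S := by
        rw [← hmapZ]
        refine ⟨⟨y * y, S.mul_mem hy hy⟩, ?_, rfl⟩
        have h := (isExtraspecial_of hS hScard hDZ hZc').1.2.1
        rw [← h]
        have h1 := Cfsg.Lib.Transfer.pow_mem_frattini hS (⟨y, hy⟩ : S)
        rwa [pow_two] at h1
      have hy2' : y * y ∈ ⁅S, S⁆ := by
        rw [← Subgroup.map_subtype_commutator, hDZ, hmapZ]
        exact hy2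
      by_cases h : y * y = 1
      · exact ⟨y, hy, hyE, h⟩
      refine ⟨x * y, S.mul_mem (hE.1.1 hx) hy, fun hxy' => hyE ?_, ?_⟩
      · have h1 := E.mul_mem (E.inv_mem hx) hxy'
        rwa [inv_mul_cancel_left] at h1
      set c := y⁻¹ * (x * y * x⁻¹) with hc
      have hcD : c ∈ ⁅S, S⁆ := commutator_mem (hE.1.1 hx) hy
      have hc1 : c ≠ 1 := fun e => hxy (by
        rw [hc, inv_mul_eq_one, eq_mul_inv_iff_mul_eq] at e
        exact e.symm)
      have hxinv : x⁻¹ = x := inv_eq_of_mul_eq_one_left hx2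
      have heq : c = y * y := by
        have hcard2 : Nat.card (⁅S, S⁆ : Subgroup Ω) = 2 := hD
        have := finite_of_le (derived_le : ⁅S, S⁆ ≤ S)
        obtain ⟨i, hi⟩ := Subgroup.mem_zpowers_iff.1 (show (⟨c, hcD⟩ : (⁅S, S⁆ : Subgroup Ω)) ∈
            Subgroup.zpowers ⟨y * y, hy2'⟩ by
          rcases Subgroup.eq_bot_or_eq_top_of_prime_card
            (Subgroup.zpowers (⟨y * y, hy2'⟩ : (⁅S, S⁆ : Subgroup Ω)))
            (hp := by rw [hcard2]; infer_instance) with e | e
          · exact absurd (congrArg Subtype.val (Subgroup.zpowers_eq_bot.1 e)) h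
          · exact e ▸ Subgroup.mem_top _)
        have hi' : (y * y) ^ i = c := congrArg Subtype.val hi
        have hsq : (y * y) ^ (2 : ℤ) = 1 := by
          rw [zpow_ofNat]
          exact pow_eq_one_of_derived hD hy2'
        rcases Int.even_or_odd' i with ⟨k, rfl | rfl⟩
        · rw [zpow_mul, hsq, one_zpow] at hi'
          exact absurd hi'.symm hc1
        · rw [zpow_add, zpow_mul, hsq, one_zpow, one_mul, zpow_one] at hi'
          exact hi'.symm
      calc x * y * (x * y) = (x * y * x⁻¹) * y := by rw [hxinv]; group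
        _ = y * c * y := by rw [hc, mul_inv_cancel_left]
        _ = y * (y * y) * y := by rw [heq]
        _ = (y * y) * (y * y) := by group
        _ = 1 := by rw [← pow_two, pow_eq_one_of_derived hD hy2']
    refine Cfsg.Lib.Classical.OrthAut.nonempty_dihedral hScard
      (a := (⟨x, hE.1.1 hx⟩ : S)) (b := ⟨b, hb⟩) (Subtype.ext hx2) (Subtype.ext hb2) fun h => ?_
    refine hxZ (hEe.centralizes hS hx hb hbE ?_)
    have h1 : x * b * (x * b) = 1 := congrArg Subtype.val h
    calc x * b = (x * b)⁻¹ := (inv_eq_of_mul_eq_one_left h1).symm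
      _ = b * x := by rw [mul_inv_rev, inv_eq_of_mul_eq_one_left hb2, inv_eq_of_mul_eq_one_left hx2]

/-- Let p be a prime, S a nontrivial finite p-group whose centre has index at most p², and F a saturated fusion system over S with no nontrivial normal subgroup and with hyperfocal subgroup equal to S. Then S is extraspecial of order p³; for odd p it has exponent p, and for p = 2 it is dihedral of order 8. -/
theorem result {Ω : Type*} [Group Ω] {S : Subgroup Ω} [Finite S] (p : ℕ) [Fact p.Prime] (hS : IsPGroup p ↥S) (F : Cfsg.FusionSystem S) (hF : F.IsSaturated p) (hS1 : S ≠ ⊥) (hcore : F.core = ⊥) (hhyp : F.hyperfocalSubgroup p = S) (hZ : (Subgroup.center ↥S).index ≤ p ^ 2) : Cfsg.IsExtraspecial p ↥S ∧ Nat.card S = p ^ 3 ∧ (p ≠ 2 → Monoid.exponent ↥S = p) ∧ (p = 2 → Nonempty (↥S ≃* DihedralGroup 4)) := by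
  exact main p hS F hF hS1 hcore hhyp hZ

end Cfsg.Agent.S5265
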