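import Cfsg.Statements.S5292
import Mathlib
import Cfsg.Agent.Lib.Fusion.Model
import Cfsg.Agent.Lib.Fusion.Realized
import Cfsg.Agent.Lib.Fusion.RealizedSubsystem
import Cfsg.Agent.Lib.PLocal.Constraint
import Cfsg.Agent.Lib.PLocal.QuadraticSection
import Cfsg.Agent.Lib.Solv.Subnormal
import Cfsg.Agent.Lib.Solv.MinNormal

set_option autoImplicit false
universe u
open Cfsg

namespace Cfsg.Agent.S5292

open scoped Classical
open Cfsg.Lib.Fusion Cfsg.FusionSystem

universe v

/-- An extension of a `p`-solvable group by a `p`-by-`p'` kernel is `p`-solvable. -/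
theorem isPSolvable_of_ker {K : Type*} [Group K] [Finite K] {A : Type*} [Group A] {p : ℕ}
    [Fact p.Prime] (f : K →* A) (hf : Function.Surjective f) (hA : IsPSolvable p A)
    (Z : Subgroup K) [hZn : Z.Normal] (hZk : Z ≤ f.ker) (hZp : IsPGroup p Z)
    (hco : ¬ p ∣ Z.relIndex f.ker) : IsPSolvable p K := by
  obtain ⟨n, H, h0, hn, hmono, hnorm, hfac⟩ := hA
  let T : Fin (n + 3) → Subgroup K := Fin.cons ⊥ (Fin.cons Z fun i => (H i).comap f)
  refine ⟨n + 2, T, rfl, ?_, ?_, ?_, ?_⟩
  · show Fin.cons (α := fun _ => Subgroup K) ⊥ (Fin.cons Z fun i => (H i).comap f) _ = ⊤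
    rw [← Fin.succ_last (n + 1), Fin.cons_succ, ← Fin.succ_last n, Fin.cons_succ, hn,
      Subgroup.comap_top]
  · refine Fin.monotone_iff_le_succ.2 fun i => ?_
    refine Fin.cases bot_le (fun j => ?_) i
    refine Fin.cases ?_ (fun k => ?_) j
    · show Z ≤ (H 0).comap f
      rw [h0]
      exact hZk
    · show (H k.castSucc).comap f ≤ (H k.succ).comap f
      exact Subgroup.comap_mono (hmono Fin.castSucc_lt_succ.le)
  · refine Fin.cases ?_ (Fin.cases hZn fun k => (hnorm k).comap f)
    exact inferInstanceAs (⊥ : Subgroup K).Normal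
  · refine Fin.cases ?_ (Fin.cases ?_ fun k => ?_)
    · refine Or.inl ?_
      obtain ⟨m, hm⟩ := IsPGroup.iff_card.1 hZp
      exact ⟨m, by show (⊥ : Subgroup K).relIndex Z = _; rw [Subgroup.relIndex_bot_left, hm]⟩
    · refine Or.inr ?_
      show (Z.relIndex ((H 0).comap f)).Coprime p
      rw [h0]
      exact ((Fact.out : p.Prime).coprime_iff_not_dvd.2 hco).symm
    · have h : ((H k.castSucc).comap f).relIndex ((H k.succ).comap f) =
          (H k.castSucc).relIndex (H k.succ) := by
        rw [Subgroup.relIndex_comap, Subgroup.map_comap_eq_self_of_surjective hf]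
      show (∃ m : ℕ, ((H k.castSucc).comap f).relIndex ((H k.succ).comap f) = p ^ m) ∨
        (((H k.castSucc).comap f).relIndex ((H k.succ).comap f)).Coprime p
      rw [h]
      exact hfac k

/-- `Aut_F(Q)` is the group induced on the image of `Q` by a realizing group. -/
theorem nonempty_autGroup_equiv {Ω : Type*} [Group Ω] {S : Subgroup Ω} {F : FusionSystem S}
    {L : Type*} [Group L] {ι : S →* L} (hι : F.IsRealizedBy ι) {Q : Subgroup Ω} (hQ : Q ≤ S) :
    Nonempty (F.autGroup Q ≃* (conjAut (⊤ : Subgroup L) (iotaImg ι Q)).range) := by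
  let e : Q ≃* iotaImg ι Q := (Subgroup.subgroupOfEquivOfLe hQ).symm.trans
    ((Q.subgroupOf S).equivMapOfInjective ι hι.1)
  have he : ∀ x : Q, (e x : L) = iotaFun ι x := fun x => (iotaFun_apply ι (hQ x.2)).symm
  have hcong : ∀ (a : MulAut Q) (x : Ω), x ∈ Q →
      autFun (MulAut.congr e a) (iotaFun ι x) = iotaFun ι (autFun a x) := fun a x hx => by
    rw [← he ⟨x, hx⟩, autFun_coe, autFun_apply a hx]
    show ((e (a (e.symm (e ⟨x, hx⟩))) : iotaImg ι Q) : L) = _
    rw [e.symm_apply_apply, he]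
  have haut : (F.autGroup Q).map (MulAut.congr e).toMonoidHom =
      (conjAut (⊤ : Subgroup L) (iotaImg ι Q)).range := by
    ext b
    obtain ⟨a, rfl⟩ := (MulAut.congr e).surjective b
    rw [Subgroup.mem_map_equiv, MulEquiv.symm_apply_apply, mem_autGroup_iff hQ, range_conjAut,
      mem_autInducedBy_iff, mor_iff_conj hι]
    constructor
    · rintro ⟨-, -, g, hg⟩
      refine ⟨g, Subgroup.mem_top g, fun y hy => ?_⟩
      obtain ⟨x, hx, rfl⟩ := (mem_iotaImg hQ).1 hy
      rw [hcong a x hx, hg x hx]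
    · rintro ⟨g, -, hg⟩
      exact ⟨hQ, fun x hx => hQ (autFun_mem a hx), g, fun x hx => by
        rw [← hcong a x hx, hg _ (iotaFun_mem_iotaImg hQ hx)]⟩
  exact ⟨((F.autGroup Q).equivMapOfInjective (MulAut.congr e).toMonoidHom
    (MulAut.congr e).injective).trans (MulEquiv.subgroupCongr haut)⟩

/-- Let F be a saturated fusion system over a finite p-group S. Then F is the fusion system of some finite p-solvable group on a Sylow p-subgroup if and only if F is constrained (some subgroup normal in F is centric in F) and the group of automorphisms that F induces on its largest normal subgroup O_p(F) is p-solvable. -/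
theorem result {Ω : Type u} [Group Ω] {S : Subgroup Ω} [Finite S] (p : ℕ) [Fact p.Prime] (hS : IsPGroup p S)
    (F : Cfsg.FusionSystem S) (hF : F.IsSaturated p) :
    (∃ (G : Type u) (_ : Group G) (_ : Finite G) (ι : S →* G), Cfsg.IsPSolvable p G ∧ F.IsRealizedBy ι ∧
        ∃ T : Sylow p G, (T : Subgroup G) = ι.range) ↔
      (F.IsConstrained p ∧ Cfsg.IsPSolvable p ↥(F.autGroup F.core)) := by
  classical
  constructor
  · rintro ⟨G, _, _, ι, hsol, hι, T, hT⟩
    set N := pPrimeCore p G with hN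
    have hTN : (T : Subgroup G) ⊓ N = ⊥ := by
      obtain ⟨m, hm⟩ := IsPGroup.iff_card.1 T.2
      refine Subgroup.card_eq_one.1 (Nat.eq_one_of_dvd_coprimes
        ((Lib.Solv.coprime_pPrimeCore (G := G) p).pow_right m) (Subgroup.card_dvd_of_le inf_le_right)
        (hm ▸ Subgroup.card_dvd_of_le inf_le_left))
    have hq := realized_quotient hι T hT N hTN
    have hsurj := QuotientGroup.mk'_surjective N
    refine ⟨constrained_of_model hS hq ⟨T.mapSurjective hsurj, ?_⟩
      (Lib.PLocal.selfCentralizingCore_of_pSolvable (Lib.PLocal.IsPSolvable.of_surjective _ hsurj hsol)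
        (Lib.Solv.pPrimeCore_quotient_eq_bot p)), ?_⟩
    · rw [MonoidHom.range_comp, ← hT]
      rfl
    · obtain ⟨e⟩ := nonempty_autGroup_equiv hι (isNormal_core F).1
      exact Lib.PLocal.IsPSolvable.of_surjective
        (e.symm.toMonoidHom.comp (MonoidHom.rangeRestrict _))
        (e.symm.surjective.comp (MonoidHom.rangeRestrict_surjective _))
        (Lib.PLocal.QuadSection.pSolvable_subgroup hsol _)
  · rintro ⟨⟨-, Q₀, hQ₀, hc₀⟩, hA⟩
    set Q := F.core with hQdef
    have hQn : F.IsNormal Q := isNormal_core F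
    have hQS : Q ≤ S := hQn.1
    have hQc : F.IsCentric Q := centric_of_le hc₀ (le_sSup hQ₀) hQS
    obtain ⟨L, _, ι, ⟨hfin, hι, ⟨T, hT⟩, -⟩, hnl⟩ := exists_model hS hF hQn hQc
    refine ⟨L, inferInstance, hfin, ι, ?_, hι, T, hT⟩
    set I := iotaImg ι Q with hI
    have hIn : I.Normal := hnl
    let j : L →* normalizerIn (⊤ : Subgroup L) I :=
      (MonoidHom.id L).codRestrict _ fun g =>
        ⟨Subgroup.mem_top g, Subgroup.normalizer_eq_top I ▸ Subgroup.mem_top g⟩
    have hj : Function.Surjective j := fun x => ⟨x, rfl⟩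
    obtain ⟨e⟩ := nonempty_autGroup_equiv hι hQS
    let f : L →* F.autGroup Q :=
      e.symm.toMonoidHom.comp ((conjAut (⊤ : Subgroup L) I).rangeRestrict.comp j)
    have hf : Function.Surjective f :=
      e.symm.surjective.comp ((MonoidHom.rangeRestrict_surjective _).comp hj)
    have hker : ∀ g, g ∈ f.ker ↔ ∀ y ∈ I, g * y * g⁻¹ = y := by
      intro g
      rw [MonoidHom.mem_ker]
      show e.symm ((conjAut (⊤ : Subgroup L) I).rangeRestrict (j g)) = 1 ↔ _
      rw [MulEquiv.map_eq_one_iff, ← MonoidHom.mem_ker, MonoidHom.ker_rangeRestrict, ker_conjAut, Subgroup.mem_subgroupOf, mem_centralizerIn_iff]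
      exact ⟨fun h => h.2, fun h => ⟨Subgroup.mem_top g, h⟩⟩
    have hle : I ≤ (T : Subgroup L) := hT ▸ iotaImg_le_range Q
    refine isPSolvable_of_ker f hf hA (I ⊓ f.ker) inf_le_right (T.2.to_le (inf_le_left.trans hle)) ?_
    have hTC : (T : Subgroup L) ⊓ f.ker ≤ I := by
      rintro y ⟨hyT, hyk⟩
      obtain ⟨z, hz, rfl⟩ := exists_iotaFun_eq (hT ▸ hyT)
      refine iotaFun_mem_iotaImg hQS (hQc.2 Q (isConj_refl hQS) (mem_centralizerIn_iff.2 ⟨hz, fun x hx => ?_⟩))
      refine iotaFun_injOn hι (S.mul_mem (S.mul_mem hz (hQS hx)) (S.inv_mem hz)) (hQS hx) ?_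
      rw [iotaFun_conj ι hz (hQS hx)]
      exact (hker _).1 hyk _ (iotaFun_mem_iotaImg hQS hx)
    obtain ⟨U, hU⟩ := Lib.Solv.sylow_inf_subnormal (H := f.ker)
      (Subgroup.Normal.isSubnormal inferInstance) T
    intro hdvd
    refine U.not_dvd_index (hdvd.trans ?_)
    rw [hU]
    show (I ⊓ f.ker).relIndex f.ker ∣ (T : Subgroup L).relIndex f.ker
    rw [← Subgroup.inf_relIndex_right (T : Subgroup L) f.ker]
    exact Subgroup.relIndex_dvd_of_le_left _ (le_inf hTC inf_le_right)

end Cfsg.Agent.S5292
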