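import Cfsg.Statements.S5343
import Mathlib
import Cfsg.Agent.Lib.Fusion.RealizedSubsystem
-- import your own Cfsg.Agent.* helpers here

set_option autoImplicit false
universe u
open Cfsg

namespace Cfsg.Agent.S5343

open Cfsg.Lib.Fusion Cfsg.FusionSystem

theorem aux {Ω : Type u} [Group Ω] {S : Subgroup Ω} [Finite S] (p : ℕ) [Fact p.Prime] (hS : IsPGroup p S)
    (F : Cfsg.FusionSystem S) (hsimple : F.IsSimple p) (n : ℕ) :
    ∀ (G : Type u) (_ : Group G) (_ : Finite G), Nat.card G = n → ∀ ι : ↥S →* G, F.IsRealizedBy ι →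
      (∃ T : Sylow p G, (T : Subgroup G) = ι.range) →
      ∃ (G : Type u) (_ : Group G) (_ : Finite G) (_ : IsSimpleGroup G) (ι : ↥S →* G),
        F.IsRealizedBy ι ∧ ∃ T : Sylow p G, (T : Subgroup G) = ι.range := by
  induction n using Nat.strong_induction_on with
  | _ n ih =>
  intro G _ _ hn ι hι ⟨P₀, hP₀⟩
  by_cases hG : IsSimpleGroup G
  · exact ⟨G, _, inferInstance, hG, ι, hι, P₀, hP₀⟩
  have hne : Nontrivial G := by
    obtain ⟨x, hx⟩ := Subgroup.ne_bot_iff_exists_ne_one.1 hsimple.2.1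
    exact ⟨⟨ι x, 1, fun h => hx (hι.1 (h.trans ι.map_one.symm))⟩⟩
  obtain ⟨N, hN, hN1, hN2⟩ : ∃ N : Subgroup G, N.Normal ∧ N ≠ ⊥ ∧ N ≠ ⊤ := by
    by_contra h
    push Not at h
    exact hG ⟨fun N hN => or_iff_not_imp_left.2 (h N hN)⟩
  obtain ⟨T, hT, hTi⟩ := exists_iotaImg_eq (ι := ι) (A := (P₀ : Subgroup G) ⊓ N) (inf_le_left.trans hP₀.le)
  have hTN : ∀ x ∈ T, iotaFun ι x ∈ N := fun x hx =>
    (hTi ▸ iotaFun_mem_iotaImg hT hx : iotaFun ι x ∈ (P₀ : Subgroup G) ⊓ N).2
  rcases hsimple.2.2 T _ (normal_realizedSub hS hsimple.1 hι P₀ hP₀ N hT hTN hTi) with rfl | ⟨rfl, hE⟩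
  · have hNp : (P₀ : Subgroup G) ⊓ N = ⊥ := by
      rw [← hTi]
      refine le_bot_iff.1 fun y hy => ?_
      obtain ⟨x, hx, rfl⟩ := (mem_iotaImg bot_le).1 hy
      rw [Subgroup.mem_bot] at hx ⊢
      rw [hx, iotaFun_apply ι S.one_mem]
      exact ι.map_one
    refine ih (Nat.card (G ⧸ N)) ?_ (G ⧸ N) inferInstance inferInstance rfl _
      (realized_quotient hι P₀ hP₀ N hNp) ⟨P₀.mapSurjective (QuotientGroup.mk'_surjective N), ?_⟩
    · have h1 := (Subgroup.one_lt_card_iff_ne_bot N).2 hN1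
      rw [← hn, Subgroup.card_eq_card_quotient_mul_card_subgroup N]
      exact lt_mul_of_one_lt_right Nat.card_pos h1
    · rw [MonoidHom.range_comp, ← hP₀]
      rfl
  · have hιN : ∀ x : T, ι x ∈ N := fun x => by
      have := hTN x x.2
      rwa [iotaFun_apply ι x.2] at this
    refine ih (Nat.card N) ?_ N inferInstance inferInstance rfl (ι.codRestrict N hιN) ?_ ?_
    · exact hn ▸ lt_of_le_of_ne N.card_le_card_group fun h => hN2 (Subgroup.card_eq_iff_eq_top N |>.1 h)
    · refine ⟨fun a b h => hι.1 (congrArg Subtype.val h), fun P hP φ hφ => ?_⟩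
      rw [← hE P]
      constructor
      · rintro ⟨-, -, g, hg, he⟩
        refine ⟨⟨g, hg⟩, fun x => Subtype.ext ?_⟩
        have h1 := he x
        rw [iotaFun_apply ι (hφ x), iotaFun_apply ι (hP x.2)] at h1
        exact h1
      · rintro ⟨⟨g, hg⟩, he⟩
        refine ⟨hP, hφ, g, hg, fun x => ?_⟩
        rw [iotaFun_apply ι (hφ x), iotaFun_apply ι (hP x.2)]
        exact congrArg Subtype.val (he x)
    · have hle : (P₀ : Subgroup G) ≤ N := hP₀.le.trans (by rintro _ ⟨x, rfl⟩; exact hιN x)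
      refine ⟨P₀.subtype hle, ?_⟩
      rw [Sylow.coe_subtype]
      ext y
      constructor
      · intro hy
        obtain ⟨x, hx⟩ := hP₀.le hy
        exact ⟨x, Subtype.ext hx⟩
      · rintro ⟨x, rfl⟩
        exact hP₀.ge ⟨x, rfl⟩

/-- Let F be a simple saturated fusion system over a finite p-group S that is realized by some finite group on a Sylow p-subgroup. Then F is realized by a finite simple group on a Sylow p-subgroup. -/
theorem result {Ω : Type u} [Group Ω] {S : Subgroup Ω} [Finite S] (p : ℕ) [Fact p.Prime] (hS : IsPGroup p S) (F : Cfsg.FusionSystem S) (hsimple : F.IsSimple p) (hreal : F.IsRealizable p) : ∃ (G : Type u) (_ : Group G) (_ : Finite G) (_ : IsSimpleGroup G) (ι : ↥S →* G), F.IsRealizedBy ι ∧ ∃ T : Sylow p G, (T : Subgroup G) = ι.range := by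
  obtain ⟨G, _, _, ι, hι, hT⟩ := hreal
  exact aux p hS F hsimple _ G _ inferInstance rfl ι hι hT

end Cfsg.Agent.S5343
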