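import Cfsg.Statements.S5427
import Cfsg.Agent.Lib.Large.Simple

set_option autoImplicit false
open Cfsg

namespace Cfsg.Agent.S5427

/-- Let z be an involution of the finite group G whose centralizer C has generalized Fitting subgroup Q, an extraspecial 2-group of width at least 2 (order 2^(2w+1), w ≥ 2). Let K be a subgroup of G such that the subgroup U generated by the K-conjugates of z is abelian and C is generated by the C-conjugates of U. Suppose that either some K-conjugate of z other than z lies in Q, or some element u of U ∩ Q outside the subgroup generated by z has z in the largest normal 2-subgroup of its centralizer. Then G is simple and Q is a large extraspecial 2-subgroup of G. -/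
theorem result {G : Type*} [Group G] [Finite G] (z : G) (hz : orderOf z = 2) (Q : Subgroup G) (hQC : Q ≤ Subgroup.centralizer ({z} : Set G)) (hF : (Cfsg.generalizedFittingSubgroup ↥(Subgroup.centralizer ({z} : Set G))).map (Subgroup.centralizer ({z} : Set G)).subtype = Q) (hQ : Cfsg.IsExtraspecial 2 ↥Q) (w : ℕ) (hw : 2 ≤ w) (hcard : Nat.card ↥Q = 2 ^ (2 * w + 1)) (K U : Subgroup G) (hU : U = Subgroup.closure {x : G | ∃ k ∈ K, x = k * z * k⁻¹}) (hUab : IsMulCommutative ↥U) (hgen : Subgroup.closure {x : G | ∃ c ∈ Subgroup.centralizer ({z} : Set G), ∃ u ∈ U, x = c * u * c⁻¹} = Subgroup.centralizer ({z} : Set G)) (h3 : (∃ k ∈ K, k * z * k⁻¹ ∈ Q ∧ k * z * k⁻¹ ≠ z) ∨ ∃ u ∈ U ⊓ Q, u ∉ Subgroup.zpowers z ∧ (∃ hz' : z ∈ Subgroup.centralizer ({u} : Set G), (⟨z, hz'⟩ : ↥(Subgroup.centralizer ({u} : Set G))) ∈ Cfsg.pCore 2 ↥(Subgroup.centralizer ({u} : Set G)))) : IsSimpleGroup G ∧ Cfsg.IsLargeExtraspecial Q := by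
  haveI : Fact (Nat.Prime 2) := ⟨Nat.prime_two⟩
  obtain ⟨hcenter, hL2, hL3, hd⟩ := Cfsg.Lib.Large.Pair.of_fstar hz hF hQ
  have hlarge : ∀ L : Subgroup G, Odd (Nat.card L) → Q ≤ Subgroup.normalizer (L : Set G) → L = ⊥ := by
    rcases h3 with ⟨k, -, hkQ, hne⟩ | ⟨u, hu, huz, hz', hzO⟩
    · have h := Cfsg.Lib.Large.Pair.setting_of hd (Cfsg.Lib.Large.Pair.eight_lt hw hcard) hne hkQ
      refine Cfsg.Lib.Large.Pair.odd_trivial hd hkQ h.dx.ne hne h.dx.sq fun c hc => ?_
      obtain ⟨n, hn⟩ := Cfsg.Lib.Large.Pair.isPGroup_of_data h.dx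
        ⟨_, mul_mem (h.dx.conj c hc z h.zmem) (inv_mem h.zmem)⟩
      exact ⟨n, congrArg Subtype.val hn⟩
    · have hab : ∀ a ∈ U, ∀ b ∈ U, a * b = b * a := fun a ha b hb =>
        congrArg Subtype.val (hUab.is_comm.comm (⟨a, ha⟩ : U) ⟨b, hb⟩)
      have hsqU : ∀ a ∈ U, a * a = 1 := by
        intro a ha
        rw [hU] at ha
        induction ha using Subgroup.closure_induction with
        | mem b hb =>
          obtain ⟨k, -, rfl⟩ := hb
          rw [show k * z * k⁻¹ * (k * z * k⁻¹) = k * (z * z) * k⁻¹ by group, hd.sq]; group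
        | one => exact one_mul 1
        | mul b c hb hc h1 h2 =>
          rw [show b * c * (b * c) = b * (c * b) * c by group, hab c (hU ▸ hc) b (hU ▸ hb),
            show b * (b * c) * c = b * b * (c * c) by group, h1, h2, one_mul]
        | inv b _ h1 => rw [← mul_inv_rev, h1, inv_one]
      refine Cfsg.Lib.Large.Pair.odd_trivial hd hu.2 (fun e => huz (e ▸ one_mem _))
        (fun e => huz (e ▸ Subgroup.mem_zpowers z)) (hsqU u hu.1) fun c hc => ?_
      have hcm : c ∈ Subgroup.centralizer ({u} : Set G) := Subgroup.mem_centralizer_singleton_iff.2 hc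
      have hp : IsPGroup 2 (Cfsg.pCore 2 ↥(Subgroup.centralizer ({u} : Set G))) := Cfsg.Lib.Transfer.pCore_isPGroup 2
      haveI : (Cfsg.pCore 2 ↥(Subgroup.centralizer ({u} : Set G))).Normal := Cfsg.Lib.Transfer.pCore_normal 2
      obtain ⟨n, hn⟩ := hp ⟨_, mul_mem (Subgroup.Normal.conj_mem inferInstance _ hzO ⟨c, hcm⟩) (inv_mem hzO)⟩
      exact ⟨n, congrArg (fun w => ((w : ↥(Cfsg.pCore 2 ↥(Subgroup.centralizer ({u} : Set G)))) : ↥(Subgroup.centralizer ({u} : Set G))).1) hn⟩
  refine ⟨Cfsg.Lib.Large.Pair.simple_of hd hlarge ?_, hQ, hL2, hL3, hlarge⟩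
  refine hgen.ge.trans ((Subgroup.closure_le _).2 ?_)
  rintro _ ⟨c, -, u, hu, rfl⟩
  refine Subgroup.normalClosure_normal.conj_mem u ?_ c
  rw [hU] at hu
  refine (Subgroup.closure_le (Subgroup.normalClosure ({z} : Set G))).2 ?_ hu
  rintro _ ⟨k, -, rfl⟩
  exact Subgroup.normalClosure_normal.conj_mem z (Subgroup.subset_normalClosure (Set.mem_singleton z)) k

end Cfsg.Agent.S5427
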