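import Cfsg.Statements.S5428
import Cfsg.Agent.Lib.Large.Centralizer
import Cfsg.Agent.Lib.Solv.Coprime

set_option autoImplicit false
set_option maxHeartbeats 1600000
open Cfsg
open scoped Pointwise

namespace Cfsg.Agent.S5428

theorem fixed_central {G : Type*} [Group G] [Finite G] {z : G} {Q A : Subgroup G}
    (hd : Cfsg.Agent.S5595.Data z Q) (hA : ∀ a ∈ A, a * z = z * a) (hAodd : Odd (Nat.card A)) {r : G}
    (hr : r ∈ Q) (hrA : ∀ a ∈ A, a * r = r * a)
    (hc : ∀ s ∈ Q, (∀ a ∈ A, a * s = s * a) → r * s = s * r) : r = 1 ∨ r = z := by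
  haveI : Fact (Nat.Prime 2) := ⟨Nat.prime_two⟩
  have hp : IsPGroup 2 Q := fun a => by
    refine ⟨2, Subtype.ext ?_⟩
    show (a : G) ^ 4 = 1
    rw [show (a : G) ^ 4 = a * a * (a * a) by simp [pow_succ, mul_assoc]]
    rcases hd.square a a.2 with e | e <;> rw [e]
    exacts [one_mul 1, hd.sq]
  have hAN : A ≤ Subgroup.normalizer (Q : Set G) := by
    intro a ha
    rw [Subgroup.mem_normalizer_iff]
    refine fun q => ⟨fun hq => hd.conj a (hA a ha) q hq, fun hq => ?_⟩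
    have := hd.conj a⁻¹ ((show Commute a z from hA a ha).inv_left.eq) _ hq
    rwa [show a⁻¹ * (a * q * a⁻¹) * a⁻¹⁻¹ = q by group] at this
  obtain ⟨n, hn⟩ := IsPGroup.iff_card.1 hp
  have hcop : (Nat.card A).Coprime (Nat.card Q) := by
    rw [hn]; exact ((Nat.coprime_two_right).2 hAodd).pow_right n
  have hs : Group.IsSolvable Q := by
    have := hp.isNilpotent
    infer_instance
  refine hd.central r hr fun b hb => ?_
  have hle : Q ≤ Subgroup.centralizer ({r} : Set G) := by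
    rw [← Cfsg.Lib.Solv.commutator_sup_centralizer A Q hAN hcop (Or.inr hs), sup_le_iff]
    refine ⟨Subgroup.commutator_le.2 fun q hq a ha => Subgroup.mem_centralizer_singleton_iff.2 ?_,
      fun s hs' => Subgroup.mem_centralizer_singleton_iff.2
        (hc s hs'.1 fun a ha => (Subgroup.mem_centralizer_iff.1 hs'.2) a ha).symm⟩
    obtain ⟨ε, hε, h1⟩ : ∃ ε, (ε = 1 ∨ ε = z) ∧ r * q * r⁻¹ = q * ε := by
      rcases Cfsg.Lib.Large.Singular.conj_cases hd hr hq with ⟨-, e⟩ | ⟨-, e⟩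
      exacts [⟨1, Or.inl rfl, by rw [e, mul_one]⟩, ⟨z, Or.inr rfl, e⟩]
    have hεc : ∀ w, (∀ v ∈ ({z} : Set G), w * v = v * w) → w * ε = ε * w := by
      intro w hw
      rcases hε with rfl | rfl
      exacts [by simp, hw _ rfl]
    have hεε : ε * ε = 1 := by rcases hε with rfl | rfl <;> simp [hd.sq]
    have c1 : Commute q ε := hεc q (by rintro v rfl; exact hd.comm q hq)
    have c2 : Commute a ε := hεc a (by rintro v rfl; exact hA a ha)
    have hεi : ε⁻¹ = ε := inv_eq_of_mul_eq_one_right hεε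
    have h2 : r * (a * q⁻¹ * a⁻¹) * r⁻¹ = a * q⁻¹ * a⁻¹ * ε := by
      have e : r * q⁻¹ * r⁻¹ = q⁻¹ * ε := by
        rw [show r * q⁻¹ * r⁻¹ = (r * q * r⁻¹)⁻¹ by group, h1, mul_inv_rev, hεi, c1.inv_left.eq]
      have ca : a * r = r * a := hrA a ha
      calc r * (a * q⁻¹ * a⁻¹) * r⁻¹ = (r * a) * q⁻¹ * (r * a)⁻¹ := by group
        _ = a * (r * q⁻¹ * r⁻¹) * a⁻¹ := by rw [← ca]; group
        _ = _ := by rw [e, mul_assoc, mul_assoc, ← c2.inv_left.eq]; group
    have h3 : r * (q * a * q⁻¹ * a⁻¹) * r⁻¹ = q * a * q⁻¹ * a⁻¹ := by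
      have c3 : Commute (a * q⁻¹ * a⁻¹) ε := (c2.mul_left c1.inv_left).mul_left c2.inv_left
      rw [show r * (q * a * q⁻¹ * a⁻¹) * r⁻¹ = (r * q * r⁻¹) * (r * (a * q⁻¹ * a⁻¹) * r⁻¹) by group, h1, h2,
        c3.eq, show q * ε * (ε * (a * q⁻¹ * a⁻¹)) = q * (ε * ε) * (a * q⁻¹ * a⁻¹) by group, hεε]
      group
    exact (mul_inv_eq_iff_eq_mul.1 h3).symm
  exact (Subgroup.mem_centralizer_singleton_iff.1 (hle hb)).symm

/-- Let z be an involution of the finite group G whose centralizer C has generalized Fitting subgroup Q extraspecial (as a 2-group), let A be a subgroup of C of odd order, and let R be the centralizer of A in Q; suppose R has order at least 32, the largest normal subgroup of odd order of the centralizer of the subgroup generated by A and R lies in A, the order of that centralizer is not divisible by 4, and g is an element of G with g z g⁻¹ in R but outside the centre Z of Q. Let M be the subgroup generated by A and the centralizer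 of A (A is normal in it). Then: the centralizer in M of the subgroup generated by R and A, joined with A, equals the subgroup generated by A and Z; the image of R in M/A is a large extraspecial 2-subgroup of M/A; and g z g⁻¹ is conjugate to z inside the subgroup generated by R and the centralizer of A in g Q g⁻¹. -/
theorem result {G : Type*} [Group G] [Finite G] (z : G) (hz : orderOf z = 2) (Q : Subgroup G) (hQC : Q ≤ Subgroup.centralizer ({z} : Set G)) (hF : (Cfsg.generalizedFittingSubgroup ↥(Subgroup.centralizer ({z} : Set G))).map (Subgroup.centralizer ({z} : Set G)).subtype = Q) (hQ : Cfsg.IsExtraspecial 2 ↥Q) (A : Subgroup G) (hA : A ≤ Subgroup.centralizer ({z} : Set G)) (hAodd : Odd (Nat.card ↥A)) (R : Subgroup G) (hR : R = Q ⊓ Subgroup.centralizer (A : Set G)) (hR32 : 32 ≤ Nat.card ↥R) (hO : (Cfsg.oddCore ↥(Subgroup.centralizer ((A ⊔ R : Subgroup G) : Set G))).map (Subgroup.centralizer ((A ⊔ R : Subgroup G) : Set G)).subtype ≤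 A) (h4 : ¬ 4 ∣ Nat.card ↥(Subgroup.centralizer ((A ⊔ R : Subgroup G) : Set G))) (g : G) (hgR : g * z * g⁻¹ ∈ R) (hgZ : g * z * g⁻¹ ∉ ((Subgroup.center ↥Q).map Q.subtype)) (M : Subgroup G) (hM : M = Subgroup.centralizer (A : Set G) ⊔ A) [hn : (A.subgroupOf M).Normal] : (M ⊓ Subgroup.centralizer ((R ⊔ A : Subgroup G) : Set G)) ⊔ A = A ⊔ ((Subgroup.center ↥Q).map Q.subtype) ∧ Cfsg.IsLargeExtraspecial ((R.subgroupOf M).map (QuotientGroup.mk' (A.subgroupOf M))) ∧ ∃ x ∈ R ⊔ ((Q).map (MulAut.conj g).toMonoidHom ⊓ Subgroup.centralizer (A : Set G)), x * (g * z * g⁻¹) * x⁻¹ = z := by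
  haveI : Fact (Nat.Prime 2) := ⟨Nat.prime_two⟩
  obtain ⟨hcenter, hL2, hL3, hd⟩ := Cfsg.Lib.Large.Pair.of_fstar hz hF hQ
  have hne : g * z * g⁻¹ ≠ z := fun e => hgZ (by rw [e, hcenter]; exact Subgroup.mem_zpowers z)
  subst hR hM
  obtain ⟨hgQ, hgA⟩ := hgR
  have hbig : 8 < Nat.card ↥Q := lt_of_lt_of_le (lt_of_lt_of_le (by norm_num : 8 < 32) hR32)
    (Subgroup.card_le_of_le inf_le_left)
  have h := Cfsg.Lib.Large.Pair.setting_of hd hbig hne hgQ
  set x := g * z * g⁻¹ with hxdef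
  set S := Cfsg.Lib.Large.Pair.conjS g Q
  set CA := Subgroup.centralizer (A : Set G)
  have hAz : ∀ a ∈ A, a * z = z * a := fun a ha => Subgroup.mem_centralizer_singleton_iff.1 (hA ha)
  have hAx : ∀ a ∈ A, a * x = x * a := fun a ha => Subgroup.mem_centralizer_iff.1 hgA a ha
  have hzA : z ∈ CA := Subgroup.mem_centralizer_iff.2 hAz
  have cA : ∀ {w : G}, w ∈ CA → ∀ a ∈ A, a * w = w * a := fun hw a ha => Subgroup.mem_centralizer_iff.1 hw a ha
  have hA4 : ∀ a ∈ A, a ^ 4 = 1 → a = 1 := by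
    intro a ha h4
    refine orderOf_eq_one_iff.1 (Nat.eq_one_of_dvd_coprimes ?_
      (Subgroup.orderOf_mk a ha ▸ orderOf_dvd_natCard (⟨a, ha⟩ : A)) (orderOf_dvd_of_pow_eq_one h4))
    exact Nat.Coprime.pow_right 2 (Nat.coprime_two_right.2 hAodd)
  have hfour : ∀ q ∈ Q, q ^ 4 = 1 := fun q hq => by
    rw [show q ^ 4 = q * q * (q * q) by simp [pow_succ, mul_assoc]]
    rcases hd.square q hq with e | e <;> rw [e]
    exacts [one_mul 1, hd.sq]
  have hfourS : ∀ q ∈ S, q ^ 4 = 1 := fun q hq => by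
    rw [show q ^ 4 = q * q * (q * q) by simp [pow_succ, mul_assoc]]
    rcases h.dx.square q hq with e | e <;> rw [e]
    exacts [one_mul 1, h.dx.sq]
  have hq0 : ∃ q ∈ Q, q ∈ CA ∧ q * x ≠ x * q := by
    by_contra hcon
    push Not at hcon
    rcases fixed_central hd hAz hAodd hgQ hAx (fun s hs hsA =>
      (hcon s hs (Subgroup.mem_centralizer_iff.2 hsA)).symm) with e | e
    exacts [h.dx.ne e, h.ne e]
  have hq1 : ∃ q ∈ S, q ∈ CA ∧ q * z ≠ z * q := by
    by_contra hcon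
    push Not at hcon
    rcases fixed_central h.dx hAx hAodd h.zmem hAz (fun s hs hsA =>
      (hcon s hs (Subgroup.mem_centralizer_iff.2 hsA)).symm) with e | e
    exacts [hd.ne e, h.ne e.symm]
  obtain ⟨q₀, h0, h0A, h0x⟩ := hq0
  obtain ⟨q₁, h1, h1A, h1z⟩ := hq1
  have m0 : q₀ * x * q₀⁻¹ = x * z := Cfsg.Lib.Large.Pair.conjx_move h h0 h0x
  have m1 : q₁ * z * q₁⁻¹ = z * x := Cfsg.Lib.Large.Pair.conjx_move h.swap h1 h1z
  have x1 : q₁ * x * q₁⁻¹ = x := Cfsg.Lib.Large.Pair.conjz h.swap h1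
  have czx : z * x = x * z := Cfsg.Lib.Large.Pair.comm_zx h
  refine ⟨?_, ?_, q₁ * q₀ * q₁⁻¹, ?_, ?_⟩
  rotate_left 2
  · have a1 : q₀ ∈ Q ⊓ CA := ⟨h0, h0A⟩
    have a2 : q₁ ∈ S ⊓ CA := ⟨h1, h1A⟩
    exact mul_mem (mul_mem (Subgroup.mem_sup_right a2) (Subgroup.mem_sup_left a1))
      (inv_mem (Subgroup.mem_sup_right a2))
  · have x1' : q₁⁻¹ * x * q₁ = x := by nth_rw 1 [← x1]; group
    rw [show q₁ * q₀ * q₁⁻¹ * x * (q₁ * q₀ * q₁⁻¹)⁻¹ = q₁ * (q₀ * (q₁⁻¹ * x * q₁) * q₀⁻¹) * q₁⁻¹ by group, x1', m0,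
      show q₁ * (x * z) * q₁⁻¹ = (q₁ * x * q₁⁻¹) * (q₁ * z * q₁⁻¹) by group, x1, m1, czx, ← mul_assoc, h.dx.sq,
      one_mul]
  all_goals
    set H0 := Subgroup.centralizer ((A ⊔ (Q ⊓ CA) : Subgroup G) : Set G) with hH0def
    have hH0A : H0 ≤ CA := Subgroup.centralizer_le (SetLike.coe_subset_coe.2 le_sup_left)
    have hzR : z ∈ Q ⊓ CA := ⟨hd.mem, hzA⟩
    have hzH0 : z ∈ H0 := by
      rw [hH0def, Subgroup.sup_eq_closure, Subgroup.centralizer_closure, Subgroup.mem_centralizer_iff]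
      rintro v (hv | hv)
      exacts [hAz v hv, hd.comm v hv.1]
    have hH0 : H0 ≤ A ⊔ Subgroup.zpowers z := by
      set Zs := (Subgroup.zpowers z).subgroupOf H0
      have hcenH : ∀ c : H0, (c : G) * z = z * c := fun c =>
        ((Subgroup.mem_centralizer_iff.1 c.2) z (Subgroup.mem_sup_right hzR)).symm
      have hZn : Zs.Normal := ⟨fun n hn c => by
        rw [Subgroup.mem_subgroupOf] at hn ⊢
        obtain ⟨i, hi⟩ := Subgroup.mem_zpowers_iff.1 hn
        show (c : G) * n * (c : G)⁻¹ ∈ Subgroup.zpowers z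
        rw [← hi, ((show Commute (c : G) z from hcenH c).zpow_right i).eq, mul_inv_cancel_right]
        exact Subgroup.zpow_mem _ (Subgroup.mem_zpowers z) i⟩
      have hZc : Nat.card Zs = 2 := by
        rw [Nat.card_congr (Subgroup.subgroupOfEquivOfLe (Subgroup.zpowers_le.2 hzH0)).toEquiv, Nat.card_zpowers]
        exact hz
      have hcop : (Nat.card Zs).Coprime Zs.index := by
        rw [hZc, Nat.prime_two.coprime_iff_not_dvd]
        intro hdvd
        refine h4 ?_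
        obtain ⟨m, hm⟩ := hdvd
        exact ⟨m, by rw [← Subgroup.card_mul_index Zs, hZc, hm]; ring⟩
      obtain ⟨K, hK⟩ := Subgroup.exists_right_complement'_of_coprime hcop
      have hKn : K.Normal := ⟨fun k hk c => by
        obtain ⟨⟨⟨u, hu⟩, ⟨v, hv⟩⟩, rfl⟩ := hK.2 c
        have hcu : ∀ w : H0, u * w = w * u := fun w => by
          refine Subtype.ext ?_
          obtain ⟨i, hi⟩ := Subgroup.mem_zpowers_iff.1 (Subgroup.mem_subgroupOf.1 hu)
          show (u : G) * w = w * u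
          rw [← hi]; exact (((show Commute (w : G) z from hcenH w).zpow_right i).eq).symm
        show u * v * k * (u * v)⁻¹ ∈ K
        rw [show u * v * k * (u * v)⁻¹ = u * (v * k * v⁻¹) * u⁻¹ by group, hcu, mul_inv_cancel_right]
        exact mul_mem (mul_mem hv hk) (inv_mem hv)⟩
      have hKodd : (Nat.card K).Coprime 2 := by
        have := hK.card_mul
        rw [hZc] at this
        rw [Nat.coprime_comm, Nat.prime_two.coprime_iff_not_dvd]
        rintro ⟨m, hm⟩
        exact h4 ⟨m, by rw [← this, hm]; ring⟩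
      intro c hc
      obtain ⟨⟨⟨u, hu⟩, ⟨v, hv⟩⟩, hc'⟩ := hK.2 ⟨c, hc⟩
      have : c = (u : G) * (v : G) := (congrArg Subtype.val hc').symm
      rw [this]
      refine mul_mem (Subgroup.mem_sup_right (Subgroup.mem_subgroupOf.1 hu)) (Subgroup.mem_sup_left (hO ?_))
      have hm : K ∈ {N : Subgroup H0 | N.Normal ∧ (Nat.card N).Coprime 2} := ⟨hKn, hKodd⟩
      exact ⟨v, (le_sSup hm : K ≤ Cfsg.oddCore H0) hv, rfl⟩
  · rw [hcenter]
    refine le_antisymm (sup_le (fun c hc => hH0 ?_) le_sup_left) (sup_le le_sup_right (Subgroup.zpowers_le.2 ?_))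
    · rw [hH0def, sup_comm A]; exact hc.2
    · refine Subgroup.mem_sup_left ⟨Subgroup.mem_sup_left hzA, ?_⟩
      rw [sup_comm (Q ⊓ CA)]; exact hzH0
  · set M := CA ⊔ A
    set T := A.subgroupOf M
    set π : ↥M →* ↥M ⧸ T := QuotientGroup.mk' T
    set Rb := ((Q ⊓ CA).subgroupOf M).map π
    have hTmem : ∀ a : M, π a = 1 ↔ (a : G) ∈ A := fun a =>
      (QuotientGroup.eq_one_iff a).trans Subgroup.mem_subgroupOf
    have hπeq : ∀ a b : M, π a = π b → (a : G)⁻¹ * (b : G) ∈ A := fun a b e =>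
      (hTmem (a⁻¹ * b)).1 (by rw [map_mul, map_inv, e, inv_mul_cancel])
    have hCAM : CA ≤ M := le_sup_left
    set zb := π ⟨z, hCAM hzA⟩ with hzb
    have hzb1 : zb ≠ 1 := fun e => hd.ne (hA4 z ((hTmem _).1 e) (hfour z hd.mem))
    have hRb : ∀ a : M, (a : G) ∈ Q → (a : G) ∈ CA → π a ∈ Rb := fun a ha ha' =>
      ⟨a, Subgroup.mem_subgroupOf.2 ⟨ha, ha'⟩, rfl⟩
    have hRA : ∀ w, w ∈ Q → w ∈ A → w = 1 := fun w hw hw' => hA4 w hw' (hfour w hw)
    have hcentral : ∀ a : M, (a : G) ∈ Q → (a : G) ∈ CA →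
        (∀ b : M, (b : G) ∈ Q → (b : G) ∈ CA → π a * π b = π b * π a) → π a = 1 ∨ π a = zb := by
      intro a ha ha' hab
      rcases fixed_central hd hAz hAodd ha (cA ha') (fun s hs hsA => by
        have hs' : s ∈ CA := Subgroup.mem_centralizer_iff.2 hsA
        have e1 : π (a * ⟨s, hCAM hs'⟩ * a⁻¹ * (⟨s, hCAM hs'⟩ : M)⁻¹) = 1 := by
          rw [map_mul, map_mul, map_mul, map_inv, map_inv, hab ⟨s, hCAM hs'⟩ hs hs']; group
        exact mul_inv_eq_iff_eq_mul.1 (mul_inv_eq_one.1 (hRA ((a : G) * s * (a : G)⁻¹ * s⁻¹)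
          (mul_mem (mul_mem (mul_mem ha hs) (inv_mem ha)) (inv_mem hs)) ((hTmem _).1 e1)))) with e | e
      · exact Or.inl ((hTmem a).2 (e ▸ one_mem _))
      · exact Or.inr (congrArg π (Subtype.ext e : a = ⟨z, hCAM hzA⟩))
    obtain ⟨hE, hEc⟩ := Cfsg.Lib.Large.Pair.isExtraspecial_two (P := Rb) (u := zb) (hRb _ hd.mem hzA)
      (by rw [hzb, ← map_mul]; exact (hTmem _).2 (by show z * z ∈ A; rw [hd.sq]; exact one_mem _)) hzb1
      (by
        rintro _ ⟨a, ha, rfl⟩
        rw [hzb, ← map_mul, ← map_mul]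
        exact congrArg π (Subtype.ext (hd.comm a (Subgroup.mem_subgroupOf.1 ha).1)))
      (by
        rintro _ ⟨a, ha, rfl⟩ _ ⟨b, hb, rfl⟩
        rw [← map_inv, ← map_inv, ← map_mul, ← map_mul, ← map_mul]
        rcases hd.brack a (Subgroup.mem_subgroupOf.1 ha).1 b (Subgroup.mem_subgroupOf.1 hb).1 with e | e
        · left; rw [show a * b * a⁻¹ * b⁻¹ = 1 from Subtype.ext e, map_one]
        · exact Or.inr (congrArg π (Subtype.ext e)))
      (by
        rintro _ ⟨a, ha, rfl⟩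
        rw [← map_mul]
        rcases hd.square a (Subgroup.mem_subgroupOf.1 ha).1 with e | e
        · left; rw [show a * a = 1 from Subtype.ext e, map_one]
        · exact Or.inr (congrArg π (Subtype.ext e)))
      (by
        rintro _ ⟨a, ha, rfl⟩ hc
        exact hcentral a (Subgroup.mem_subgroupOf.1 ha).1 (Subgroup.mem_subgroupOf.1 ha).2
          fun b hb hb' => hc _ (hRb b hb hb'))
      (by
        refine ⟨π ⟨q₀, hCAM h0A⟩, hRb _ h0 h0A, π ⟨x, hCAM hgA⟩, hRb _ hgQ hgA, fun e => ?_⟩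
        have e1 : π (⟨q₀, hCAM h0A⟩ * ⟨x, hCAM hgA⟩ * (⟨q₀, hCAM h0A⟩ : M)⁻¹ * (⟨x, hCAM hgA⟩ : M)⁻¹) = 1 := by
          rw [map_mul, map_mul, map_mul, map_inv, map_inv, e]; group
        have := (hTmem _).1 e1
        simp only [Subgroup.coe_mul, Subgroup.coe_inv] at this
        rw [m0, ← czx, mul_inv_cancel_right] at this
        exact hd.ne (hRA z hd.mem this))
    -- representatives in the centralizer of `A`
    have hrep : ∀ c : ↥M ⧸ T, ∃ k : M, (k : G) ∈ CA ∧ π k = c := by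
      intro c
      obtain ⟨c, rfl⟩ := QuotientGroup.mk'_surjective T c
      have hnA : A ≤ Subgroup.normalizer (CA : Set G) := by
        intro a ha
        rw [Subgroup.mem_normalizer_iff]
        have key : ∀ b ∈ A, ∀ k ∈ CA, b * k * b⁻¹ ∈ CA := by
          intro b hb k hk
          rw [cA hk b hb, mul_inv_cancel_right]; exact hk
        refine fun k => ⟨fun hk => key a ha k hk, fun hk => ?_⟩
        have := key a⁻¹ (A.inv_mem ha) _ hk
        rwa [show a⁻¹ * (a * k * a⁻¹) * a⁻¹⁻¹ = k by group] at this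
      have hc : (c : G) ∈ ((CA : Subgroup G) : Set G) * ((A : Subgroup G) : Set G) := by
        rw [← Subgroup.coe_mul_of_right_le_normalizer_left _ _ hnA]; exact c.2
      obtain ⟨k, hk, a, ha, he⟩ := hc
      refine ⟨⟨k, hCAM hk⟩, hk, ?_⟩
      change π ⟨k, hCAM hk⟩ = π c
      rw [← mul_one (π ⟨k, hCAM hk⟩), ← (hTmem ⟨a, Subgroup.mem_sup_right ha⟩).2 ha, ← map_mul]
      exact congrArg π (Subtype.ext he)
    -- commuting modulo `A` with a 2-element of the centralizer of `A`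
    have hfix : ∀ (k v : M), (k : G) ∈ CA → (v : G) ∈ CA → (v : G) ^ 4 = 1 → π k * π v = π v * π k →
        (k : G) * v = v * k := by
      intro k v hk hv hv4 e
      have e1 : π (v⁻¹ * (k * v * k⁻¹)) = 1 := by
        rw [map_mul, map_mul, map_mul, map_inv, map_inv, e]; group
      have ha : (v : G)⁻¹ * (k * v * (k : G)⁻¹) ∈ A := (hTmem _).1 e1
      set a := (v : G)⁻¹ * (k * v * (k : G)⁻¹) with hadef
      have hc : Commute (v : G) a := (cA hv a ha).symm
      have h44 : ((v : G) * a) ^ 4 = 1 := by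
        rw [hadef, mul_inv_cancel_left, conj_pow, hv4, mul_one, mul_inv_cancel]
      rw [hc.mul_pow, hv4, one_mul] at h44
      have : (k : G) * v * (k : G)⁻¹ = v := by
        rw [← mul_inv_cancel_left (v : G) (k * v * (k : G)⁻¹), ← hadef, hA4 a ha h44, mul_one]
      exact mul_inv_eq_iff_eq_mul.1 this
    have hnormR : ∀ k : G, k ∈ CA → k * z = z * k → ∀ q ∈ Q ⊓ CA, k * q * k⁻¹ ∈ Q ⊓ CA := fun k hk hkz q hq =>
      ⟨hd.conj k hkz q hq.1, CA.mul_mem (CA.mul_mem hk hq.2) (CA.inv_mem hk)⟩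
    have hinH : ∀ k : M, (k : G) ∈ CA → (∀ q ∈ Q ⊓ CA, (k : G) * q = q * k) → π k = 1 ∨ π k = zb := by
      intro k hk hkR
      have hk0 : (k : G) ∈ H0 := by
        rw [hH0def, Subgroup.sup_eq_closure, Subgroup.centralizer_closure, Subgroup.mem_centralizer_iff]
        rintro v (hv | hv)
        exacts [cA hk v hv, (hkR v hv).symm]
      have := hH0 hk0
      rw [sup_comm] at this
      have hnZ : A ≤ Subgroup.normalizer ((Subgroup.zpowers z : Subgroup G) : Set G) := by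
        intro a ha
        rw [Subgroup.mem_normalizer_iff_map_conj_eq, MonoidHom.map_zpowers]
        exact congrArg Subgroup.zpowers (mul_inv_eq_iff_eq_mul.2 (hAz a ha))
      have hmem : (k : G) ∈ ((Subgroup.zpowers z : Subgroup G) : Set G) * (A : Set G) := by
        rw [← Subgroup.coe_mul_of_right_le_normalizer_left _ _ hnZ]; exact this
      obtain ⟨u, hu, a, ha, he⟩ := hmem
      obtain ⟨i, rfl⟩ := Subgroup.mem_zpowers_iff.1 hu
      have : π k = zb ^ i := by
        rw [hzb, ← map_zpow, ← mul_one (π ((⟨z, hCAM hzA⟩ : M) ^ i)), ← (hTmem ⟨a, Subgroup.mem_sup_right ha⟩).2 ha,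
          ← map_mul]
        exact congrArg π (Subtype.ext (by simpa using he.symm))
      rw [this]
      have hzz2 : zb ^ (2 : ℤ) = 1 := by
        rw [zpow_two, hzb, ← map_mul]; exact (hTmem _).2 (by show z * z ∈ A; rw [hd.sq]; exact one_mem _)
      rcases Int.even_or_odd i with ⟨m, rfl⟩ | ⟨m, rfl⟩
      · left; rw [← two_mul, zpow_mul, hzz2, one_zpow]
      · right; rw [zpow_add, zpow_one, zpow_mul, hzz2, one_zpow, one_mul]
    have hz4 : z ^ 4 = 1 := hfour z hd.mem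
    refine ⟨hE, le_antisymm ?_ ?_, ?_, ?_⟩
    · intro c hc
      obtain ⟨k, hk, rfl⟩ := hrep c
      rw [Subgroup.mem_centralizer_iff] at hc
      have := hinH k hk fun q hq => hfix k ⟨q, hCAM hq.2⟩ hk hq.2 (hfour q hq.1) (hc _ (hRb _ hq.1 hq.2)).symm
      rw [hEc]
      rcases this with e | e <;> rw [e]
      exacts [one_mem _, Subgroup.mem_zpowers _]
    · rintro _ ⟨a, ha, rfl⟩
      exact Subgroup.mem_centralizer_iff.2 fun b hb => congrArg Subtype.val (Subgroup.mem_center_iff.1 ha ⟨b, hb⟩)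
    · rw [hEc]
      intro c hc
      obtain ⟨k, hk, rfl⟩ := hrep c
      rw [Subgroup.mem_centralizer_iff] at hc
      have hkz : (k : G) * z = z * k := hfix k _ hk hzA hz4 (hc _ (Subgroup.mem_zpowers _)).symm
      have key : ∀ d : M, (d : G) ∈ CA → (d : G) * z = z * d → ∀ y ∈ Rb, π d * y * (π d)⁻¹ ∈ Rb := by
        rintro d hd' hdz _ ⟨a, ha, rfl⟩
        rw [← map_inv, ← map_mul, ← map_mul]
        obtain ⟨e1, e2⟩ := hnormR d hd' hdz a (Subgroup.mem_subgroupOf.1 ha)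
        exact hRb _ e1 e2
      rw [Subgroup.mem_normalizer_iff]
      refine fun y => ⟨fun hy => key k hk hkz y hy, fun hy => ?_⟩
      have := key k⁻¹ (CA.inv_mem hk) ((show Commute (k : G) z from hkz).inv_left.eq) _ hy
      rw [map_inv] at this
      rwa [show (π k)⁻¹ * (π k * y * (π k)⁻¹) * (π k)⁻¹⁻¹ = y by group] at this
    · intro K hK hPK
      have hK4 : ∀ k ∈ K, k ^ 4 = 1 → k = 1 := by
        intro k hk h4'
        refine orderOf_eq_one_iff.1 (Nat.eq_one_of_dvd_coprimes ?_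
          (Subgroup.orderOf_mk k hk ▸ orderOf_dvd_natCard (⟨k, hk⟩ : K)) (orderOf_dvd_of_pow_eq_one h4'))
        exact Nat.Coprime.pow_right 2 (Nat.coprime_two_right.2 hK)
      have hK4' : ∀ a : M, π a ∈ K → (a : G) ^ 4 = 1 → π a = 1 := fun a ha h4' =>
        hK4 _ ha (by rw [← map_pow, show a ^ 4 = 1 from Subtype.ext h4', map_one])
      have hnorm : ∀ p : M, (p : G) ∈ Q → (p : G) ∈ CA → ∀ k ∈ K, π p * k * (π p)⁻¹ ∈ K := fun p hp hp' k hk =>
        (Subgroup.mem_normalizer_iff.1 (hPK (hRb p hp hp')) k).1 hk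
      have hcomK : ∀ (p k : M), (p : G) ∈ Q → (p : G) ∈ CA → π k ∈ K → π (k * p * k⁻¹ * p⁻¹) ∈ K := by
        intro p k hp hp' hk
        rw [show k * p * k⁻¹ * p⁻¹ = k * (p * k⁻¹ * p⁻¹) by group, map_mul, map_mul, map_mul, map_inv, map_inv]
        exact mul_mem hk (hnorm p hp hp' _ (inv_mem hk))
      have hfixz : ∀ k ∈ K, k * zb = zb * k → k = 1 := by
        intro c hc e
        obtain ⟨k, hk, rfl⟩ := hrep c
        have hkz : (k : G) * z = z * k := hfix k _ hk hzA hz4 e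
        rcases hinH k hk (fun q hq => by
          have hm : (k : G) * q * (k : G)⁻¹ * q⁻¹ ∈ Q ⊓ CA := mul_mem (hnormR k hk hkz q hq) (inv_mem hq)
          have e1 := hK4' _ (hcomK ⟨q, hCAM hq.2⟩ k hq.1 hq.2 hc) (hfour _ hm.1)
          exact mul_inv_eq_iff_eq_mul.1 (mul_inv_eq_one.1 (hRA _ hm.1 ((hTmem _).1 e1)))) with e' | e'
        · exact e'
        · exact hK4 _ hc (by rw [e', hzb, ← map_pow, show (⟨z, hCAM hzA⟩ : M) ^ 4 = 1 from Subtype.ext hz4, map_one])
      have hinv : ∀ a ∈ Rb, a * a = 1 → (∀ k ∈ K, k * a = a * k → k = 1) → ∀ k ∈ K, a * k * a⁻¹ = k⁻¹ := by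
        intro a ha haa hfixa k hk
        have ai : a⁻¹ = a := inv_eq_of_mul_eq_one_right haa
        let f : K → K := fun b => ⟨(b : ↥M ⧸ T)⁻¹ * (a * b * a⁻¹), mul_mem (inv_mem b.2)
          ((Subgroup.mem_normalizer_iff.1 (hPK ha) b).1 b.2)⟩
        have hf : Function.Injective f := by
          intro b c e
          have e' : (b : ↥M ⧸ T)⁻¹ * (a * b * a⁻¹) = (c : ↥M ⧸ T)⁻¹ * (a * c * a⁻¹) := congrArg Subtype.val e
          have := hfixa ((c : ↥M ⧸ T) * (b : ↥M ⧸ T)⁻¹) (mul_mem c.2 (inv_mem b.2)) (by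
            have := congrArg (fun w => (c : ↥M ⧸ T) * w * a * (b : ↥M ⧸ T)⁻¹) e'
            simpa [mul_assoc] using this)
          exact Subtype.ext (mul_inv_eq_one.1 this).symm
        obtain ⟨b, hb⟩ := (Finite.injective_iff_surjective.1 hf) ⟨k, hk⟩
        have hb' : (b : ↥M ⧸ T)⁻¹ * (a * b * a⁻¹) = k := congrArg Subtype.val hb
        rw [← hb', ai, show a * ((b : ↥M ⧸ T)⁻¹ * (a * b * a)) * a = a * (b : ↥M ⧸ T)⁻¹ * a * b * (a * a) by group,
          haa, mul_one, mul_inv_rev, inv_inv, mul_inv_rev, mul_inv_rev, ai]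
        group
      set xb := π ⟨x, hCAM hgA⟩ with hxb
      have hx4 : x ^ 4 = 1 := hfour x hgQ
      have hfixx : ∀ k ∈ K, k * xb = xb * k → k = 1 := by
        intro c hc e
        refine hfixz c hc ?_
        obtain ⟨k, hk, rfl⟩ := hrep c
        have hkx : (k : G) * x = x * k := hfix k _ hk hgA hx4 e
        have e1 := hK4' _ (hcomK ⟨z, hCAM hzA⟩ k hd.mem hzA hc)
          (hfourS ((k : G) * z * (k : G)⁻¹ * z⁻¹) (mul_mem (h.dx.conj k hkx z h.zmem) (inv_mem h.zmem)))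
        rw [map_mul, map_mul, map_mul, map_inv, map_inv] at e1
        exact mul_inv_eq_iff_eq_mul.1 (mul_inv_eq_one.1 e1)
      rw [Subgroup.eq_bot_iff_forall]
      intro c hc
      have ez := hinv zb (hRb _ hd.mem hzA) (by
        rw [hzb, ← map_mul]; exact (hTmem _).2 (by show z * z ∈ A; rw [hd.sq]; exact one_mem _)) hfixz c hc
      have ex := hinv xb (hRb _ hgQ hgA) (by
        rw [hxb, ← map_mul]; exact (hTmem _).2 (by show x * x ∈ A; rw [h.dx.sq]; exact one_mem _)) hfixx c hc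
      have hky : c * (zb * xb) = zb * xb * c := by
        refine (mul_inv_eq_iff_eq_mul.1 ?_).symm
        rw [show zb * xb * c * (zb * xb)⁻¹ = zb * (xb * c * xb⁻¹) * zb⁻¹ by group, ex,
          show zb * c⁻¹ * zb⁻¹ = (zb * c * zb⁻¹)⁻¹ by group, ez, inv_inv]
      obtain ⟨k, hk, rfl⟩ := hrep c
      have hy := Cfsg.Lib.Large.Pair.data_conj hd q₁
      rw [m1] at hy
      have hyA : z * x ∈ CA := mul_mem hzA hgA
      have hy4 : (z * x) ^ 4 = 1 := by
        rw [(show Commute z x from czx).mul_pow, hz4, hx4, one_mul]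
      have hky' : (k : G) * (z * x) = z * x * k := hfix k ⟨z * x, hCAM hyA⟩ hk hyA hy4 (by
        rw [hzb, hxb, ← map_mul] at hky; exact hky)
      have hxS : x ∈ Cfsg.Lib.Large.Pair.conjS q₁ Q := by
        rw [Cfsg.Lib.Large.Pair.mem_conjS, show q₁⁻¹ * x * q₁ = x by nth_rw 1 [← x1]; group]
        exact hgQ
      have m2 : (k : G) * x * (k : G)⁻¹ * x⁻¹ ∈ Cfsg.Lib.Large.Pair.conjS q₁ Q :=
        mul_mem (hy.conj k hky' x hxS) (inv_mem hxS)
      have e4 : ((k : G) * x * (k : G)⁻¹ * x⁻¹) ^ 4 = 1 := by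
        have := hfour _ (Cfsg.Lib.Large.Pair.mem_conjS.1 m2)
        have := congrArg (fun w => q₁ * w * q₁⁻¹) this
        simpa [pow_succ, mul_assoc] using this
      have e1 := hK4' _ (hcomK ⟨x, hCAM hgA⟩ k hgQ hgA hc) e4
      rw [map_mul, map_mul, map_mul, map_inv, map_inv] at e1
      have hexq : xb * π k * xb⁻¹ = (π k)⁻¹ := ex
      refine hK4 _ hc ?_
      have e2 : π k * π k = 1 := by
        rw [← e1, show π k * xb * (π k)⁻¹ * xb⁻¹ = π k * (xb * π k * xb⁻¹)⁻¹ by group, hexq, inv_inv]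
      rw [show π k ^ 4 = π k * π k * (π k * π k) by simp [pow_succ, mul_assoc], e2, one_mul]

end Cfsg.Agent.S5428
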