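import Cfsg.Statements.S5429
import Cfsg.Agent.Lib.Large.Centralizer

set_option autoImplicit false
open Cfsg

namespace Cfsg.Agent.S5429

/-- Let z be an involution of the finite group G with centralizer C whose generalized Fitting subgroup Q is extraspecial of width at least 3 (order 2^(2w+1), w ≥ 3); let g be an element of G with g z g⁻¹ in Q but outside the centre Z of Q, and t an involution lying in both Q and g Q g⁻¹ that is not conjugate to z; write P for the centralizer of t in Q and suppose that the elements of C acting trivially by conjugation on P modulo the subgroup generated by t and z are exactly the elements of Q. Then the image of P in the centralizer of t modulo the subgroup generated by t is a large extraspecial 2-subgroup there, and g z g⁻¹ is conjugate to z inside the subgroup generated by P and the centralizer of t in g Q g⁻¹. -/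
theorem result {G : Type*} [Group G] [Finite G] (z : G) (hz : orderOf z = 2) (Q : Subgroup G) (hQC : Q ≤ Subgroup.centralizer ({z} : Set G)) (hF : (Cfsg.generalizedFittingSubgroup ↥(Subgroup.centralizer ({z} : Set G))).map (Subgroup.centralizer ({z} : Set G)).subtype = Q) (hQ : Cfsg.IsExtraspecial 2 ↥Q) (w : ℕ) (hw : 3 ≤ w) (hcard : Nat.card ↥Q = 2 ^ (2 * w + 1)) (g : G) (hgQ : g * z * g⁻¹ ∈ Q) (hgZ : g * z * g⁻¹ ∉ ((Subgroup.center ↥Q).map Q.subtype)) (t : G) (ht : orderOf t = 2) (htQ : t ∈ Q ⊓ (Q).map (MulAut.conj g).toMonoidHom) (htz : ¬ IsConj z t) (P : Subgroup G) (hP : P = Q ⊓ Subgroup.centralizer ({t} : Set G)) (hCP : ∀ c ∈ Subgroup.centralizer ({z} : Set G), (∀ x ∈ P, ∃ y ∈ Subgroup.closure ({t, z} : Set G), c * x * c⁻¹ = x * y) ↔ c ∈ Q) [hn : ((Subgroup.zpowers t).subgroupOf (Subgroup.centralizer ({t} : Set G))).Normal] : Cfsg.IsLargeExtraspecial ((P.subgroupOf (Subgroup.centralizer ({t} : Set G))).map (QuotientGroup.mk' ((Subgroup.zpowers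 t).subgroupOf (Subgroup.centralizer ({t} : Set G))))) ∧ ∃ x ∈ P ⊔ ((Q).map (MulAut.conj g).toMonoidHom ⊓ Subgroup.centralizer ({t} : Set G)), x * (g * z * g⁻¹) * x⁻¹ = z := by
  obtain ⟨hcenter, hL2, hL3, hd⟩ := Cfsg.Lib.Large.Pair.of_fstar hz hF hQ
  have hne : g * z * g⁻¹ ≠ z := fun e => hgZ (by rw [e, hcenter]; exact Subgroup.mem_zpowers z)
  have h := Cfsg.Lib.Large.Pair.setting_of hd (Cfsg.Lib.Large.Pair.eight_lt (by omega : 2 ≤ w) hcard) hne hgQ
  set x := g * z * g⁻¹ with hxdef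
  set S := Cfsg.Lib.Large.Pair.conjS g Q
  obtain ⟨htQ, htS⟩ := htQ
  change t ∈ S at htS
  have htt : t * t = 1 := by rw [← pow_two, ← ht, pow_orderOf_eq_one]
  have ht1 : t ≠ 1 := fun e => by rw [e, orderOf_one] at ht; omega
  have ctz : t * z = z * t := hd.comm t htQ
  have ctx : t * x = x * t := h.dx.comm t htS
  have czx : z * x = x * z := Cfsg.Lib.Large.Pair.comm_zx h
  have hconj : ∀ c a : G, IsConj a (c * a * c⁻¹) := fun c a => isConj_iff.2 ⟨c, rfl⟩
  have htnz : t ≠ z := fun e => htz (e ▸ IsConj.refl z)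
  have htnx : t ≠ x := fun e => htz (e ▸ hconj g z)
  obtain ⟨q0', hq0', hq0x'⟩ := Cfsg.Lib.Large.Pair.exists_move h
  have hconj_xz : IsConj z (x * z) := by
    rw [← Cfsg.Lib.Large.Pair.conjx_move h hq0' hq0x']
    exact (hconj g z).trans (hconj q0' x)
  have htnxz : t ≠ x * z := fun e => htz (e ▸ hconj_xz)
  -- `t` is conjugate to `t * z` and to `t * x`
  have hmove : ∀ {u : G} {R : Subgroup G}, Cfsg.Agent.S5595.Data u R → t ∈ R → t ≠ u →
      ∃ q ∈ R, q * t * q⁻¹ = t * u := by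
    intro u R hu htR htu
    by_contra hcon
    push Not at hcon
    rcases hu.central t htR (fun b hb => by
      rcases Cfsg.Lib.Large.Singular.conj_cases hu hb htR with ⟨e, -⟩ | ⟨-, e⟩
      · exact e.symm
      · exact absurd e (hcon b hb)) with e | e
    exacts [ht1 e, htu e]
  have hnzt : ¬ IsConj z (t * z) := by
    obtain ⟨q, -, e⟩ := hmove hd htQ htnz
    exact fun c => htz (c.trans (e ▸ hconj q t).symm)
  have hnxt : ¬ IsConj z (t * x) := by
    obtain ⟨q, -, e⟩ := hmove h.dx htS htnx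
    exact fun c => htz (c.trans (e ▸ hconj q t).symm)
  -- movers centralizing `t`
  have hq0 : ∃ q ∈ Q, q * t = t * q ∧ q * x ≠ x * q := by
    by_contra hcon
    push Not at hcon
    have := Cfsg.Lib.Large.Singular.double hd {t} (by simpa using htQ) x hgQ fun q hq hqt =>
      hcon q hq (hqt t (by simp))
    rw [Finset.coe_singleton] at this
    rcases Cfsg.Lib.Large.Pair.closure_pair_cases hd.sq htt ctz.symm this with e | e | e | e
    · exact h.dx.ne e
    · exact h.ne e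
    · exact htnx e.symm
    · refine htnxz ?_
      rw [e, show z * t * z = z * (t * z) by group, ctz, ← mul_assoc, hd.sq, one_mul]
  have hq1 : ∃ q ∈ S, q * t = t * q ∧ q * z ≠ z * q := by
    by_contra hcon
    push Not at hcon
    have := Cfsg.Lib.Large.Singular.double h.dx {t} (by simpa using htS) z h.zmem fun q hq hqt =>
      hcon q hq (hqt t (by simp))
    rw [Finset.coe_singleton] at this
    rcases Cfsg.Lib.Large.Pair.closure_pair_cases h.dx.sq htt ctx.symm this with e | e | e | e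
    · exact hd.ne e
    · exact h.ne e.symm
    · exact htnz e.symm
    · refine htnxz ?_
      rw [e, ← mul_assoc, h.dx.sq, one_mul]
  obtain ⟨q₀, h0, h0t, h0x⟩ := hq0
  obtain ⟨q₁, h1, h1t, h1z⟩ := hq1
  have m0 : q₀ * x * q₀⁻¹ = x * z := Cfsg.Lib.Large.Pair.conjx_move h h0 h0x
  have m1 : q₁ * z * q₁⁻¹ = z * x := Cfsg.Lib.Large.Pair.conjx_move h.swap h1 h1z
  have x1 : q₁ * x * q₁⁻¹ = x := Cfsg.Lib.Large.Pair.conjz h.swap h1
  have hnyt : ¬ IsConj z (t * (z * x)) := by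
    intro c
    refine hnzt (c.trans (IsConj.symm ?_))
    have e : q₁ * (t * z) * q₁⁻¹ = t * (z * x) := by
      rw [show q₁ * (t * z) * q₁⁻¹ = (q₁ * t * q₁⁻¹) * (q₁ * z * q₁⁻¹) by group, m1, h1t, mul_inv_cancel_right]
    exact e ▸ hconj q₁ (t * z)
  subst hP
  set D := Subgroup.centralizer ({t} : Set G)
  have hzD : z ∈ D := Subgroup.mem_centralizer_singleton_iff.2 ctz.symm
  have hxD : x ∈ D := Subgroup.mem_centralizer_singleton_iff.2 ctx.symm
  refine ⟨?_, q₁ * q₀ * q₁⁻¹, ?_, ?_⟩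
  swap
  · have a1 : q₀ ∈ Q ⊓ D := ⟨h0, Subgroup.mem_centralizer_singleton_iff.2 h0t⟩
    have a2 : q₁ ∈ S ⊓ D := ⟨h1, Subgroup.mem_centralizer_singleton_iff.2 h1t⟩
    exact mul_mem (mul_mem (Subgroup.mem_sup_right a2) (Subgroup.mem_sup_left a1))
      (inv_mem (Subgroup.mem_sup_right a2))
  swap
  · have x1' : q₁⁻¹ * x * q₁ = x := by nth_rw 1 [← x1]; group
    rw [show q₁ * q₀ * q₁⁻¹ * x * (q₁ * q₀ * q₁⁻¹)⁻¹ = q₁ * (q₀ * (q₁⁻¹ * x * q₁) * q₀⁻¹) * q₁⁻¹ by group, x1', m0,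
      show q₁ * (x * z) * q₁⁻¹ = (q₁ * x * q₁⁻¹) * (q₁ * z * q₁⁻¹) by group, x1, m1, czx, ← mul_assoc, h.dx.sq,
      one_mul]
  set T := (Subgroup.zpowers t).subgroupOf D
  set π : ↥D →* ↥D ⧸ T := QuotientGroup.mk' T
  set P := Q ⊓ D
  set Pb := (P.subgroupOf D).map π
  have hTmem : ∀ a : D, π a = 1 ↔ (a : G) = 1 ∨ (a : G) = t := by
    intro a
    rw [show π a = 1 ↔ a ∈ T from QuotientGroup.eq_one_iff a, Subgroup.mem_subgroupOf]
    constructor
    · intro ha
      obtain ⟨k, hk⟩ := Subgroup.mem_zpowers_iff.1 ha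
      rcases Int.even_or_odd k with ⟨m, rfl⟩ | ⟨m, rfl⟩
      · left
        rw [← hk, ← two_mul, zpow_mul, show t ^ (2 : ℤ) = 1 by rw [zpow_two, htt], one_zpow]
      · right
        rw [← hk, zpow_add, zpow_mul, show t ^ (2 : ℤ) = 1 by rw [zpow_two, htt], one_zpow, one_mul, zpow_one]
    · rintro (e | e) <;> rw [e]
      exacts [one_mem _, Subgroup.mem_zpowers t]
  have hfour : ∀ q ∈ Q, q ^ 4 = 1 := fun q hq => by
    rw [show q ^ 4 = q * q * (q * q) by simp [pow_succ, mul_assoc]]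
    rcases hd.square q hq with e | e <;> rw [e]
    exacts [one_mul 1, hd.sq]
  set zb := π ⟨z, hzD⟩ with hzb
  have hzb1 : zb ≠ 1 := fun e => ((hTmem _).1 e).elim hd.ne (fun e' => htnz e'.symm)
  have hPb : ∀ a : D, (a : G) ∈ Q → π a ∈ Pb := fun a ha => ⟨a, Subgroup.mem_subgroupOf.2 ⟨ha, a.2⟩, rfl⟩
  -- an element of `P` central modulo `t`
  have hcentral : ∀ a : D, (a : G) ∈ Q → (∀ b : D, (b : G) ∈ Q → π a * π b = π b * π a) → π a = 1 ∨ π a = zb := by
    intro a ha hab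
    have := Cfsg.Lib.Large.Singular.double hd {t} (by simpa using htQ) (a : G) ha fun q hq hqt => by
      have hqD : q ∈ D := Subgroup.mem_centralizer_singleton_iff.2 (hqt t (by simp))
      have e1 : π (⟨q, hqD⟩ * a * ⟨q, hqD⟩⁻¹ * a⁻¹) = 1 := by
        rw [map_mul, map_mul, map_mul, map_inv, map_inv, ← hab ⟨q, hqD⟩ hq]; group
      rcases hd.brack q hq a ha with e | e
      · rw [mul_inv_eq_one] at e; exact mul_inv_eq_iff_eq_mul.1 e
      · rcases (hTmem _).1 e1 with e' | e' <;> simp only [Subgroup.coe_mul, Subgroup.coe_inv] at e' <;> rw [e] at e'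
        exacts [absurd e' hd.ne, absurd e'.symm htnz]
    rw [Finset.coe_singleton] at this
    rcases Cfsg.Lib.Large.Pair.closure_pair_cases hd.sq htt ctz.symm this with e | e | e | e
    · exact Or.inl ((hTmem a).2 (Or.inl e))
    · exact Or.inr (congrArg π (Subtype.ext e : a = ⟨z, hzD⟩))
    · exact Or.inl ((hTmem a).2 (Or.inr e))
    · right
      rw [show a = ⟨z, hzD⟩ * ⟨t, Subgroup.mem_centralizer_singleton_iff.2 rfl⟩ from Subtype.ext e, map_mul,
        (hTmem ⟨t, Subgroup.mem_centralizer_singleton_iff.2 rfl⟩).2 (Or.inr rfl), mul_one]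
  obtain ⟨hE, hEc⟩ := Cfsg.Lib.Large.Pair.isExtraspecial_two (P := Pb) (u := zb) (hPb _ hd.mem)
    (by rw [hzb, ← map_mul]; exact (hTmem _).2 (Or.inl hd.sq)) hzb1
    (by
      rintro _ ⟨a, ha, rfl⟩
      rw [hzb, ← map_mul, ← map_mul]
      exact congrArg π (Subtype.ext (hd.comm a (Subgroup.mem_subgroupOf.1 ha).1)))
    (by
      rintro _ ⟨a, ha, rfl⟩ _ ⟨b, hb, rfl⟩
      rw [← map_inv, ← map_inv, ← map_mul, ← map_mul, ← map_mul]
      rcases hd.brack a (Subgroup.mem_subgroupOf.1 ha).1 b (Subgroup.mem_subgroupOf.1 hb).1 with e | e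
      · exact Or.inl ((hTmem _).2 (Or.inl e))
      · exact Or.inr (congrArg π (Subtype.ext e)))
    (by
      rintro _ ⟨a, ha, rfl⟩
      rw [← map_mul]
      rcases hd.square a (Subgroup.mem_subgroupOf.1 ha).1 with e | e
      · exact Or.inl ((hTmem _).2 (Or.inl e))
      · exact Or.inr (congrArg π (Subtype.ext e)))
    (by
      rintro _ ⟨a, ha, rfl⟩ hc
      exact hcentral a (Subgroup.mem_subgroupOf.1 ha).1 fun b hb => hc _ (hPb b hb))
    (by
      refine ⟨π ⟨q₀, Subgroup.mem_centralizer_singleton_iff.2 h0t⟩, hPb _ h0, π ⟨x, hxD⟩, hPb _ hgQ, fun e => ?_⟩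
      have e1 : π (⟨q₀, Subgroup.mem_centralizer_singleton_iff.2 h0t⟩ * ⟨x, hxD⟩ *
          ⟨q₀, Subgroup.mem_centralizer_singleton_iff.2 h0t⟩⁻¹ * ⟨x, hxD⟩⁻¹) = 1 := by
        rw [map_mul, map_mul, map_mul, map_inv, map_inv, e]; group
      rcases (hTmem _).1 e1 with e' | e' <;> simp only [Subgroup.coe_mul, Subgroup.coe_inv] at e' <;>
        rw [m0, czx.symm, mul_inv_cancel_right] at e'
      exacts [hd.ne e', htnz e'.symm])
  -- elements commuting with `z` modulo `t`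
  have hfix : ∀ v : G, IsConj z v → v ∈ D → ¬ IsConj z (t * v) → ∀ (c : D) (hv : v ∈ D),
      π c * π ⟨v, hv⟩ = π ⟨v, hv⟩ * π c → (c : G) * v = v * c := by
    intro v hcv _ hnv c hv e
    have e1 : π (c * ⟨v, hv⟩ * c⁻¹ * ⟨v, hv⟩⁻¹) = 1 := by
      rw [map_mul, map_mul, map_mul, map_inv, map_inv, e]; group
    rcases (hTmem _).1 e1 with e' | e' <;> simp only [Subgroup.coe_mul, Subgroup.coe_inv] at e'
    · exact mul_inv_eq_iff_eq_mul.1 (mul_inv_eq_one.1 e')
    · exact absurd ((mul_inv_eq_iff_eq_mul.1 e') ▸ hcv.trans (hconj (c : G) v)) hnv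
  refine ⟨hE, le_antisymm ?_ ?_, ?_, ?_⟩
  · intro c hc
    obtain ⟨c, rfl⟩ := QuotientGroup.mk'_surjective T c
    change π c ∈ _ at hc ⊢
    rw [Subgroup.mem_centralizer_iff] at hc
    have hcz : (c : G) * z = z * c := hfix z (IsConj.refl z) hzD hnzt c hzD (hc _ (hPb _ hd.mem)).symm
    have hcQ : (c : G) ∈ Q := by
      refine (hCP c (Subgroup.mem_centralizer_singleton_iff.2 hcz)).1 fun q hq => ?_
      have e1 : π ((⟨q, hq.2⟩ : D)⁻¹ * (c * ⟨q, hq.2⟩ * c⁻¹)) = 1 := by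
        rw [map_mul, map_mul, map_mul, map_inv, map_inv, ← hc _ (hPb ⟨q, hq.2⟩ hq.1), mul_inv_cancel_right,
          inv_mul_cancel]
      refine ⟨q⁻¹ * (c * q * (c : G)⁻¹), ?_, (mul_inv_cancel_left q _).symm⟩
      rcases (hTmem _).1 e1 with e' | e' <;> simp only [Subgroup.coe_mul, Subgroup.coe_inv] at e' <;> rw [e']
      exacts [one_mem _, Subgroup.subset_closure (by simp)]
    rw [hEc]
    rcases hcentral c hcQ (fun b hb => (hc _ (hPb b hb)).symm) with e | e <;> rw [e]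
    exacts [one_mem _, Subgroup.mem_zpowers _]
  · rintro _ ⟨a, ha, rfl⟩
    exact Subgroup.mem_centralizer_iff.2 fun b hb => congrArg Subtype.val (Subgroup.mem_center_iff.1 ha ⟨b, hb⟩)
  · rw [hEc]
    intro c hc
    obtain ⟨c, rfl⟩ := QuotientGroup.mk'_surjective T c
    change π c ∈ _ at hc ⊢
    rw [Subgroup.mem_centralizer_iff] at hc
    have hcz : (c : G) * z = z * c := hfix z (IsConj.refl z) hzD hnzt c hzD (hc _ (Subgroup.mem_zpowers _)).symm
    have key : ∀ d : D, (d : G) * z = z * d → ∀ y ∈ Pb, π d * y * (π d)⁻¹ ∈ Pb := by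
      rintro d hd' _ ⟨a, ha, rfl⟩
      rw [← map_inv, ← map_mul, ← map_mul]
      exact hPb _ (hd.conj d hd' a (Subgroup.mem_subgroupOf.1 ha).1)
    rw [Subgroup.mem_normalizer_iff]
    refine fun y => ⟨fun hy => key c hcz y hy, fun hy => ?_⟩
    have := key c⁻¹ ((show Commute (c : G) z from hcz).inv_left.eq) _ hy
    rw [map_inv] at this
    rwa [show (π c)⁻¹ * (π c * y * (π c)⁻¹) * (π c)⁻¹⁻¹ = y by group] at this
  · intro K hK hPK
    have hK4 : ∀ k ∈ K, k ^ 4 = 1 → k = 1 := by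
      intro k hk h4
      refine orderOf_eq_one_iff.1 (Nat.eq_one_of_dvd_coprimes ?_
        (Subgroup.orderOf_mk k hk ▸ orderOf_dvd_natCard (⟨k, hk⟩ : K)) (orderOf_dvd_of_pow_eq_one h4))
      exact Nat.Coprime.pow_right 2 (Nat.coprime_two_right.2 hK)
    have hKQ : ∀ a : D, π a ∈ K → (a : G) ∈ Q → π a = 1 := fun a ha haQ =>
      hK4 _ ha (by rw [← map_pow, show a ^ 4 = 1 from Subtype.ext (hfour _ haQ), map_one])
    have hKS : ∀ a : D, π a ∈ K → (a : G) ∈ S → π a = 1 := fun a ha haS =>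
      hK4 _ ha (by
        rw [← map_pow, show a ^ 4 = 1 from Subtype.ext ?_, map_one]
        have := hfour _ (Cfsg.Lib.Large.Pair.mem_conjS.1 haS)
        have e : (g⁻¹ * (a : G) * g) ^ 4 = g⁻¹ * (a : G) ^ 4 * g := by
          simp [pow_succ, mul_assoc]
        rw [e] at this
        have := congrArg (fun w => g * w * g⁻¹) this
        simpa [mul_assoc] using this)
    have hnorm : ∀ p : D, (p : G) ∈ Q → ∀ k ∈ K, π p * k * (π p)⁻¹ ∈ K := fun p hp k hk =>
      (Subgroup.mem_normalizer_iff.1 (hPK (hPb p hp)) k).1 hk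
    have hcomK : ∀ (p k : D), (p : G) ∈ Q → π k ∈ K → π (k * p * k⁻¹ * p⁻¹) ∈ K := by
      intro p k hp hk
      rw [show k * p * k⁻¹ * p⁻¹ = k * (p * k⁻¹ * p⁻¹) by group, map_mul, map_mul, map_mul, map_inv, map_inv]
      exact mul_mem hk (hnorm p hp _ (inv_mem hk))
    have hfixz : ∀ k ∈ K, k * zb = zb * k → k = 1 := by
      intro k hk e
      obtain ⟨k, rfl⟩ := QuotientGroup.mk'_surjective T k
      change π k ∈ K at hk
      change π k = 1
      have hkz : (k : G) * z = z * k := hfix z (IsConj.refl z) hzD hnzt k hzD e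
      refine hKQ k hk ((hCP k (Subgroup.mem_centralizer_singleton_iff.2 hkz)).1 fun q hq => ?_)
      have e1 := hKQ _ (hcomK ⟨q, hq.2⟩ k hq.1 hk) (mul_mem (hd.conj k hkz q hq.1) (inv_mem hq.1))
      refine ⟨q⁻¹ * (k * q * (k : G)⁻¹), ?_, (mul_inv_cancel_left q _).symm⟩
      rcases (hTmem _).1 e1 with e' | e' <;> simp only [Subgroup.coe_mul, Subgroup.coe_inv] at e' <;>
        rw [mul_inv_eq_iff_eq_mul] at e' <;> rw [e']
      · rw [one_mul, inv_mul_cancel]; exact one_mem _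
      · rw [show t * q = q * t from (Subgroup.mem_centralizer_singleton_iff.1 hq.2).symm, inv_mul_cancel_left]
        exact Subgroup.subset_closure (by simp)
    have hinv : ∀ a ∈ Pb, a * a = 1 → (∀ k ∈ K, k * a = a * k → k = 1) → ∀ k ∈ K, a * k * a⁻¹ = k⁻¹ := by
      intro a ha haa hfixa k hk
      have ai : a⁻¹ = a := inv_eq_of_mul_eq_one_right haa
      let f : K → K := fun b => ⟨(b : ↥D ⧸ T)⁻¹ * (a * b * a⁻¹), mul_mem (inv_mem b.2)
        ((Subgroup.mem_normalizer_iff.1 (hPK ha) b).1 b.2)⟩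
      have hf : Function.Injective f := by
        intro b c e
        have e' : (b : ↥D ⧸ T)⁻¹ * (a * b * a⁻¹) = (c : ↥D ⧸ T)⁻¹ * (a * c * a⁻¹) := congrArg Subtype.val e
        have := hfixa ((c : ↥D ⧸ T) * (b : ↥D ⧸ T)⁻¹) (mul_mem c.2 (inv_mem b.2)) (by
          have := congrArg (fun w => (c : ↥D ⧸ T) * w * a * (b : ↥D ⧸ T)⁻¹) e'
          simpa [mul_assoc] using this)
        exact Subtype.ext (mul_inv_eq_one.1 this).symm
      obtain ⟨b, hb⟩ := (Finite.injective_iff_surjective.1 hf) ⟨k, hk⟩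
      have hb' : (b : ↥D ⧸ T)⁻¹ * (a * b * a⁻¹) = k := congrArg Subtype.val hb
      rw [← hb', ai, show a * ((b : ↥D ⧸ T)⁻¹ * (a * b * a)) * a = a * (b : ↥D ⧸ T)⁻¹ * a * b * (a * a) by group,
        haa, mul_one, mul_inv_rev, inv_inv, mul_inv_rev, mul_inv_rev, ai]
      group
    set xb := π ⟨x, hxD⟩ with hxb
    have hfixx : ∀ k ∈ K, k * xb = xb * k → k = 1 := by
      intro k hk e
      refine hfixz k hk ?_
      obtain ⟨k, rfl⟩ := QuotientGroup.mk'_surjective T k
      change π k ∈ K at hk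
      change π k * zb = zb * π k
      have hkx : (k : G) * x = x * k := hfix x (hconj g z) hxD hnxt k hxD e
      have e1 := hKS _ (hcomK ⟨z, hzD⟩ k hd.mem hk) (mul_mem (h.dx.conj k hkx z h.zmem) (inv_mem h.zmem))
      rw [map_mul, map_mul, map_mul, map_inv, map_inv] at e1
      exact mul_inv_eq_iff_eq_mul.1 (mul_inv_eq_one.1 e1)
    rw [Subgroup.eq_bot_iff_forall]
    intro k hk
    have ez := hinv zb (hPb _ hd.mem) (by rw [hzb, ← map_mul]; exact (hTmem _).2 (Or.inl hd.sq)) hfixz k hk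
    have ex := hinv xb (hPb _ hgQ) (by rw [hxb, ← map_mul]; exact (hTmem _).2 (Or.inl h.dx.sq)) hfixx k hk
    have hky : k * (zb * xb) = zb * xb * k := by
      refine (mul_inv_eq_iff_eq_mul.1 ?_).symm
      rw [show zb * xb * k * (zb * xb)⁻¹ = zb * (xb * k * xb⁻¹) * zb⁻¹ by group, ex,
        show zb * k⁻¹ * zb⁻¹ = (zb * k * zb⁻¹)⁻¹ by group, ez, inv_inv]
    obtain ⟨k, rfl⟩ := QuotientGroup.mk'_surjective T k
    change π k ∈ K at hk
    change π k = 1
    have hyD : z * x ∈ D := D.mul_mem hzD hxD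
    have hky' : (k : G) * (z * x) = z * x * k := by
      refine hfix (z * x) (m1 ▸ hconj q₁ z) hyD hnyt k hyD ?_
      change π k * (zb * xb) = zb * xb * π k at hky
      rw [hzb, hxb, ← map_mul] at hky
      exact hky
    have hy := Cfsg.Lib.Large.Pair.data_conj hd q₁
    rw [m1] at hy
    have hxS : x ∈ Cfsg.Lib.Large.Pair.conjS q₁ Q := by
      rw [Cfsg.Lib.Large.Pair.mem_conjS, show q₁⁻¹ * x * q₁ = x by nth_rw 1 [← x1]; group]
      exact hgQ
    have m2 : (k : G) * x * (k : G)⁻¹ * x⁻¹ ∈ Cfsg.Lib.Large.Pair.conjS q₁ Q :=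
      mul_mem (hy.conj k hky' x hxS) (inv_mem hxS)
    have e4 : (k * ⟨x, hxD⟩ * k⁻¹ * (⟨x, hxD⟩ : D)⁻¹) ^ 4 = 1 := by
      refine Subtype.ext ?_
      have := hfour _ (Cfsg.Lib.Large.Pair.mem_conjS.1 m2)
      have := congrArg (fun w => q₁ * w * q₁⁻¹) this
      simpa [pow_succ, mul_assoc] using this
    have e1 := hK4 _ (hcomK ⟨x, hxD⟩ k hgQ hk) (by rw [← map_pow, e4, map_one])
    rw [map_mul, map_mul, map_mul, map_inv, map_inv] at e1
    have hexq : xb * π k * xb⁻¹ = (π k)⁻¹ := ex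
    refine hK4 _ hk ?_
    have e2 : π k * π k = 1 := by
      rw [← e1, show π k * xb * (π k)⁻¹ * xb⁻¹ = π k * (xb * π k * xb⁻¹)⁻¹ by group, hexq, inv_inv]
    rw [show π k ^ 4 = π k * π k * (π k * π k) by simp [pow_succ, mul_assoc], e2, one_mul]

end Cfsg.Agent.S5429
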