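import Cfsg.Statements.S5436
import Cfsg.Agent.Lib.Large.Simple
import Cfsg.Agent.Lib.PLocal.TransvectionCentralizer

set_option autoImplicit false
open Cfsg

namespace Cfsg.Agent.S5436

/-- Let z be an involution of the finite group G with centralizer H whose generalized Fitting subgroup Q is extraspecial of width at least 2 (order 2^(2w+1), w ≥ 2); suppose some conjugate of z other than z lies in Q, H/Q is a non-abelian simple group, H acts irreducibly by conjugation on Q modulo the subgroup generated by z (the only H-invariant subgroups of Q containing z are that subgroup and Q), and Q is not the subgroup generated by the conjugates of z lying in H. Then G is simple. -/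
theorem result {G : Type*} [Group G] [Finite G] (z : G) (hz : orderOf z = 2) (Q : Subgroup (Subgroup.centralizer ({z} : Set G))) [Q.Normal] (hF : Cfsg.generalizedFittingSubgroup ↥(Subgroup.centralizer ({z} : Set G)) = Q) (hQ : Cfsg.IsExtraspecial 2 ↥Q) (w : ℕ) (hw : 2 ≤ w) (hcard : Nat.card ↥Q = 2 ^ (2 * w + 1)) (hnwc : ∃ g : G, (∃ hq : g * z * g⁻¹ ∈ Subgroup.centralizer ({z} : Set G), (⟨g * z * g⁻¹, hq⟩ : Subgroup.centralizer ({z} : Set G)) ∈ Q) ∧ g * z * g⁻¹ ≠ z) (hsimp : IsSimpleGroup (↥(Subgroup.centralizer ({z} : Set G)) ⧸ Q)) (hna : ¬ IsMulCommutative (↥(Subgroup.centralizer ({z} : Set G)) ⧸ Q)) (hirr : ∀ W : Subgroup (Subgroup.centralizer ({z} : Set G)), W.Normal → W ≤ Q → (W = Q ∨ ∀ x ∈ W, (x : G) ∈ Subgroup.zpowers z)) (hwcl : Subgroup.closure {x : Subgroup.centralizer ({z} : Set G) | IsConj z (x : G)} ≠ Q) : IsSimpleGroup G := by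
  obtain ⟨g, ⟨hgC, hgQ⟩, hne⟩ := hnwc
  set Q' := Q.map (Subgroup.centralizer ({z} : Set G)).subtype
  have hQ' : Cfsg.IsExtraspecial 2 ↥Q' :=
    Cfsg.Lib.TransvectionCentralizer.isExtraspecial_of_equiv (Q.equivMapOfInjective (Subgroup.centralizer ({z} : Set G)).subtype (Subgroup.centralizer ({z} : Set G)).subtype_injective) hQ
  have hcard' : Nat.card ↥Q' = 2 ^ (2 * w + 1) := by
    rw [Nat.card_congr (Q.equivMapOfInjective (Subgroup.centralizer ({z} : Set G)).subtype (Subgroup.centralizer ({z} : Set G)).subtype_injective).toEquiv.symm, hcard]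
  obtain ⟨hcenter, hL2, hL3, hd⟩ := Cfsg.Lib.Large.Pair.of_fstar hz (show _ = Q' by rw [hF]) hQ'
  have hgQ' : g * z * g⁻¹ ∈ Q' := Subgroup.mem_map_of_mem (Subgroup.centralizer ({z} : Set G)).subtype hgQ
  have h := Cfsg.Lib.Large.Pair.setting_of hd (Cfsg.Lib.Large.Pair.eight_lt hw hcard') hne hgQ'
  have hlarge : ∀ L : Subgroup G, Odd (Nat.card L) → Q' ≤ Subgroup.normalizer (L : Set G) → L = ⊥ := by
    refine Cfsg.Lib.Large.Pair.odd_trivial hd hgQ' h.dx.ne hne h.dx.sq fun c hc => ?_
    obtain ⟨n, hn⟩ := Cfsg.Lib.Large.Pair.isPGroup_of_data h.dx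
      ⟨_, mul_mem (h.dx.conj c hc z h.zmem) (inv_mem h.zmem)⟩
    exact ⟨n, congrArg Subtype.val hn⟩
  refine Cfsg.Lib.Large.Pair.simple_of hd hlarge ?_
  set W := Subgroup.closure {x : (Subgroup.centralizer ({z} : Set G)) | IsConj z (x : G)} with hW
  have hWM : ∀ a : (Subgroup.centralizer ({z} : Set G)), a ∈ W → (a : G) ∈ Subgroup.normalClosure ({z} : Set G) := by
    intro a ha
    have : W ≤ (Subgroup.normalClosure ({z} : Set G)).comap (Subgroup.centralizer ({z} : Set G)).subtype := by
      rw [hW, Subgroup.closure_le]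
      intro b hb
      obtain ⟨c, hc⟩ := isConj_iff.1 hb
      show (b : G) ∈ Subgroup.normalClosure ({z} : Set G)
      rw [← hc]
      exact Subgroup.normalClosure_normal.conj_mem z (Subgroup.subset_normalClosure (Set.mem_singleton z)) c
    exact this ha
  have hWn : W.Normal := by
    refine ⟨fun a ha c => ?_⟩
    have : W.map (MulAut.conj c).toMonoidHom ≤ W := by
      rw [hW, MonoidHom.map_closure]
      refine Subgroup.closure_mono ?_
      rintro _ ⟨b, hb, rfl⟩
      exact (hb : IsConj z (b : G)).trans (isConj_iff.2 ⟨(c : G), rfl⟩)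
    exact this (Subgroup.mem_map_of_mem _ ha)
  have hQW : Q ≤ W := by
    rcases hirr (W ⊓ Q) inferInstance inf_le_right with e | e
    · exact e.ge.trans inf_le_left
    · exfalso
      have := e ⟨g * z * g⁻¹, hgC⟩ ⟨Subgroup.subset_closure (isConj_iff.2 ⟨g, rfl⟩), hgQ⟩
      obtain ⟨i, hi⟩ := Subgroup.mem_zpowers_iff.1 this
      simp only at hi
      rcases Int.even_or_odd i with ⟨m, rfl⟩ | ⟨m, rfl⟩
      · rw [← two_mul, zpow_mul, show z ^ (2 : ℤ) = 1 by rw [zpow_two, hd.sq], one_zpow] at hi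
        exact h.dx.ne hi.symm
      · rw [zpow_add, zpow_mul, show z ^ (2 : ℤ) = 1 by rw [zpow_two, hd.sq], one_zpow, one_mul, zpow_one] at hi
        exact hne hi.symm
  have hWtop : W = ⊤ := by
    haveI := hsimp
    rcases (hWn.map (QuotientGroup.mk' Q) (QuotientGroup.mk'_surjective Q)).eq_bot_or_eq_top with e | e
    · exfalso
      refine hwcl (le_antisymm ?_ hQW)
      rw [← QuotientGroup.ker_mk' Q, ← Subgroup.map_eq_bot_iff]
      exact e
    · have := congrArg (Subgroup.comap (QuotientGroup.mk' Q)) e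
      rwa [Subgroup.comap_map_eq, Subgroup.comap_top, QuotientGroup.ker_mk', sup_eq_left.2 hQW] at this
  intro c hc
  exact hWM ⟨c, hc⟩ (hWtop ▸ Subgroup.mem_top _)

end Cfsg.Agent.S5436
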