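import Cfsg.Statements.S5522
import Cfsg.Agent.Lib.Golay.Elements
import Cfsg.Agent.Lib.FusionCert.Groups
import Cfsg.Agent.Lib.Golay.HexadStab
-- import your own Cfsg.Agent.* helpers here

set_option autoImplicit false
open Cfsg

namespace Cfsg.Agent.S5522

/-- The Mathieu group M₁₁, realised as the stabiliser of one point of the dodecad of squares inside the stabiliser M₁₂ of that dodecad in M₂₄, acts on the twelve coordinate positions outside the dodecad of squares (its 3-transitive action of degree 12); in this action every element of prime order fixes a point, i.e. the action is elusive. -/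
theorem result (g : Equiv.Perm Cfsg.GolayPt) (hg : g ∈ Cfsg.Spor.M11) (hord : (orderOf g).Prime) :
    ∃ x : Cfsg.GolayPt, x ∉ Cfsg.Spor.squareDodecad ∧ g x = x := by
  classical
  open Cfsg.Lib.Golay Cfsg.Lib.Golay.Chain in
  exact by
    by_contra hno
    push Not at hno
    have hd : Cfsg.Spor.squareDodecad ∈ Cfsg.dodecads := Cfsg.Lib.FusionCert.squareDodecad_mem
    obtain ⟨⟨hgM, hgd⟩, hg0⟩ := hg
    have h0 : g (some 0) = some 0 := hg0
    have hne : g ≠ 1 := fun e => by rw [e, orderOf_one] at hord; exact Nat.not_prime_one hord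
    have hsmall : (fixPts g).card < 5 := by
      by_contra h5
      refine hne (HexadStab.eq_one_of_fix hd hgM hgd (S := fixPts g) (by omega) (fun p hp => ?_) fun p hp => mem_fixPts.1 hp)
      by_contra hpd
      exact hno p hpd (mem_fixPts.1 hp)
    have hpos : 0 < (fixPts g).card := Finset.card_pos.2 ⟨_, mem_fixPts.2 h0⟩
    by_cases h12 : orderOf g ∣ 12
    · have hcase : orderOf g = 2 ∨ orderOf g = 3 := by
        have hle := Nat.le_of_dvd (by norm_num) h12
        interval_cases h : orderOf g <;> simp_all (config := { decide := true })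
      rcases hcase with h | h
      · obtain ⟨k, -, ⟨c, -⟩ | ⟨c, -⟩⟩ := Elements.involution_fix hgM h <;> omega
      · obtain ⟨k, -, ⟨c, -⟩ | ⟨c, -⟩⟩ := Elements.three_fix hgM h <;> omega
    · haveI : Fact (Nat.Prime (orderOf g)) := ⟨hord⟩
      have hiff : ∀ p, g p ∈ (Cfsg.Spor.squareDodecad)ᶜ ↔ p ∈ (Cfsg.Spor.squareDodecad)ᶜ := fun p => by
        rw [Finset.mem_compl, Finset.mem_compl, HexadStab.mem_iff_of_smul hgd]
      obtain ⟨a, ha⟩ := Equiv.Perm.exists_fixed_point_of_prime (p := orderOf g) (n := 1)
        (σ := g.subtypePerm hiff)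
        (by rw [Fintype.card_coe, Finset.card_compl, hd.2]; simpa [Cfsg.GolayPt] using h12) (by
          refine Equiv.ext fun a => Subtype.ext ?_
          simp only [pow_one, Equiv.Perm.subtypePerm_pow, Equiv.Perm.subtypePerm_apply, Equiv.Perm.one_apply]
          rw [pow_orderOf_eq_one, Equiv.Perm.one_apply])
      exact hno _ (Finset.mem_compl.1 a.2) (congrArg Subtype.val ha)

end Cfsg.Agent.S5522
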