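import Cfsg.Statements.S5722
import Mathlib
import Cfsg.Agent.Lib.Classical.CompLenPerm

set_option autoImplicit false
open Cfsg
open scoped Matrix

namespace Cfsg.Agent.S5722

/-- If a finite group G acts faithfully on a finite set with n points and r orbits, then the composition length of G is at most 4(n − r)/3. Here the composition length is expressed through chains: the conclusion bounds the length l of every chain of subgroups 1 = H₀ < H₁ < ⋯ < H_l = G in which each term is normal in the next (the longest such chains are exactly the composition series). -/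
theorem result {G Ω : Type*} [Group G] [Finite G] [MulAction G Ω] [FaithfulSMul G Ω] [Fintype Ω]
    (l : ℕ) (H : Fin (l + 1) → Subgroup G) (h0 : H 0 = ⊥) (hl : H (Fin.last l) = ⊤)
    (hchain : ∀ i : Fin l, H i.castSucc < H i.succ ∧ ((H i.castSucc).subgroupOf (H i.succ)).Normal) :
    3 * l ≤ 4 * (Fintype.card Ω - Nat.card (Quotient (MulAction.orbitRel G Ω))) := by
  classical
  have hcl : l ≤ Cfsg.Lib.CompLen.cl G := Cfsg.Lib.CompLen.le_cl (H := H) ⟨h0, hl, hchain⟩
  rw [Cfsg.Lib.CompLenPerm.faithful_range (Ω := Ω)] at hcl
  let R : Finset Ω := Finset.univ.image (fun q : Quotient (MulAction.orbitRel G Ω) => Quotient.out q)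
  have hR : R.card = Nat.card (Quotient (MulAction.orbitRel G Ω)) := by
    rw [Finset.card_image_of_injective _ (fun a b e => by
      rw [← Quotient.out_eq a, ← Quotient.out_eq b]; exact congrArg _ e), Finset.card_univ, Nat.card_eq_fintype_card]
  have key := Cfsg.Lib.CompLenPerm.main_aux (Fintype.card Ω) Ω Nat.card_eq_fintype_card (MulAction.toPermHom G Ω).range R
    (fun x hx y hy h => by
      obtain ⟨a, -, rfl⟩ := Finset.mem_image.1 hx
      obtain ⟨b, -, rfl⟩ := Finset.mem_image.1 hy
      obtain ⟨⟨_, g, rfl⟩, hg⟩ := h
      have hab : b = a := by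
        rw [← Quotient.out_eq a, ← Quotient.out_eq b]
        exact Quotient.sound ⟨g, hg⟩
      rw [hab])
  omega

end Cfsg.Agent.S5722
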