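import Cfsg.Statements.S5727
import Mathlib
import Cfsg.Agent.Lib.Classical.PermCount

set_option autoImplicit false
open Cfsg

namespace Cfsg.Agent.S5727

/-- If a finite group acts faithfully and transitively on a set with m·p elements, where p is a prime and 1 ≤ m ≤ p, then some element of order p fixes no point. -/
theorem result {G Ω : Type*} [Group G] [Finite G] [MulAction G Ω] [FaithfulSMul G Ω] [Fintype Ω] (htr : MulAction.IsPretransitive G Ω)
    (p m : ℕ) (hp : p.Prime) (hm : 1 ≤ m) (hmp : m ≤ p) (hΩ : Fintype.card Ω = m * p) :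
    ∃ g : G, orderOf g = p ∧ ∀ ω : Ω, g • ω ≠ ω := by
  rcases hmp.lt_or_eq with h | h
  · exact Cfsg.Lib.Classical.PermCount.exists_derangement_mul htr hp hm h hΩ
  · exact Cfsg.Lib.Classical.PermCount.exists_derangement_pow htr hp (k := 2) (by omega) (by rw [hΩ, h, pow_two])

end Cfsg.Agent.S5727
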