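import Cfsg.Statements.S5728
import Mathlib

set_option autoImplicit false
open Cfsg
open scoped Matrix

namespace Cfsg.Agent.S5728

/-- An elusive transitive action. Let p = 2^s − 1 be a prime and let F be the field with p² elements. Inside the group of affine maps x ↦ a·x + b of F (a ≠ 0), consider the subgroup of maps with both coefficients in the prime field. Then every element of prime order of the affine group is conjugate, within the affine group, to an element of that subgroup; equivalently, in the transitive action of the affine group on the cosets of that subgroup (of degree p(p + 1)) every element of prime order fixes a point. -/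
theorem result (p s : ℕ) [Fact p.Prime] (hs : p = 2 ^ s - 1)
    (g : Equiv.Perm (GaloisField p 2)) (hg : g ∈ Cfsg.affineGroup (GaloisField p 2)) (hord : (orderOf g).Prime) :
    ∃ x ∈ Cfsg.affineGroup (GaloisField p 2), ∃ a b : ZMod p, a ≠ 0 ∧
      ∀ y : GaloisField p 2, (x * g * x⁻¹) y = algebraMap (ZMod p) (GaloisField p 2) a * y + algebraMap (ZMod p) (GaloisField p 2) b := by
  classical
  obtain ⟨a₀, b₀, hg⟩ := hg
  let a : GaloisField p 2 := (a₀ : GaloisField p 2)
  have ha : a ≠ 0 := a₀.ne_zero
  let T : GaloisField p 2 → Equiv.Perm (GaloisField p 2) := fun c => Equiv.addRight c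
  let D : (GaloisField p 2)ˣ → Equiv.Perm (GaloisField p 2) := fun c => Units.mulLeft c
  by_cases ha1 : a = 1
  · have hb : b₀ ≠ 0 := by
      intro hb
      have : g = 1 := Equiv.ext fun y => by simp [hg, hb, show (a₀ : GaloisField p 2) = 1 from ha1]
      rw [this, orderOf_one] at hord
      exact Nat.not_prime_one hord
    refine ⟨D (Units.mk0 b₀ hb)⁻¹, ⟨(Units.mk0 b₀ hb)⁻¹, 0, fun y => by simp [D]⟩, 1, 1, one_ne_zero, fun y => ?_⟩
    simp [D, hg, show (a₀ : GaloisField p 2) = 1 from ha1, mul_add, hb]
  · have hpow : ∀ (n : ℕ) (y : GaloisField p 2), (g ^ n) y = a ^ n * y + b₀ * ∑ i ∈ Finset.range n, a ^ i := by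
      intro n
      induction n with
      | zero => simp
      | succ n ih =>
        intro y
        rw [pow_succ', Equiv.Perm.mul_apply, ih, hg, Finset.sum_range_succ', pow_zero]
        simp only [pow_succ', ← Finset.mul_sum]
        change a * _ + b₀ = _
        ring
    set r := orderOf g with hr
    have har : a ^ r = 1 := by
      have h0 := hpow r 0
      have h1 := hpow r 1
      rw [hr, pow_orderOf_eq_one] at h0 h1
      simp only [Equiv.Perm.one_apply, mul_zero, zero_add, mul_one] at h0 h1
      rw [← hr] at h0 h1
      rw [← h0, add_zero] at h1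
      exact h1.symm
    have hord' : orderOf a = r := by
      rcases (Nat.dvd_prime hord).1 (orderOf_dvd_of_pow_eq_one har) with h | h
      · exact absurd (orderOf_eq_one_iff.1 h) ha1
      · exact h
    have hcard : Nat.card (GaloisField p 2) = p ^ 2 := GaloisField.card p 2 (by norm_num)
    have : Fintype (GaloisField p 2) := Fintype.ofFinite _
    have hdvd : r ∣ p ^ 2 - 1 := by
      rw [← hord', ← hcard, Nat.card_eq_fintype_card]
      exact orderOf_dvd_of_pow_eq_one (FiniteField.pow_card_sub_one_eq_one a ha)
    have hp2 : 2 ≤ p := (Fact.out : p.Prime).two_le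
    have hfac : p ^ 2 - 1 = (p - 1) * 2 ^ s := by
      rw [← one_pow 2, Nat.sq_sub_sq, one_pow, mul_comm, show p + 1 = 2 ^ s by omega]
    obtain ⟨α, hα⟩ : ∃ α : ZMod p, algebraMap (ZMod p) (GaloisField p 2) α = a := by
      rw [hfac] at hdvd
      rcases hord.dvd_mul.1 hdvd with h | h
      · have hfix : a ^ p = a := by
          have h1 : a ^ (p - 1) = 1 := orderOf_dvd_iff_pow_eq_one.1 (hord' ▸ h)
          calc a ^ p = a ^ ((p - 1) + 1) := congrArg (a ^ ·) (by omega)
            _ = a := by rw [pow_succ, h1, one_mul]
        have := (FiniteField.frobeniusAlgHom (ZMod p) (GaloisField p 2))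
        have hmem : a ∈ (⊥ : IntermediateField (ZMod p) (GaloisField p 2)) := by
          rw [← IsGalois.fixedField_top (F := ZMod p) (E := GaloisField p 2)]
          rw [IntermediateField.mem_fixedField_iff]
          intro σ _
          obtain ⟨k, rfl⟩ := (FiniteField.bijective_frobeniusAlgEquivOfAlgebraic_pow (ZMod p) (GaloisField p 2)).surjective σ
          rw [AlgEquiv.coe_pow]
          have hfix' : FiniteField.frobeniusAlgEquivOfAlgebraic (ZMod p) (GaloisField p 2) a = a := by
            simp [ZMod.card, hfix]
          exact Function.IsFixedPt.iterate (f := FiniteField.frobeniusAlgEquivOfAlgebraic (ZMod p) (GaloisField p 2)) hfix' _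
        rw [IntermediateField.mem_bot] at hmem
        exact hmem
      · have h2 : r = 2 := (Nat.prime_dvd_prime_iff_eq hord Nat.prime_two).1 (hord.dvd_of_dvd_pow h)
        refine ⟨-1, ?_⟩
        rw [h2, pow_two, mul_self_eq_one_iff] at har
        rw [map_neg, map_one, har.resolve_left ha1]
    have hα0 : α ≠ 0 := fun e => ha (by rw [← hα, e, map_zero])
    have h1a : 1 - a ≠ 0 := sub_ne_zero.2 (Ne.symm ha1)
    refine ⟨T (-(b₀ / (1 - a))), ⟨1, -(b₀ / (1 - a)), fun y => by simp [T]⟩, α, 0, hα0, fun y => ?_⟩
    simp only [T, Equiv.Perm.mul_apply, Equiv.Perm.inv_def, Equiv.addRight_symm, Equiv.coe_addRight, hg, hα, map_zero]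
    change a * (y + - -(b₀ / (1 - a))) + b₀ + -(b₀ / (1 - a)) = _
    field_simp
    ring

end Cfsg.Agent.S5728
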