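import Cfsg.Statements.S5904
import Mathlib

set_option autoImplicit false
open scoped Pointwise
open Cfsg
open scoped Pointwise

namespace Cfsg.Agent.S5904

/-- Let Ω be a finite set with more than two elements and O ⊆ Ω a subset with exactly as many elements as its complement. Then the setwise stabilizer of O in the symmetric group on Ω is not a maximal subgroup (it is properly contained in the stabilizer of the partition {O, Ω ∖ O}, which is proper). -/
theorem result {Ω : Type*} [Fintype Ω] [DecidableEq Ω] (hΩ : 2 < Fintype.card Ω)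
    (O : Set Ω) (hO : Nat.card O = Nat.card ↥Oᶜ) :
    ¬ IsCoatom (MulAction.stabilizer (Equiv.Perm Ω) O) := by
  classical
  intro hM
  have hsum := Nat.card_congr (Equiv.Set.sumCompl O)
  rw [Nat.card_sum, Nat.card_eq_fintype_card (α := Ω)] at hsum
  obtain ⟨σ⟩ := (Finite.card_eq (α := O) (β := ↥Oᶜ)).1 hO
  let g : Equiv.Perm Ω :=
    (Equiv.Set.sumCompl O).symm.trans ((Equiv.sumCongr σ σ.symm).trans ((Equiv.sumComm _ _).trans (Equiv.Set.sumCompl O)))
  have hg : ∀ x, x ∈ O ↔ g x ∈ Oᶜ := by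
    intro x
    by_cases hx : x ∈ O
    · simp only [hx, true_iff]
      simp only [g, Equiv.trans_apply, Equiv.Set.sumCompl_symm_apply_of_mem hx, Equiv.sumCongr_apply,
        Sum.map_inl, Equiv.sumComm_apply, Sum.swap_inl, Equiv.Set.sumCompl_apply_inr]
      exact (σ ⟨x, hx⟩).2
    · simp only [hx, false_iff]
      simp only [g, Equiv.trans_apply, Equiv.Set.sumCompl_symm_apply_of_notMem hx, Equiv.sumCongr_apply,
        Sum.map_inr, Equiv.sumComm_apply, Sum.swap_inr, Equiv.Set.sumCompl_apply_inl]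
      exact fun h => h (σ.symm ⟨x, hx⟩).2
  have hgO : g • O = Oᶜ := by
    ext y
    rw [Set.mem_smul_set_iff_inv_smul_mem, hg, Equiv.Perm.smul_def]
    simp
  let B : Subgroup (Equiv.Perm Ω) :=
    { carrier := {h | (h • O = O ∧ h • Oᶜ = Oᶜ) ∨ (h • O = Oᶜ ∧ h • Oᶜ = O)}
      mul_mem' := by
        rintro a b (⟨a1, a2⟩ | ⟨a1, a2⟩) (⟨b1, b2⟩ | ⟨b1, b2⟩)
        all_goals simp only [Set.mem_setOf_eq, mul_smul, b1, b2, a1, a2, and_self, true_or, or_true]
      one_mem' := Or.inl ⟨one_smul _ _, one_smul _ _⟩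
      inv_mem' := by
        rintro a (⟨a1, a2⟩ | ⟨a1, a2⟩)
        · exact Or.inl ⟨by rw [inv_smul_eq_iff, a1], by rw [inv_smul_eq_iff, a2]⟩
        · exact Or.inr ⟨by rw [inv_smul_eq_iff, a2], by rw [inv_smul_eq_iff, a1]⟩ }
  have hpos : 2 ≤ Nat.card O := by omega
  have hne : O ≠ Oᶜ := fun h => by
    obtain ⟨a, ha⟩ := Set.nonempty_coe_sort.1 (Finite.card_pos_iff.1 (by omega : 0 < Nat.card O))
    exact (h ▸ ha : a ∈ Oᶜ) ha
  have hlt : MulAction.stabilizer (Equiv.Perm Ω) O < B := by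
    refine lt_of_le_of_ne (fun h hh => Or.inl ⟨hh, ?_⟩) fun he => ?_
    · rw [Set.smul_set_compl, show h • O = O from hh]
    · have h1 : g ∈ B := Or.inr ⟨hgO, by rw [Set.smul_set_compl, hgO, compl_compl]⟩
      rw [← he] at h1
      exact hne ((show g • O = O from h1).symm.trans hgO)
  have htop := hM.2 B hlt
  obtain ⟨a, ha, a', ha', haa⟩ : ∃ a ∈ O, ∃ a' ∈ O, a ≠ a' := by
    have : Nontrivial O := Finite.one_lt_card_iff_nontrivial.1 hpos
    obtain ⟨x, y, hxy⟩ := exists_pair_ne O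
    exact ⟨x, x.2, y, y.2, fun h => hxy (Subtype.ext h)⟩
  obtain ⟨⟨b, hb⟩⟩ := Finite.card_pos_iff.1 (by omega : 0 < Nat.card ↥Oᶜ)
  have h1 : Equiv.swap a b ∈ B := htop ▸ Subgroup.mem_top _
  rcases h1 with ⟨h1, -⟩ | ⟨h1, -⟩
  · have h2 : Equiv.swap a b • a ∈ Equiv.swap a b • O := Set.smul_mem_smul_set ha
    rw [h1, Equiv.Perm.smul_def, Equiv.swap_apply_left] at h2
    exact hb h2
  · have h2 : Equiv.swap a b • a' ∈ Equiv.swap a b • O := Set.smul_mem_smul_set ha'
    rw [h1, Equiv.Perm.smul_def, Equiv.swap_apply_of_ne_of_ne haa.symm (fun h : a' = b => hb (h ▸ ha'))] at h2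
    exact h2 ha'

end Cfsg.Agent.S5904
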