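import Cfsg.Statements.S5894
import Mathlib
import Cfsg.Agent.S5904

set_option autoImplicit false
open Cfsg
open scoped Pointwise

namespace Cfsg.Agent.S5894

/-- For every m ≥ 2 the symmetric group on 2m letters has a maximal subgroup M of index 2m together with a maximal subgroup H of M that is not second maximal: some maximal subgroup K of the symmetric group contains H without H being maximal in K. (One may take M the stabiliser of a letter, H ≅ S_m × S_{m−1} inside it, and K ≅ S_m ≀ S₂ the stabiliser of a partition into two m-sets, with H < S_m × S_m < K.) So the prime-index hypothesis in the second-maximality criterion cannot be relaxed to any even index ≥ 4. -/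
theorem result (m : ℕ) (hm : 2 ≤ m) :
    ∃ M H K : Subgroup (Equiv.Perm (Fin (2 * m))), IsCoatom M ∧ M.index = 2 * m ∧ H ≤ M ∧ IsCoatom (H.subgroupOf M) ∧
      IsCoatom K ∧ H ≤ K ∧ ¬ IsCoatom (H.subgroupOf K) := by
  classical
  let a : Fin (2 * m) := ⟨0, by omega⟩
  let β := {x : Fin (2 * m) // x ≠ a}
  have hβ : Nat.card β = 2 * m - 1 := by
    rw [Nat.card_eq_fintype_card, Fintype.card_subtype_compl]
    simp
  let φ : Equiv.Perm β →* Equiv.Perm (Fin (2 * m)) := Equiv.Perm.ofSubtype
  have hφ : Function.Injective φ := Equiv.Perm.ofSubtype_injective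
  have hrange : φ.range = MulAction.stabilizer (Equiv.Perm (Fin (2 * m))) a := by
    ext g
    constructor
    · rintro ⟨h, rfl⟩
      exact Equiv.Perm.ofSubtype_apply_of_not_mem h (by simp)
    · intro hg
      have hg' : g a = a := hg
      refine ⟨g.subtypePerm (p := fun x => x ≠ a) fun x => ?_, Equiv.Perm.ofSubtype_subtypePerm _ fun x hx e => hx (e ▸ hg')⟩
      exact ⟨fun h e => h (by rw [e, hg']), fun h e => h (g.injective (e.trans hg'.symm))⟩
  obtain ⟨s, hs⟩ : ∃ s : Finset β, s.card = m := by
    obtain ⟨s, -, hs⟩ := Finset.exists_subset_card_eq (s := (Finset.univ : Finset β)) (n := m)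
      (by rw [Finset.card_univ, ← Nat.card_eq_fintype_card, hβ]; omega)
    exact ⟨s, hs⟩
  let O : Set (Fin (2 * m)) := Subtype.val '' (s : Set β)
  have hOcard : O.ncard = m := by
    rw [Set.ncard_image_of_injective _ Subtype.val_injective, Set.ncard_coe_finset, hs]
  have hO : Nat.card O = Nat.card ↥Oᶜ := by
    have h1 := Set.ncard_add_ncard_compl O
    rw [Nat.card_coe_set_eq, Nat.card_coe_set_eq]
    simp at h1
    omega
  let Hs : Subgroup (Equiv.Perm β) := MulAction.stabilizer (Equiv.Perm β) (s : Set β)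
  have hHs : IsCoatom Hs := by
    have hc := Set.ncard_add_ncard_compl (s : Set β)
    rw [Set.ncard_coe_finset, hs, hβ] at hc
    refine Equiv.Perm.isCoatom_stabilizer ?_ ?_ ?_
    · exact Finset.coe_nonempty.2 (Finset.card_pos.1 (by omega))
    · exact Set.nonempty_of_ncard_ne_zero (by omega)
    · rw [hβ, Set.ncard_coe_finset, hs]; omega
  let H := Hs.map φ
  have hsub : H ≤ MulAction.stabilizer (Equiv.Perm (Fin (2 * m))) O := by
    rintro _ ⟨h, hh, rfl⟩
    have hh' : h • (s : Set β) = s := hh
    change φ h • O = O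
    conv_rhs => rw [show O = Subtype.val '' (h • (s : Set β)) by rw [hh']]
    rw [← Set.image_smul, ← Set.image_smul, Set.image_image, Set.image_image]
    exact Set.image_congr fun x _ => Equiv.Perm.ofSubtype_apply_coe h x
  have hlt : H < MulAction.stabilizer (Equiv.Perm (Fin (2 * m))) O := by
    refine lt_of_le_of_ne hsub fun he => ?_
    have haO : a ∈ Oᶜ := by rintro ⟨x, -, hx⟩; exact x.2 hx
    obtain ⟨b, hb, hba⟩ : ∃ b ∈ Oᶜ, b ≠ a := by
      refine Set.exists_ne_of_one_lt_ncard ?_ a
      rw [← Nat.card_coe_set_eq, ← hO, Nat.card_coe_set_eq, hOcard]; omega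
    have h1 : Equiv.swap a b ∈ H := by
      rw [he]
      change Equiv.swap a b • O = O
      rw [← Set.image_smul]
      refine (Set.image_congr fun x hx => ?_).trans (Set.image_id _)
      exact Equiv.swap_apply_of_ne_of_ne (fun e => haO (e ▸ hx)) (fun e => hb (e ▸ hx))
    obtain ⟨h, -, hh⟩ := h1
    have h2 : φ h a = a := Equiv.Perm.ofSubtype_apply_of_not_mem h (by simp)
    rw [hh, Equiv.swap_apply_left] at h2
    exact hba h2
  have hOne : MulAction.stabilizer (Equiv.Perm (Fin (2 * m))) O ≠ ⊤ :=
    Equiv.Perm.stabilizer_ne_top_of_nonempty_of_nonempty_compl (Set.nonempty_of_ncard_ne_zero (by omega))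
      (Set.nonempty_of_ncard_ne_zero (by rw [← Nat.card_coe_set_eq, ← hO, Nat.card_coe_set_eq, hOcard]; omega))
  obtain ⟨K, hK, hKle⟩ := (eq_top_or_exists_le_coatom _).resolve_left hOne
  have hKlt : MulAction.stabilizer (Equiv.Perm (Fin (2 * m))) O < K := lt_of_le_of_ne hKle fun e =>
    Cfsg.Agent.S5904.result (Ω := Fin (2 * m)) (by simp; omega) O hO (e ▸ hK)
  have hMK : IsCoatom φ.range := by
    rw [hrange, ← MulAction.stabilizer_singleton]
    refine Equiv.Perm.isCoatom_stabilizer (Set.singleton_nonempty a) ?_ (by simp; omega)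
    exact Set.nonempty_of_ncard_ne_zero (by have := Set.ncard_add_ncard_compl ({a} : Set (Fin (2 * m))); simp at this ⊢; omega)
  refine ⟨φ.range, H, K, hMK, ?_, Subgroup.map_le_range φ Hs, ?_, hK, hsub.trans hKle, fun hc => ?_⟩
  · rw [hrange, MulAction.index_stabilizer_of_transitive, Nat.card_fin]
  · let e : Equiv.Perm β ≃* φ.range := MonoidHom.ofInjective hφ
    have : H.subgroupOf φ.range = e.mapSubgroup Hs := by
      ext x
      constructor
      · rintro ⟨h, hh, hx⟩
        exact ⟨h, hh, Subtype.ext hx⟩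
      · rintro ⟨h, hh, rfl⟩
        exact ⟨h, hh, rfl⟩
    rw [this]
    exact (OrderIso.isCoatom_iff _ _).2 hHs
  · have h1 : H.subgroupOf K < (MulAction.stabilizer (Equiv.Perm (Fin (2 * m))) O).subgroupOf K :=
      lt_of_le_of_ne (Subgroup.comap_mono hsub) fun e => hlt.ne (by
        have := congrArg (Subgroup.map K.subtype) e
        rwa [Subgroup.map_subgroupOf_eq_of_le (hsub.trans hKle), Subgroup.map_subgroupOf_eq_of_le hKle] at this)
    exact (hKlt.not_ge) (Subgroup.subgroupOf_eq_top.1 (hc.2 _ h1))

end Cfsg.Agent.S5894
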